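import Cfsg.Agent.S0205

set_option autoImplicit false

/-! The odd order theorem, to be cited as `Cfsg.Agent.FT.odd_order`.

Do not use it in anything below S0205: Bender–Glauberman / Peterfalvi files. -/

namespace Cfsg.Agent.FT

universe u

theorem odd_order {G : Type u} [Group G] [Finite G] (h : Odd (Nat.card G)) :
    Group.IsSolvable G :=
  Cfsg.Agent.S0205.result h

end Cfsg.Agent.FT
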