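import Cfsg.Statements.S3116

set_option autoImplicit false
open Cfsg

namespace Cfsg.Agent.S3116

theorem core {X : Type*} [Group X] [Finite X] (n : ℕ) (hn : 1 ≤ n) (x y : X)
    (hx : orderOf x = 2 ^ n) (hidx : (Subgroup.zpowers x).index = 2) (hy : y ∉ Subgroup.zpowers x)
    (hchar : ∀ α : MulAut X, α x ∈ Subgroup.zpowers x) : IsPGroup 2 (MulAut X) := by
  intro α
  refine ⟨n + n, ?_⟩
  obtain ⟨i, hi⟩ : ∃ i : ℕ, α x = x ^ i := by
    have := hchar α
    obtain ⟨i, hi⟩ := mem_powers_iff_mem_zpowers.mpr this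
    exact ⟨i, hi.symm⟩
  have hodd : Nat.Coprime i (2 ^ n) := by
    have h1 : orderOf (x ^ i) = 2 ^ n := by rw [← hi, ← hx]; exact orderOf_injective α.toMonoidHom α.injective x
    rw [orderOf_pow, hx] at h1
    have h2 : Nat.gcd (2 ^ n) i ∣ 2 ^ n := Nat.gcd_dvd_left _ _
    have hpos : 0 < 2 ^ n := by positivity
    have h3 : Nat.gcd (2 ^ n) i * 2 ^ n = 2 ^ n := by
      have := Nat.mul_div_cancel' h2
      rwa [h1] at this
    have h4 : Nat.gcd (2 ^ n) i = 1 := by
      exact Nat.eq_of_mul_eq_mul_right hpos (by rw [h3, one_mul])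
    rw [Nat.coprime_comm]; exact h4
  have hpow : ∀ k : ℕ, (α ^ k) x = x ^ (i ^ k) := by
    intro k
    induction k with
    | zero => simp
    | succ k ih =>
      rw [pow_succ', MulAut.mul_apply, ih, map_pow, hi, ← pow_mul, pow_succ, mul_comm]
  have hβx : (α ^ (2 ^ n)) x = x := by
    rw [hpow]
    have h1 : i ^ (2 ^ n) ≡ 1 [MOD 2 ^ n] := by
      have h2 := Nat.ModEq.pow_totient hodd
      rw [Nat.totient_prime_pow Nat.prime_two (by omega)] at h2
      have h3 : 2 ^ n = 2 ^ (n - 1) * (2 - 1) * 2 := by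
        have : 2 ^ n = 2 ^ (n - 1) * 2 := by rw [← pow_succ]; congr 1; omega
        omega
      have h4 : i ^ (2 ^ n) = (i ^ (2 ^ (n - 1) * (2 - 1))) ^ 2 := by
        rw [← pow_mul, ← h3]
      rw [h4]
      have := h2.pow 2
      simpa using this
    have h5 : x ^ (i ^ (2 ^ n)) = x ^ 1 := by
      rw [pow_eq_pow_iff_modEq, hx]; exact h1
    rw [h5, pow_one]
  have hβC : ∀ c ∈ Subgroup.zpowers x, (α ^ (2 ^ n)) c = c := by
    rintro _ ⟨k, rfl⟩
    change (α ^ (2 ^ n)) (x ^ k) = x ^ k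
    rw [map_zpow, hβx]
  have hout : (α ^ (2 ^ n)) y ∉ Subgroup.zpowers x := by
    intro h
    apply hy
    have h1 : (α ^ (2 ^ n)) ((α ^ (2 ^ n)) y) = (α ^ (2 ^ n)) y := hβC _ h
    have h2 := (α ^ (2 ^ n)).injective h1
    rw [← h2]; exact h
  have hdiff : y⁻¹ * (α ^ (2 ^ n)) y ∈ Subgroup.zpowers x := by
    rw [Subgroup.mul_mem_iff_of_index_two hidx, inv_mem_iff]
    exact ⟨fun h => absurd h hy, fun h => absurd h hout⟩
  obtain ⟨c, hc, hyc⟩ : ∃ c ∈ Subgroup.zpowers x, (α ^ (2 ^ n)) y = y * c := ⟨_, hdiff, by group⟩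
  have hpow2 : ∀ k : ℕ, ((α ^ (2 ^ n)) ^ k) y = y * c ^ k := by
    intro k
    induction k with
    | zero => simp
    | succ k ih =>
      rw [pow_succ', MulAut.mul_apply, ih, map_mul, hyc, hβC _ (pow_mem hc k), mul_assoc, ← pow_succ']
  have hc1 : c ^ (2 ^ n) = 1 := by
    obtain ⟨k, rfl⟩ := hc
    change (x ^ k) ^ (2 ^ n) = 1
    rw [← zpow_natCast, ← zpow_mul, mul_comm, zpow_mul, zpow_natCast, ← hx, pow_orderOf_eq_one, one_zpow]
  have hγy : ((α ^ (2 ^ n)) ^ (2 ^ n)) y = y := by rw [hpow2, hc1, mul_one]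
  have hγx : ∀ k : ℕ, ∀ d ∈ Subgroup.zpowers x, ((α ^ (2 ^ n)) ^ k) d = d := by
    intro k d hd
    induction k with
    | zero => simp
    | succ k ih => rw [pow_succ', MulAut.mul_apply, ih, hβC d hd]
  rw [pow_add, pow_mul]
  ext g
  rw [MulAut.one_apply]
  by_cases hg : g ∈ Subgroup.zpowers x
  · exact hγx _ g hg
  · have h1 : y⁻¹ * g ∈ Subgroup.zpowers x := by
      rw [Subgroup.mul_mem_iff_of_index_two hidx, inv_mem_iff]
      exact ⟨fun h => absurd h hy, fun h => absurd h hg⟩
    have h2 : g = y * (y⁻¹ * g) := by group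
    rw [h2, map_mul, hγy, hγx _ _ h1]

/-- The automorphism group of a dihedral 2-group of order at least 8, or of a quasi-dihedral (semidihedral) 2-group of order at least 16, is a 2-group. -/
theorem result {X : Type*} [Group X] [Finite X] (h2 : IsPGroup 2 X)
    (h : (∃ n : ℕ, 4 ≤ n ∧ Nonempty (X ≃* DihedralGroup n)) ∨ Cfsg.IsQuasiDihedral X) : IsPGroup 2 (MulAut X) := by
  have hf : Fact (Nat.Prime 2) := ⟨Nat.prime_two⟩
  rcases h with ⟨n, hn, ⟨e⟩⟩ | ⟨n, hn, hcard, x, y, hx, hy, hxy⟩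
  · have hn0 : NeZero n := ⟨by omega⟩
    have hcard : Nat.card X = 2 * n := by
      rw [Nat.card_congr e.toEquiv]; exact DihedralGroup.nat_card
    obtain ⟨k, hk⟩ := IsPGroup.iff_card.mp h2
    have hk1 : 1 ≤ k := by
      rcases Nat.eq_zero_or_pos k with h | h
      · rw [h, hcard] at hk; omega
      · exact h
    have hn2 : n = 2 ^ (k - 1) := by
      have : 2 ^ k = 2 * 2 ^ (k - 1) := by rw [← pow_succ']; congr 1; omega
      omega
    have hk2 : 1 ≤ k - 1 := by
      by_contra hcon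
      have : k - 1 = 0 := by omega
      rw [this] at hn2; omega
    have hox : orderOf (e.symm (DihedralGroup.r 1)) = 2 ^ (k - 1) := by
      have : orderOf (e.symm (DihedralGroup.r 1)) = orderOf (DihedralGroup.r 1 : DihedralGroup n) :=
        orderOf_injective e.symm.toMonoidHom e.symm.injective _
      rw [this, DihedralGroup.orderOf_r_one, hn2]
    have hmem : ∀ g : X, g ∉ Subgroup.zpowers (e.symm (DihedralGroup.r 1)) → g ^ 2 = 1 := by
      intro g hg
      rcases hgr : e g with i | i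
      · exfalso
        apply hg
        have h1 : g = e.symm (DihedralGroup.r i) := by rw [← hgr]; simp
        rw [h1, Subgroup.mem_zpowers_iff]
        refine ⟨(i.val : ℤ), ?_⟩
        rw [← map_zpow]
        congr 1
        rw [zpow_natCast, DihedralGroup.r_one_pow]
        congr 1
        exact ZMod.natCast_zmod_val i
      · have h1 : e (g ^ 2) = 1 := by
          rw [map_pow, hgr, pow_two, DihedralGroup.sr_mul_self]
        exact (MulEquiv.map_eq_one_iff e).mp h1
    apply core (k - 1) hk2 (e.symm (DihedralGroup.r 1)) (e.symm (DihedralGroup.sr 0)) hox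
    · have h1 := (Subgroup.zpowers (e.symm (DihedralGroup.r (1 : ZMod n)))).index_mul_card
      rw [Nat.card_zpowers, hox, hcard, ← hn2] at h1
      exact Nat.eq_of_mul_eq_mul_right (by omega) h1
    · rintro ⟨j, hj⟩
      have h1 : DihedralGroup.r 1 ^ j = (DihedralGroup.sr 0 : DihedralGroup n) := by
        have := congrArg e hj
        simpa using this
      have h2 : ∃ i, (DihedralGroup.r (1 : ZMod n)) ^ j = DihedralGroup.r i := ⟨_, DihedralGroup.r_one_zpow j⟩
      obtain ⟨i, hi⟩ := h2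
      rw [hi] at h1
      cases h1
    · intro α
      by_contra hcon
      have h1 := hmem _ hcon
      rw [← map_pow] at h1
      have h2 : (e.symm (DihedralGroup.r (1 : ZMod n))) ^ 2 = 1 := (MulEquiv.map_eq_one_iff α).mp h1
      have h3 := orderOf_dvd_of_pow_eq_one h2
      rw [hox, ← hn2] at h3
      have := Nat.le_of_dvd (by norm_num) h3
      omega
  · have hidx : (Subgroup.zpowers x).index = 2 := by
      have h1 := (Subgroup.zpowers x).index_mul_card
      rw [Nat.card_zpowers, hx, hcard, pow_succ'] at h1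
      exact Nat.eq_of_mul_eq_mul_right (by positivity) h1
    have hy2 : y ^ 2 = 1 := by rw [← hy]; exact pow_orderOf_eq_one y
    have hyC : y ∉ Subgroup.zpowers x := by
      intro h
      have h1 : y * x * y⁻¹ = x := by
        obtain ⟨k, rfl⟩ := h
        change x ^ k * x * (x ^ k)⁻¹ = x
        group
      rw [h1] at hxy
      have h2 : x ^ 1 = x ^ (2 ^ (n - 1) - 1) := by rw [pow_one]; exact hxy
      rw [pow_eq_pow_iff_modEq, hx] at h2
      have h3 : 2 ^ n = 2 * 2 ^ (n - 1) := by rw [← pow_succ']; congr 1; omega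
      have h4 : 4 ≤ 2 ^ (n - 1) := by
        calc 4 = 2 ^ 2 := rfl
          _ ≤ 2 ^ (n - 1) := Nat.pow_le_pow_right (by norm_num) (by omega)
      unfold Nat.ModEq at h2
      rw [Nat.mod_eq_of_lt (by omega), Nat.mod_eq_of_lt (by omega)] at h2
      omega
    have hmem : ∀ g : X, g ∉ Subgroup.zpowers x → g ^ 4 = 1 := by
      intro g hg
      have h1 : g * y ∈ Subgroup.zpowers x := by
        rw [Subgroup.mul_mem_iff_of_index_two hidx]
        exact ⟨fun h => absurd h hg, fun h => absurd h hyC⟩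
      obtain ⟨k, hk⟩ := h1
      have hk' : x ^ k = g * y := hk
      have hyi : y⁻¹ = y := by rw [inv_eq_iff_mul_eq_one, ← pow_two, hy2]
      have h2 : g = x ^ k * y := by rw [hk', mul_assoc, ← pow_two, hy2, mul_one]
      have h3 : y * x ^ k * y⁻¹ = (x ^ (2 ^ (n - 1) - 1)) ^ k := by
        rw [← hxy, conj_zpow]
      have h4 : g ^ 2 = x ^ k * (x ^ (2 ^ (n - 1) - 1)) ^ k := by
        rw [← h3, h2, hyi, pow_two]
        simp only [mul_assoc]
      have h5 : g ^ 2 = (x ^ (2 ^ (n - 1))) ^ k := by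
        rw [h4]
        have hc : Commute x (x ^ (2 ^ (n - 1) - 1)) := (Commute.refl x).pow_right _
        rw [← hc.mul_zpow, ← pow_succ']
        congr 2
        have : 1 ≤ 2 ^ (n - 1) := Nat.one_le_two_pow
        omega
      have h6 : g ^ 4 = (g ^ 2) ^ 2 := by rw [← pow_mul]
      rw [h6, h5, ← zpow_natCast, ← zpow_mul, mul_comm, zpow_mul, zpow_natCast, ← pow_mul]
      have h7 : 2 ^ (n - 1) * 2 = 2 ^ n := by rw [← pow_succ]; congr 1; omega
      rw [h7, ← hx, pow_orderOf_eq_one, one_zpow]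
    apply core n (by omega) x y hx hidx hyC
    intro α
    by_contra hcon
    have h1 := hmem _ hcon
    rw [← map_pow] at h1
    have h2 : x ^ 4 = 1 := (MulEquiv.map_eq_one_iff α).mp h1
    have h3 := orderOf_dvd_of_pow_eq_one h2
    rw [hx] at h3
    have := Nat.le_of_dvd (by norm_num) h3
    have h4 : 8 ≤ 2 ^ n := by
      calc 8 = 2 ^ 3 := rfl
        _ ≤ 2 ^ n := Nat.pow_le_pow_right (by norm_num) (by omega)
    omega

end Cfsg.Agent.S3116
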