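import Cfsg.Statements.S3864
import Cfsg.Agent.H23.ActLem
import Cfsg.Agent.H24.Centric

set_option autoImplicit false
set_option linter.all false
open Cfsg

namespace Cfsg.Agent.S3864

section aux
open Subgroup H23 DihedralGroup
open scoped commutatorElement Pointwise

theorem par_dvd {m h : ℕ} (hm : m = 2 * h) : 2 ∣ m := ⟨h, hm⟩

/-- parity -/
def par {m h : ℕ} (hm : m = 2 * h) : ZMod m →+* ZMod 2 := ZMod.castHom (par_dvd hm) (ZMod 2)

theorem par_zero_iff {m h : ℕ} (hm : m = 2 * h) [NeZero m] (i : ZMod m) : par hm i = 0 ↔ ∃ k, i = k + k := by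
  constructor
  · intro h0
    have h1 : ((i.val : ℕ) : ZMod m) = i := ZMod.natCast_zmod_val i
    have h2 : ((i.val : ℕ) : ZMod 2) = 0 := by
      rw [← h1, map_natCast] at h0; exact h0
    rw [ZMod.natCast_eq_zero_iff] at h2
    obtain ⟨k, hk⟩ := h2
    refine ⟨(k : ZMod m), ?_⟩
    rw [← h1, hk, two_mul]; push_cast; rfl
  · rintro ⟨k, rfl⟩
    rw [map_add]
    have : ∀ x : ZMod 2, x + x = 0 := by decide
    exact this _

theorem zmod2_cases (x : ZMod 2) : x = 0 ∨ x = 1 := by
  revert x; decide

theorem par_one_iff {m h : ℕ} (hm : m = 2 * h) [NeZero m] (i : ZMod m) (hi : par hm i = 1) : ∃ k, i = k + k + 1 := by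
  have h1 : par hm (i - 1) = 0 := by rw [map_sub, hi, map_one, sub_self]
  obtain ⟨k, hk⟩ := (par_zero_iff hm _).mp h1
  exact ⟨k, by rw [← hk]; ring⟩

theorem half_ne {m h : ℕ} (hm : m = 2 * h) [NeZero m] : (h : ZMod m) ≠ 0 := by
  intro h0
  rw [ZMod.natCast_eq_zero_iff] at h0
  have hpos : 0 < m := Nat.pos_of_ne_zero (NeZero.ne m)
  have := Nat.le_of_dvd (by omega) h0
  omega

theorem two_half {m h : ℕ} (hm : m = 2 * h) (k : ZMod m) : (k + k) * (h : ZMod m) = 0 := by
  have h1 : ((2 * h : ℕ) : ZMod m) = 0 := by rw [← hm]; exact ZMod.natCast_self m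
  push_cast at h1
  calc (k + k) * (h : ZMod m) = k * (2 * (h : ZMod m)) := by ring
    _ = 0 := by rw [h1, mul_zero]

theorem rpow_half {m h : ℕ} (hm : m = 2 * h) [NeZero m] (i : ZMod m) : (r i : DihedralGroup m) ^ h = 1 ↔ par hm i = 0 := by
  rw [r_pow, one_def]
  constructor
  · intro h0
    have h0' : i * (h : ZMod m) = 0 := by
      injection h0
    rcases zmod2_cases (par hm i) with h1 | h1
    · exact h1
    · exfalso
      obtain ⟨k, rfl⟩ := par_one_iff hm i h1
      rw [add_mul, two_half hm, zero_add, one_mul] at h0'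
      exact half_ne hm h0'
  · intro h0
    obtain ⟨k, rfl⟩ := (par_zero_iff hm i).mp h0
    rw [two_half hm]

theorem add_self_eq_zero' {m h : ℕ} (hm : m = 2 * h) [NeZero m] {i : ZMod m} (hi : i + i = 0) : i = 0 ∨ i = (h : ZMod m) := by
  have h1 : ((i.val : ℕ) : ZMod m) = i := ZMod.natCast_zmod_val i
  have h2 : ((i.val + i.val : ℕ) : ZMod m) = 0 := by push_cast; rw [h1, hi]
  rw [ZMod.natCast_eq_zero_iff] at h2
  have hlt := ZMod.val_lt i
  obtain ⟨c, hc⟩ := h2
  have hc' : c = 0 ∨ c = 1 := by
    by_contra hcon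
    push Not at hcon
    have : 2 ≤ c := by omega
    have : m * 2 ≤ m * c := Nat.mul_le_mul_left m this
    omega
  rcases hc' with rfl | rfl
  · left
    rw [← h1, show i.val = 0 by omega, Nat.cast_zero]
  · right
    rw [← h1, show i.val = h by omega]

/-- the three homomorphisms -/
def phi {m h : ℕ} (hm : m = 2 * h) (u v : ZMod 2) : DihedralGroup m →* Multiplicative (ZMod 2) where
  toFun x := match x with
    | r i => Multiplicative.ofAdd (u * par hm i)
    | sr i => Multiplicative.ofAdd (v + u * par hm i)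
  map_one' := by
    rw [one_def]
    show Multiplicative.ofAdd (u * par hm 0) = 1
    rw [map_zero, mul_zero]; rfl
  map_mul' := by
    have key : ∀ a b c d : ZMod 2, a * (d - c) = (b + a * c) + (b + a * d) := by decide
    have key2 : ∀ a b c d : ZMod 2, b + a * (d - c) = a * c + (b + a * d) := by decide
    have key3 : ∀ a b c d : ZMod 2, b + a * (c + d) = (b + a * c) + a * d := by decide
    have key4 : ∀ a c d : ZMod 2, a * (c + d) = a * c + a * d := by decide
    rintro (i | i) (j | j)
    · rw [r_mul_r]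
      show Multiplicative.ofAdd (u * par hm (i + j)) = Multiplicative.ofAdd (u * par hm i) * Multiplicative.ofAdd (u * par hm j)
      rw [(par hm).map_add, ← ofAdd_add, key4]
    · rw [r_mul_sr]
      show Multiplicative.ofAdd (v + u * par hm (j - i)) = Multiplicative.ofAdd (u * par hm i) * Multiplicative.ofAdd (v + u * par hm j)
      rw [(par hm).map_sub, ← ofAdd_add, key2]
    · rw [sr_mul_r]
      show Multiplicative.ofAdd (v + u * par hm (i + j)) = Multiplicative.ofAdd (v + u * par hm i) * Multiplicative.ofAdd (u * par hm j)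
      rw [(par hm).map_add, ← ofAdd_add, key3]
    · rw [sr_mul_sr]
      show Multiplicative.ofAdd (u * par hm (j - i)) = Multiplicative.ofAdd (v + u * par hm i) * Multiplicative.ofAdd (v + u * par hm j)
      rw [(par hm).map_sub, ← ofAdd_add, key]

theorem phi_r {m h : ℕ} (hm : m = 2 * h) (u v : ZMod 2) (i : ZMod m) : phi hm u v (r i) = Multiplicative.ofAdd (u * par hm i) := rfl
theorem phi_sr {m h : ℕ} (hm : m = 2 * h) (u v : ZMod 2) (i : ZMod m) : phi hm u v (sr i) = Multiplicative.ofAdd (v + u * par hm i) := rfl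

theorem sr_conj {m h : ℕ} (hm : m = 2 * h) [NeZero m] (j : ZMod m) (hj : par hm j = 0) : IsConj (sr 0 : DihedralGroup m) (sr j) := by
  obtain ⟨k, rfl⟩ := (par_zero_iff hm j).mp hj
  rw [isConj_iff]
  refine ⟨r (-k), ?_⟩
  rw [inv_r, r_mul_sr, sr_mul_r]
  congr 1; ring

theorem sr_conj' {m h : ℕ} (hm : m = 2 * h) [NeZero m] (j : ZMod m) (hj : par hm j = 1) : IsConj (sr 1 : DihedralGroup m) (sr j) := by
  obtain ⟨k, rfl⟩ := par_one_iff hm j hj
  rw [isConj_iff]
  refine ⟨r (-k), ?_⟩
  rw [inv_r, r_mul_sr, sr_mul_r]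
  congr 1; ring

section main
variable {G : Type*} [Group G] [Finite G] {m h : ℕ} (hm : m = 2 * h) [NeZero m] (hh : Even h)
  (f : DihedralGroup m →* G) (hf : Function.Injective f)

include hh in
theorem par_half : par hm (h : ZMod m) = 0 := by
  rw [map_natCast]
  exact (ZMod.natCast_eq_zero_iff _ _).mpr hh.two_dvd

include hf hh in
theorem fusion_inv {u v : ZMod 2} (hza : IsConj (f (r h)) (f (sr 0)) → v = 0)
    (hzb : IsConj (f (r h)) (f (sr 1)) → v + u = 0) (hab : IsConj (f (sr 0)) (f (sr 1)) → u = 0)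
    (x y : DihedralGroup m) (hxy : IsConj (f x) (f y)) : phi hm u v x = phi hm u v y := by
  -- mixed case
  have key : ∀ i j : ZMod m, IsConj (f (r i)) (f (sr j)) → phi hm u v (r i) = phi hm u v (sr j) := by
    intro i j hij
    have h1 : (f (r i)) ^ 2 = 1 := by
      obtain ⟨c, hc⟩ := isConj_iff.mp hij.symm
      rw [← hc, conj_pow, ← map_pow, pow_two, sr_mul_self, map_one]; group
    have h2 : (r i : DihedralGroup m) ^ 2 = 1 := hf (by rw [map_pow, h1, map_one])
    rw [pow_two, r_mul_r, one_def] at h2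
    have h3 : i + i = 0 := by injection h2
    rcases add_self_eq_zero' hm h3 with rfl | rfl
    · exfalso
      rw [r_zero, map_one, isConj_one_right] at hij
      have : (sr j : DihedralGroup m) = 1 := hf (by rw [hij, map_one])
      rw [one_def] at this
      cases this
    · rw [phi_r, phi_sr, par_half hm hh, mul_zero]
      rcases zmod2_cases (par hm j) with hj | hj
      · have h4 := hza (hij.trans (f.map_isConj (sr_conj hm j hj)).symm)
        rw [h4, hj, mul_zero, add_zero]
      · have h4 := hzb (hij.trans (f.map_isConj (sr_conj' hm j hj)).symm)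
        rw [hj, mul_one, h4]
  rcases x with i | i <;> rcases y with j | j
  · rw [phi_r, phi_r]
    have h1 : par hm i = 0 ↔ par hm j = 0 := by
      rw [← rpow_half hm i, ← rpow_half hm j]
      obtain ⟨c, hc⟩ := isConj_iff.mp hxy
      constructor
      · intro h0
        apply hf
        rw [map_pow, ← hc, conj_pow, ← map_pow, h0, map_one]; group
      · intro h0
        apply hf
        have h2 : f (r i) = c⁻¹ * f (r j) * c := by rw [← hc]; group
        have h3 : (f (r i)) ^ h = c⁻¹ * (f (r j)) ^ h * c := by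
          rw [h2]
          have := conj_pow (i := h) (a := c⁻¹) (b := f (r j))
          rwa [inv_inv] at this
        rw [map_pow, h3, ← map_pow, h0, map_one]; group
    rcases zmod2_cases (par hm i) with hi | hi <;> rcases zmod2_cases (par hm j) with hj | hj
    · rw [hi, hj]
    · rw [h1.mp hi] at hj; exact absurd hj (by decide)
    · rw [h1.mpr hj] at hi; exact absurd hi (by decide)
    · rw [hi, hj]
  · exact key i j hxy
  · exact (key j i hxy.symm).symm
  · rw [phi_sr, phi_sr]
    rcases zmod2_cases (par hm i) with hi | hi <;> rcases zmod2_cases (par hm j) with hj | hj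
    · rw [hi, hj]
    · have h4 := hab ((f.map_isConj (sr_conj hm i hi)).trans (hxy.trans (f.map_isConj (sr_conj' hm j hj)).symm))
      rw [h4, zero_mul, zero_mul]
    · have h4 := hab ((f.map_isConj (sr_conj hm j hj)).trans (hxy.symm.trans (f.map_isConj (sr_conj' hm i hi)).symm))
      rw [h4, zero_mul, zero_mul]
    · rw [hi, hj]

end main

/-- a fusion invariant homomorphism from a Sylow subgroup extends -/
theorem exists_index_two {G : Type*} [Group G] [Finite G] (P : Sylow 2 G) (φ : (P : Subgroup G) →* Multiplicative (ZMod 2))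
    (hφ : ∀ x y : (P : Subgroup G), IsConj (x : G) (y : G) → φ x = φ y) (w : (P : Subgroup G)) (hw : φ w ≠ 1) :
    ∃ N : Subgroup G, N.Normal ∧ N.index = 2 := by
  have hker : ∀ x ∈ focalSubgroupOf (P : Subgroup G), φ x = 1 := by
    intro x hx
    rw [focalSubgroupOf_eq_closure] at hx
    have : closure {g : (P : Subgroup G) | ∃ x ∈ (P : Subgroup G), ∃ u : G, (g : G) = ⁅x, u⁆} ≤ φ.ker := by
      rw [closure_le]
      rintro g ⟨x, hx, u, hg⟩
      rw [SetLike.mem_coe, MonoidHom.mem_ker]
      have hy : u * x⁻¹ * u⁻¹ ∈ (P : Subgroup G) := by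
        have h1 : u * x⁻¹ * u⁻¹ = x⁻¹ * g := by rw [hg, commutatorElement_def]; group
        rw [h1]; exact (P : Subgroup G).mul_mem ((P : Subgroup G).inv_mem hx) g.2
      have h2 : g = ⟨x, hx⟩ * ⟨u * x⁻¹ * u⁻¹, hy⟩ := by
        apply Subtype.ext
        show (g : G) = x * (u * x⁻¹ * u⁻¹)
        rw [hg, commutatorElement_def]; group
      have h3 := hφ (⟨x, hx⟩⁻¹) ⟨u * x⁻¹ * u⁻¹, hy⟩ (isConj_iff.mpr ⟨u, rfl⟩)
      rw [h2, map_mul, ← h3, ← map_mul, mul_inv_cancel, map_one]
    exact this hx
  let ψ : G →* Multiplicative (ZMod 2) := (QuotientGroup.lift (focalSubgroupOf (P : Subgroup G)) φ hker).comp (transferFocal (P : Subgroup G))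
  have hψ : Function.Surjective ψ := by
    have h1 : Function.Surjective (QuotientGroup.lift (focalSubgroupOf (P : Subgroup G)) φ hker) := by
      intro y
      have hall : ∀ a b : Multiplicative (ZMod 2), b ≠ 1 → a = 1 ∨ a = b := by decide
      rcases hall y (φ w) hw with h | h
      · exact ⟨1, by rw [map_one, h]⟩
      · exact ⟨QuotientGroup.mk w, by rw [h]; rfl⟩
    exact h1.comp (transferFocal_surjective P)
  refine ⟨ψ.ker, inferInstance, ?_⟩
  rw [Subgroup.index_ker, MonoidHom.range_eq_top.mpr hψ, card_top]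
  simp

theorem conj_mem_commutator {G : Type*} [Group G] {x y : G} (h : IsConj x y) : x⁻¹ * y ∈ commutator G := by
  obtain ⟨c, rfl⟩ := isConj_iff.mp h
  have : x⁻¹ * (c * x * c⁻¹) = ⁅x⁻¹, c⁆ := by rw [commutatorElement_def]; group
  rw [this, _root_.commutator_def]
  exact commutator_mem_commutator (mem_top _) (mem_top _)

theorem sup_sylow_eq_top {G : Type*} [Group G] [Finite G] (P : Sylow 2 G) {N : Subgroup G} {k : ℕ}
    (hN : N.index = 2 ^ k) : N ⊔ (P : Subgroup G) = ⊤ := by
  rw [← Subgroup.index_eq_one]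
  have h1 : (N ⊔ (P : Subgroup G)).index ∣ 2 ^ k := by rw [← hN]; exact Subgroup.index_dvd_of_le le_sup_left
  have h2 : (N ⊔ (P : Subgroup G)).index ∣ (P : Subgroup G).index := Subgroup.index_dvd_of_le le_sup_right
  have h3 : ((P : Subgroup G).index).Coprime (2 ^ k) := by
    apply Nat.Coprime.pow_right
    exact ((Nat.Prime.coprime_iff_not_dvd Nat.prime_two).mpr P.not_dvd_index).symm
  exact Nat.eq_one_of_dvd_coprimes h3 h2 h1

theorem no_index_four {G : Type*} [Group G] [Finite G] (P : Sylow 2 G) (φ : (P : Subgroup G) →* Multiplicative (ZMod 2))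
    (hφ : ∀ x : (P : Subgroup G), φ x = 1 → (x : G) ∈ commutator G) (N : Subgroup G) (hN : N.Normal) : N.index ≠ 4 := by
  intro h4
  haveI := hN
  have h1 := sup_sylow_eq_top P (N := N) (k := 2) (by rw [h4]; norm_num)
  have hcN : commutator G ≤ N := by
    have h2 : Nat.card (G ⧸ N) = 2 ^ 2 := h4
    haveI : Fact (Nat.Prime 2) := ⟨Nat.prime_two⟩
    have h3 := IsPGroup.isMulCommutative_of_card_eq_prime_sq h2
    rw [_root_.commutator_def, commutator_le]
    intro a _ b _
    rw [← QuotientGroup.eq_one_iff]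
    have h5 := h3.is_comm.comm (QuotientGroup.mk a) (QuotientGroup.mk b)
    have h6 : (QuotientGroup.mk ⁅a, b⁆ : G ⧸ N) = ⁅(QuotientGroup.mk a : G ⧸ N), QuotientGroup.mk b⁆ := rfl
    rw [h6, commutatorElement_eq_one_iff_mul_comm]; exact h5
  have h2 : φ.ker ≤ N.subgroupOf (P : Subgroup G) := by
    intro x hx
    exact hcN (hφ x hx)
  have h3 := Subgroup.index_dvd_of_le h2
  have h5 : φ.ker.index ∣ 2 := by
    rw [Subgroup.index_ker]
    have := Subgroup.card_subgroup_dvd_card φ.range
    simpa using this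
  have h6 : (N.subgroupOf (P : Subgroup G)).index = 4 := by
    show N.relIndex (P : Subgroup G) = 4
    have h7 : N.relIndex (N ⊔ (P : Subgroup G)) = N.relIndex (P : Subgroup G) := relIndex_sup_left _ _
    rw [← h7, h1, relIndex_top_right, h4]
  rw [h6] at h3
  have := h3.trans h5
  norm_num at this


theorem complement_case {G : Type*} [Group G] [Finite G] (P : Sylow 2 G) {m h : ℕ} (hm : m = 2 * h) [NeZero m]
    (hh : Even h) (f : DihedralGroup m →* G) (hf : Function.Injective f) (hfP : f.range = (P : Subgroup G))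
    (hza : ¬ IsConj (f (r h)) (f (sr 0))) (hzb : ¬ IsConj (f (r h)) (f (sr 1))) : Cfsg.HasNormalPComplement 2 G := by
  haveI : Fact (Nat.Prime 2) := ⟨Nat.prime_two⟩
  apply H24.hasNormalPComplement_of_centric P
  intro R hRP hRC y hy hyo
  have hRP' : ∀ x ∈ R, ∃ d, f d = x := by
    intro x hx
    have : x ∈ f.range := by rw [hfP]; exact hRP hx
    exact this
  set z := f (r (h : ZMod m)) with hz
  have hhh : (h : ZMod m) + h = 0 := by
    have h1 : ((2 * h : ℕ) : ZMod m) = 0 := by rw [← hm]; exact ZMod.natCast_self m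
    push_cast at h1
    rw [← h1]; ring
  have hzcomm : ∀ d, z * f d = f d * z := by
    intro d
    rw [hz, ← map_mul, ← map_mul]
    congr 1
    rcases d with i | i
    · rw [r_mul_r, r_mul_r, add_comm]
    · rw [r_mul_sr, sr_mul_r]
      congr 1
      have : (-(h : ZMod m)) = h := by
        rw [neg_eq_iff_add_eq_zero]; exact hhh
      rw [sub_eq_add_neg, this]
  have hz1 : z ≠ 1 := by
    intro h0
    have h1 : (r (h : ZMod m) : DihedralGroup m) = 1 := hf (by rw [← hz, h0, map_one])
    rw [one_def] at h1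
    have h2 : (h : ZMod m) = 0 := by injection h1
    exact half_ne hm h2
  have hz2 : z * z = 1 := by
    rw [hz, ← map_mul, r_mul_r, hhh, r_zero, map_one]
  have hzR : z ∈ R := by
    apply hRC
    refine ⟨?_, mem_centralizer_iff.mpr ?_⟩
    · show z ∈ (P : Subgroup G)
      rw [← hfP]; exact ⟨_, rfl⟩
    · intro x hx
      obtain ⟨d, rfl⟩ := hRP' x hx
      exact (hzcomm d).symm
  -- squares
  have hsq : ∀ d : DihedralGroup m, f d * f d = 1 → IsConj z (f d) → f d = z := by
    intro d hd hc
    rcases d with i | i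
    · rw [← map_mul, r_mul_r] at hd
      have h1 : (r (i + i) : DihedralGroup m) = 1 := hf (by rw [hd, map_one])
      rw [one_def] at h1
      have h2 : i + i = 0 := by injection h1
      rcases add_self_eq_zero' hm h2 with rfl | rfl
      · exfalso
        rw [r_zero, map_one, isConj_one_left] at hc
        exact hz1 hc
      · rfl
    · exfalso
      rcases zmod2_cases (par hm i) with hi | hi
      · exact hza (hc.trans (f.map_isConj (sr_conj hm i hi)).symm)
      · exact hzb (hc.trans (f.map_isConj (sr_conj' hm i hi)).symm)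
  have hyR : ∀ x ∈ R, y * x * y⁻¹ ∈ R := fun x hx => (mem_normalizer_iff.mp hy x).mp hx
  have hyR' : ∀ x ∈ R, y⁻¹ * x * y ∈ R := fun x hx => by
    have := (mem_normalizer_iff.mp (inv_mem hy) x).mp hx
    rwa [inv_inv] at this
  have hyz : y * z * y⁻¹ = z := by
    obtain ⟨d, hd⟩ := hRP' _ (hyR z hzR)
    rw [← hd]
    apply hsq
    · rw [hd]
      calc y * z * y⁻¹ * (y * z * y⁻¹) = y * (z * z) * y⁻¹ := by group
        _ = 1 := by rw [hz2]; group
    · rw [hd]; exact isConj_iff.mpr ⟨y, rfl⟩
  -- the rotation subgroup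
  set R0 := R ⊓ (zpowers (f (r 1))) with hR0
  have hrot : ∀ x ∈ R, (∃ i, f (r i) = x) → x ∈ R0 := by
    rintro x hx ⟨i, rfl⟩
    refine ⟨hx, mem_zpowers_iff.mpr ⟨(i.val : ℤ), ?_⟩⟩
    rw [← map_zpow, r_one_zpow]
    congr 2
    push_cast
    exact ZMod.natCast_zmod_val i
  have hrot' : ∀ x ∈ R0, ∃ i, f (r i) = x := by
    rintro x ⟨_, hx⟩
    obtain ⟨k, rfl⟩ := mem_zpowers_iff.mp hx
    exact ⟨(k : ZMod m), by rw [← map_zpow, r_one_zpow]⟩
  have hbig : ∀ x ∈ R, x * x ≠ 1 → x ∈ R0 := by
    intro x hx hx2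
    apply hrot x hx
    obtain ⟨d, rfl⟩ := hRP' x hx
    rcases d with i | i
    · exact ⟨i, rfl⟩
    · exfalso; apply hx2; rw [← map_mul, sr_mul_self, map_one]
  have hyR0 : ∀ x ∈ R0, y * x * y⁻¹ ∈ R0 := by
    intro x hx
    by_cases hx2 : x * x = 1
    · obtain ⟨i, rfl⟩ := hrot' x hx
      rw [← map_mul, r_mul_r] at hx2
      have h1 : (r (i + i) : DihedralGroup m) = 1 := hf (by rw [hx2, map_one])
      rw [one_def] at h1
      have h2 : i + i = 0 := by injection h1
      rcases add_self_eq_zero' hm h2 with rfl | rfl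
      · rw [r_zero, map_one, mul_one, mul_inv_cancel]; exact one_mem _
      · rw [← hz, hyz]; exact hx
    · apply hbig _ (hyR x hx.1)
      intro h3
      apply hx2
      have h4 : y * (x * x) * y⁻¹ = 1 := by rw [← h3]; group
      calc x * x = y⁻¹ * (y * (x * x) * y⁻¹) * y := by group
        _ = 1 := by rw [h4]; group
  have hyN : y ∈ normalizer (R0 : Set G) := by
    have hle : MulAut.conj y • R0 ≤ R0 := by
      rintro _ ⟨x, hx, rfl⟩
      exact hyR0 x hx
    rw [H1.mem_normalizer_iff_conj_smul]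
    exact Subgroup.eq_of_le_of_card_ge hle (by rw [H1.card_conj_smul])
  have hR0c : IsCyclic R0 := by
    haveI : IsCyclic (zpowers (f (r 1))) := inferInstance
    exact isCyclic_of_injective (inclusion (inf_le_right : R0 ≤ zpowers (f (r 1)))) (inclusion_injective _)
  have hR0p : IsPGroup 2 R0 := P.2.to_le (inf_le_left.trans hRP)
  have h0 := commute_of_cyclic_two hR0c hR0p hyN hyo
  have hfin := commute_of_act (X := R) hR0p hyo h0 (by
    intro x hx
    by_cases hxR0 : x ∈ R0
    · exact mul_mem (hyR0 x hxR0) (inv_mem hxR0)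
    · have h1 : y * x * y⁻¹ ∉ R0 := by
        intro h2
        apply hxR0
        have h3 := (mem_normalizer_iff.mp (inv_mem hyN) _).mp h2
        have e : y⁻¹ * (y * x * y⁻¹) * y⁻¹⁻¹ = x := by group
        rwa [e] at h3
      obtain ⟨d, hd⟩ := hRP' x hx
      obtain ⟨d', hd'⟩ := hRP' _ (hyR x hx)
      rcases d with i | i
      · exact absurd (hrot x hx ⟨i, hd⟩) hxR0
      rcases d' with j | j
      · exact absurd (hrot _ (hyR x hx) ⟨j, hd'⟩) h1
      apply hrot _ (mul_mem (hyR x hx) (inv_mem hx))
      refine ⟨i - j, ?_⟩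
      rw [← hd', ← hd, ← map_inv, inv_sr, ← map_mul, sr_mul_sr])
  rw [mem_centralizer_iff]
  intro x hx
  exact (hfin x hx).symm

theorem z10 : (1 : ZMod 2) ≠ 0 := by decide
theorem z11 : (1 : ZMod 2) + 1 = 0 := by decide
theorem z12 : ¬ ((1 : ZMod 2) + 0 = 0) := by decide

theorem ncard_cases {α : Type*} (a b c : α) :
    (a = b → b = c → Set.ncard ({a, b, c} : Set α) = 1) ∧
    (a ≠ b → a ≠ c → b ≠ c → Set.ncard ({a, b, c} : Set α) = 3) ∧
    ((a = b ∧ b ≠ c) ∨ (a = c ∧ a ≠ b) ∨ (b = c ∧ a ≠ b) → Set.ncard ({a, b, c} : Set α) = 2) := by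
  refine ⟨?_, ?_, ?_⟩
  · rintro rfl rfl; simp
  · intro h1 h2 h3
    rw [Set.ncard_eq_three]
    exact ⟨a, b, c, h1, h2, h3, rfl⟩
  · rintro (⟨rfl, h⟩ | ⟨rfl, h⟩ | ⟨rfl, h⟩)
    · rw [Set.insert_eq_of_mem (by simp)]; exact Set.ncard_pair h
    · rw [Set.pair_comm, Set.insert_eq_of_mem (by simp)]; exact Set.ncard_pair h
    · rw [Set.pair_eq_singleton]; exact Set.ncard_pair h

theorem aux {G : Type*} [Group G] [Finite G] (P : Sylow 2 G) (n : ℕ) (hn : 3 ≤ n) (hdih : Nonempty (↥(P : Subgroup G) ≃* DihedralGroup (2 ^ (n - 1)))) : (Nat.card {C : ConjClasses G // ∃ g : G, ConjClasses.mk g = C ∧ orderOf g = 2} = 1 ∧ ∀ N : Subgroup G, N.Normal → N.index ≠ 2) ∨ (Nat.card {C : ConjClasses G // ∃ g : G, ConjClasses.mk g = C ∧ orderOf g = 2} = 2 ∧ (∃ N : Subgroup G, N.Normal ∧ N.index = 2) ∧ ∀ N : Subgroup G, N.Normal → N.index ≠ 4) ∨ (Nat.card {C : ConjClasses G // ∃ g : G, ConjClasses.mk g = C ∧ orderOf g = 2} = 3 ∧ Cfsg.HasNormalPComplement 2 G) := by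
  obtain ⟨e⟩ := hdih
  haveI : Fact (Nat.Prime 2) := ⟨Nat.prime_two⟩
  obtain ⟨k, rfl⟩ : ∃ k, n = k + 3 := ⟨n - 3, by omega⟩
  rw [show k + 3 - 1 = k + 2 by omega] at e
  obtain ⟨m, hmdef⟩ : ∃ m, m = 2 ^ (k + 2) := ⟨_, rfl⟩
  rw [← hmdef] at e
  have hm : m = 2 * 2 ^ (k + 1) := by rw [hmdef, pow_succ]; ring
  haveI : NeZero m := ⟨by rw [hmdef]; exact (pow_pos (by norm_num) _).ne'⟩
  have hh : Even (2 ^ (k + 1)) := ⟨2 ^ k, by rw [pow_succ]; ring⟩
  generalize 2 ^ (k + 1) = h at hm hh
  let f : DihedralGroup m →* G := (P : Subgroup G).subtype.comp e.symm.toMonoidHom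
  have hf : Function.Injective f := (P : Subgroup G).subtype_injective.comp e.symm.injective
  have hfP : f.range = (P : Subgroup G) := by
    ext x
    constructor
    · rintro ⟨d, rfl⟩; exact (e.symm d).2
    · intro hx; exact ⟨e ⟨x, hx⟩, by show ((e.symm (e ⟨x, hx⟩) : (P : Subgroup G)) : G) = x; rw [e.symm_apply_apply]⟩
  have hfe : ∀ x : (P : Subgroup G), f (e x) = x := fun x => by
    show ((e.symm (e x) : (P : Subgroup G)) : G) = x
    rw [e.symm_apply_apply]
  have hfinP : ∀ d, f d ∈ (P : Subgroup G) := fun d => (e.symm d).2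
  set z := f (r (h : ZMod m)) with hz
  set a := f (sr 0) with ha
  set b := f (sr 1) with hb
  have hhh : (h : ZMod m) + h = 0 := by
    have h1 : ((2 * h : ℕ) : ZMod m) = 0 := by rw [← hm]; exact ZMod.natCast_self m
    push_cast at h1
    rw [← h1]; ring
  have ord2 : ∀ d : DihedralGroup m, d * d = 1 → d ≠ 1 → orderOf (f d) = 2 := by
    intro d h1 h2
    rw [orderOf_injective f hf]
    exact orderOf_eq_prime (by rw [pow_two, h1]) h2
  -- the set of classes
  have hset : {C : ConjClasses G | ∃ g : G, ConjClasses.mk g = C ∧ orderOf g = 2} =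
      {ConjClasses.mk z, ConjClasses.mk a, ConjClasses.mk b} := by
    ext C
    simp only [Set.mem_setOf_eq, Set.mem_insert_iff, Set.mem_singleton_iff]
    constructor
    · rintro ⟨g, rfl, hg⟩
      have h1 : IsPGroup 2 (zpowers g) := IsPGroup.of_card (n := 1) (by rw [Nat.card_zpowers, hg, pow_one])
      obtain ⟨Q, hQ⟩ := h1.exists_le_sylow
      obtain ⟨c, hc⟩ := MulAction.exists_smul_eq G Q P
      have h2 : c * g * c⁻¹ ∈ (P : Subgroup G) := by
        rw [← hc]
        show c * g * c⁻¹ ∈ (MulAut.conj c • (Q : Subgroup G))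
        exact ⟨g, hQ (mem_zpowers g), rfl⟩
      have h3 : ConjClasses.mk g = ConjClasses.mk (c * g * c⁻¹) :=
        ConjClasses.mk_eq_mk_iff_isConj.mpr (isConj_iff.mpr ⟨c, rfl⟩)
      rw [h3]
      obtain ⟨d, hd⟩ : ∃ d, f d = c * g * c⁻¹ := by
        have : c * g * c⁻¹ ∈ f.range := by rw [hfP]; exact h2
        exact this
      have h4 : orderOf (f d) = 2 := by
        rw [hd, ← hg]
        have := MulEquiv.orderOf_eq (MulAut.conj c) g
        simpa using this
      rw [← hd]
      rcases d with i | i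
      · left
        have h5 : (f (r i)) ^ 2 = 1 := by rw [← h4]; exact pow_orderOf_eq_one _
        rw [pow_two, ← map_mul, r_mul_r] at h5
        have h6 : (r (i + i) : DihedralGroup m) = 1 := hf (by rw [h5, map_one])
        rw [one_def] at h6
        have h7 : i + i = 0 := by injection h6
        rcases add_self_eq_zero' hm h7 with rfl | rfl
        · rw [r_zero, map_one, orderOf_one] at h4
          norm_num at h4
        · rfl
      · right
        rcases zmod2_cases (par hm i) with hi | hi
        · left; exact ConjClasses.mk_eq_mk_iff_isConj.mpr (f.map_isConj (sr_conj hm i hi)).symm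
        · right; exact ConjClasses.mk_eq_mk_iff_isConj.mpr (f.map_isConj (sr_conj' hm i hi)).symm
    · have hne : ∀ i : ZMod m, (sr i : DihedralGroup m) ≠ 1 := by
        intro i h0
        rw [one_def] at h0
        cases h0
      rintro (rfl | rfl | rfl)
      · refine ⟨z, rfl, ord2 _ ?_ ?_⟩
        · rw [r_mul_r, hhh, r_zero]
        · intro h0
          rw [one_def] at h0
          have h2 : (h : ZMod m) = 0 := by injection h0
          exact half_ne hm h2
      · exact ⟨a, rfl, ord2 _ (sr_mul_self _) (hne _)⟩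
      · exact ⟨b, rfl, ord2 _ (sr_mul_self _) (hne _)⟩
  have hcard : Nat.card {C : ConjClasses G // ∃ g : G, ConjClasses.mk g = C ∧ orderOf g = 2} =
      Set.ncard ({ConjClasses.mk z, ConjClasses.mk a, ConjClasses.mk b} : Set (ConjClasses G)) := by
    rw [← hset]; rfl
  rw [hcard]
  obtain ⟨hc1, hc3, hc2⟩ := ncard_cases (ConjClasses.mk z) (ConjClasses.mk a) (ConjClasses.mk b)
  simp only [ConjClasses.mk_eq_mk_iff_isConj, ne_eq] at hc1 hc2 hc3
  -- commutators
  have hrr : ∀ i, par hm i = 0 → f (r i) ∈ commutator G := by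
    intro i hi
    obtain ⟨k, rfl⟩ := (par_zero_iff hm i).mp hi
    have h1 : f (r (k + k)) = ⁅f (r k), f (sr 0)⁆ := by
      rw [commutatorElement_def, ← map_inv, ← map_inv, ← map_mul, ← map_mul, ← map_mul, inv_r, inv_sr, r_mul_sr, sr_mul_r,
        sr_mul_sr]
      congr 2; ring
    rw [h1, _root_.commutator_def]
    exact commutator_mem_commutator (mem_top _) (mem_top _)
  have hzc : z ∈ commutator G := hrr _ (par_half hm hh)
  have hac : IsConj z a → a ∈ commutator G := by
    intro h0
    have := mul_mem hzc (conj_mem_commutator h0)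
    rwa [mul_inv_cancel_left] at this
  have hbc : IsConj z b → b ∈ commutator G := by
    intro h0
    have := mul_mem hzc (conj_mem_commutator h0)
    rwa [mul_inv_cancel_left] at this
  have hrc : IsConj a b → ∀ i, f (r i) ∈ commutator G := by
    intro h0 i
    rcases zmod2_cases (par hm i) with hi | hi
    · exact hrr i hi
    · have h1 := conj_mem_commutator h0
      have h2 : a⁻¹ * b = f (r 1) := by
        rw [ha, hb, ← map_inv, inv_sr, ← map_mul, sr_mul_sr, sub_zero]
      rw [h2] at h1
      have h3 := hrr (i - 1) (by rw [map_sub, hi, map_one, sub_self])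
      have h4 := mul_mem h1 h3
      rw [← map_mul, r_mul_r] at h4
      rwa [show 1 + (i - 1) = i by ring] at h4
  have hsr0 : ∀ i, par hm i = 0 → a ∈ commutator G → f (sr i) ∈ commutator G := by
    intro i hi h0
    have := mul_mem h0 (hrr i hi)
    rw [ha, ← map_mul, sr_mul_r, zero_add] at this
    exact this
  have hsr1 : ∀ i, par hm i = 1 → b ∈ commutator G → f (sr i) ∈ commutator G := by
    intro i hi h0
    have := mul_mem h0 (hrr (i - 1) (by rw [map_sub, hi, map_one, sub_self]))
    rw [hb, ← map_mul, sr_mul_r] at this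
    rwa [show 1 + (i - 1) = i by ring] at this
  -- two classes
  have two : ∀ u v : ZMod 2, (u ≠ 0 ∨ v ≠ 0) → (IsConj z a → v = 0) → (IsConj z b → v + u = 0) → (IsConj a b → u = 0) →
      (∀ d, phi hm u v d = 1 → f d ∈ commutator G) →
      (∃ N : Subgroup G, N.Normal ∧ N.index = 2) ∧ ∀ N : Subgroup G, N.Normal → N.index ≠ 4 := by
    intro u v huv h1 h2 h3 h4
    constructor
    · obtain ⟨d, hd⟩ : ∃ d, phi hm u v d ≠ 1 := by
        by_cases hv : v = 0
        · refine ⟨r 1, ?_⟩
          rw [phi_r, map_one, mul_one]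
          exact fun h0 => (huv.resolve_right (fun h => h hv)) (ofAdd_eq_one.mp h0)
        · refine ⟨sr 0, ?_⟩
          rw [phi_sr, map_zero, mul_zero, add_zero]
          exact fun h0 => hv (ofAdd_eq_one.mp h0)
      refine exists_index_two P ((phi hm u v).comp e.toMonoidHom) ?_ (e.symm d) ?_
      · intro x y hxy
        apply fusion_inv hm hh f hf h1 h2 h3
        show IsConj (f (e x)) (f (e y))
        rw [hfe, hfe]; exact hxy
      · show phi hm u v (e (e.symm d)) ≠ 1
        rw [e.apply_symm_apply]; exact hd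
    · apply no_index_four P ((phi hm u v).comp e.toMonoidHom)
      intro x hx
      have := h4 (e x) hx
      rwa [hfe] at this
  by_cases hza : IsConj z a
  · by_cases hab : IsConj a b
    · -- one class
      left
      refine ⟨hc1 hza hab, ?_⟩
      intro N hN h2
      have hzb := hza.trans hab
      have hPc : (P : Subgroup G) ≤ commutator G := by
        intro x hx
        obtain ⟨d, rfl⟩ : ∃ d, f d = x := by
          have : x ∈ f.range := by rw [hfP]; exact hx
          exact this
        rcases d with i | i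
        · exact hrc hab i
        · rcases zmod2_cases (par hm i) with hi | hi
          · exact hsr0 i hi (hac hza)
          · exact hsr1 i hi (hbc hzb)
      have h3 := sup_sylow_eq_top P (N := N) (k := 1) (by rw [h2]; norm_num)
      haveI := hN
      have h4 : commutator G ≤ N := by
        have h2' : Nat.card (G ⧸ N) = 2 := h2
        haveI : IsCyclic (G ⧸ N) := isCyclic_of_prime_card h2'
        letI : CommGroup (G ⧸ N) := IsCyclic.commGroup
        have h5 := Abelianization.commutator_subset_ker (QuotientGroup.mk' N)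
        rwa [QuotientGroup.ker_mk'] at h5
      rw [sup_eq_left.mpr (hPc.trans h4)] at h3
      rw [h3, index_top] at h2
      norm_num at h2
    · right; left
      refine ⟨hc2 (Or.inl ⟨hza, hab⟩), two 1 0 (Or.inl z10) (fun _ => rfl) (fun h => ?_) (fun h => absurd h hab) ?_⟩
      · exact absurd (hza.symm.trans h) hab
      · intro d hd
        rcases d with i | i
        · rw [phi_r, one_mul] at hd
          exact hrr i (ofAdd_eq_one.mp hd)
        · rw [phi_sr, one_mul, zero_add] at hd
          exact hsr0 i (ofAdd_eq_one.mp hd) (hac hza)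
  · by_cases hzb : IsConj z b
    · right; left
      refine ⟨hc2 (Or.inr (Or.inl ⟨hzb, hza⟩)), two 1 1 (Or.inl z10) (fun h => absurd h hza) (fun _ => z11) (fun h => ?_) ?_⟩
      · exact absurd (hzb.trans h.symm) hza
      · intro d hd
        rcases d with i | i
        · rw [phi_r, one_mul] at hd
          exact hrr i (ofAdd_eq_one.mp hd)
        · rw [phi_sr, one_mul] at hd
          have h1 := ofAdd_eq_one.mp hd
          apply hsr1 i _ (hbc hzb)
          rcases zmod2_cases (par hm i) with hi | hi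
          · rw [hi] at h1; exact absurd h1 z12
          · exact hi
    · by_cases hab : IsConj a b
      · right; left
        refine ⟨hc2 (Or.inr (Or.inr ⟨hab, hza⟩)), two 0 1 (Or.inr z10) (fun h => absurd h hza) (fun h => absurd h hzb) (fun _ => rfl) ?_⟩
        intro d hd
        rcases d with i | i
        · exact hrc hab i
        · rw [phi_sr, zero_mul, add_zero] at hd
          exact absurd (ofAdd_eq_one.mp hd) z10
      · right; right
        exact ⟨hc3 hza hzb hab, complement_case P hm hh f hf hfP hza hzb⟩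

end aux

/-- Let G be a finite group whose Sylow 2-subgroups are dihedral of order 2 ^ n with n ≥ 3, and count the conjugacy classes of involutions of G. Then exactly one of the following holds: there is one class of involutions and no normal subgroup of index 2; there are two classes of involutions, a normal subgroup of index 2 and none of index 4; there are three classes of involutions and G has a normal 2-complement. -/
theorem result {G : Type*} [Group G] [Finite G] (P : Sylow 2 G) (n : ℕ) (hn : 3 ≤ n) (hdih : Nonempty (↥(P : Subgroup G) ≃* DihedralGroup (2 ^ (n - 1)))) : (Nat.card {C : ConjClasses G // ∃ g : G, ConjClasses.mk g = C ∧ orderOf g = 2} = 1 ∧ ∀ N : Subgroup G, N.Normal → N.index ≠ 2) ∨ (Nat.card {C : ConjClasses G // ∃ g : G, ConjClasses.mk g = C ∧ orderOf g = 2} = 2 ∧ (∃ N : Subgroup G, N.Normal ∧ N.index = 2) ∧ ∀ N : Subgroup G, N.Normal → N.index ≠ 4) ∨ (Nat.card {C : ConjClasses G // ∃ g : G, ConjClasses.mk g = C ∧ orderOf g = 2} = 3 ∧ Cfsg.HasNormalPComplement 2 G) := by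
  exact aux P n hn hdih

end Cfsg.Agent.S3864
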