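import Cfsg.Statements.S0107
import Cfsg.Agent.S3864
import Cfsg.Agent.H2.Frobenius

set_option autoImplicit false
set_option linter.style.haveILetI false
set_option linter.unusedVariables false
set_option linter.unusedSectionVars false
open Cfsg

namespace Cfsg.Agent.S0107

/-- A finite group with no nontrivial 2-group quotient and dihedral Sylow 2-subgroups of order at least 8 has a single class of involutions. -/
theorem result {G : Type*} [Group G] [Finite G] (T : Sylow 2 G) (n : ℕ) (hn : 2 ≤ n) (hT : Nonempty ((T : Subgroup G) ≃* DihedralGroup (2 ^ n))) (hO : Cfsg.pResidual 2 G = ⊤) (x y : G) (hx : orderOf x = 2) (hy : orderOf y = 2) : ∃ g : G, g * x * g⁻¹ = y := by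
  haveI : Fact (Nat.Prime 2) := ⟨Nat.prime_two⟩
  have hres : ∀ (N : Subgroup G) (_ : N.Normal), IsPGroup 2 (G ⧸ N) → N = ⊤ := by
    intro N hN hp
    rw [eq_top_iff, ← hO, Cfsg.pResidual, Subgroup.closure_le]
    intro g hg
    rw [SetLike.mem_coe, ← QuotientGroup.eq_one_iff]
    obtain ⟨k, hk⟩ := hp (g : G ⧸ N)
    have h1 : orderOf (g : G ⧸ N) ∣ 2 ^ k := orderOf_dvd_of_pow_eq_one hk
    have h2 : orderOf (g : G ⧸ N) ∣ orderOf g := orderOf_map_dvd (QuotientGroup.mk' N) g
    have h3 : Nat.Coprime (orderOf g) (2 ^ k) := Nat.Coprime.pow_right _ hg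
    exact orderOf_eq_one_iff.1 (Nat.eq_one_of_dvd_coprimes h3 h2 h1)
  rcases S3864.aux T (n + 1) (by omega) hT with ⟨h1, -⟩ | ⟨-, ⟨N, hN, hi⟩, -⟩ | ⟨-, P, N, hN, hc⟩
  · rw [Nat.card_eq_one_iff_unique] at h1
    obtain ⟨h1, -⟩ := h1
    have h2 := h1.elim ⟨ConjClasses.mk x, x, rfl, hx⟩ ⟨ConjClasses.mk y, y, rfl, hy⟩
    have h3 : ConjClasses.mk x = ConjClasses.mk y := congrArg Subtype.val h2
    rw [ConjClasses.mk_eq_mk_iff_isConj, isConj_iff] at h3
    exact h3
  · exfalso
    have h2 := hres N hN (IsPGroup.of_card (n := 1) (by rw [pow_one]; exact hi))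
    rw [h2, Subgroup.index_top] at hi
    norm_num at hi
  · exfalso
    have h2 := hres N hN (by
      obtain ⟨k, hk⟩ := IsPGroup.iff_card.1 P.2
      refine IsPGroup.of_card (n := k) ?_
      rw [← hk]
      have h3 := hc.symm.index_eq_card
      exact h3)
    have h3 := hc.symm.index_eq_card
    rw [h2, Subgroup.index_top] at h3
    have h4 : Nat.card (T : Subgroup G) = 2 * 2 ^ n := by
      rw [Nat.card_congr hT.some.toEquiv, DihedralGroup.nat_card]
    have h5 : Nat.card (P : Subgroup G) = Nat.card (T : Subgroup G) := by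
      rw [P.card_eq_multiplicity, T.card_eq_multiplicity]
    rw [← h5, ← h3] at h4
    have : 0 < 2 ^ n := by positivity
    omega

end Cfsg.Agent.S0107
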