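import Cfsg.Statements.S2426
import Cfsg.Agent.H16.Stein2
import Cfsg.Agent.H16.SLGen

set_option autoImplicit false
open Cfsg

namespace Cfsg.Agent.S2426

set_option linter.all false

open Cfsg.Agent.H16

abbrev rels (K : Type*) [Field K] : Set (FreeGroup (Bool × K)) :=
  ({g : FreeGroup (Bool × K) | ∃ (b : Bool) (t u : K), g = FreeGroup.of (b, t) * FreeGroup.of (b, u) * (FreeGroup.of (b, t + u))⁻¹} ∪
          {g | ∃ (b : Bool) (t u : K), t ≠ 0 ∧
            g = (FreeGroup.of (b, t) * FreeGroup.of (!b, -t⁻¹) * FreeGroup.of (b, t)) * FreeGroup.of (b, u) *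
                  (FreeGroup.of (b, t) * FreeGroup.of (!b, -t⁻¹) * FreeGroup.of (b, t))⁻¹ * (FreeGroup.of (!b, -(t⁻¹ ^ 2 * u)))⁻¹})

def ux {K : Type*} [Field K] (t : K) : Matrix.SpecialLinearGroup (Fin 2) K := ⟨!![1, t; 0, 1], by simp [Matrix.det_fin_two]⟩
def uy {K : Type*} [Field K] (t : K) : Matrix.SpecialLinearGroup (Fin 2) K := ⟨!![1, 0; t, 1], by simp [Matrix.det_fin_two]⟩

def fmap {K : Type*} [Field K] (p : Bool × K) : Matrix.SpecialLinearGroup (Fin 2) K := if p.1 then ux p.2 else uy p.2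

lemma frel {K : Type*} [Field K] : ∀ r ∈ rels K, FreeGroup.lift (fmap (K := K)) r = 1 := by
  intro r hr
  rcases hr with ⟨b, t, u, rfl⟩ | ⟨b, t, u, ht, rfl⟩
  · rw [map_mul, map_mul, map_inv, FreeGroup.lift_apply_of, FreeGroup.lift_apply_of, FreeGroup.lift_apply_of, mul_inv_eq_one]
    cases b
    · apply Subtype.ext
      rw [Matrix.SpecialLinearGroup.coe_mul]
      show !![1, 0; t, 1] * !![1, 0; u, 1] = !![1, 0; t + u, 1]
      ext i j; fin_cases i <;> fin_cases j <;> simp [Matrix.mul_apply]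
    · apply Subtype.ext
      rw [Matrix.SpecialLinearGroup.coe_mul]
      show !![1, t; 0, 1] * !![1, u; 0, 1] = !![1, t + u; 0, 1]
      ext i j; fin_cases i <;> fin_cases j <;> simp [Matrix.mul_apply, add_comm]
  · simp only [map_mul, map_inv, FreeGroup.lift_apply_of]
    rw [mul_inv_eq_one, mul_inv_eq_iff_eq_mul]
    cases b
    · apply Subtype.ext
      simp only [Matrix.SpecialLinearGroup.coe_mul]
      show !![1, 0; t, 1] * !![1, -t⁻¹; 0, 1] * !![1, 0; t, 1] * !![1, 0; u, 1] = !![1, -(t⁻¹ ^ 2 * u); 0, 1] * (!![1, 0; t, 1] * !![1, -t⁻¹; 0, 1] * !![1, 0; t, 1])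
      ext i j; fin_cases i <;> fin_cases j <;> simp [Matrix.mul_apply, Fin.sum_univ_two, ht] <;> field_simp <;> ring
    · apply Subtype.ext
      simp only [Matrix.SpecialLinearGroup.coe_mul]
      show !![1, t; 0, 1] * !![1, 0; -t⁻¹, 1] * !![1, t; 0, 1] * !![1, u; 0, 1] = !![1, 0; -(t⁻¹ ^ 2 * u), 1] * (!![1, t; 0, 1] * !![1, 0; -t⁻¹, 1] * !![1, t; 0, 1])
      ext i j; fin_cases i <;> fin_cases j <;> simp [Matrix.mul_apply, Fin.sum_univ_two, ht] <;> field_simp <;> ring

/-- The rank-one Steinberg presentation of `SL₂` over a finite field `K`: generators `x(t)`, `y(t)` (`t ∈ K`; the two opposite root subgroups) subject to additivity `x(t)x(u) = x(t+u)`, `y(t)y(u) = y(t+u)` and, with `w(t) = x(t) y(−t⁻¹) x(t)` and `w'(t) = y(t) x(−t⁻¹) y(t)` for `t ≠ 0`, the relations `w(t) x(u) w(t)⁻¹ = y(−t⁻² u)` and `w'(t) y(u) w'(t)⁻¹ = x(−t⁻² u)`, present `SL₂(K)`, with `x(t) ↦ (1 t; 0 1)` and `y(t) ↦ (1 0; t 1)`. -/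
theorem result {K : Type*} [Field K] [Finite K] :
    ∃ e : PresentedGroup
        ({g : FreeGroup (Bool × K) | ∃ (b : Bool) (t u : K), g = FreeGroup.of (b, t) * FreeGroup.of (b, u) * (FreeGroup.of (b, t + u))⁻¹} ∪
          {g | ∃ (b : Bool) (t u : K), t ≠ 0 ∧
            g = (FreeGroup.of (b, t) * FreeGroup.of (!b, -t⁻¹) * FreeGroup.of (b, t)) * FreeGroup.of (b, u) *
                  (FreeGroup.of (b, t) * FreeGroup.of (!b, -t⁻¹) * FreeGroup.of (b, t))⁻¹ * (FreeGroup.of (!b, -(t⁻¹ ^ 2 * u)))⁻¹})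
        ≃* Matrix.SpecialLinearGroup (Fin 2) K,
      (∀ t : K, ((e (PresentedGroup.of (true, t)) : Matrix (Fin 2) (Fin 2) K)) = !![1, t; 0, 1]) ∧
      (∀ t : K, ((e (PresentedGroup.of (false, t)) : Matrix (Fin 2) (Fin 2) K)) = !![1, 0; t, 1]) := by
  classical
  haveI := Fintype.ofFinite K
  let Γ := PresentedGroup (rels K)
  let φ : Γ →* Matrix.SpecialLinearGroup (Fin 2) K := PresentedGroup.toGroup frel
  let x : K → Γ := fun t => PresentedGroup.of (true, t)
  let y : K → Γ := fun t => PresentedGroup.of (false, t)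
  have S : Stn x y := by
    have h1 : ∀ (b : Bool) (t u : K), (PresentedGroup.of (b, t) * PresentedGroup.of (b, u) : Γ) = PresentedGroup.of (b, t + u) := by
      intro b t u
      have := PresentedGroup.one_of_mem (rels := rels K) (x := FreeGroup.of (b, t) * FreeGroup.of (b, u) * (FreeGroup.of (b, t + u))⁻¹) (Or.inl ⟨b, t, u, rfl⟩)
      rw [map_mul, map_mul, map_inv, mul_inv_eq_one] at this
      exact this
    have h2 : ∀ (b : Bool) (t u : K), t ≠ 0 → ((PresentedGroup.of (b, t) * PresentedGroup.of (!b, -t⁻¹) * PresentedGroup.of (b, t)) * PresentedGroup.of (b, u) *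
                  (PresentedGroup.of (b, t) * PresentedGroup.of (!b, -t⁻¹) * PresentedGroup.of (b, t))⁻¹ : Γ) = PresentedGroup.of (!b, -(t⁻¹ ^ 2 * u)) := by
      intro b t u ht
      have := PresentedGroup.one_of_mem (rels := rels K) (x := (FreeGroup.of (b, t) * FreeGroup.of (!b, -t⁻¹) * FreeGroup.of (b, t)) * FreeGroup.of (b, u) *
                  (FreeGroup.of (b, t) * FreeGroup.of (!b, -t⁻¹) * FreeGroup.of (b, t))⁻¹ * (FreeGroup.of (!b, -(t⁻¹ ^ 2 * u)))⁻¹) (Or.inr ⟨b, t, u, ht, rfl⟩)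
      rw [map_mul, map_inv, mul_inv_eq_one] at this
      simp only [map_mul, map_inv] at this
      exact this
    exact ⟨fun t u => (h1 true t u).symm, fun t u => (h1 false t u).symm, fun t u ht => h2 true t u ht, fun t u ht => h2 false t u ht⟩
  have hgen : Subgroup.closure (Set.range x ∪ Set.range y) = ⊤ := by
    rw [eq_top_iff, ← PresentedGroup.closure_range_of (rels K)]
    apply Subgroup.closure_mono
    rintro _ ⟨⟨b, t⟩, rfl⟩
    cases b
    · exact Or.inr ⟨t, rfl⟩
    · exact Or.inl ⟨t, rfl⟩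
  have hφx : ∀ t, φ (x t) = ux t := fun t => by
    show PresentedGroup.toGroup frel (PresentedGroup.of (true, t)) = _
    rw [PresentedGroup.toGroup.of]; rfl
  have hφy : ∀ t, φ (y t) = uy t := fun t => by
    show PresentedGroup.toGroup frel (PresentedGroup.of (false, t)) = _
    rw [PresentedGroup.toGroup.of]; rfl
  have hsurj : Function.Surjective φ := by
    rw [← MonoidHom.range_eq_top]
    apply eq_top_of_transvection_mem
    intro i j hij c
    have h01 : (i = 0 ∧ j = 1) ∨ (i = 1 ∧ j = 0) := by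
      fin_cases i <;> fin_cases j <;> simp_all
    rcases h01 with ⟨rfl, rfl⟩ | ⟨rfl, rfl⟩
    · refine ⟨x c, ?_⟩
      rw [hφx]
      apply Subtype.ext
      show !![1, c; 0, 1] = Matrix.transvection (0 : Fin 2) 1 c
      ext a b; fin_cases a <;> fin_cases b <;> simp [Matrix.transvection, Matrix.single_apply]
    · refine ⟨y c, ?_⟩
      rw [hφy]
      apply Subtype.ext
      show !![1, 0; c, 1] = Matrix.transvection (1 : Fin 2) 0 c
      ext a b; fin_cases a <;> fin_cases b <;> simp [Matrix.transvection, Matrix.single_apply]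
  have hbij := S.bijective_of_surj hgen φ hsurj
  refine ⟨MulEquiv.ofBijective φ hbij, fun t => ?_, fun t => ?_⟩
  · show ((φ (x t) : Matrix.SpecialLinearGroup (Fin 2) K) : Matrix (Fin 2) (Fin 2) K) = _
    rw [hφx]; rfl
  · show ((φ (y t) : Matrix.SpecialLinearGroup (Fin 2) K) : Matrix (Fin 2) (Fin 2) K) = _
    rw [hφy]; rfl

end Cfsg.Agent.S2426
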