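import Cfsg.Statements.S0670
import Cfsg.Agent.H10.Perm1

set_option autoImplicit false
open Cfsg

namespace Cfsg.Agent.S0670

/-- In characteristic `p`, the permutation module of a transitive action of degree `p ^ f` has the line of constant functions as its only irreducible submodule: every non-zero subrepresentation contains it. -/
theorem result {G : Type*} [Group G] [Finite G] {K : Type*} [Field K] {p f : ℕ} [Fact p.Prime] [CharP K p] {Ω : Type*} [Fintype Ω] [MulAction G Ω] [MulAction.IsPretransitive G Ω] (hf : 1 ≤ f) (hcard : Fintype.card Ω = p ^ f) (W : Subrepresentation (Cfsg.permRep K G Ω)) (hW : W.toSubmodule ≠ ⊥) : (Cfsg.permConstants K G Ω).toSubmodule ≤ W.toSubmodule := by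
  obtain ⟨P⟩ : Nonempty (Sylow p G) := inferInstance
  letI act : DistribMulAction P W.toSubmodule :=
    { smul := fun g w => ⟨Cfsg.permRep K G Ω g w, W.apply_mem_toSubmodule _ w.2⟩
      one_smul := fun w => by
        apply Subtype.ext
        show Cfsg.permRep K G Ω (1 : G) w = w
        rw [map_one]; rfl
      mul_smul := fun g h w => by
        apply Subtype.ext
        show Cfsg.permRep K G Ω ((g : G) * h) w = Cfsg.permRep K G Ω g (Cfsg.permRep K G Ω h w)
        rw [map_mul]; rfl
      smul_zero := fun g => by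
        apply Subtype.ext
        exact map_zero _
      smul_add := fun g v w => by
        apply Subtype.ext
        exact map_add _ _ _ }
  obtain ⟨w, hw, hw0⟩ := (Submodule.ne_bot_iff _).1 hW
  obtain ⟨v, hv0, hv⟩ := H26.exists_fixed_ne_zero (p := p) P.isPGroup' (V := W.toSubmodule)
    (fun v => by
      rw [← Nat.cast_smul_eq_nsmul K, CharP.cast_eq_zero, zero_smul]) ⟨w, hw⟩
    (fun h => hw0 (congrArg Subtype.val h))
  have hc : ∀ x y : Ω, (v : Ω → K) x = (v : Ω → K) y := by
    intro x y
    obtain ⟨g, hg, hgx⟩ := H10.sylow_transitive (Nat.card_eq_fintype_card.trans hcard) P y x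
    have h1 := congrFun (congrArg Subtype.val (hv ⟨g, hg⟩)) x
    have h2 : (v : Ω → K) (g⁻¹ • x) = (v : Ω → K) x := h1
    rw [← h2, ← hgx, inv_smul_smul]
  have hΩ : Nonempty Ω := by
    rw [← Fintype.card_pos_iff, hcard]
    exact pow_pos (Fact.out : p.Prime).pos _
  obtain ⟨a⟩ := hΩ
  have hva : (v : Ω → K) a ≠ 0 := by
    intro h
    apply hv0
    apply Subtype.ext
    funext x
    rw [hc x a, h]; rfl
  intro u hu
  obtain ⟨c, hc'⟩ := H10.mem_permConstants.1 hu
  have h1 : u = (c * ((v : Ω → K) a)⁻¹) • (v : Ω → K) := by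
    funext x
    rw [hc' x, Pi.smul_apply, smul_eq_mul, hc x a, mul_assoc, inv_mul_cancel₀ hva, mul_one]
  rw [h1]
  exact Submodule.smul_mem _ _ v.2

end Cfsg.Agent.S0670
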