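import Cfsg.Statements.S0673
import Mathlib

set_option autoImplicit false
open Cfsg

namespace Cfsg.Agent.S0673

/-- In characteristic `p`, the translation-invariant subspaces of the space of functions on `ZMod p` are exactly the spaces of polynomial functions of degree less than `r`, one for each `r ≤ p`, of dimension `r`. -/
theorem result {p : ℕ} [Fact p.Prime] {K : Type*} [Field K] [CharP K p] (W : Submodule K (ZMod p → K)) (hW : ∀ f ∈ W, (fun j => f (j - 1)) ∈ W) : ∃ r : ℕ, r ≤ p ∧ Module.finrank K W = r ∧ ∀ f : ZMod p → K, f ∈ W ↔ ∃ P : Polynomial K, P.degree < r ∧ ∀ j : ZMod p, f j = P.eval (ZMod.cast j : K) := by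
  classical
  have hp := (Fact.out : p.Prime)
  let ev : Polynomial K →ₗ[K] (ZMod p → K) :=
    { toFun := fun P j => P.eval (ZMod.cast j : K)
      map_add' := fun P Q => by ext j; simp
      map_smul' := fun c P => by ext j; simp [Polynomial.eval_smul] }
  have hev : ∀ P j, ev P j = P.eval (ZMod.cast j : K) := fun P j => rfl
  have hcinj : Function.Injective (ZMod.cast : ZMod p → K) := by
    have : (ZMod.cast : ZMod p → K) = ZMod.castHom (dvd_refl p) K := rfl
    rw [this]
    exact (ZMod.castHom (dvd_refl p) K).injective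
  -- injectivity
  have hinj : ∀ P : Polynomial K, P.degree < p → ev P = 0 → P = 0 := by
    intro P hP h0
    by_contra hne
    have h1 : (Finset.univ.image (ZMod.cast : ZMod p → K)).card ≤ P.natDegree := by
      refine (Finset.card_le_card ?_).trans ((Multiset.toFinset_card_le _).trans (Polynomial.card_roots' P))
      intro x hx
      obtain ⟨j, -, rfl⟩ := Finset.mem_image.1 hx
      rw [Multiset.mem_toFinset, Polynomial.mem_roots hne]
      exact congrFun h0 j
    rw [Finset.card_image_of_injective _ hcinj, Finset.card_univ, ZMod.card] at h1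
    rw [Polynomial.degree_eq_natDegree hne] at hP
    have := Nat.cast_lt.1 hP
    omega
  let S : Submodule K (Polynomial K) := W.comap ev ⊓ Polynomial.degreeLT K p
  have hS : ∀ P, P ∈ S ↔ ev P ∈ W ∧ P.degree < p := fun P => by
    rw [Submodule.mem_inf, Polynomial.mem_degreeLT]; rfl
  have hT : ∀ P ∈ S, Polynomial.taylor (-1) P ∈ S := by
    intro P hP
    rw [hS] at hP ⊢
    refine ⟨?_, by rw [Polynomial.degree_taylor]; exact hP.2⟩
    have h1 := hW _ hP.1
    have h2 : ev (Polynomial.taylor (-1) P) = fun j => ev P (j - 1) := by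
      ext j
      rw [hev, hev, Polynomial.taylor_eval, ZMod.cast_sub (dvd_refl p), ZMod.cast_one (dvd_refl p)]
      ring_nf
    rw [h2]; exact h1
  -- one step down
  have hstep : ∀ (k : ℕ) (P : Polynomial K), P ∈ S → P.natDegree = k + 1 →
      ∃ Q ∈ S, Q ≠ 0 ∧ Q.natDegree = k := by
    intro k P hP hk
    have hP0 : P ≠ 0 := by rintro rfl; simp at hk
    refine ⟨Polynomial.taylor (-1) P - P, S.sub_mem (hT P hP) hP, ?_⟩
    have hlt : (Polynomial.taylor (-1) P - P).degree < P.degree := by
      have := Polynomial.degree_sub_lt (p := Polynomial.taylor (-1) P) (q := P)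
        (Polynomial.degree_taylor _ _) (by
          intro h
          apply hP0
          exact (Polynomial.taylor_eq_zero _ _).1 h) (by
          exact Polynomial.leadingCoeff_taylor _ _)
      rwa [Polynomial.degree_taylor] at this
    have hco : (Polynomial.taylor (-1) P - P).coeff k = -((k + 1 : ℕ) : K) * P.coeff (k + 1) := by
      rw [Polynomial.coeff_sub, Polynomial.taylor_coeff]
      have h1 : (Polynomial.hasseDeriv k P).natDegree < 2 := by
        have := Polynomial.natDegree_hasseDeriv_le P k
        omega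
      rw [Polynomial.eval_eq_sum_range' h1, Finset.sum_range_succ, Finset.sum_range_one,
        Polynomial.hasseDeriv_coeff, Polynomial.hasseDeriv_coeff]
      simp only [zero_add, Nat.choose_self, Nat.cast_one, one_mul, pow_zero, mul_one, pow_one]
      rw [show 1 + k = k + 1 from add_comm 1 k, Nat.choose_succ_self_right]
      ring
    have hne : (Polynomial.taylor (-1) P - P).coeff k ≠ 0 := by
      rw [hco]
      refine mul_ne_zero (neg_ne_zero.2 ?_) ?_
      · intro h
        have h1 := (CharP.cast_eq_zero_iff K p (k + 1)).1 h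
        have h2 := ((hS P).1 hP).2
        rw [Polynomial.degree_eq_natDegree hP0, hk] at h2
        have h3 := Nat.cast_lt.1 h2
        have h4 := Nat.le_of_dvd (Nat.succ_pos k) h1
        omega
      · rw [← hk]; exact Polynomial.leadingCoeff_ne_zero.2 hP0
    have hQ0 : Polynomial.taylor (-1) P - P ≠ 0 := by
      intro h; rw [h] at hne; simp at hne
    refine ⟨hQ0, le_antisymm ?_ (Polynomial.le_natDegree_of_ne_zero hne)⟩
    rw [Polynomial.degree_eq_natDegree hQ0, Polynomial.degree_eq_natDegree hP0, hk] at hlt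
    have := Nat.cast_lt.1 hlt
    omega
  -- all degrees
  have hall : ∀ (n : ℕ) (P : Polynomial K), P ∈ S → P ≠ 0 → P.natDegree = n →
      ∀ k ≤ n, ∃ Q ∈ S, Q ≠ 0 ∧ Q.natDegree = k := by
    intro n
    induction n with
    | zero => intro P hP hP0 hn k hk; exact ⟨P, hP, hP0, by omega⟩
    | succ n ih =>
      intro P hP hP0 hn k hk
      rcases hk.eq_or_lt with h | h
      · exact ⟨P, hP, hP0, by omega⟩
      · obtain ⟨Q, hQ, hQ0, hQn⟩ := hstep n P hP hn
        exact ih Q hQ hQ0 hQn k (by omega)
  have hdeg : ∀ k : ℕ, (∀ j < k, ∃ Q ∈ S, Q ≠ 0 ∧ Q.natDegree = j) → Polynomial.degreeLT K k ≤ S := by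
    intro k
    induction k with
    | zero =>
      intro _ P hP
      rw [Polynomial.mem_degreeLT] at hP
      have : P = 0 := by
        by_contra h
        rw [Polynomial.degree_eq_natDegree h] at hP
        have := Nat.cast_lt.1 hP
        omega
      rw [this]; exact S.zero_mem
    | succ k ih =>
      intro h P hP
      have ih' := ih fun j hj => h j (by omega)
      obtain ⟨Q, hQ, hQ0, hQn⟩ := h k (by omega)
      rw [Polynomial.mem_degreeLT] at hP
      set c := P.coeff k / Q.leadingCoeff with hc
      have h1 : P - c • Q ∈ Polynomial.degreeLT K k := by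
        rw [Polynomial.mem_degreeLT, Polynomial.degree_lt_iff_coeff_zero]
        intro m hm
        rw [Polynomial.coeff_sub, Polynomial.coeff_smul, smul_eq_mul]
        rcases hm.eq_or_lt with h2 | h2
        · rw [← h2, hc, ← hQn, ← Polynomial.leadingCoeff, div_mul_cancel₀ _ (Polynomial.leadingCoeff_ne_zero.2 hQ0), sub_self]
        · have h3 : P.coeff m = 0 := by
            apply Polynomial.coeff_eq_zero_of_degree_lt
            refine lt_of_lt_of_le hP ?_
            exact Nat.cast_le.2 h2
          have h4 : Q.coeff m = 0 := by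
            apply Polynomial.coeff_eq_zero_of_natDegree_lt
            omega
          rw [h3, h4, mul_zero, sub_zero]
      have h2 : P = (P - c • Q) + c • Q := by ring
      rw [h2]
      exact S.add_mem (ih' h1) (S.smul_mem _ hQ)
  obtain ⟨r, hr, hSr⟩ : ∃ r ≤ p, S = Polynomial.degreeLT K r := by
    by_cases hb : S = ⊥
    · refine ⟨0, Nat.zero_le _, ?_⟩
      rw [hb]
      symm
      rw [eq_bot_iff, ← hb]
      exact hdeg 0 (fun j hj => absurd hj (Nat.not_lt_zero j))
    · obtain ⟨P₀, hP₀, hP₀0⟩ := (Submodule.ne_bot_iff _).1 hb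
      have hbd : ∀ P ∈ S, P ≠ 0 → P.natDegree < p := by
        intro P hP h0
        have h2 := ((hS P).1 hP).2
        rw [Polynomial.degree_eq_natDegree h0] at h2
        exact Nat.cast_lt.1 h2
      let T : Set ℕ := {n | ∃ P ∈ S, P ≠ 0 ∧ P.natDegree = n}
      have hTb : BddAbove T := ⟨p, by rintro n ⟨P, hP, h0, rfl⟩; exact (hbd P hP h0).le⟩
      have hTm : sSup T ∈ T := Nat.sSup_mem ⟨_, P₀, hP₀, hP₀0, rfl⟩ hTb
      obtain ⟨P, hP, hP0, hPn⟩ := hTm
      refine ⟨sSup T + 1, ?_, le_antisymm ?_ ?_⟩
      · have := hbd P hP hP0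
        omega
      · intro Q hQ
        rw [Polynomial.mem_degreeLT]
        by_cases hQ0 : Q = 0
        · rw [hQ0, Polynomial.degree_zero]; exact WithBot.bot_lt_coe _
        · rw [Polynomial.degree_eq_natDegree hQ0]
          have : Q.natDegree ≤ sSup T := le_csSup hTb ⟨Q, hQ, hQ0, rfl⟩
          exact_mod_cast Nat.lt_succ_of_le this
      · apply hdeg
        intro j hj
        exact hall _ P hP hP0 hPn j (by omega)
  -- evaluation is surjective from degree < p
  let evp : Polynomial.degreeLT K p →ₗ[K] (ZMod p → K) := ev.domRestrict (Polynomial.degreeLT K p)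
  have hfr : ∀ n : ℕ, Module.finrank K (Polynomial.degreeLT K n) = n := by
    intro n
    rw [(Polynomial.degreeLTEquiv K n).finrank_eq, Module.finrank_fin_fun]
  have hevp : Function.Injective evp := by
    rw [← LinearMap.ker_eq_bot, eq_bot_iff]
    rintro ⟨P, hP⟩ h
    rw [Polynomial.mem_degreeLT] at hP
    have := hinj P hP h
    exact Subtype.ext this
  haveI : Module.Finite K (Polynomial.degreeLT K p) :=
    Module.Finite.equiv (Polynomial.degreeLTEquiv K p).symm
  have hsurj : Function.Surjective evp := by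
    refine (LinearMap.injective_iff_surjective_of_finrank_eq_finrank ?_).1 hevp
    rw [hfr, Module.finrank_fintype_fun_eq_card, ZMod.card]
  have hmem : ∀ f : ZMod p → K, f ∈ W ↔ ∃ P : Polynomial K, P.degree < r ∧ ∀ j : ZMod p, f j = P.eval (ZMod.cast j : K) := by
    intro f
    constructor
    · intro hf
      obtain ⟨⟨P, hP⟩, rfl⟩ := hsurj f
      refine ⟨P, ?_, fun j => rfl⟩
      rw [← Polynomial.mem_degreeLT, ← hSr, hS]
      exact ⟨hf, Polynomial.mem_degreeLT.1 hP⟩
    · rintro ⟨P, hP, hf⟩
      rw [← Polynomial.mem_degreeLT, ← hSr, hS] at hP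
      have : f = ev P := funext hf
      rw [this]; exact hP.1
  refine ⟨r, hr, ?_, hmem⟩
  haveI : Module.Finite K (Polynomial.degreeLT K r) :=
    Module.Finite.equiv (Polynomial.degreeLTEquiv K r).symm
  have hrinj : Function.Injective (ev.domRestrict (Polynomial.degreeLT K r)) := by
    rw [← LinearMap.ker_eq_bot, eq_bot_iff]
    rintro ⟨P, hP⟩ h
    rw [Polynomial.mem_degreeLT] at hP
    have := hinj P (lt_of_lt_of_le hP (Nat.cast_le.2 hr)) h
    exact Subtype.ext this
  have hrange : LinearMap.range (ev.domRestrict (Polynomial.degreeLT K r)) = W := by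
    ext f
    rw [hmem]
    constructor
    · rintro ⟨⟨P, hP⟩, rfl⟩
      exact ⟨P, Polynomial.mem_degreeLT.1 hP, fun j => rfl⟩
    · rintro ⟨P, hP, hf⟩
      exact ⟨⟨P, Polynomial.mem_degreeLT.2 hP⟩, (funext hf).symm⟩
  rw [← hrange, LinearMap.finrank_range_of_inj hrinj, hfr]

end Cfsg.Agent.S0673
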