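import Cfsg.Statements.S0999
import Cfsg.Agent.H9.BRL

set_option autoImplicit false
open Cfsg

namespace Cfsg.Agent.S0999

/-- Let G be a non-cyclic finite simple group and p a prime divisor of its order with p^3 > |G|. Then p > 3 and G is isomorphic to the projective special linear group of dimension 2 over the field with p elements, or p - 1 is a power of 2 and G is isomorphic to that group over the field with p - 1 elements. -/
theorem result {G : Type*} [Group G] [Finite G] [IsSimpleGroup G] (hG : ¬ IsCyclic G) (p : ℕ) (hp : p.Prime) (hdvd : p ∣ Nat.card G) (hbig : Nat.card G < p ^ 3) : (∃ (F : Type) (_ : Field F) (_ : Fintype F), Fintype.card F = p ∧ 3 < p ∧ Nonempty (G ≃* Matrix.ProjectiveSpecialLinearGroup (Fin 2) F)) ∨ (∃ (m : ℕ) (F : Type) (_ : Field F) (_ : Fintype F), Fintype.card F = 2 ^ m ∧ p = 2 ^ m + 1 ∧ 3 < p ∧ Nonempty (G ≃* Matrix.ProjectiveSpecialLinearGroup (Fin 2) F)) := by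
  haveI : Fact p.Prime := ⟨hp⟩
  have hcyc : ∀ h : ∀ a b : G, a * b = b * a, False := by
    intro h
    letI : CommGroup G := { (inferInstance : Group G) with mul_comm := h }
    exact hG inferInstance
  have hperf : commutator G = ⊤ := by
    rcases (inferInstance : (commutator G).Normal).eq_bot_or_eq_top with h | h
    · exfalso
      apply hcyc
      intro a b
      have h1 : a * b * a⁻¹ * b⁻¹ ∈ commutator G := Subgroup.commutator_mem_commutator (Subgroup.mem_top a) (Subgroup.mem_top b)
      rw [h, Subgroup.mem_bot] at h1
      calc a * b = (a * b * a⁻¹ * b⁻¹) * (b * a) := by group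
        _ = b * a := by rw [h1, one_mul]
    · exact h
  obtain ⟨P⟩ : Nonempty (Sylow p G) := inferInstance
  have hPn : ¬ (P : Subgroup G).Normal := by
    intro h
    rcases h.eq_bot_or_eq_top with h1 | h1
    · have h2 : p ∣ Nat.card (P : Subgroup G) := P.dvd_card_of_dvd_card hdvd
      rw [h1, Subgroup.card_bot] at h2
      exact hp.one_lt.ne' (Nat.dvd_one.mp h2)
    · have h2 : IsPGroup p G := by
        intro g
        obtain ⟨k, hk⟩ := P.isPGroup' ⟨g, by rw [h1]; trivial⟩
        exact ⟨k, congrArg Subtype.val hk⟩
      haveI := h2.center_nontrivial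
      rcases (inferInstance : (Subgroup.center G).Normal).eq_bot_or_eq_top with h3 | h3
      · obtain ⟨x, y, hxy⟩ := (inferInstance : Nontrivial (Subgroup.center G))
        apply hxy
        have key : ∀ w ∈ Subgroup.center G, w = 1 := by
          intro w hw
          rw [h3] at hw
          exact Subgroup.mem_bot.mp hw
        exact Subtype.ext ((key x x.2).trans (key y y.2).symm)
      · apply hcyc
        intro a b
        have h4 : b ∈ Subgroup.center G := by rw [h3]; trivial
        exact Subgroup.mem_center_iff.mp h4 a
  apply Cfsg.Agent.H9.BR.cube_main hperf hdvd hbig P hPn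
  intro N hN h2
  rcases hN.eq_bot_or_eq_top with h | h
  · rw [h, Subgroup.card_bot] at h2; omega
  · rw [h, Subgroup.card_top] at h2
    haveI : Fact (Nat.Prime 2) := ⟨Nat.prime_two⟩
    exact hG (isCyclic_of_prime_card h2)

end Cfsg.Agent.S0999
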