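import Cfsg.Statements.S3868
import Cfsg.Agent.H23.MinNonClosed
import Cfsg.Agent.H29.XS

set_option autoImplicit false
set_option linter.all false
open Cfsg

namespace Cfsg.Agent.S3868

section aux
open Subgroup H23
open scoped commutatorElement

theorem closed_le_normalizer {G : Type*} [Group G] [Finite G] {p : ℕ} [Fact p.Prime] {P H : Subgroup G}
    (hH : Cfsg.IsPClosed p H) (hPH : P ≤ H) (hP : IsPGroup p P) (h : ¬ p ∣ P.relIndex H) :
    H ≤ normalizer (P : Set G) := by
  obtain ⟨S, hS⟩ := isSylowOf_of_not_dvd hPH hP h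
  have hSn := hH S
  rw [Subgroup.le_normalizer_iff]
  intro x hx y hy
  rw [← hS] at hy ⊢
  obtain ⟨s, hs, rfl⟩ := hy
  exact ⟨⟨x, hx⟩ * s * ⟨x, hx⟩⁻¹, hSn.conj_mem s hs _, rfl⟩

theorem aux {G : Type*} [Group G] [Finite G] {p : ℕ} [Fact p.Prime]
    (hnc : ¬ Cfsg.IsPClosed p G) (hsub : ∀ H : Subgroup G, H ≠ ⊤ → Cfsg.IsPClosed p ↥H)
    (hquo : ∀ (N : Subgroup G) [N.Normal], N ≠ ⊥ → Cfsg.IsPClosed p (G ⧸ N)) (hns : ¬ IsSimpleGroup G) :
    ∃ q : ℕ, q.Prime ∧ q ≠ p ∧ Nat.card G = p * q ^ orderOf (q : ZMod p) ∧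
      ∃ A : Subgroup G, A.Normal ∧ Nat.card ↥A = q ^ orderOf (q : ZMod p) ∧ Cfsg.IsElementaryAbelian q A ∧
        ∀ B : Subgroup G, B.Normal → B ≤ A → B = ⊥ ∨ B = A := by
  have hpp : p.Prime := Fact.out
  obtain ⟨P, hPn⟩ : ∃ P : Sylow p G, ¬ (P : Subgroup G).Normal := by
    by_contra hcon
    push Not at hcon
    exact hnc hcon
  have hP1 : (P : Subgroup G) ≠ ⊥ := fun h => hPn (by rw [h]; infer_instance)
  haveI hnt : Nontrivial G := by
    by_contra hcon
    rw [not_nontrivial_iff_subsingleton] at hcon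
    apply hP1
    exact Subsingleton.elim _ _
  -- normal `p`-subgroups are trivial
  have hOp : ∀ K : Subgroup G, K.Normal → IsPGroup p K → K = ⊥ := by
    intro K hK hKp
    by_contra hne
    haveI := hK
    have h1 := hquo K hne (P.mapSurjective (QuotientGroup.mk'_surjective K))
    have h2 : ((P : Subgroup G).map (QuotientGroup.mk' K)).Normal := h1
    have h3 := h2.comap (QuotientGroup.mk' K)
    rw [comap_map_eq, QuotientGroup.ker_mk', sup_eq_left.mpr] at h3
    · exact hPn h3
    · exact IsPGroup.le_sylow_of_normal hKp P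
  obtain ⟨N₀, hN₀, hN₀1, hN₀t⟩ : ∃ N : Subgroup G, N.Normal ∧ N ≠ ⊥ ∧ N ≠ ⊤ := by
    by_contra hcon
    push Not at hcon
    apply hns
    exact { exists_pair_ne := hnt.exists_pair_ne
            eq_bot_or_eq_top_of_normal := fun N hN => by
              by_cases h5 : N = ⊥
              · exact Or.inl h5
              · exact Or.inr (hcon N hN h5) }
  obtain ⟨N, hN, hN1, hNN₀, hmin⟩ := H1.exists_minimal_normal_le hN₀ hN₀1
  haveI := hN
  have hNt : N ≠ ⊤ := fun h => hN₀t (top_le_iff.mp (h ▸ hNN₀))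
  have hpN : ¬ p ∣ Nat.card N := by
    intro hdvd
    have hSn := hsub N hNt (default : Sylow p N)
    haveI : ((default : Sylow p N) : Subgroup N).Characteristic := Sylow.characteristic_of_normal _ hSn
    have h1 : (((default : Sylow p N) : Subgroup N).map N.subtype).Normal := inferInstance
    have h2 := hOp _ h1 ((default : Sylow p N).2.map N.subtype)
    rw [map_eq_bot_iff_of_injective _ N.subtype_injective] at h2
    have h3 := (default : Sylow p N).card_eq_multiplicity
    rw [h2, card_bot] at h3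
    have h4 : 1 < p ^ (Nat.card N).factorization p := by
      apply Nat.one_lt_pow _ hpp.one_lt
      have := (hpp.factorization_pos_of_dvd Nat.card_pos.ne' hdvd)
      omega
    omega
  have hcop : ∀ K : Subgroup G, IsPGroup p K → (Nat.card K).Coprime (Nat.card N) := by
    intro K hK
    obtain ⟨k, hk⟩ := IsPGroup.iff_card.mp hK
    rw [hk]
    exact Nat.Coprime.pow_left k ((Nat.Prime.coprime_iff_not_dvd hpp).mpr hpN)
  have hcard : ∀ K : Subgroup G, IsPGroup p K → Nat.card (K ⊔ N : Subgroup G) = Nat.card N * Nat.card K := by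
    intro K hK
    rw [sup_comm]
    exact card_sup_of_coprime le_normalizer_of_normal (hcop K hK)
  have hrel : ∀ K : Subgroup G, IsPGroup p K → ¬ p ∣ K.relIndex (K ⊔ N) := by
    intro K hK h1
    have h2 := relIndex_mul_relIndex (⊥ : Subgroup G) K (K ⊔ N) bot_le le_sup_left
    rw [relIndex_bot_left, relIndex_bot_left, hcard K hK, mul_comm (Nat.card N)] at h2
    have h3 := Nat.eq_of_mul_eq_mul_left Nat.card_pos h2
    rw [h3] at h1
    exact hpN h1
  have hPN : (P : Subgroup G) ⊔ N = ⊤ := by
    by_contra hne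
    have h1 := closed_le_normalizer (hsub _ hne) le_sup_left P.2 (hrel _ P.2)
    have h2 := hquo N hN1 (P.mapSurjective (QuotientGroup.mk'_surjective N))
    have h3 : ((P : Subgroup G).map (QuotientGroup.mk' N)).Normal := h2
    have h4 := h3.comap (QuotientGroup.mk' N)
    rw [comap_map_eq, QuotientGroup.ker_mk'] at h4
    -- P is characteristic in PN
    have h5 : IsSylowOf p (P : Subgroup G) ((P : Subgroup G) ⊔ N) := isSylowOf_of_not_dvd le_sup_left P.2 (hrel _ P.2)
    obtain ⟨S, hS⟩ := h5
    have hSn := hsub _ hne S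
    haveI := Sylow.characteristic_of_normal S hSn
    haveI := h4
    have h6 : ((S : Subgroup ((P : Subgroup G) ⊔ N : Subgroup G)).map ((P : Subgroup G) ⊔ N).subtype).Normal := inferInstance
    rw [hS] at h6
    exact hPn h6
  have hPp : Nat.card (P : Subgroup G) = p := by
    haveI : Nontrivial (P : Subgroup G) := (nontrivial_iff_ne_bot _).mpr hP1
    obtain ⟨M, hM, -⟩ := (eq_top_or_exists_le_coatom (⊥ : Subgroup (P : Subgroup G))).resolve_left bot_ne_top
    have hMn := H29.pgroup_coatom_normal P.2 hM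
    have hMi := H29.pgroup_coatom_index P.2 hM
    set P₁ := M.map (P : Subgroup G).subtype with hP₁
    have hP₁P : P₁ ≤ P := map_subtype_le _
    have hP₁p : IsPGroup p P₁ := P.2.to_le hP₁P
    have hP₁t : P₁ ⊔ N ≠ ⊤ := by
      intro h
      have h1 := hcard P₁ hP₁p
      have h2 := hcard P P.2
      rw [h, card_top] at h1
      rw [hPN, card_top, h1] at h2
      have h3 := Nat.eq_of_mul_eq_mul_left Nat.card_pos h2
      have h4 : P₁ = P := eq_of_le_of_card_ge hP₁P h3.ge
      apply hM.1
      rw [hP₁] at h4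
      apply map_injective (P : Subgroup G).subtype_injective
      rw [h4, ← MonoidHom.range_eq_map, range_subtype]
    have h1 := closed_le_normalizer (hsub _ hP₁t) le_sup_left hP₁p (hrel _ hP₁p)
    have h2 : (P : Subgroup G) ≤ normalizer (P₁ : Set G) := by
      rw [Subgroup.le_normalizer_iff]
      rintro x hx _ ⟨y, hy, rfl⟩
      exact ⟨⟨x, hx⟩ * y * ⟨x, hx⟩⁻¹, hMn.conj_mem y hy _, rfl⟩
    have h3 : P₁.Normal := by
      rw [← normalizer_eq_top_iff, eq_top_iff, ← hPN]
      exact sup_le h2 (le_sup_right.trans h1)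
    have h4 := hOp P₁ h3 hP₁p
    rw [hP₁, map_eq_bot_iff_of_injective _ (P : Subgroup G).subtype_injective] at h4
    rw [h4, index_bot] at hMi
    exact hMi
  obtain ⟨q, h1, h2, h3, h4, h5⟩ := struct_core N (P : Subgroup G) hN1 hmin hpN hPp hPN hPn (by
    intro H hH hPH
    refine closed_le_normalizer (hsub H hH) hPH P.2 ?_
    intro hd
    have h1 := relIndex_mul_index hPH
    have h2 : ¬ p ∣ (P : Subgroup G).index := Sylow.not_dvd_index P
    apply h2
    rw [← h1]
    exact Dvd.dvd.mul_right hd _)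
  exact ⟨q, h1, h2, h3, N, hN, h4, h5, hmin⟩
end aux

/-- Structure of the non-simple minimal non-p-closed groups. Call a finite group p-closed when its Sylow p-subgroups are normal, and minimal non-p-closed when it is not p-closed but every proper subgroup and every proper quotient is. If such a group G is not simple, then there is a prime q ≠ p such that G has order p · q^e, where e is the multiplicative order of q modulo p, and G has a normal subgroup A of order q^e that is elementary abelian and is a minimal normal subgroup of G (so G is the semidirect product of A by a group of order p acting irreducibly). -/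
theorem result {G : Type*} [Group G] [Finite G] {p : ℕ} [Fact p.Prime]
    (hnc : ¬ Cfsg.IsPClosed p G) (hsub : ∀ H : Subgroup G, H ≠ ⊤ → Cfsg.IsPClosed p ↥H)
    (hquo : ∀ (N : Subgroup G) [N.Normal], N ≠ ⊥ → Cfsg.IsPClosed p (G ⧸ N)) (hns : ¬ IsSimpleGroup G) :
    ∃ q : ℕ, q.Prime ∧ q ≠ p ∧ Nat.card G = p * q ^ orderOf (q : ZMod p) ∧
      ∃ A : Subgroup G, A.Normal ∧ Nat.card ↥A = q ^ orderOf (q : ZMod p) ∧ Cfsg.IsElementaryAbelian q A ∧
        ∀ B : Subgroup G, B.Normal → B ≤ A → B = ⊥ ∨ B = A := by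
  exact aux hnc hsub hquo hns

end Cfsg.Agent.S3868
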