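import Cfsg.Statements.S1453
import Cfsg.Agent.H22.OddPG3

set_option autoImplicit false
set_option linter.all false
open Cfsg

namespace Cfsg.Agent.S1453


/-- Let p be an odd prime and R a finite p-group with an elementary abelian subgroup of order p ^ 3 and an elementary abelian subgroup E of order p ^ 2 contained in no larger elementary abelian subgroup. Let Z₂ be the second centre of R, W the subgroup generated by the elements of Z₂ of order dividing p, and T = C_R(W). Then E is not contained in T; the elements of order dividing p of the centre of R generate a group of order p; W is elementary abelian of order p ^ 2; and T is characteristic in R of index p. -/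
theorem result {R : Type*} [Group R] [Finite R] (p : ℕ) [Fact p.Prime] (hp : p ≠ 2) (hR : IsPGroup p R) (hr : ¬ Cfsg.PRankLE p 2 R)
    (E : Subgroup R) (hE : Cfsg.IsElementaryAbelian p E) (hE2 : Nat.card E = p ^ 2)
    (hEmax : ∀ B : Subgroup R, Cfsg.IsElementaryAbelian p B → E ≤ B → B = E) :
    ¬ E ≤ Subgroup.centralizer ((Subgroup.closure {x : R | x ∈ Subgroup.upperCentralSeries R 2 ∧ x ^ p = 1} : Subgroup R) : Set R) ∧
      Nat.card ↥(Subgroup.closure {x : R | x ∈ Subgroup.center R ∧ x ^ p = 1}) = p ∧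
      (Cfsg.IsElementaryAbelian p (Subgroup.closure {x : R | x ∈ Subgroup.upperCentralSeries R 2 ∧ x ^ p = 1}) ∧
        Nat.card ↥(Subgroup.closure {x : R | x ∈ Subgroup.upperCentralSeries R 2 ∧ x ^ p = 1}) = p ^ 2) ∧
      (Subgroup.centralizer ((Subgroup.closure {x : R | x ∈ Subgroup.upperCentralSeries R 2 ∧ x ^ p = 1} : Subgroup R) : Set R)).Characteristic ∧
      (Subgroup.centralizer ((Subgroup.closure {x : R | x ∈ Subgroup.upperCentralSeries R 2 ∧ x ^ p = 1} : Subgroup R) : Set R)).index = p := by
  obtain ⟨W, hWdef, hWchar, hW⟩ := H22.omega_zz (R := R) (p := p) hp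
  rw [← hWdef]
  obtain ⟨Z, -, -, hZ⟩ := H22.omega_sub_ea (p := p) (A := Subgroup.center R)
    (fun a ha b _ => ((Subgroup.mem_center_iff.mp ha) b).symm)
  have hZdef : Subgroup.closure {x : R | x ∈ Subgroup.center R ∧ x ^ p = 1} = Z := by
    apply le_antisymm
    · exact (Subgroup.closure_le _).mpr (fun x hx => (hZ x).mpr hx)
    · exact fun x hx => Subgroup.subset_closure ((hZ x).mp hx)
  rw [hZdef]
  unfold Cfsg.PRankLE at hr
  push Not at hr
  obtain ⟨E₀, h1, h2, h3⟩ := hr
  haveI := hWchar
  obtain ⟨g1, g2, g3, g4, g5, -⟩ := H22.narrow_main hp hR (E₀ := E₀) ⟨h1, h2⟩ h3 hE hE2 hEmax hZ hW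
  exact ⟨g1, g2, ⟨g3, g4⟩, inferInstance, g5⟩

end Cfsg.Agent.S1453
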