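import Cfsg.Statements.S1445
import Cfsg.Agent.H1.BG38

set_option autoImplicit false
open Cfsg
open scoped Pointwise commutatorElement

namespace Cfsg.Agent.S1445

/-- Let G be a solvable group of odd order, K a normal subgroup and R a subgroup with G = KR and the orders of K and R coprime. Suppose K ∩ C_G(x) = K ∩ C_G(R) for every non-identity x ∈ R, and F(K) ∩ C_G(R) = 1. Then [K, R] is contained in the Fitting subgroup of K. -/
theorem result {G : Type*} [Group G] [Finite G] [Group.IsSolvable G] (hodd : Odd (Nat.card G)) (K R : Subgroup G) [K.Normal] (hKR : K ⊔ R = ⊤) (hcop : (Nat.card K).Coprime (Nat.card R))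
    (hprime : ∀ x ∈ R, x ≠ 1 → K ⊓ Subgroup.centralizer ({x} : Set G) = (K ⊓ Subgroup.centralizer (R : Set G)))
    (hF : Cfsg.fittingOf K ⊓ Subgroup.centralizer (R : Set G) = ⊥) :
    ⁅K, R⁆ ≤ Cfsg.fittingOf K := by
    by_cases hR : R = ⊥
    · rw [hR, Subgroup.commutator_bot_right]; exact bot_le
    obtain ⟨r, hr, hrd⟩ : ∃ r, r.Prime ∧ r ∣ Nat.card R :=
      Nat.exists_prime_and_dvd (fun h => hR (Subgroup.card_eq_one.mp h))
    haveI : Fact r.Prime := ⟨hr⟩
    obtain ⟨⟨ρ, hρR⟩, hρo⟩ := exists_prime_orderOf_dvd_card' (G := R) r hrd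
    have hρo' : orderOf ρ = r := by rw [← hρo]; exact (Subgroup.orderOf_mk ρ hρR).symm
    have hρ1 : ρ ≠ 1 := by
      rintro rfl
      rw [orderOf_one] at hρo'
      exact hr.one_lt.ne hρo'
    have hr2 : r ≠ 2 := by
      rintro rfl
      exact (Nat.not_even_iff_odd.mpr hodd)
        (even_iff_two_dvd.mpr (hrd.trans (Subgroup.card_subgroup_dvd_card R)))
    have hcent := hprime ρ hρR hρ1
    have hFK : fittingOf K ≤ K := OOT.fittingOf_le K
    have hrK : ¬ r ∣ Nat.card K := by
      intro h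
      have h2 := Nat.dvd_gcd h hrd
      rw [hcop.gcd_eq_one] at h2
      exact hr.one_lt.ne' (Nat.dvd_one.mp h2)
    have key := H1.bg38_prime (K := K) (ρ := ρ) hr hr2 inferInstance
      (Odd.of_dvd_nat hodd (Subgroup.card_subgroup_dvd_card K))
      (by rw [← hρo', pow_orderOf_eq_one]) hrK (by
        intro v hv hc
        have h1 : v ∈ K ⊓ Subgroup.centralizer ({ρ} : Set G) := by
          refine Subgroup.mem_inf.mpr ⟨hFK hv, ?_⟩
          rw [Subgroup.mem_centralizer_singleton_iff]
          exact hc.symm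
        rw [hcent] at h1
        have h2 : v ∈ fittingOf K ⊓ Subgroup.centralizer (R : Set G) :=
          Subgroup.mem_inf.mpr ⟨hv, (Subgroup.mem_inf.mp h1).2⟩
        rwa [hF, Subgroup.mem_bot] at h2)
    have hzK : Subgroup.zpowers ρ ≤ Subgroup.normalizer (K : Set G) := by
      rw [Subgroup.normalizer_eq_top]; exact le_top
    have hcz : (Nat.card (Subgroup.zpowers ρ)).Coprime (Nat.card K) := by
      rw [Nat.card_zpowers, hρo', hr.coprime_iff_not_dvd]; exact hrK
    have h1 := H23.commutator_sup_centralizer hzK hcz (Or.inr (inferInstance : Group.IsSolvable K))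
    have h2 : K ⊓ Subgroup.centralizer ((Subgroup.zpowers ρ : Subgroup G) : Set G) ≤
        Subgroup.centralizer (R : Set G) := by
      rw [Subgroup.zpowers_eq_closure, Subgroup.centralizer_closure, hcent]
      exact inf_le_right
    haveI hFn : (fittingOf K).Normal := by
      rw [← Subgroup.normalizer_eq_top_iff, eq_top_iff,
        ← Subgroup.normalizer_eq_top_iff.mpr (inferInstance : K.Normal)]
      exact OOT.normalizer_le_normalizer_fittingOf K
    rw [Subgroup.commutator_le]
    intro x hx y hy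
    rw [← h1] at hx
    haveI : (⁅K, Subgroup.zpowers ρ⁆ ⊔ fittingOf K).Normal := by
      rw [sup_eq_right.mpr key]; exact hFn
    have hx' : x ∈ fittingOf K ⊔ (K ⊓ Subgroup.centralizer ((Subgroup.zpowers ρ : Subgroup G) :
        Set G)) := (sup_le_sup_right key _) hx
    obtain ⟨f, hf, c, hc, rfl⟩ := Subgroup.mem_sup_of_normal_left.mp hx'
    have h3 := Subgroup.mem_centralizer_iff.mp (h2 hc) y hy
    have h4 : ⁅f * c, y⁆ = f * (y * f⁻¹ * y⁻¹) := by
      rw [commutatorElement_def, mul_inv_rev]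
      calc f * c * y * (c⁻¹ * f⁻¹) * y⁻¹ = f * (c * y) * c⁻¹ * f⁻¹ * y⁻¹ := by group
        _ = f * (y * c) * c⁻¹ * f⁻¹ * y⁻¹ := by rw [h3]
        _ = f * (y * f⁻¹ * y⁻¹) := by group
    rw [h4]
    exact mul_mem hf (hFn.conj_mem _ (inv_mem hf) y)

end Cfsg.Agent.S1445
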