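import Cfsg.Statements.S0206
import Cfsg.Agent.H4.Isolated

set_option autoImplicit false
open Cfsg

namespace Cfsg.Agent.S0206

section
variable {G : Type*} [Group G]

noncomputable def dihHom (x a : G) (hx : x * x = 1) (hxa : x * a * x⁻¹ = a⁻¹) (n : ℕ) [NeZero n]
    (ha : a ^ n = 1) : DihedralGroup n →* G where
  toFun d := match d with
    | DihedralGroup.r i => a ^ i.val
    | DihedralGroup.sr i => x * a ^ i.val
  map_one' := by
    rw [DihedralGroup.one_def]
    simp
  map_mul' := by
    have hadd : ∀ i j : ZMod n, a ^ (i + j).val = a ^ i.val * a ^ j.val := by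
      intro i j
      rw [ZMod.val_add, ← pow_add]
      exact (pow_eq_pow_mod (i.val + j.val) ha).symm
    have hneg : ∀ i : ZMod n, a ^ (-i).val = (a ^ i.val)⁻¹ := by
      intro i
      have h := hadd (-i) i
      rw [neg_add_cancel, ZMod.val_zero, pow_zero] at h
      exact eq_inv_of_mul_eq_one_left h.symm
    have hsub : ∀ i j : ZMod n, a ^ (j - i).val = (a ^ i.val)⁻¹ * a ^ j.val := by
      intro i j
      rw [sub_eq_add_neg, add_comm, hadd, hneg]
    have hx' := H4.inv_eq_self_of_mul_self hx
    have hc : ∀ k : ℕ, a ^ k * x = x * (a ^ k)⁻¹ := by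
      intro k
      have h := H4.conj_pow_inv hxa k
      rw [← h, hx']
      calc a ^ k * x = 1 * (a ^ k * x) := by rw [one_mul]
        _ = x * (x * a ^ k * x) := by rw [← hx]; simp only [mul_assoc]
    rintro (i | i) (j | j)
    · exact hadd i j
    · show x * a ^ (j - i).val = a ^ i.val * (x * a ^ j.val)
      rw [hsub, ← mul_assoc, ← mul_assoc, hc]
    · show x * a ^ (i + j).val = (x * a ^ i.val) * a ^ j.val
      rw [hadd, mul_assoc]
    · show a ^ (j - i).val = (x * a ^ i.val) * (x * a ^ j.val)
      rw [hsub, mul_assoc, ← mul_assoc (a ^ i.val), hc, ← mul_assoc, ← mul_assoc, hx, one_mul]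
end

/-- Two distinct involutions x, y of a finite group generate a subgroup isomorphic to the dihedral group of order 2·|xy|. -/
theorem result {G : Type*} [Group G] [Finite G] (x y : G) (hx : orderOf x = 2) (hy : orderOf y = 2) (hxy : x ≠ y) : Nonempty (↥(Subgroup.closure ({x, y} : Set G)) ≃* DihedralGroup (orderOf (x * y))) := by
  have hxx := H4.mul_self_of_orderOf_two hx
  have hyy := H4.mul_self_of_orderOf_two hy
  haveI : NeZero (orderOf (x * y)) := ⟨(orderOf_pos _).ne'⟩
  have hinv := H4.inv_conj_mul hxx hyy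
  let φ := dihHom x (x * y) hxx hinv (orderOf (x * y)) (pow_orderOf_eq_one _)
  have hr : ∀ i : ZMod (orderOf (x * y)), φ (DihedralGroup.r i) = (x * y) ^ i.val := fun _ => rfl
  have hsr : ∀ i : ZMod (orderOf (x * y)), φ (DihedralGroup.sr i) = x * (x * y) ^ i.val := fun _ => rfl
  have hnot := H4.not_mem_zpowers hxx hyy (H4.ne_one_of_orderOf_two hx) (H4.ne_one_of_orderOf_two hy)
  have hinj : Function.Injective φ := by
    rw [injective_iff_map_eq_one]
    rintro (i | i) h
    · rw [hr] at h
      have h1 := orderOf_dvd_of_pow_eq_one h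
      have h2 : i.val = 0 := Nat.eq_zero_of_dvd_of_lt h1 (ZMod.val_lt i)
      rw [(ZMod.val_eq_zero i).1 h2]; rfl
    · rw [hsr] at h
      exfalso
      apply hnot
      have : x = ((x * y) ^ i.val)⁻¹ := eq_inv_of_mul_eq_one_left h
      rw [this]
      apply inv_mem
      rw [← this]
      exact Subgroup.npow_mem_zpowers _ _
  have hrange : φ.range = Subgroup.closure ({x, y} : Set G) := by
    apply le_antisymm
    · rintro _ ⟨d, rfl⟩
      have hxm : x ∈ Subgroup.closure ({x, y} : Set G) := Subgroup.subset_closure (by simp)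
      have hym : y ∈ Subgroup.closure ({x, y} : Set G) := Subgroup.subset_closure (by simp)
      rcases d with i | i
      · rw [hr]; exact Subgroup.pow_mem _ (mul_mem hxm hym) _
      · rw [hsr]; exact mul_mem hxm (Subgroup.pow_mem _ (mul_mem hxm hym) _)
    · rw [Subgroup.closure_le]
      have hx1 : x ∈ φ.range := ⟨DihedralGroup.sr 0, by rw [hsr]; simp⟩
      have hxy1 : x * y ∈ φ.range := by
        refine ⟨DihedralGroup.r 1, ?_⟩
        rw [hr]
        have : (1 : ZMod (orderOf (x * y))) = ((1 : ℕ) : ZMod (orderOf (x * y))) := by simp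
        rw [this, ZMod.val_natCast, ← pow_eq_pow_mod 1 (pow_orderOf_eq_one _), pow_one]
      have hy1 : y ∈ φ.range := by
        have := mul_mem (inv_mem hx1) hxy1
        simpa using this
      intro z hz
      rcases hz with rfl | hz
      · exact hx1
      · rw [Set.mem_singleton_iff] at hz; subst hz; exact hy1
  exact ⟨((MonoidHom.ofInjective hinj).trans (MulEquiv.subgroupCongr hrange)).symm⟩

end Cfsg.Agent.S0206
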