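import Cfsg.Statements.S0841
import Mathlib

set_option autoImplicit false
open Cfsg

namespace Cfsg.Agent.S0841

/-- If the commutator subgroup of G lies in the centre, then for all x, y in G and every natural number n one has (x * y) ^ n = x ^ n * y ^ n * c ^ (n * (n - 1) / 2) with c = y⁻¹ * x⁻¹ * y * x. -/
theorem result {G : Type*} [Group G] (hG : commutator G ≤ Subgroup.center G) (x y : G) (n : ℕ) : (x * y) ^ n = x ^ n * y ^ n * (y⁻¹ * x⁻¹ * y * x) ^ (n * (n - 1) / 2) := by
  have hc : ∀ z : G, (y⁻¹ * x⁻¹ * y * x) * z = z * (y⁻¹ * x⁻¹ * y * x) := by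
    intro z
    have h1 : y⁻¹ * x⁻¹ * y * x ∈ commutator G := by
      have h2 := Subgroup.commutator_mem_commutator (Subgroup.mem_top y⁻¹) (Subgroup.mem_top x⁻¹)
      rw [commutatorElement_def] at h2
      rw [commutator_def]
      simpa using h2
    exact (Subgroup.mem_center_iff.mp (hG h1) z).symm
  set c := y⁻¹ * x⁻¹ * y * x with hcdef
  have hyx : y * x = x * y * c := by rw [hcdef]; group
  have hcomm : ∀ (z : G) (k : ℕ), c ^ k * z = z * c ^ k := fun z k =>
    ((show Commute c z from hc z).pow_left k).eq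
  have hynx : ∀ n : ℕ, y ^ n * x = x * y ^ n * c ^ n := by
    intro n
    induction n with
    | zero => simp
    | succ n ih =>
      calc y ^ (n + 1) * x = y ^ n * (y * x) := by rw [pow_succ]; group
        _ = y ^ n * x * y * c := by rw [hyx]; group
        _ = x * y ^ n * (c ^ n * y) * c := by rw [ih]; group
        _ = x * y ^ (n + 1) * c ^ (n + 1) := by rw [hcomm]; rw [pow_succ, pow_succ]; group
  induction n with
  | zero => simp
  | succ n ih =>
    have hn : (n + 1) * (n + 1 - 1) / 2 = n * (n - 1) / 2 + n := by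
      rcases n with _ | m
      · simp
      · have h1 : (m + 1 + 1) * (m + 1 + 1 - 1) = (m + 1) * (m + 1 - 1) + (m + 1) * 2 := by
          simp only [Nat.add_sub_cancel]; ring
        rw [h1, Nat.add_mul_div_right _ _ (by norm_num)]
    calc (x * y) ^ (n + 1) = (x * y) ^ n * (x * y) := pow_succ _ _
      _ = x ^ n * y ^ n * (c ^ (n * (n - 1) / 2) * x) * y := by rw [ih]; group
      _ = x ^ n * (y ^ n * x) * c ^ (n * (n - 1) / 2) * y := by rw [hcomm]; group
      _ = x ^ n * (x * y ^ n * c ^ n) * c ^ (n * (n - 1) / 2) * y := by rw [hynx]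
      _ = x ^ (n + 1) * y ^ n * (c ^ (n * (n - 1) / 2 + n) * y) := by
          rw [pow_succ, add_comm, pow_add]; group
      _ = x ^ (n + 1) * y ^ (n + 1) * c ^ ((n + 1) * (n + 1 - 1) / 2) := by
          rw [hcomm, hn, pow_succ y]; group

end Cfsg.Agent.S0841
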