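import Cfsg.Statements.S0223
import Cfsg.Agent.H4.Basic

set_option autoImplicit false
open Cfsg

namespace Cfsg.Agent.S0223

/-- Let H be a proper subgroup of even order of the finite group G. Then H is strongly embedded if and only if (i) C_G(t) ≤ H for every involution t of H and (ii) H controls fusion of its involutions: involutions of H conjugate in G are conjugate in H. -/
theorem result {G : Type*} [Group G] [Finite G] (H : Subgroup G) (hH : H ≠ ⊤) (heven : Even (Nat.card H)) : Cfsg.IsStronglyEmbedded H ↔ ((∀ t ∈ H, orderOf t = 2 → Subgroup.centralizer ({t} : Set G) ≤ H) ∧ (∀ t ∈ H, ∀ s ∈ H, orderOf t = 2 → orderOf s = 2 → IsConj t s → ∃ h ∈ H, h * t * h⁻¹ = s)) := by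
  constructor
  · rintro ⟨_, _, h3⟩
    constructor
    · intro t htH ht c hc
      by_contra hcH
      refine H4.not_odd_card_of_mem (Subgroup.mem_inf.2 ⟨htH, (H4.mem_map_conj H c t).2 ?_⟩) ht (h3 c hcH)
      have := Subgroup.mem_centralizer_singleton_iff.1 hc
      rw [mul_assoc, ← this]
      simpa using htH
    · intro t ht s hs ht2 hs2 hc
      obtain ⟨g, hg⟩ := isConj_iff.1 hc
      by_cases hgH : g ∈ H
      · exact ⟨g, hgH, hg⟩
      · exfalso
        refine H4.not_odd_card_of_mem (Subgroup.mem_inf.2 ⟨hs, (H4.mem_map_conj H g s).2 ?_⟩) hs2 (h3 g hgH)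
        rw [← hg]
        have : g⁻¹ * (g * t * g⁻¹) * g = t := by group
        rw [this]; exact ht
  · rintro ⟨h1, h2⟩
    refine ⟨hH, heven, fun g hg => ?_⟩
    by_contra hodd
    obtain ⟨s, hs, hs2⟩ := H4.exists_involution hodd
    obtain ⟨hsH, hsg⟩ := Subgroup.mem_inf.1 hs
    rw [H4.mem_map_conj] at hsg
    have ho : orderOf (g⁻¹ * s * g) = 2 := by
      have := H4.orderOf_conj s g⁻¹
      rw [inv_inv] at this
      rw [this, hs2]
    obtain ⟨h, hh, hhs⟩ := h2 _ hsg s hsH ho hs2 (isConj_iff.2 ⟨g, by group⟩)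
    have hcen : h * g⁻¹ ∈ Subgroup.centralizer ({s} : Set G) := by
      rw [Subgroup.mem_centralizer_singleton_iff]
      calc h * g⁻¹ * s = (h * (g⁻¹ * s * g) * h⁻¹) * (h * g⁻¹) := by group
        _ = s * (h * g⁻¹) := by rw [hhs]
    have := h1 s hsH hs2 hcen
    apply hg
    have h3 := mul_mem (inv_mem this) hh
    have h4 : (h * g⁻¹)⁻¹ * h = g := by group
    rwa [h4] at h3

end Cfsg.Agent.S0223
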