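import Cfsg.Statements.S0039
import Cfsg.Agent.H1.FrobComp

set_option autoImplicit false
open Cfsg

namespace Cfsg.Agent.S0039

/-- In a finite group that is a semidirect product of a normal subgroup K by a nontrivial subgroup H, H is a Frobenius complement exactly when each nonidentity element of H acts without nonidentity fixed points on K by conjugation. -/
theorem result {G : Type*} [Group G] [Finite G] (K H : Subgroup G) [K.Normal]
    (hc : Subgroup.IsComplement' K H) (hK : K ≠ ⊥) (hH : H ≠ ⊥) :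
    Cfsg.IsFrobeniusComplement H ↔ ∀ h ∈ H, h ≠ 1 → K ⊓ Subgroup.centralizer {h} = ⊥ := by
  have hdisj : ∀ x, x ∈ K → x ∈ H → x = 1 := fun x hx hx' => by
    have := hc.disjoint.le_bot ⟨hx, hx'⟩
    exact Subgroup.mem_bot.mp this
  constructor
  · intro hF h hh hh1
    rw [eq_bot_iff]
    rintro k ⟨hk, hkc⟩
    have h1 := Cfsg.Agent.H1.frob_centralizer_le hF hh hh1 hkc
    exact Subgroup.mem_bot.mpr (hdisj k hk h1)
  · intro hfix
    refine ⟨hH, ?_, ?_⟩
    · intro htop
      rw [htop, Subgroup.isComplement'_top_right] at hc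
      exact hK hc
    · intro g hg
      rw [eq_bot_iff]
      rintro x ⟨hx, hxg⟩
      -- g = k * h
      obtain ⟨k, hk, h, hh, rfl⟩ := Cfsg.Agent.H1.exists_mul_of_sup_eq_top hc.sup_eq_top g
      rw [← Cfsg.Agent.H1.conj_smul_smul, Cfsg.Agent.H1.conj_smul_self_of_mem hh] at hxg
      have hy : k⁻¹ * x * k ∈ H := Cfsg.Agent.H1.mem_conj_smul.mp hxg
      have h1 : x * (k⁻¹ * x * k)⁻¹ ∈ K := by
        have : x * (k⁻¹ * x * k)⁻¹ = (x * k⁻¹ * x⁻¹) * k := by group
        rw [this]
        exact K.mul_mem (‹K.Normal›.conj_mem _ (K.inv_mem hk) x) hk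
      have h2 : x * (k⁻¹ * x * k)⁻¹ ∈ H := H.mul_mem hx (H.inv_mem hy)
      have h3 := hdisj _ h1 h2
      have h4 : x = k⁻¹ * x * k := mul_inv_eq_one.mp h3
      rw [Subgroup.mem_bot]
      by_contra hx1
      have h5 : k ∈ K ⊓ Subgroup.centralizer {x} := by
        refine Subgroup.mem_inf.mpr ⟨hk, ?_⟩
        rw [Subgroup.mem_centralizer_singleton_iff]
        calc k * x = k * (k⁻¹ * x * k) := by rw [← h4]
          _ = x * k := by group
      rw [hfix x hx hx1, Subgroup.mem_bot] at h5
      apply hg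
      rw [h5, one_mul]; exact hh

end Cfsg.Agent.S0039
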