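import Cfsg.Statements.S0033
import Cfsg.Agent.H20.Fpf

set_option autoImplicit false
open Cfsg


namespace Cfsg.Agent.S0033

/-- Thompson's Theorem on fixed-point-free automorphisms: a finite group with an automorphism of prime order fixing only the identity is nilpotent. -/
theorem result {G : Type*} [Group G] [Finite G] (φ : G ≃* G)
    (hφ : MonoidHom.FixedPointFree (φ : G →* G)) (p : ℕ) (hp : p.Prime) (hord : orderOf φ = p) :
    Group.IsNilpotent G := by
  have h1 : φ ^ p = 1 := by rw [← hord]; exact pow_orderOf_eq_one φ
  have h2 : ∀ (n : ℕ) (g : G), (φ^[n]) g = (φ ^ n : MulAut G) g := by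
    intro n
    induction n with
    | zero => intro g; rfl
    | succ n ih => intro g; rw [Function.iterate_succ_apply, ih, pow_succ]; rfl
  refine Cfsg.Agent.H20.Fpf.isNilpotent_of_fpf hp _ G le_rfl φ (fun g => ?_) (fun g hg => hφ g hg)
  rw [h2]
  have := congrArg (fun ψ : MulAut G => ψ g) h1
  exact this


end Cfsg.Agent.S0033
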