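import Cfsg.Statements.S1448
import Cfsg.Agent.H22.OddPG11

set_option autoImplicit false
set_option linter.all false
open Cfsg

namespace Cfsg.Agent.S1448


/-- Let G be a finite group, p an odd prime, R a nontrivial p-subgroup with no elementary abelian subgroup of order p ^ 3, and A a subgroup of odd order coprime to p normalizing R with [R, A] = R. Then 3 < p, and either R is abelian or R is generated by two elementwise-commuting subgroups R₁, R₂ with R₁ non-abelian of order p ^ 3 and exponent p, R₂ cyclic, and the elements of R₂ of order dividing p generating exactly [R₁, R₁]. -/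
theorem result {G : Type*} [Group G] [Finite G] (p : ℕ) [Fact p.Prime] (hp : p ≠ 2) (R A : Subgroup G) (hR : IsPGroup p R) (hR1 : R ≠ ⊥) (hr : Cfsg.PRankLE p 2 R)
    (hA : (A ≤ Subgroup.normalizer (R : Set G))) (hcop : (Nat.card A).Coprime p) (hAodd : Odd (Nat.card A)) (hRA : ⁅R, A⁆ = R) :
    3 < p ∧ (IsMulCommutative R ∨ ∃ R₁ R₂ : Subgroup G, R₁ ⊔ R₂ = R ∧ (∀ a ∈ R₁, ∀ b ∈ R₂, a * b = b * a) ∧
        ¬ IsMulCommutative R₁ ∧ Nat.card R₁ = p ^ 3 ∧ Monoid.exponent R₁ = p ∧ IsCyclic R₂ ∧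
        Subgroup.closure {x : G | x ∈ R₂ ∧ x ^ p = 1} = ⁅R₁, R₁⁆) := by
  have h3 := H22.three_lt hp hR hR1 (H10.pRankLE_mono le_rfl hr) hA hcop hAodd hRA
  refine ⟨h3, ?_⟩
  by_cases hab : IsMulCommutative R
  · exact Or.inl hab
  · right
    obtain ⟨S, C, h1, h2, h4, h5, h6, h7, h8⟩ := H22.blackburn_struct h3 hR hr hA hcop hAodd hRA hab
    have hpp : p.Prime := Fact.out
    have hSR : S ≤ R := fun x hx => ((h6 x).mp hx).1
    have hSp := hR.to_le hSR
    obtain ⟨-, hSS⟩ := H22.cube_center hSp h5 h4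
    refine ⟨S, C, h1, h2, h4, h5, ?_, h7, ?_⟩
    · have h9 : Monoid.exponent S ∣ p := Monoid.exponent_dvd_of_forall_pow_eq_one (fun x => Subtype.ext ((h6 x).mp x.2).2)
      rcases (Nat.dvd_prime hpp).mp h9 with h10 | h10
      · exfalso
        rw [Monoid.exp_eq_one_iff] at h10
        haveI := h10
        have h11 : Nat.card S = 1 := Nat.card_of_subsingleton (1 : S)
        rw [h5] at h11
        have : 1 < p ^ 3 := Nat.one_lt_pow (by norm_num) hpp.one_lt
        omega
      · exact h10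
    · rw [hSS]
      apply le_antisymm
      · rw [Subgroup.closure_le]
        rintro x ⟨hx1, hx2⟩
        rw [h8] at hx1
        exact ⟨(h6 x).mpr ⟨hx1.1, hx2⟩, hx1.2⟩
      · rintro x ⟨hx1, hx2⟩
        refine Subgroup.subset_closure ⟨?_, ((h6 x).mp hx1).2⟩
        rw [h8]; exact ⟨hSR hx1, hx2⟩

end Cfsg.Agent.S1448
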