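import Cfsg.Statements.S1461
import Cfsg.Agent.H1.BG6

set_option autoImplicit false
open Cfsg
open scoped Pointwise commutatorElement

namespace Cfsg.Agent.S1461

/-- Let G be a finite solvable group, p a prime with G = O_{p',p,p'}(G), and S a Sylow p-subgroup. Then: if S ≤ G' then S ≤ [N_G(S), N_G(S)]; if Y ⊆ S and xYx⁻¹ ⊆ S then x = g c for some g ∈ N_G(S) and c centralizing Y; and for every p-subgroup Q there is x ∈ C_G(Q ∩ S) with xQx⁻¹ ≤ S. -/
theorem result {G : Type*} [Group G] [Finite G] [Group.IsSolvable G] (p : ℕ) [Fact p.Prime] (hpl : Cfsg.PLengthLE p 1 G) (S : Sylow p G) :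
    ((S : Subgroup G) ≤ commutator G → (S : Subgroup G) ≤ ⁅Subgroup.normalizer ((S : Subgroup G) : Set G), Subgroup.normalizer ((S : Subgroup G) : Set G)⁆) ∧
      (∀ (Y : Set G) (x : G), Y ⊆ (S : Subgroup G) → (fun y => x * y * x⁻¹) '' Y ⊆ (S : Subgroup G) →
        ∃ g ∈ Subgroup.normalizer ((S : Subgroup G) : Set G), ∃ c ∈ Subgroup.centralizer Y, g * c = x) ∧
      ∀ Q : Subgroup G, IsPGroup p Q → ∃ x ∈ Subgroup.centralizer ((Q ⊓ (S : Subgroup G) : Subgroup G) : Set G), Q.map (MulAut.conj x).toMonoidHom ≤ (S : Subgroup G) := by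
  refine ⟨fun hle => ?_, fun Y x hY hx => ?_, fun Q hQ => ?_⟩
  · have h1 := Cfsg.Agent.H1.bg66_derived (Cfsg.Agent.H1.bg67 inferInstance hpl S)
      (H := (S : Subgroup G)) Subgroup.le_normalizer
      (Cfsg.Agent.H1.coprime_card_of_isPGroup S.isPGroup' (Cfsg.Agent.H1.pPrimeCore_coprime p G))
    rw [inf_eq_left.mpr hle] at h1
    exact h1.le.trans inf_le_right
  · obtain ⟨u, hu, c, hc, hxe⟩ := Cfsg.Agent.H1.bg67_conj inferInstance hpl S (Subgroup.closure Y)
      ((Subgroup.closure_le _).mpr hY) x (by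
        intro h hh
        have h1 : Subgroup.closure Y ≤ (S : Subgroup G).comap (MulAut.conj x).toMonoidHom := by
          rw [Subgroup.closure_le]
          intro y hy
          exact hx ⟨y, hy, rfl⟩
        exact h1 hh)
    refine ⟨u, hu, c, ?_, hxe.symm⟩
    rw [← Subgroup.centralizer_closure]
    exact hc.2
  · obtain ⟨T, hT⟩ := hQ.exists_le_sylow
    obtain ⟨g, hg⟩ := MulAction.exists_smul_eq G T S
    -- `g T g⁻¹ = S`
    have hmem : ∀ t ∈ (T : Subgroup G), g * t * g⁻¹ ∈ (S : Subgroup G) := by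
      intro t ht
      rw [← hg]
      exact ⟨t, ht, rfl⟩
    obtain ⟨u, hu, c, hc, hge⟩ := Cfsg.Agent.H1.bg67_conj inferInstance hpl S (Q ⊓ (S : Subgroup G))
      inf_le_right g (fun h hh => hmem h (hT hh.1))
    refine ⟨c, hc.2, ?_⟩
    rintro _ ⟨y, hy, rfl⟩
    have h1 := hmem y (hT hy)
    rw [hge] at h1
    have h2 : u * (c * y * c⁻¹) * u⁻¹ ∈ (S : Subgroup G) := by
      have e : u * (c * y * c⁻¹) * u⁻¹ = u * c * y * (u * c)⁻¹ := by group
      rwa [e]
    exact (Subgroup.mem_normalizer_iff.mp hu _).mpr h2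

end Cfsg.Agent.S1461
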