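import Cfsg.Statements.S1414
import Cfsg.Agent.OOT.TenF

set_option autoImplicit false
open Cfsg

namespace Cfsg.Agent.S1414

/-- Let G be a minimal simple group of odd order, M a maximal subgroup, β(M) the set of ideal primes in α(M), and M_β = O_{β(M)}(M). Then M_β is a Hall β(M)-subgroup of M and of G; M' and M_σ each have a nilpotent Hall β(M)'-subgroup; and for each prime p dividing the order of M with p ∉ β(M), both M' and M_σ have normal p-complements and every prime dividing the index of O_{p'}(M) in M is at most p. -/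
theorem result {G : Type*} [Group G] [Finite G] (hG : Cfsg.IsMinSimpleOddOrder G)
    (M : Subgroup G) (hM : IsCoatom M) :
    Cfsg.IsPiHallOf (Cfsg.beta M) (Cfsg.piCoreOf (Cfsg.beta M) M) M ∧ Cfsg.IsPiHall (Cfsg.beta M) (Cfsg.piCoreOf (Cfsg.beta M) M) ∧
      (∃ H : Subgroup G, Cfsg.IsPiHallOf {q | q.Prime ∧ q ∉ Cfsg.beta M} H ⁅M, M⁆ ∧ Group.IsNilpotent H) ∧
      (∃ H : Subgroup G, Cfsg.IsPiHallOf {q | q.Prime ∧ q ∉ Cfsg.beta M} H (Cfsg.sigmaCore M) ∧ Group.IsNilpotent H) ∧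
      ∀ p : ℕ, p.Prime → p ∣ Nat.card M → p ∉ Cfsg.beta M →
        Cfsg.HasNormalPComplement p ↥⁅M, M⁆ ∧ Cfsg.HasNormalPComplement p ↥(Cfsg.sigmaCore M) ∧
        ∀ q : ℕ, q.Prime → q ∣ (Cfsg.pPrimeCore p ↥M).index → q ≤ p := by
  have h := OOT.betaCore_hall hG hM
  have hsol := OOT.coatom_sol hG hM
  refine ⟨h, OOT.hall_of_hallOf hG ((OOT.beta_subset_alpha M).trans
    (OOT.alpha_subset_sigma hG hM)) h, ?_, ?_, ?_⟩
  · obtain ⟨H, hH⟩ := OOT.hallOf_exists (H1.isSolvable_of_le (Subgroup.commutator_le_self M) hsol)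
      {q | q.Prime ∧ q ∉ Cfsg.beta M}
    exact ⟨H, hH, OOT.beta'_nilpotent hG hM hH.1 fun p hp hd => (hH.2.1 p hp hd).2⟩
  · obtain ⟨H, hH⟩ := OOT.hallOf_exists (M := Cfsg.sigmaCore M)
      (H1.isSolvable_of_le (OOT.piCoreOf_le _ _) hsol)
      {q | q.Prime ∧ q ∉ Cfsg.beta M}
    exact ⟨H, hH, OOT.beta'_nilpotent hG hM (hH.1.trans (OOT.sigmaCore_le_derived hG hM))
      fun p hp hd => (hH.2.1 p hp hd).2⟩
  · intro p hp hd hpβ
    haveI : Fact p.Prime := ⟨hp⟩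
    obtain ⟨h1, h2⟩ := OOT.beta_struct hG hM hd hpβ
    exact ⟨h1, H2.HasNormalPComplement.of_le h1 (OOT.sigmaCore_le_derived hG hM), h2⟩

end Cfsg.Agent.S1414
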