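import Cfsg.Statements.S1426
import Cfsg.Agent.H14.OThirt
import Cfsg.Agent.H1.BG6

set_option autoImplicit false
open Cfsg

namespace Cfsg.Agent.S1426

open Subgroup H14.O
open scoped commutatorElement

theorem part1 {G : Type*} [Group G] [Finite G] (hG : Cfsg.IsMinSimpleOddOrder G)
    (M : Subgroup G) (hM : IsCoatom M) (E : Subgroup G) (hE : Cfsg.IsComplIn E (Cfsg.sigmaCore M) M) :
    Cfsg.sigmaCore M ⊓ Subgroup.centralizer (E : Set G) ≤ ⁅Cfsg.sigmaCore M, Cfsg.sigmaCore M⁆ ∧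
      ⁅Cfsg.sigmaCore M, E⁆ = Cfsg.sigmaCore M := by
  have hS := sig_le M
  have hEM := hE.1
  have hnorm : ((Cfsg.sigmaCore M).subgroupOf M).Normal :=
    H10.normal_subgroupOf_of_le (sig_norm M)
  have hcomp : Subgroup.IsComplement' ((Cfsg.sigmaCore M).subgroupOf M) (E.subgroupOf M) :=
    OOT.IsComplIn.isComplement' (H21.complIn_symm hE)
  have hcop : (Nat.card ((Cfsg.sigmaCore M).subgroupOf M)).Coprime
      ((Cfsg.sigmaCore M).subgroupOf M).index := by
    have h1 := OOT.IsPiHallOf.coprime (sig_hall hG hM)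
    rw [card_subgroupOf hS]
    exact h1
  have hle : (Cfsg.sigmaCore M).subgroupOf M ≤ commutator M :=
    OOT.le_commutator_subgroupOf (OOT.sigmaCore_le_derived hG hM)
  obtain ⟨h1, h2⟩ := H1.bg65_a (msol hG hM) hnorm hcop hcomp hle
  constructor
  · rw [H10.centralizer_subgroupOf hEM, H18.commutator_subgroupOf hS hS] at h2
    intro x hx
    exact h2 (x := ⟨x, hS hx.1⟩) ⟨hx.1, hx.2⟩
  · rw [H18.commutator_subgroupOf hS hEM] at h1
    have h3 := congrArg (Subgroup.map M.subtype) h1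
    rw [Subgroup.map_subgroupOf_eq_of_le hS, Subgroup.map_subgroupOf_eq_of_le] at h3
    · exact h3.symm
    · exact (H1.commutator_le_left_of_le_normalizer (hEM.trans (sig_norm M))).trans hS

/-- Let G be a minimal simple group of odd order, M a maximal subgroup and E a complement to M_σ in M. Then M_σ ∩ C_G(E) ≤ (M_σ)', the commutator subgroup [M_σ, E] equals M_σ, and for every g outside M the intersection M_σ ∩ gMg⁻¹ is cyclic, has no prime divisor in β(M), and meets (M_σ)' trivially. -/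
theorem result {G : Type*} [Group G] [Finite G] (hG : Cfsg.IsMinSimpleOddOrder G)
    (M : Subgroup G) (hM : IsCoatom M) (E : Subgroup G) (hE : Cfsg.IsComplIn E (Cfsg.sigmaCore M) M) :
    Cfsg.sigmaCore M ⊓ Subgroup.centralizer (E : Set G) ≤ ⁅Cfsg.sigmaCore M, Cfsg.sigmaCore M⁆ ∧
      ⁅Cfsg.sigmaCore M, E⁆ = Cfsg.sigmaCore M ∧
      ∀ g : G, g ∉ M → IsCyclic ↥(Cfsg.sigmaCore M ⊓ M.map (MulAut.conj g).toMonoidHom) ∧
        (∀ p : ℕ, p.Prime → p ∣ Nat.card ↥(Cfsg.sigmaCore M ⊓ M.map (MulAut.conj g).toMonoidHom) → p ∉ Cfsg.beta M) ∧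
        Cfsg.sigmaCore M ⊓ M.map (MulAut.conj g).toMonoidHom ⊓ ⁅Cfsg.sigmaCore M, Cfsg.sigmaCore M⁆ = ⊥ := by
  obtain ⟨h1, h2⟩ := part1 hG M hM E hE
  refine ⟨h1, h2, fun g hg => ?_⟩
  obtain ⟨X, hX⟩ : ∃ X, X = Cfsg.sigmaCore M ⊓ L.cj g M := ⟨_, rfl⟩
  change IsCyclic ↥(Cfsg.sigmaCore M ⊓ L.cj g M) ∧ (∀ p : ℕ, p.Prime →
    p ∣ Nat.card ↥(Cfsg.sigmaCore M ⊓ L.cj g M) → p ∉ Cfsg.beta M) ∧
    (Cfsg.sigmaCore M ⊓ L.cj g M) ⊓ ⁅Cfsg.sigmaCore M, Cfsg.sigmaCore M⁆ = ⊥
  rw [← hX]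
  have hXs : X ≤ Cfsg.sigmaCore M := hX ▸ inf_le_left
  have hXM : X ≤ M := hXs.trans (sig_le M)
  have hXg : X ≤ L.cj g M := hX ▸ inf_le_right
  have hXπ : H14.IsPiSub (Cfsg.sigma M) X :=
    H14.IsPiSub.mono hXs (OOT.IsPiHallOf.isPi (sig_hall hG hM))
  -- no `p`-subgroup of `X` has its centralizer in `M`
  have hno : ∀ (p : ℕ) (_ : Fact p.Prime) (P : Subgroup G), IsPGroup p P → P ≤ X → p ∈ Cfsg.sigma M →
      Subgroup.centralizer (P : Set G) ≤ M → False := by
    intro p hp P hP hPX hpσ hC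
    have h3 : L.cj g⁻¹ P ≤ M := by
      rw [L.cj_le_iff, inv_inv]; exact hPX.trans hXg
    exact hg (by simpa using mem_of_cj_le hG hM hpσ hP (hPX.trans hXM) hC h3)
  have hno' : ∀ (p : ℕ) (_ : Fact p.Prime) (P : Subgroup G), Nat.card P = p → P ≤ X →
      (p ∈ Cfsg.beta M ∨ P ≤ ⁅Cfsg.sigmaCore M, Cfsg.sigmaCore M⁆) → False := by
    intro p hp P hP hPX hor
    have hpσ : p ∈ Cfsg.sigma M := hXπ p hp.out (hP ▸ Subgroup.card_dvd_of_le hPX)
    exact hno p hp P (IsPGroup.of_card (n := 1) (by rw [hP, pow_one])) hPX hpσ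
      (Cfsg.Agent.S1423.result hG M hM p hpσ P (hPX.trans hXM) hP default hor).1.1
  have hβ : ∀ p : ℕ, p.Prime → p ∣ Nat.card X → p ∉ Cfsg.beta M := by
    intro p hp hd hb
    haveI : Fact p.Prime := ⟨hp⟩
    obtain ⟨S, hS⟩ := L.exists_sylIn (p := p) X
    have hS1 : S ≠ ⊥ := by
      rintro rfl
      have := hS.not_dvd
      rw [Subgroup.relIndex_bot_left] at this
      exact this hd
    obtain ⟨P, hPS, hPc⟩ := exists_order_p hG hS.isPGroup hS1
    exact hno' p this P hPc (hPS.trans hS.le) (Or.inl hb)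
  have hd : X ⊓ ⁅Cfsg.sigmaCore M, Cfsg.sigmaCore M⁆ = ⊥ := by
    by_contra hne
    obtain ⟨p, hp, hd⟩ := Nat.exists_prime_and_dvd (fun h => hne (Subgroup.card_eq_one.1 h))
    haveI : Fact p.Prime := ⟨hp⟩
    obtain ⟨S, hS⟩ := L.exists_sylIn (p := p) (X ⊓ ⁅Cfsg.sigmaCore M, Cfsg.sigmaCore M⁆)
    have hS1 : S ≠ ⊥ := by
      rintro rfl
      have := hS.not_dvd
      rw [Subgroup.relIndex_bot_left] at this
      exact this hd
    obtain ⟨P, hPS, hPc⟩ := exists_order_p hG hS.isPGroup hS1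
    exact hno' p this P hPc ((hPS.trans hS.le).trans inf_le_left)
      (Or.inr ((hPS.trans hS.le).trans inf_le_right))
  refine ⟨?_, hβ, hd⟩
  have hcomm : ∀ a b : X, a * b = b * a := by
    intro a b
    have : ⁅(a : G), (b : G)⁆ ∈ X ⊓ ⁅Cfsg.sigmaCore M, Cfsg.sigmaCore M⁆ :=
      ⟨X.mul_mem (X.mul_mem (X.mul_mem a.2 b.2) (X.inv_mem a.2)) (X.inv_mem b.2),
        Subgroup.commutator_mem_commutator (hXs a.2) (hXs b.2)⟩
    rw [hd, Subgroup.mem_bot, commutatorElement_eq_one_iff_mul_comm] at this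
    exact Subtype.ext this
  haveI hnil : Group.IsNilpotent X :=
    @CommGroup.isNilpotent _ { (inferInstance : Group X) with mul_comm := hcomm }
  haveI hZ : IsZGroup X := by
    rw [isZGroup_iff]
    intro p hp P
    haveI : Fact p.Prime := ⟨hp⟩
    by_contra hnc
    have hPs := L.sylIn_of_sylow P
    have hP1 : (P : Subgroup X).map X.subtype ≠ ⊥ := by
      intro h
      have h4 := (Subgroup.map_eq_bot_iff_of_injective _ X.subtype_injective).1 h
      apply hnc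
      change IsCyclic (P : Subgroup X)
      rw [h4]; infer_instance
    have hpσ : p ∈ Cfsg.sigma M := hXπ p hp
      ((dvd_card_of_ne_bot hPs.isPGroup hP1).trans (Subgroup.card_dvd_of_le hPs.le))
    have hnc' : ¬ IsCyclic ((P : Subgroup X).map X.subtype : Subgroup G) := by
      intro h
      apply hnc
      refine isCyclic_of_injective ((X.subtype.subgroupMap (P : Subgroup X))) ?_
      intro a b hab
      have h5 : ((X.subtype.subgroupMap (P : Subgroup X)) a : G) =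
        (X.subtype.subgroupMap (P : Subgroup X)) b := congrArg Subtype.val hab
      exact Subtype.ext (X.subtype_injective h5)
    have hN := (Cfsg.Agent.S1420.result hG M hM E hE).2.2.1 p _ hpσ hPs.isPGroup (hPs.le.trans hXM) hnc'
    exact hno p this _ hPs.isPGroup hPs.le hpσ ((H21.cent_le_nz _).trans hN)
  infer_instance

end Cfsg.Agent.S1426
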