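import Cfsg.Statements.S1429
import Cfsg.Agent.H14.OFt

set_option autoImplicit false
open Cfsg

namespace Cfsg.Agent.S1429

open Subgroup H14.O

/-- Let G be a minimal simple group of odd order and M a maximal subgroup such that κ(M) is not the whole of the primes of M outside σ(M) (M is not of type P₁). Let p divide the order of M with p ∉ σ(M) ∪ κ(M), S a Sylow p-subgroup of M, and A the subgroup generated by the elements of S of order dividing p. Then A has order at most p ^ 2, M_σ ∩ C_G(A) = 1, and M_σ is nilpotent. -/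
theorem result {G : Type*} [Group G] [Finite G] (hG : Cfsg.IsMinSimpleOddOrder G)
    (M : Subgroup G) (hM : IsCoatom M) (hP1 : ¬ (∀ q : ℕ, q.Prime → q ∣ Nat.card M → q ∉ Cfsg.sigma M → q ∈ Cfsg.kappa M))
    (p : ℕ) [Fact p.Prime] (hpM : p ∣ Nat.card M) (hp : p ∉ Cfsg.sigma M ∪ Cfsg.kappa M) (S : Sylow p M) :
    Nat.card ↥(Subgroup.closure {x : G | x ∈ (S : Subgroup M).map M.subtype ∧ x ^ p = 1}) ≤ p ^ 2 ∧
      Cfsg.sigmaCore M ⊓ Subgroup.centralizer ((Subgroup.closure {x : G | x ∈ (S : Subgroup M).map M.subtype ∧ x ^ p = 1} : Subgroup G) : Set G) = ⊥ ∧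
      Group.IsNilpotent (Cfsg.sigmaCore M) := by
  have hpσ : p ∉ Cfsg.sigma M := fun h => hp (Or.inl h)
  have hpκ : p ∉ Cfsg.kappa M := fun h => hp (Or.inr h)
  have hpp : p.Prime := Fact.out
  have hS : L.SylIn p ((S : Subgroup M).map M.subtype) M := L.sylIn_of_sylow S
  obtain ⟨S', hS'⟩ : ∃ S', S' = (S : Subgroup M).map M.subtype := ⟨_, rfl⟩
  have hcase : Cfsg.PRankLE p 1 M ∨ p ∈ Cfsg.tau2 M := by
    rcases tau_cases hG hM hpp hpM hpσ with h | h | h
    · exact Or.inl h.2.2.2.2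
    · exact Or.inr h
    · exact Or.inl h.2.2.2
  rcases hcase with hr | h2
  · rw [← hS'] at hS ⊢
    have hcyc : IsCyclic S' := sylow_cyclic hG hr hS.le hS.isPGroup
    have hS1 : S' ≠ ⊥ := ne_bot_of_sylIn hS hpM
    obtain ⟨X, hXS, hXc⟩ := exists_order_p hG hS.isPGroup hS1
    have hcl : Subgroup.closure {x : G | x ∈ S' ∧ x ^ p = 1} = X := by
      apply le_antisymm
      · rw [Subgroup.closure_le]
        rintro x ⟨hxS, hxp⟩
        by_cases hx1 : x = 1
        · rw [hx1]; exact X.one_mem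
        have h3 := OOT.card_zpowers_eq_prime hxp hx1
        have h4 := OOT.eq_of_card_of_cyclic hcyc (Subgroup.zpowers_le.2 hxS) hXS (by rw [h3, hXc])
        change x ∈ X
        rw [← h4]; exact Subgroup.mem_zpowers x
      · intro x hx
        refine Subgroup.subset_closure ⟨hXS hx, ?_⟩
        have := pow_card_eq_one' (G := X) (x := ⟨x, hx⟩)
        rw [hXc] at this
        exact congrArg Subtype.val this
    rw [hcl]
    have hfix : ∀ x ∈ S', x ≠ 1 → ∀ y ∈ Cfsg.sigmaCore M, x * y = y * x → y = 1 := by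
      have h5 : ¬ ∀ P : Sylow p M, IsCyclic P ∧
        ∃ x : M, x ∈ (P : Subgroup M) ∧ x ≠ 1 ∧ ∃ y ∈ Cfsg.sigmaCore M, y ≠ 1 ∧
          (x : G) * y = y * x := fun h => hpκ ⟨hpp, hpM, hpσ, h⟩
      push Not at h5
      obtain ⟨P, hP⟩ := h5
      have hPs := L.sylIn_of_sylow P
      obtain ⟨g, hg, hgP⟩ := hS.exists_conj_eq hPs
      have hPc : IsCyclic P := by
        have h6 : IsCyclic ((P : Subgroup M).map M.subtype : Subgroup G) :=
          sylow_cyclic hG hr hPs.le hPs.isPGroup
        refine isCyclic_of_injective ((M.subtype.subgroupMap (P : Subgroup M))) ?_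
        intro a b hab
        have h5 : ((M.subtype.subgroupMap (P : Subgroup M)) a : G) =
          (M.subtype.subgroupMap (P : Subgroup M)) b := congrArg Subtype.val hab
        exact Subtype.ext (M.subtype_injective h5)
      intro x hx hx1 y hy hxy
      by_contra hy1
      have hxP : g * x * g⁻¹ ∈ (P : Subgroup M).map M.subtype := by
        rw [← hgP]; exact L.conj_mem_cj hx
      obtain ⟨x', hx', hx'e⟩ := hxP
      have hx'e' : (x' : G) = g * x * g⁻¹ := hx'e
      refine hP hPc x' hx' ?_ (g * y * g⁻¹) ?_ ?_ ?_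
      · rintro rfl
        apply hx1
        have : g * x * g⁻¹ = 1 := hx'e'.symm
        rwa [mul_inv_eq_one, mul_eq_left] at this
      · exact (Subgroup.mem_normalizer_iff.1 (sig_norm M hg) y).1 hy
      · intro h7
        apply hy1
        rwa [mul_inv_eq_one, mul_eq_left] at h7
      · rw [hx'e']
        calc g * x * g⁻¹ * (g * y * g⁻¹) = g * (x * y) * g⁻¹ := by group
          _ = g * (y * x) * g⁻¹ := by rw [hxy]
          _ = g * y * g⁻¹ * (g * x * g⁻¹) := by group
    obtain ⟨x, hxX, hx1⟩ := OOT.exists_mem_ne_one (ne_bot_of_card hXc)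
    have hxp : x ^ p = 1 := by
      have := pow_card_eq_one' (G := X) (x := ⟨x, hxX⟩)
      rw [hXc] at this
      exact congrArg Subtype.val this
    refine ⟨?_, ?_, ?_⟩
    · rw [hXc, sq]; exact Nat.le_mul_of_pos_left p hpp.pos
    · rw [eq_bot_iff]
      rintro y ⟨hy, hyC⟩
      exact Subgroup.mem_bot.2 (hfix x (hXS hxX) hx1 y hy
        (Subgroup.mem_centralizer_iff.1 hyC x hxX))
    · exact nil_of_fpf hpp hxp (sig_norm M (hS.le (hXS hxX))) (hfix x (hXS hxX) hx1)
  · have hr1 : ¬ Cfsg.PRankLE p 1 ((S : Subgroup M).map M.subtype : Subgroup G) := by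
      rw [OOT.pRankLE_sylIn hS]; exact h2.2.2.2
    obtain ⟨A, hAS, hA, hAc⟩ := OOT.exists_ea_of_not_pRankLE hr1
    obtain ⟨h1, h3, -, h4, -, -⟩ := Cfsg.Agent.S1417.result hG M hM p h2 A
      ⟨hAS.trans hS.le, hA, hAc⟩
    obtain ⟨h5, -⟩ := (h3 S).2 hAS
    have hcl : Subgroup.closure {x : G | x ∈ (S : Subgroup M).map M.subtype ∧ x ^ p = 1} = A := by
      have : {x : G | x ∈ (S : Subgroup M).map M.subtype ∧ x ^ p = 1} = (A : Set G) := by
        ext x
        constructor
        · rintro ⟨h6, h7⟩; exact (h5 x h6).1 h7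
        · intro h6; exact ⟨hAS h6, (h5 x (hAS h6)).2 h6⟩
      rw [this, Subgroup.closure_eq]
    rw [hcl]
    exact ⟨hAc.le, h4, h1⟩

end Cfsg.Agent.S1429
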