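import Cfsg.Statements.S1430
import Cfsg.Agent.H14.OFt

set_option autoImplicit false
open Cfsg

namespace Cfsg.Agent.S1430

open Subgroup H14.O

/-- Let G be a minimal simple group of odd order, M a maximal subgroup, K ≠ 1 a Hall κ(M)-subgroup of M and K* = M_σ ∩ C_G(K). Then M_σ ∩ C_G(k) = K* for every non-identity k ∈ K; there is an abelian subgroup U of M, a Hall subgroup of M for the primes outside κ(M) ∪ σ(M), normalized by K with U ∩ C_G(k) = 1 for all non-identity k ∈ K; and for every subgroup X ≤ K of prime order, M ∩ N_G(X) = M ∩ N_G(K) = K ⊔ K*, and X ≤ M*_σ for every maximal subgroup M* containing N_G(X). -/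
theorem result {G : Type*} [Group G] [Finite G] (hG : Cfsg.IsMinSimpleOddOrder G)
    (M : Subgroup G) (hM : IsCoatom M) (K : Subgroup G) (hK : Cfsg.IsPiHallOf (Cfsg.kappa M) K M) (hK1 : K ≠ ⊥) :
    (∀ k ∈ K, k ≠ 1 → Cfsg.sigmaCore M ⊓ Subgroup.centralizer ({k} : Set G) = (Cfsg.sigmaCore M ⊓ Subgroup.centralizer (K : Set G))) ∧
      (∃ U : Subgroup G, IsMulCommutative U ∧ Cfsg.IsPiHallOf {q | q.Prime ∧ q ∉ Cfsg.kappa M ∧ q ∉ Cfsg.sigma M} U M ∧
        K ≤ Subgroup.normalizer (U : Set G) ∧ ∀ k ∈ K, k ≠ 1 → U ⊓ Subgroup.centralizer ({k} : Set G) = ⊥) ∧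
      ∀ X : Subgroup G, X ≤ K → (Nat.card X).Prime →
        M ⊓ Subgroup.normalizer (X : Set G) = K ⊔ (Cfsg.sigmaCore M ⊓ Subgroup.centralizer (K : Set G)) ∧ M ⊓ Subgroup.normalizer (K : Set G) = K ⊔ (Cfsg.sigmaCore M ⊓ Subgroup.centralizer (K : Set G)) ∧
        ∀ Mstar : Subgroup G, IsCoatom Mstar → Subgroup.normalizer (X : Set G) ≤ Mstar → X ≤ Cfsg.sigmaCore Mstar := by
  have h := kd hG hM hK hK1
  refine ⟨?_, h.exU, ?_⟩
  · intro k hk hk1
    apply le_antisymm
    · obtain ⟨x, hx, X, hXk, hXc⟩ := exists_prime_sub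
        (fun e => hk1 (Subgroup.zpowers_eq_bot.1 e) : Subgroup.zpowers k ≠ ⊥)
      refine le_inf inf_le_left ?_
      have h1 := h.act x X hx.out (hXk.trans (Subgroup.zpowers_le.2 hk)) hXc
      refine (inf_le_inf_left _ ?_).trans h1
      rw [← OOT.centralizer_zpowers]
      exact Subgroup.centralizer_le hXk
    · exact inf_le_inf_left _ (Subgroup.centralizer_le (Set.singleton_subset_iff.2 hk))
  · intro X hXK hXp
    refine ⟨?_, ?_, ?_⟩
    · apply le_antisymm (h.nzX _ X hXp hXK rfl)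
      refine sup_le (le_inf hK.1 (h.nK _ X hXp hXK rfl)) (le_inf (inf_le_left.trans (sig_le M)) ?_)
      exact (inf_le_right.trans (Subgroup.centralizer_le hXK)).trans (H21.cent_le_nz X)
    · apply le_antisymm h.nzK
      exact sup_le (le_inf hK.1 Subgroup.le_normalizer) (le_inf (inf_le_left.trans (sig_le M))
        (inf_le_right.trans (H21.cent_le_nz K)))
    · intro H hH hN
      exact (h.sigma_over hG hXp hXK rfl hH hN).2

end Cfsg.Agent.S1430
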