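import Cfsg.Statements.S1431
import Cfsg.Agent.H14.OFt

set_option autoImplicit false
open Cfsg

namespace Cfsg.Agent.S1431

open Subgroup H14.O

/-- Let G be a minimal simple group of odd order, M a maximal subgroup, K ≠ 1 a Hall κ(M)-subgroup of M and K* = M_σ ∩ C_G(K). Then K* ∩ gMg⁻¹ = 1 for g ∉ M; K ∩ gKg⁻¹ = 1 for g ∈ M outside K K*; for every prime p dividing the order of K* and every Sylow p-subgroup S of M_σ, M is the unique maximal subgroup containing S, and S is not contained in K*; and every subgroup Y of G whose prime divisors lie in σ(M) and with Y ∩ K* ≠ 1 is contained in M_σ. -/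
theorem result {G : Type*} [Group G] [Finite G] (hG : Cfsg.IsMinSimpleOddOrder G)
    (M : Subgroup G) (hM : IsCoatom M) (K : Subgroup G) (hK : Cfsg.IsPiHallOf (Cfsg.kappa M) K M) (hK1 : K ≠ ⊥) :
    (∀ g : G, g ∉ M → (Cfsg.sigmaCore M ⊓ Subgroup.centralizer (K : Set G)) ⊓ M.map (MulAut.conj g).toMonoidHom = ⊥) ∧
      (∀ g ∈ M, g ∉ K ⊔ (Cfsg.sigmaCore M ⊓ Subgroup.centralizer (K : Set G)) → K ⊓ K.map (MulAut.conj g).toMonoidHom = ⊥) ∧
      (∀ (p : ℕ), p.Prime → p ∣ Nat.card ↥(Cfsg.sigmaCore M ⊓ Subgroup.centralizer (K : Set G)) → ∀ S : Sylow p ↥(Cfsg.sigmaCore M),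
        Cfsg.InUniqueMaximal ((S : Subgroup ↥(Cfsg.sigmaCore M)).map (Cfsg.sigmaCore M).subtype) ∧
        (S : Subgroup ↥(Cfsg.sigmaCore M)).map (Cfsg.sigmaCore M).subtype ≤ M ∧
        ¬ (S : Subgroup ↥(Cfsg.sigmaCore M)).map (Cfsg.sigmaCore M).subtype ≤ (Cfsg.sigmaCore M ⊓ Subgroup.centralizer (K : Set G))) ∧
      ∀ Y : Subgroup G, (∀ p : ℕ, p.Prime → p ∣ Nat.card Y → p ∈ Cfsg.sigma M) → Y ⊓ (Cfsg.sigmaCore M ⊓ Subgroup.centralizer (K : Set G)) ≠ ⊥ → Y ≤ Cfsg.sigmaCore M := by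
  have h := kd hG hM hK hK1
  refine ⟨?_, ?_, ?_, ?_⟩
  · intro g hg
    by_contra hne
    obtain ⟨q, hq, Y, hY, hYc⟩ := exists_prime_sub hne
    obtain ⟨hqσ, hO, -⟩ := h.only q Y hq.out (hY.trans inf_le_left) hYc
    apply hg
    have hYM : Y ≤ M := ((hY.trans inf_le_left).trans inf_le_left).trans (sig_le M)
    have h1 : L.cj g⁻¹ Y ≤ M := by
      rw [L.cj_le_iff, inv_inv]; exact hY.trans inf_le_right
    have h2 := mem_of_cj_le hG hM hqσ (isPGroup_of_card hYc) hYM hO.1 h1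
    simpa using M.inv_mem h2
  · intro g hgM hg
    by_contra hne
    obtain ⟨x, hx, X, hX, hXc⟩ := exists_prime_sub hne
    apply hg
    have hXK : X ≤ K := hX.trans inf_le_left
    have h1 : L.cj g⁻¹ X ≤ K := by
      rw [L.cj_le_iff, inv_inv]; exact hX.trans inf_le_right
    have h2 := h.uniq x X (L.cj g⁻¹ X) hx.out hXK h1 hXc (by rw [L.card_cj, hXc])
    have h3 : L.cj g X = X := (L.cj_eq_iff.2 h2)
    exact h.nzX x X hx.out hXK hXc ⟨hgM, L.mem_nz_iff.2 h3⟩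
  · intro p hp hd S
    haveI : Fact p.Prime := ⟨hp⟩
    obtain ⟨Y, hY, hYc⟩ := exists_cauchy hG hd
    obtain ⟨hqσ, -, hU⟩ := h.only p Y hp hY hYc
    have hS := L.sylIn_of_sylow S
    have hSM : L.SylIn p ((S : Subgroup ↥(Cfsg.sigmaCore M)).map (Cfsg.sigmaCore M).subtype) M :=
      syl_hall (sig_hall hG hM) hqσ hS
    refine ⟨hU _ hSM, hSM.le, fun hle => ?_⟩
    obtain ⟨x, hx, X, hXK, hXc⟩ := exists_prime_sub hK1
    obtain ⟨H, hH, hN⟩ := OOT.exists_coatom_ge (OOT.normalizer_ne_top hG (ne_bot_of_card hXc)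
      (ne_top_of_le hM (hXK.trans hK.1)))
    have h1 := h.sigma_over hG hx.out hXK hXc hH hN
    have h2 : (S : Subgroup ↥(Cfsg.sigmaCore M)).map (Cfsg.sigmaCore M).subtype ≤ H :=
      ((hle.trans (inf_le_right.trans (Subgroup.centralizer_le hXK))).trans
        (H21.cent_le_nz X)).trans hN
    have h3 := OOT.uniq_eq (hU _ hSM) hM hSM.le hH h2
    subst h3
    have hxκ : x ∈ Cfsg.kappa H := mem_of_isPiSub_card hXc
      (H14.IsPiSub.mono hXK (OOT.IsPiHallOf.isPi hK))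
    exact hxκ.2.2.1 h1.1
  · intro Y hY hne
    obtain ⟨q, hq, Y₀, hY₀, hYc⟩ := exists_prime_sub hne
    obtain ⟨hqσ, hO, -⟩ := h.only q Y₀ hq.out (hY₀.trans inf_le_right) hYc
    have hY1 : Y ≠ ⊥ := ne_bot_mono hG (hY₀.trans inf_le_left) (ne_bot_of_card hYc)
    obtain ⟨g, hg⟩ := sub1425 hG hM hY1 hY
    have hYM : Y₀ ≤ M := ((hY₀.trans inf_le_right).trans inf_le_left).trans (sig_le M)
    have h2 : g ∈ M := mem_of_cj_le hG hM hqσ (isPGroup_of_card hYc) hYM hO.1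
      ((L.cj_mono (hY₀.trans inf_le_left)).trans (hg.trans (sig_le M)))
    have h3 := L.mem_nz_iff.1 (sig_norm M (M.inv_mem h2))
    rw [← h3]
    rw [L.cj_le_iff] at hg
    exact hg

end Cfsg.Agent.S1431
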