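import Cfsg.Statements.S0381
import Cfsg.Agent.H7.GolaySimple

set_option autoImplicit false
open Cfsg

namespace Cfsg.Agent.S0381

open Cfsg.Agent.H7

theorem lev6 : ((gTrans.getD 6 []).all fun c => okPerm c && Nat.beq (pmul c c) (pmul c c) &&
    hasPeriod c 2 && (List.range 24).all fun i => !(oct0.testBit i) || Nat.beq (papp c i) i)
    = true := by
  decide +kernel

theorem SB6_elt {σ : Equiv.Perm Cfsg.GolayPt} (hσ : σ ∈ SB 6) :
    (∀ p ∈ toSet oct0, σ p = p) ∧ σ * σ = 1 := by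
  obtain ⟨c, hc, τ, hτ, rfl⟩ := SB_factor (by norm_num) hσ
  have h1 : τ = 1 := SB_seven hτ
  subst h1
  have h2 := lev6
  rw [List.all_eq_true] at h2
  have h3 := h2 c hc
  simp only [Bool.and_eq_true, List.all_eq_true] at h3
  obtain ⟨⟨⟨h4, _⟩, h5⟩, h6⟩ := h3
  have hp := okPerm_isPerm h4
  rw [mul_one]
  constructor
  · intro p hp'
    have h7 := h6 (gidx p) (List.mem_range.mpr (gidx_lt p))
    rw [mem_toSet] at hp'
    rw [hp'] at h7
    simp only [Bool.not_true, Bool.false_or] at h7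
    rw [mkPerm_apply hp, nbeq.mp h7, gpt_gidx]
  · have := mkPerm_pow_eq_one hp h5
    rwa [pow_two] at this

/-- The pointwise stabiliser of an octad in the group of the length-24 code has order 16 and every element of it squares to the identity. -/
theorem result (o : Finset Cfsg.GolayPt) (ho : o ∈ Cfsg.octads) : Nat.card ↥(Cfsg.M24 ⊓ fixingSubgroup (Equiv.Perm Cfsg.GolayPt) (o : Set Cfsg.GolayPt)) = 16 ∧ ∀ g ∈ Cfsg.M24 ⊓ fixingSubgroup (Equiv.Perm Cfsg.GolayPt) (o : Set Cfsg.GolayPt), g * g = 1 := by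
  obtain ⟨g, hg, hgo⟩ := octad_transitive oct0_octad ho
  have key : Cfsg.M24 ⊓ fixingSubgroup (Equiv.Perm Cfsg.GolayPt) (o : Set Cfsg.GolayPt) =
      (SB 6).map (MulAut.conj g).toMonoidHom := by
    ext σ
    rw [Subgroup.mem_inf, mem_fixingSubgroup_iff, Subgroup.mem_map]
    constructor
    · rintro ⟨h1, h2⟩
      refine ⟨g⁻¹ * σ * g, ⟨Cfsg.M24.mul_mem (Cfsg.M24.mul_mem (Cfsg.M24.inv_mem hg) h1) hg,
        fun i hi => ?_⟩, ?_⟩
      · have h3 : g (bp i) ∈ (o : Set Cfsg.GolayPt) := by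
          rw [Finset.mem_coe, ← hgo]
          exact mem_smul_of_eq (bp_mem_oct0 i hi) rfl
        have h4 := h2 _ h3
        rw [Equiv.Perm.smul_def] at h4
        rw [Equiv.Perm.mul_apply, Equiv.Perm.mul_apply, h4]; simp
      · show g * (g⁻¹ * σ * g) * g⁻¹ = σ
        group
    · rintro ⟨τ, hτ, rfl⟩
      refine ⟨Cfsg.M24.mul_mem (Cfsg.M24.mul_mem hg hτ.1) (Cfsg.M24.inv_mem hg), ?_⟩
      intro y hy
      rw [Finset.mem_coe, ← hgo, Finset.mem_smul_finset] at hy
      obtain ⟨x, hx, rfl⟩ := hy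
      show (g * τ * g⁻¹) (g x) = g x
      have h5 := (SB6_elt hτ).1 x hx
      have e : g⁻¹ (g x) = x := by simp
      rw [Equiv.Perm.mul_apply, Equiv.Perm.mul_apply, e, h5]
  rw [key]
  constructor
  · rw [Nat.card_congr ((SB 6).equivMapOfInjective _ (MulAut.conj g).injective).symm.toEquiv,
      card_SB6]
  · rintro _ ⟨τ, hτ, rfl⟩
    show (g * τ * g⁻¹) * (g * τ * g⁻¹) = 1
    have e : (g * τ * g⁻¹) * (g * τ * g⁻¹) = g * (τ * τ) * g⁻¹ := by group
    rw [e, (SB6_elt hτ).2]; group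

end Cfsg.Agent.S0381
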