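import Cfsg.Statements.S0079
import Cfsg.Agent.H2.Hall

set_option autoImplicit false
set_option linter.style.haveILetI false
set_option linter.unusedVariables false
set_option linter.unusedSectionVars false
open Cfsg

namespace Cfsg.Agent.S0079

/-- A nilpotent Hall subgroup has a normal complement exactly when elements of it that are conjugate in the whole group are already conjugate inside it. -/
theorem result {G : Type*} [Group G] [Finite G] (H : Subgroup G) (hH : Group.IsNilpotent H) (hHall : Nat.Coprime (Nat.card H) H.index) : (∃ N : Subgroup G, N.Normal ∧ N.IsComplement' H) ↔ ∀ x ∈ H, ∀ y ∈ H, (∃ g : G, g * x * g⁻¹ = y) → ∃ h ∈ H, h * x * h⁻¹ = y := by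
  constructor
  · rintro ⟨N, hN, hc⟩ x hx y hy ⟨g, hg⟩
    obtain ⟨⟨⟨n, hn⟩, ⟨h, hh⟩⟩, hgn⟩ := hc.2 g
    have hgn : n * h = g := hgn
    refine ⟨h, hh, ?_⟩
    have hn' : n ∈ N := hn
    have hh' : h ∈ H := hh
    have h1 : h * x * h⁻¹ ∈ H := mul_mem (mul_mem hh' hx) (inv_mem hh')
    have h2 : y * (h * x * h⁻¹)⁻¹ ∈ N ⊓ H := by
      refine Subgroup.mem_inf.2 ⟨?_, mul_mem hy (inv_mem h1)⟩
      have h3 : y * (h * x * h⁻¹)⁻¹ = n * ((h * x * h⁻¹) * n⁻¹ * (h * x * h⁻¹)⁻¹) := by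
        rw [← hg, ← hgn]; group
      rw [h3]
      exact mul_mem hn' (hN.conj_mem _ (inv_mem hn') _)
    rw [hc.disjoint.eq_bot, Subgroup.mem_bot, mul_inv_eq_one] at h2
    exact h2.symm
  · intro h
    apply H2.exists_normal_complement_of_hall H hHall
    intro p hp hpH
    haveI : Fact p.Prime := ⟨hp⟩
    obtain ⟨Q⟩ := (inferInstance : Nonempty (Sylow p H))
    have hQi : ¬ p ∣ ((Q : Subgroup H).map H.subtype).index := by
      rw [Subgroup.index_map_subtype]
      intro hd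
      rcases (Nat.Prime.dvd_mul hp).1 hd with h1 | h1
      · exact Q.not_dvd_index h1
      · exact hp.one_lt.ne' (Nat.dvd_one.1 (hHall.gcd_eq_one ▸ Nat.dvd_gcd hpH h1))
    obtain ⟨P, hP⟩ := H2.exists_sylow_eq_of_isPGroup_of_not_dvd_index (Q.2.map H.subtype) hQi
    apply H2.hasNormalPComplement_of_control P
    intro x hx u hu
    rw [hP] at hx hu ⊢
    obtain ⟨x', hx', rfl⟩ := hx
    obtain ⟨y', hy', hy2⟩ := hu
    have hy3 : (y' : G) = u * x' * u⁻¹ := hy2
    obtain ⟨z, hz, hz2⟩ := h x' x'.2 _ (by rw [← hy3]; exact y'.2) ⟨u, rfl⟩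
    -- split `z`
    have h3 : (⟨z, hz⟩ : H) ∈ (Q : Subgroup H) ⊔ Subgroup.centralizer (Q : Set H) := by
      rw [H2.sylow_sup_centralizer_of_isNilpotent hH Q]; trivial
    haveI : (Q : Subgroup H).Normal := by
      have hn : ∀ (q : ℕ) (_ : Fact q.Prime) (R : Sylow q H), (R : Subgroup H).Normal :=
        ((Group.isNilpotent_of_finite_tfae (G := H)).out 0 3).1 hH
      exact hn p ⟨hp⟩ Q
    rw [← SetLike.mem_coe, Subgroup.normal_mul] at h3
    obtain ⟨a, ha, c, hc, hac⟩ := h3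
    beta_reduce at hac
    refine ⟨(a : G), ⟨a, ha, rfl⟩, ?_⟩
    have hc' : x' * c = c * x' := (Subgroup.mem_centralizer_iff.1 hc) x' hx'
    have h4 : z = (a : G) * c := by
      have := congrArg Subtype.val hac
      simpa using this.symm
    have h5 : (x' : G) * c = c * x' := congrArg Subtype.val hc'
    show (a : G) * x' * (a : G)⁻¹ = u * x' * u⁻¹
    rw [← hz2, h4]
    show (a : G) * x' * (a : G)⁻¹ = (a : G) * c * x' * ((a : G) * c)⁻¹
    calc (a : G) * x' * (a : G)⁻¹ = a * (x' * c) * (c : G)⁻¹ * (a : G)⁻¹ := by group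
      _ = a * (c * x') * (c : G)⁻¹ * (a : G)⁻¹ := by rw [h5]
      _ = _ := by group

end Cfsg.Agent.S0079
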