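import Cfsg.Statements.S0645
import Mathlib
import Cfsg.Agent.H22.OddPG1
import Cfsg.Agent.H2.Frat

set_option autoImplicit false
set_option linter.all false
open Cfsg

namespace Cfsg.Agent.S0645

open scoped commutatorElement

theorem int_aux {p : ℕ} (hp : p.Prime) (hp2 : p ≠ 2) {m : ℕ} (hm : 2 ≤ m) {r : ℤ}
    (h : ((p ^ m : ℕ) : ℤ) ∣ r ^ p - 1) : ((p ^ (m - 1) : ℕ) : ℤ) ∣ r - 1 := by
  haveI : Fact p.Prime := ⟨hp⟩
  have h1 : (p : ℤ) ∣ r ^ p - 1 := by
    refine dvd_trans ?_ h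
    exact_mod_cast dvd_pow_self p (by omega)
  have h2 : (p : ℤ) ∣ r - 1 := by
    have h3 : (p : ℤ) ∣ r ^ p - r := by
      rw [← ZMod.intCast_zmod_eq_zero_iff_dvd]
      push_cast
      rw [ZMod.pow_card, sub_self]
    have : r - 1 = (r ^ p - 1) - (r ^ p - r) := by ring
    rw [this]
    exact dvd_sub h1 h3
  have h3 : ¬ (p : ℤ) ∣ r := by
    intro h4
    have : (p : ℤ) ∣ 1 := by
      have := dvd_sub h4 h2
      simpa using this
    have := Int.natCast_dvd_natCast.1 (by simpa using this : (p : ℤ) ∣ ((1 : ℕ) : ℤ))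
    exact hp.one_lt.ne' (Nat.dvd_one.1 this)
  have h4 := Int.emultiplicity_pow_sub_pow hp (hp.odd_of_ne_two hp2) h2 h3 p
  rw [one_pow, (Nat.finiteMultiplicity_iff.mpr ⟨hp.ne_one, hp.pos⟩).emultiplicity_self] at h4
  push_cast at h ⊢
  rw [pow_dvd_iff_le_emultiplicity] at h ⊢
  rw [h4] at h
  obtain ⟨k, rfl⟩ := Nat.exists_eq_add_of_le' (show 1 ≤ m by omega)
  rw [Nat.add_sub_cancel]
  push_cast at h
  exact (ENat.add_le_add_iff_right ENat.one_ne_top).1 h

/-- Classification of p-groups with a cyclic maximal subgroup, odd p: a non-abelian one of order p^n has generators a of order p^(n-1) and b of order p, b outside the cyclic subgroup generated by a, with b a b⁻¹ = a^(1 + p^(n-2)). -/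
theorem result {G : Type*} [Group G] [Finite G] {p : ℕ} [Fact p.Prime] (hp : p ≠ 2) (n : ℕ) (hn : 3 ≤ n) (hG : Nat.card G = p ^ n) (C : Subgroup G) (hC : IsCyclic C) (hCi : C.index = p) (hna : ∃ x y : G, x * y ≠ y * x) : ∃ a b : G, orderOf a = p ^ (n - 1) ∧ orderOf b = p ∧ b ∉ Subgroup.zpowers a ∧ b * a * b⁻¹ = a ^ (1 + p ^ (n - 2)) := by
  classical
  have hpp : p.Prime := Fact.out
  have hpg : IsPGroup p G := IsPGroup.of_card hG
  haveI hCn : C.Normal := Cfsg.Agent.H23.normal_of_index_prime hpg hCi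
  obtain ⟨c, hc⟩ := hC.exists_generator
  obtain ⟨c, hcC⟩ := c
  have hCc : C = Subgroup.zpowers c := by
    apply le_antisymm
    · intro x hx
      obtain ⟨k, hk⟩ := hc ⟨x, hx⟩
      exact ⟨k, congrArg Subtype.val hk⟩
    · rw [Subgroup.zpowers_le]; exact hcC
  clear hc
  obtain ⟨m, rfl⟩ : ∃ m, n = m + 1 := ⟨n - 1, by omega⟩
  have hm : 2 ≤ m := by omega
  have hord : orderOf c = p ^ m := by
    have h1 := Subgroup.card_mul_index C
    rw [hCi, hG, pow_succ] at h1
    have h2 := Nat.eq_of_mul_eq_mul_right hpp.pos h1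
    rw [← Nat.card_zpowers, ← hCc, h2]
  obtain ⟨b, hb⟩ : ∃ b, b ∉ C := by
    by_contra hcon
    push Not at hcon
    have : C = ⊤ := by rw [eq_top_iff]; exact fun x _ => hcon x
    rw [this, Subgroup.index_top] at hCi
    exact hpp.one_lt.ne hCi
  -- elements outside C do not commute with c
  have hcen : ∀ b, b ∉ C → b * c ≠ c * b := by
    intro b hb hbc
    obtain ⟨x, y, hxy⟩ := hna
    have h1 : C < Subgroup.centralizer {c} := by
      refine lt_of_le_of_ne ?_ ?_
      · rw [hCc, Subgroup.zpowers_le, Subgroup.mem_centralizer_singleton_iff]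
      · intro h
        apply hb
        rw [h, Subgroup.mem_centralizer_singleton_iff]
        exact hbc
    have h2 := Cfsg.Agent.H23.eq_top_of_lt_of_index_prime hCi h1
    have h3 : ∀ g, Commute g c := fun g => by
      have : g ∈ Subgroup.centralizer {c} := by rw [h2]; exact Subgroup.mem_top _
      exact Subgroup.mem_centralizer_singleton_iff.1 this
    have h4 : C < Subgroup.centralizer {b} := by
      refine lt_of_le_of_ne ?_ ?_
      · rw [hCc, Subgroup.zpowers_le, Subgroup.mem_centralizer_singleton_iff]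
        exact hbc.symm
      · intro h
        apply hb
        rw [h, Subgroup.mem_centralizer_singleton_iff]
    have h5 := Cfsg.Agent.H23.eq_top_of_lt_of_index_prime hCi h4
    have h6 : C < Subgroup.center G := by
      refine lt_of_le_of_ne ?_ ?_
      · rw [hCc, Subgroup.zpowers_le, Subgroup.mem_center_iff]
        exact fun g => h3 g
      · intro h
        apply hb
        rw [h, Subgroup.mem_center_iff]
        intro g
        have : g ∈ Subgroup.centralizer {b} := by rw [h5]; exact Subgroup.mem_top _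
        exact Subgroup.mem_centralizer_singleton_iff.1 this
    have h7 := Cfsg.Agent.H23.eq_top_of_lt_of_index_prime hCi h6
    apply hxy
    have : x ∈ Subgroup.center G := by rw [h7]; exact Subgroup.mem_top _
    exact (Subgroup.mem_center_iff.1 this y).symm
  obtain ⟨r, hr⟩ : ∃ r : ℤ, b * c * b⁻¹ = c ^ r := by
    have : b * c * b⁻¹ ∈ C := hCn.conj_mem c hcC b
    rw [hCc] at this
    obtain ⟨r, hr⟩ := this
    exact ⟨r, hr.symm⟩
  have hbpow : ∀ k : ℕ, b ^ k * c * (b ^ k)⁻¹ = c ^ (r ^ k) := by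
    intro k
    induction k with
    | zero => simp
    | succ k ih =>
      have h1 : b ^ (k+1) * c * (b ^ (k+1))⁻¹ = b * (b ^ k * c * (b ^ k)⁻¹) * b⁻¹ := by
        rw [pow_succ']; group
      rw [h1, ih, ← conj_zpow, hr, ← zpow_mul, pow_succ']
  have hbpC : b ^ p ∈ C := Cfsg.Agent.H2.pow_mem_of_index hCi b
  have hCcomm : ∀ x ∈ C, x * c = c * x := by
    intro x hx
    rw [hCc] at hx
    obtain ⟨k, rfl⟩ := hx
    exact (Commute.refl c).zpow_left k
  have hrp : ((p ^ m : ℕ) : ℤ) ∣ r ^ p - 1 := by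
    rw [← hord, orderOf_dvd_sub_iff_zpow_eq_zpow, ← hbpow, hCcomm _ hbpC, zpow_one]; group
  have hr1 := int_aux hpp hp hm hrp
  obtain ⟨k, hk⟩ := hr1
  -- the central element
  set z := c ^ (p ^ (m - 1)) with hz
  have hzp : z ^ p = 1 := by
    rw [hz, ← pow_mul, ← pow_succ, Nat.sub_add_cancel (by omega), ← hord, pow_orderOf_eq_one]
  have hbc : b * c * b⁻¹ = z ^ k * c := by
    have : r = ((p ^ (m-1) : ℕ) : ℤ) * k + 1 := by linarith
    rw [hr, this, zpow_add, zpow_one, zpow_mul, zpow_natCast]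
  have hzc : Commute z c := (Commute.refl c).pow_left _
  have hbz : b * z * b⁻¹ = z := by
    rw [hz, ← conj_pow, hbc, ((hzc.zpow_left k)).mul_pow, ← hz]
    have h0 : (z ^ k) ^ p = 1 := by
      rw [← zpow_natCast, ← zpow_mul, mul_comm, zpow_mul, zpow_natCast, hzp, one_zpow]
    have : (z ^ k) ^ p ^ (m - 1) = 1 := by
      obtain ⟨j, hj⟩ := Nat.exists_eq_add_of_le' (show 1 ≤ m - 1 by omega)
      rw [hj, pow_succ', pow_mul, h0, one_pow]
    rw [this, one_mul]
  have hbcomm : Commute b z := by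
    have := congrArg (fun t => t * b) hbz
    show b * z = z * b
    simpa [mul_assoc] using this
  have hbj : ∀ j : ℕ, b ^ j * c * (b ^ j)⁻¹ = z ^ (k * j) * c := by
    intro j
    induction j with
    | zero => simp
    | succ j ih =>
      have h1 : b ^ (j+1) * c * (b ^ (j+1))⁻¹ = b * (b ^ j * c * (b ^ j)⁻¹) * b⁻¹ := by
        rw [pow_succ']; group
      have h2 : b * (z ^ (k * j) * c) * b⁻¹ = z ^ (k * j) * (b * c * b⁻¹) := by
        rw [← mul_assoc, (hbcomm.zpow_right _).eq]; group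
      rw [h1, ih, h2, hbc, ← mul_assoc, ← zpow_add]
      congr 2
      push_cast; ring
  have hz1 : z ≠ 1 := by
    intro h
    have h1 := orderOf_dvd_of_pow_eq_one h
    rw [hord] at h1
    have := (Nat.pow_dvd_pow_iff_le_right hpp.one_lt).1 h1
    omega
  have hkp : ((k : ℤ) : ZMod p) ≠ 0 := by
    intro h
    rw [ZMod.intCast_zmod_eq_zero_iff_dvd] at h
    obtain ⟨l, hl⟩ := h
    have h1 : z ^ k = 1 := by rw [hl, zpow_mul, zpow_natCast, hzp, one_zpow]
    rw [h1, one_mul] at hbc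
    exact hcen b hb (by rw [← mul_inv_eq_iff_eq_mul]; exact hbc)
  set j := ((k : ZMod p)⁻¹).val with hj
  have hzkj : z ^ (k * (j : ℤ)) = z := by
    have h1 : (((k * (j : ℤ) - 1 : ℤ)) : ZMod p) = 0 := by
      push_cast
      rw [hj, ZMod.natCast_zmod_val, mul_inv_cancel₀ hkp, sub_self]
    rw [ZMod.intCast_zmod_eq_zero_iff_dvd] at h1
    obtain ⟨l, hl⟩ := h1
    have h2 : k * (j : ℤ) = p * l + 1 := by linarith
    rw [h2, zpow_add, zpow_mul, zpow_natCast, hzp, one_zpow, one_mul, zpow_one]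
  set b' := b ^ j with hb'
  have hb'c : b' * c * b'⁻¹ = z * c := by rw [hb', hbj, hzkj]
  have hb'z : Commute z b' := (hbcomm.pow_left j).symm
  have hb'C : ∀ x : G, x * c * x⁻¹ = z * c → x ∉ C := by
    intro x hx hxC
    rw [hCcomm x hxC, mul_inv_cancel_right] at hx
    exact hz1 (mul_eq_right.1 hx.symm)
  have hb'pC : b' ^ p ∈ C := Cfsg.Agent.H2.pow_mem_of_index hCi b'
  rw [hCc] at hb'pC
  obtain ⟨s, hs⟩ := hb'pC
  have hs : b' ^ p = c ^ s := hs.symm
  have hps : (p : ℤ) ∣ s := by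
    by_contra hps
    have h1 : IsCoprime ((p : ℤ) ^ m) s :=
      ((Nat.prime_iff_prime_int.1 hpp).coprime_iff_not_dvd.2 hps).pow_left
    obtain ⟨u, v, huv⟩ := h1
    have h2 : c = (b' ^ p) ^ v := by
      have h3 : c ^ ((p : ℤ) ^ m) = 1 := by
        have : ((p : ℤ) ^ m) = ((p ^ m : ℕ) : ℤ) := by push_cast; rfl
        rw [this, zpow_natCast, ← hord, pow_orderOf_eq_one]
      calc c = c ^ (u * (p : ℤ) ^ m + v * s) := by rw [huv, zpow_one]
        _ = _ := by rw [zpow_add, mul_comm u, zpow_mul, h3, one_zpow, one_mul, mul_comm, zpow_mul, hs]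
    have h4 : Commute b' c := by
      rw [h2]; exact ((Commute.refl b').pow_right p).zpow_right v
    rw [h4.eq, mul_inv_cancel_right] at hb'c
    exact hz1 (mul_eq_right.1 hb'c.symm)
  obtain ⟨t, ht⟩ := hps
  have h1 : b' * c ^ (-t) = z ^ (-t) * (c ^ (-t) * b') := by
    have h2 : b' * c ^ (-t) * b'⁻¹ = z ^ (-t) * c ^ (-t) := by
      rw [← conj_zpow, hb'c, hzc.mul_zpow]
    rw [← mul_assoc, ← h2]; group
  have hxp : (c ^ (-t) * b') ^ p = 1 := by
    rw [Cfsg.Agent.H22.mul_pow_class_two h1 ((hzc.zpow_left _).zpow_right _) (hb'z.zpow_left _), hs, ht]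
    obtain ⟨w, hw⟩ := hpp.odd_of_ne_two hp
    have h2 : p * (p - 1) / 2 = p * w := by
      rw [hw, Nat.add_sub_cancel]
      have : (2 * w + 1) * (2 * w) = ((2 * w + 1) * w) * 2 := by ring
      rw [this, Nat.mul_div_cancel _ (by norm_num)]
    have h3 : (z ^ (-t)) ^ p = 1 := by
      rw [← zpow_natCast, ← zpow_mul, mul_comm, zpow_mul, zpow_natCast, hzp, one_zpow]
    rw [h2, pow_mul, h3, one_pow, one_mul, ← zpow_natCast, ← zpow_mul, ← zpow_add]
    have : -t * (p : ℤ) + (p : ℤ) * t = 0 := by ring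
    rw [this, zpow_zero]
  have hxc : (c ^ (-t) * b') * c * (c ^ (-t) * b')⁻¹ = z * c := by
    have h2 : (c ^ (-t) * b') * c * (c ^ (-t) * b')⁻¹ = c ^ (-t) * (b' * c * b'⁻¹) * (c ^ (-t))⁻¹ := by group
    rw [h2, hb'c, ← ((hzc.zpow_right (-t)).mul_left ((Commute.refl c).zpow_right (-t))).eq]; group
  have hxC := hb'C _ hxc
  refine ⟨c, c ^ (-t) * b', ?_, ?_, ?_, ?_⟩
  · rw [hord, Nat.add_sub_cancel]
  · apply orderOf_eq_prime hxp
    intro h
    exact hxC (h ▸ one_mem C)
  · rw [← hCc]; exact hxC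
  · rw [hxc, hz, ← pow_succ]
    congr 1
    rw [show m + 1 - 2 = m - 1 by omega]; ring

end Cfsg.Agent.S0645
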