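import Cfsg.Statements.S0867
import Cfsg.Agent.H3.DetExt

set_option autoImplicit false
open Cfsg

namespace Cfsg.Agent.S0867

/-- Let N be a normal subgroup of the finite group G and ϑ an irreducible character of N of degree d, invariant under conjugation by G, such that the index of N is coprime to the product of d and the determinantal order of ϑ. Then there is an irreducible character χ of G restricting to ϑ whose determinantal order equals that of ϑ, and χ is the only irreducible character of G restricting to ϑ whose determinantal order is coprime to the index of N. -/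
theorem result {G : Type*} [Group G] [Finite G] (N : Subgroup G) [hN : N.Normal] (ϑ : N → ℂ) (hϑ : Cfsg.IsIrrCharacter N ϑ) (hinv : ∀ (g : G) (n : N), ϑ ⟨g * n * g⁻¹, hN.conj_mem (n : G) n.2 g⟩ = ϑ n) (d : ℕ) (hd : ϑ 1 = d) (hcop : Nat.Coprime N.index (Cfsg.detOrder ϑ * d)) : ∃ χ : G → ℂ, (Cfsg.IsIrrCharacter G χ ∧ (∀ n : N, χ n = ϑ n) ∧ Cfsg.detOrder χ = Cfsg.detOrder ϑ) ∧ ∀ χ' : G → ℂ, Cfsg.IsIrrCharacter G χ' → (∀ n : N, χ' n = ϑ n) → Nat.Coprime N.index (Cfsg.detOrder χ') → χ' = χ := by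
  classical
  have hinv' : ∀ g : G, Cfsg.Agent.H3.cj hN g ϑ = ϑ := fun g => funext fun n => hinv g n
  have hc1 : Nat.Coprime N.index (Cfsg.detOrder ϑ) := hcop.coprime_mul_right_right
  have hc2 : Nat.Coprime N.index d := hcop.coprime_mul_left_right
  obtain ⟨l, hl⟩ := Cfsg.Agent.H3.exists_hf_det (Cfsg.Agent.H3.irr_isChar hϑ)
  have hol : Cfsg.detOrder ϑ = orderOf l := by
    rw [Cfsg.detOrder, hl, Cfsg.Agent.H3.orderOf_hf]
  obtain ⟨μ, h1, h2⟩ := Cfsg.Agent.H3.lin_extends hN l (fun g => by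
    rw [← hl, ← Cfsg.Agent.H3.detChar_invariant hN (Cfsg.Agent.H3.irr_isChar hϑ), hinv' g])
    (by rw [← hol]; exact hc1)
  obtain ⟨η, hη, hr⟩ := (Cfsg.Agent.H3.det_extends_iff hN hϑ hinv' hd hc2).2
    ⟨μ, fun n => by rw [h1 n, hl]⟩
  have hη1 : η 1 = d := by
    have := hr 1
    rw [Subgroup.coe_one] at this
    rw [this, hd]
  have hrf : (fun n : N => η n) = ϑ := funext hr
  obtain ⟨χ, k1, k2, k3⟩ := Cfsg.Agent.H3.det_exists hN hη hη1 hc2 μ (fun n => by
    rw [h1, ← Cfsg.Agent.H3.detChar_restrict (Cfsg.Agent.H3.irr_isChar hη) N n, hrf, hl])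
  have h7 : (fun n : N => χ n) = ϑ := funext fun n => (k2 n).trans (hr n)
  refine ⟨χ, ⟨k1, fun n => congrFun h7 n, ?_⟩, ?_⟩
  · rw [hol, Cfsg.detOrder, k3, Cfsg.Agent.H3.orderOf_hf, h2]
  · intro χ' h4 h5 h6
    obtain ⟨ν, hν⟩ := Cfsg.Agent.H3.exists_hf_det (Cfsg.Agent.H3.irr_isChar h4)
    have hrf' : (fun n : N => χ' n) = ϑ := funext h5
    have h8 : μ = ν := by
      apply Cfsg.Agent.H3.lin_unique hN
      · intro n
        apply Units.ext
        have h9 := Cfsg.Agent.H3.detChar_restrict (Cfsg.Agent.H3.irr_isChar h4) N n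
        rw [hrf', hl, hν] at h9
        exact (h1 n).trans h9
      · rw [h2, ← hol]; exact hc1
      · rw [Cfsg.detOrder, hν, Cfsg.Agent.H3.orderOf_hf] at h6
        exact h6
    refine Cfsg.Agent.H3.det_unique hN k1 h4 (by rw [h7]; exact hϑ) (fun n => ?_) (d := d) ?_ hc2
      (by rw [hν, k3, h8])
    · rw [h5 n, ← congrFun h7 n]
    · have := congrFun h7 1
      simp only [Subgroup.coe_one] at this
      rw [this, hd]

end Cfsg.Agent.S0867
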