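import Cfsg.Statements.S4455
import Cfsg.Agent.S0867
import Cfsg.Agent.S0887
import Cfsg.Agent.H26.ModSum
import Cfsg.Agent.H18.PRes
import Cfsg.Agent.H27.CentralChar
import Cfsg.Agent.H3.Berger1

set_option autoImplicit false
set_option linter.all false
open Cfsg

namespace Cfsg.Agent.S4455

open Subgroup Cfsg.Agent.H3

/-- homomorphisms from `O^p(G)` to `ℂˣ` have order prime to `p` -/
theorem not_dvd_order {G : Type*} [Group G] [Finite G] {p : ℕ} [Fact p.Prime]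
    (μ : (Cfsg.pResidual p G) →* ℂˣ) : ¬ p ∣ orderOf μ := by
  have hp : p.Prime := Fact.out
  rintro ⟨m, hm⟩
  have h0 : orderOf μ ≠ 0 := by
    intro h
    have h1 := orderOf_hom_dvd_card μ
    rw [h, zero_dvd_iff] at h1
    exact Nat.card_pos.ne' h1
  have hν : (μ ^ m) ^ p = 1 := by
    rw [← pow_mul μ, mul_comm m p, ← hm, pow_orderOf_eq_one]
  have hν1 : μ ^ m ≠ 1 := by
    intro h
    have h1 : orderOf μ ∣ m := orderOf_dvd_of_pow_eq_one (x := μ) h
    rw [hm] at h1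
    have h2 : m ≠ 0 := by
      rintro rfl
      exact h0 (by rw [hm, mul_zero])
    have h3 := Nat.le_of_dvd (Nat.pos_of_ne_zero h2) h1
    have h4 := hp.two_le
    nlinarith [Nat.pos_of_ne_zero h2]
  apply hν1
  have hle : Cfsg.pResidual p G ≤ ((μ ^ m).ker).map (Cfsg.pResidual p G).subtype := by
    conv_lhs => rw [Cfsg.pResidual]
    rw [closure_le]
    intro g hg
    have hgN : g ∈ Cfsg.pResidual p G := subset_closure hg
    refine ⟨⟨g, hgN⟩, ?_, rfl⟩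
    change (μ ^ m) ⟨g, hgN⟩ = 1
    rw [← orderOf_eq_one_iff]
    have h1 : orderOf ((μ ^ m) ⟨g, hgN⟩) ∣ p := by
      apply orderOf_dvd_of_pow_eq_one
      rw [← MonoidHom.pow_apply, hν]; rfl
    have h2 : orderOf ((μ ^ m) ⟨g, hgN⟩) ∣ orderOf g := by
      apply orderOf_dvd_of_pow_eq_one
      rw [← map_pow]
      have : (⟨g, hgN⟩ : Cfsg.pResidual p G) ^ orderOf g = 1 := by
        apply Subtype.ext
        simp [pow_orderOf_eq_one]
      rw [this, map_one]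
    have h3 := Nat.dvd_gcd h2 h1
    rw [show Nat.gcd (orderOf g) p = 1 from hg] at h3
    exact Nat.dvd_one.mp h3
  ext ⟨x, hx⟩
  obtain ⟨y, hy, hyx⟩ := hle hx
  have : y = ⟨x, hx⟩ := Subtype.ext hyx
  subst this
  rw [show (μ ^ m) ⟨x, hx⟩ = 1 from hy]
  rfl

theorem restrict_irr {G : Type*} [Group G] [Fintype G] {p : ℕ} [Fact p.Prime] (N : Subgroup G) [N.Normal] [Fintype N]
    {k : ℕ} (hk : N.index = p ^ k) (χ : Cfsg.IrrCharacter G) (hχ : ¬ p ∣ Cfsg.charDegree (χ : G → ℂ)) :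
    Cfsg.IsIrrCharacter N (fun n : N => (χ : G → ℂ) n) := by
  have hp : p.Prime := Fact.out
  have hc := isChar_restrict N (irr_isChar χ.2)
  have hdeg := H27.charDegree_cast (irr_isChar χ.2)
  obtain ⟨ϑ, hϑ⟩ := exists_constituent hc (by
    intro h
    have h1 := congrFun h 1
    exact irr_one_ne_zero χ.2 h1)
  obtain ⟨d, hd0, hd⟩ := irr_one_eq_nat ϑ.2
  obtain ⟨h1, h2⟩ := S0887.result N χ χ.2 ϑ ϑ.2 hϑ (Cfsg.charDegree (χ : G → ℂ)) d hdeg.symm hd
  rw [hk] at h2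
  have hmul : Cfsg.charDegree (χ : G → ℂ) = d * (Cfsg.charDegree (χ : G → ℂ) / d) := (Nat.mul_div_cancel' h1).symm
  have h3 : Cfsg.charDegree (χ : G → ℂ) / d = 1 := by
    obtain ⟨i, _, hi⟩ := (Nat.dvd_prime_pow hp).mp h2
    rcases i with _ | i
    · rw [hi, pow_zero]
    · exfalso
      apply hχ
      rw [hmul, hi, pow_succ]
      exact ⟨d * p ^ i, by ring⟩
  rw [h3, mul_one] at hmul
  have h5 := char_eq_of_degree hc ϑ.2 hϑ (by
    change (χ : G → ℂ) 1 = (ϑ : N → ℂ) 1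
    rw [hd, ← hdeg, hmul])
  have h6 : (fun n : N => (χ : G → ℂ) n) = ϑ := h5
  rw [h6]
  exact ϑ.2

/-- the conjugation action of a subgroup on the irreducible characters of a normal subgroup -/
@[reducible] noncomputable def act {G : Type*} [Group G] (P : Subgroup G) {N : Subgroup G} (hN : N.Normal) :
    MulAction P (Cfsg.IrrCharacter N) where
  smul x ψ := ⟨cj hN (x : G)⁻¹ ψ, isIrr_cj hN ψ.2 _⟩
  one_smul ψ := by
    apply Subtype.ext
    change cj hN ((1 : P) : G)⁻¹ ψ = ψ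
    rw [coe_one, inv_one, cj_one]
  mul_smul x y ψ := by
    apply Subtype.ext
    change cj hN ((x * y : P) : G)⁻¹ ψ = cj hN (x : G)⁻¹ (cj hN (y : G)⁻¹ ψ)
    rw [coe_mul, mul_inv_rev, cj_mul]

theorem card_cong {G : Type*} [Group G] [Finite G] {p : ℕ} [Fact p.Prime] (N : Subgroup G) (hN : N.Normal)
    (P : Sylow p G) (hPN : (P : Subgroup G) ⊔ N = ⊤) :
    (Nat.card N : ℤ) ≡ (∑ᶠ ψ ∈ {ψ : Cfsg.IrrCharacter N | ¬ p ∣ Cfsg.charDegree (ψ : N → ℂ) ∧ ∀ g, cj hN g (ψ : N → ℂ) = ψ},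
      (Cfsg.charDegree (ψ : N → ℂ) : ℤ) ^ 2) [ZMOD p] := by
  classical
  haveI := Fintype.ofFinite (Cfsg.IrrCharacter N)
  letI := act (P : Subgroup G) hN
  rw [← ZMod.intCast_eq_intCast_iff]
  set T := {ψ : Cfsg.IrrCharacter N | ¬ p ∣ Cfsg.charDegree (ψ : N → ℂ) ∧ ∀ g, cj hN g (ψ : N → ℂ) = ψ} with hT
  haveI : Fintype T := Fintype.ofFinite _
  have h1 : (Nat.card N : ℕ) = ∑ ψ : Cfsg.IrrCharacter N, Cfsg.charDegree (ψ : N → ℂ) ^ 2 := by
    have h2 := sum_degree_sq (G := N)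
    have h3 : ((∑ ψ : Cfsg.IrrCharacter N, Cfsg.charDegree (ψ : N → ℂ) ^ 2 : ℕ) : ℂ) = (Nat.card N : ℂ) := by
      rw [← h2]
      push_cast
      exact Finset.sum_congr rfl (fun ψ _ => by rw [H27.charDegree_cast (irr_isChar ψ.2)])
    exact_mod_cast h3.symm
  rw [finsum_mem_eq_toFinset_sum, h1]
  push_cast
  rw [H26.sum_eq_sum_fixedPoints (P := (P : Subgroup G)) P.isPGroup' (α := Cfsg.IrrCharacter N) (A := ZMod p)
    (fun a => by rw [nsmul_eq_mul, CharP.cast_eq_zero, zero_mul])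
    (fun ψ => (Cfsg.charDegree (ψ : N → ℂ) : ZMod p) ^ 2) (by
      intro x ψ
      have h4 : Cfsg.charDegree (x • ψ).1 = Cfsg.charDegree (ψ : N → ℂ) := by
        change Cfsg.charDegree (cj hN (x : G)⁻¹ (ψ : N → ℂ)) = _
        rw [Cfsg.charDegree, Cfsg.charDegree, cj_one_apply]
      change (Cfsg.charDegree (x • ψ).1 : ZMod p) ^ 2 = _
      rw [h4])]
  have hfix : ∀ ψ : Cfsg.IrrCharacter N, ψ ∈ MulAction.fixedPoints (P : Subgroup G) (Cfsg.IrrCharacter N) ↔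
      ∀ g, cj hN g (ψ : N → ℂ) = ψ := by
    intro ψ
    constructor
    · intro h
      have h5 : (P : Subgroup G) ≤ inertia hN (ψ : N → ℂ) := by
        intro x hx
        have h6 := h ⟨x⁻¹, inv_mem hx⟩
        have h7 := congrArg (fun z : Cfsg.IrrCharacter N => (z : N → ℂ)) h6
        change cj hN (x⁻¹)⁻¹ (ψ : N → ℂ) = ψ at h7
        rw [inv_inv] at h7
        exact h7
      have h8 : (P : Subgroup G) ⊔ N ≤ inertia hN (ψ : N → ℂ) :=
        sup_le h5 (le_inertia hN (irr_classFun ψ.2))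
      intro g
      exact h8 (by rw [hPN]; exact mem_top g)
    · intro h x
      apply Subtype.ext
      exact h _
  symm
  apply Finset.sum_subset
  · intro ψ hψ
    rw [Set.mem_toFinset] at hψ
    rw [Finset.mem_filter]
    exact ⟨Finset.mem_univ _, (hfix ψ).mpr hψ.2⟩
  · intro ψ hψ hnψ
    rw [Finset.mem_filter] at hψ
    rw [Set.mem_toFinset] at hnψ
    have h9 := (hfix ψ).mp hψ.2
    have h10 : p ∣ Cfsg.charDegree (ψ : N → ℂ) := by
      by_contra hcon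
      exact hnψ ⟨hcon, h9⟩
    rw [(ZMod.natCast_eq_zero_iff _ _).mpr h10]
    exact zero_pow two_ne_zero

/-- Fix a prime p and a finite group G. Let s be the sum of χ(1)² over the irreducible characters χ of G whose degree is not divisible by p and whose determinantal order o(χ) is not divisible by p. Then the order of O^p(G), the subgroup generated by the elements of order prime to p, is congruent to s modulo p. -/
theorem result {G : Type*} [Group G] [Finite G] (p : ℕ) (hp : p.Prime) : (Nat.card (Cfsg.pResidual p G) : ℤ) ≡ (∑ᶠ χ ∈ {χ : Cfsg.IrrCharacter G | ¬ p ∣ Cfsg.charDegree (χ : G → ℂ) ∧ ¬ p ∣ Cfsg.detOrder (χ : G → ℂ)}, (Cfsg.charDegree (χ : G → ℂ) : ℤ) ^ 2) [ZMOD p] := by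
  classical
  haveI : Fact p.Prime := ⟨hp⟩
  haveI := Fintype.ofFinite G
  have hN : (Cfsg.pResidual p G).Normal := inferInstance
  haveI := Fintype.ofFinite (Cfsg.pResidual p G)
  obtain ⟨k, hk⟩ : ∃ k : ℕ, (Cfsg.pResidual p G).index = p ^ k := by
    obtain ⟨k, hk⟩ := IsPGroup.iff_card.mp (H18.isPGroup_quotient_pResidual (p := p) (G := G))
    exact ⟨k, by rw [Subgroup.index, hk]⟩
  have P : Sylow p G := default
  refine (card_cong (Cfsg.pResidual p G) hN P (H18.sylow_sup_pResidual P)).trans ?_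
  have hdN : ∀ ψ : Cfsg.IrrCharacter (Cfsg.pResidual p G), ¬ p ∣ Cfsg.detOrder (ψ : (Cfsg.pResidual p G) → ℂ) := by
    intro ψ
    obtain ⟨μ, hμ⟩ := exists_hf_det (irr_isChar ψ.2)
    rw [Cfsg.detOrder, hμ, orderOf_hf]
    exact not_dvd_order μ
  have key : ∀ ψ : Cfsg.IrrCharacter (Cfsg.pResidual p G), ¬ p ∣ Cfsg.charDegree (ψ : (Cfsg.pResidual p G) → ℂ) →
      (∀ g, cj hN g (ψ : (Cfsg.pResidual p G) → ℂ) = ψ) →
      ∃ χ : G → ℂ, (Cfsg.IsIrrCharacter G χ ∧ (∀ n : (Cfsg.pResidual p G), χ n = (ψ : (Cfsg.pResidual p G) → ℂ) n) ∧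
        Cfsg.detOrder χ = Cfsg.detOrder (ψ : (Cfsg.pResidual p G) → ℂ)) ∧
      ∀ χ' : G → ℂ, Cfsg.IsIrrCharacter G χ' → (∀ n : (Cfsg.pResidual p G), χ' n = (ψ : (Cfsg.pResidual p G) → ℂ) n) →
        Nat.Coprime (Cfsg.pResidual p G).index (Cfsg.detOrder χ') → χ' = χ := by
    intro ψ hψ hinv
    refine S0867.result (Cfsg.pResidual p G) (ψ : (Cfsg.pResidual p G) → ℂ) ψ.2 (fun g n => congrFun (hinv g) n)
      (Cfsg.charDegree (ψ : (Cfsg.pResidual p G) → ℂ)) (H27.charDegree_cast (irr_isChar ψ.2)).symm ?_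
    rw [hk]
    apply Nat.Coprime.pow_left
    rw [Nat.Prime.coprime_iff_not_dvd hp, hp.dvd_mul, not_or]
    exact ⟨hdN ψ, hψ⟩
  have heq : (∑ᶠ ψ ∈ {ψ : Cfsg.IrrCharacter (Cfsg.pResidual p G) | ¬ p ∣ Cfsg.charDegree (ψ : (Cfsg.pResidual p G) → ℂ) ∧
        ∀ g, cj hN g (ψ : (Cfsg.pResidual p G) → ℂ) = ψ},
      (Cfsg.charDegree (ψ : (Cfsg.pResidual p G) → ℂ) : ℤ) ^ 2) =
      (∑ᶠ χ ∈ {χ : Cfsg.IrrCharacter G | ¬ p ∣ Cfsg.charDegree (χ : G → ℂ) ∧ ¬ p ∣ Cfsg.detOrder (χ : G → ℂ)},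
        (Cfsg.charDegree (χ : G → ℂ) : ℤ) ^ 2) := by
    symm
    rw [← finsum_set_coe_eq_finsum_mem, ← finsum_set_coe_eq_finsum_mem]
    refine finsum_eq_of_bijective (fun χ => ⟨⟨fun n : (Cfsg.pResidual p G) => (χ.1 : G → ℂ) n,
      restrict_irr (Cfsg.pResidual p G) hk χ.1 χ.2.1⟩, ?_, ?_⟩) ⟨?_, ?_⟩ ?_
    · exact χ.2.1
    · intro g
      exact cj_restrict hN (irr_classFun χ.1.2) g
    · intro χ χ' h
      have h1 : ∀ n : (Cfsg.pResidual p G), (χ.1 : G → ℂ) n = (χ'.1 : G → ℂ) n := by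
        intro n
        have h2 := congrArg (fun z => z.1) h
        have h3 := congrArg (fun z : Cfsg.IrrCharacter (Cfsg.pResidual p G) => (z : (Cfsg.pResidual p G) → ℂ)) h2
        exact congrFun h3 n
      obtain ⟨η, _, hη⟩ := key ⟨fun n : (Cfsg.pResidual p G) => (χ.1 : G → ℂ) n,
        restrict_irr (Cfsg.pResidual p G) hk χ.1 χ.2.1⟩ χ.2.1 (fun g => cj_restrict hN (irr_classFun χ.1.2) g)
      have hcop : ∀ ξ : G → ℂ, ¬ p ∣ Cfsg.detOrder ξ → Nat.Coprime (Cfsg.pResidual p G).index (Cfsg.detOrder ξ) := by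
        intro ξ hξ
        rw [hk]
        apply Nat.Coprime.pow_left
        rw [Nat.Prime.coprime_iff_not_dvd hp]
        exact hξ
      have e1 := hη (χ.1 : G → ℂ) χ.1.2 (fun n => rfl) (hcop _ χ.2.2)
      have e2 := hη (χ'.1 : G → ℂ) χ'.1.2 (fun n => (h1 n).symm) (hcop _ χ'.2.2)
      apply Subtype.ext
      apply Subtype.ext
      rw [e1, e2]
    · intro ψ
      obtain ⟨χ, ⟨h1, h2, h3⟩, _⟩ := key ψ.1 ψ.2.1 ψ.2.2
      refine ⟨⟨⟨χ, h1⟩, ?_, ?_⟩, ?_⟩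
      · have h4 : Cfsg.charDegree χ = Cfsg.charDegree (ψ.1 : (Cfsg.pResidual p G) → ℂ) := by
          rw [Cfsg.charDegree, Cfsg.charDegree, ← h2 1, coe_one]
        change ¬ p ∣ Cfsg.charDegree χ
        rw [h4]
        exact ψ.2.1
      · change ¬ p ∣ Cfsg.detOrder χ
        rw [h3]
        exact hdN ψ.1
      · apply Subtype.ext
        apply Subtype.ext
        exact funext h2
    · intro χ
      rfl
  rw [heq]

end Cfsg.Agent.S4455
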