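import Cfsg.Statements.S4456
import Cfsg.Agent.S4455

set_option autoImplicit false
set_option linter.all false
open Cfsg

namespace Cfsg.Agent.S4456

open Subgroup Cfsg.Agent.H3

/-- the `p'`-part of the group of linear characters -/
def prim (G : Type*) [Group G] (p : ℕ) : Subgroup (G →* ℂˣ) where
  carrier := {μ | (orderOf μ).Coprime p}
  one_mem' := by
    change (orderOf (1 : G →* ℂˣ)).Coprime p
    rw [orderOf_one]
    exact Nat.coprime_one_left p
  mul_mem' := by
    intro a b ha hb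
    have h1 : orderOf (a * b) ∣ orderOf a * orderOf b := (Commute.all a b).orderOf_mul_dvd_mul_orderOf
    exact Nat.Coprime.coprime_dvd_left h1 (Nat.Coprime.mul_left ha hb)
  inv_mem' := by
    intro a ha
    change (orderOf a⁻¹).Coprime p
    have h1 : orderOf a⁻¹ = orderOf a := orderOf_inv a
    exact h1.symm ▸ ha

theorem not_dvd_prim {G : Type*} [Group G] [Finite G] [Finite (G →* ℂˣ)] {p : ℕ} [Fact p.Prime] :
    ¬ p ∣ Nat.card (prim G p) := by
  have hp : p.Prime := Fact.out
  intro h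
  obtain ⟨x, hx⟩ := exists_prime_orderOf_dvd_card' p h
  have h1 : (orderOf (x : G →* ℂˣ)).Coprime p := x.2
  rw [Subgroup.orderOf_coe, hx, Nat.coprime_self] at h1
  exact hp.one_lt.ne' h1

/-- Let p be a prime and G a finite group such that p divides the degree of every irreducible character of G of degree greater than one. Then G has a normal p-complement: a normal subgroup of order prime to p whose index is a power of p. -/
theorem result {G : Type*} [Group G] [Finite G] (p : ℕ) (hp : p.Prime) (hdeg : ∀ χ : Cfsg.IrrCharacter G, Cfsg.charDegree (χ : G → ℂ) ≠ 1 → p ∣ Cfsg.charDegree (χ : G → ℂ)) : ∃ N : Subgroup G, N.Normal ∧ (Nat.card N).Coprime p ∧ ∃ k : ℕ, N.index = p ^ k := by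
  classical
  haveI : Fact p.Prime := ⟨hp⟩
  haveI : Finite (G →* ℂˣ) := by
    haveI : Finite (Cfsg.IrrCharacter G) := inferInstance
    exact Finite.of_injective (fun μ => (⟨hf μ, isIrr_hf μ⟩ : Cfsg.IrrCharacter G))
      (fun μ ν h => hf_injective (congrArg (fun z : Cfsg.IrrCharacter G => (z : G → ℂ)) h))
  have h1 := S4455.result (G := G) p hp
  have hd1 : ∀ μ : G →* ℂˣ, Cfsg.charDegree (hf μ) = 1 := by
    intro μ
    rw [Cfsg.charDegree, hf_at_one]
    simp
  have h2 : (∑ᶠ χ ∈ {χ : Cfsg.IrrCharacter G | ¬ p ∣ Cfsg.charDegree (χ : G → ℂ) ∧ ¬ p ∣ Cfsg.detOrder (χ : G → ℂ)},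
      (Cfsg.charDegree (χ : G → ℂ) : ℤ) ^ 2) = (Nat.card (prim G p) : ℤ) := by
    have h3 : (∑ᶠ χ ∈ {χ : Cfsg.IrrCharacter G | ¬ p ∣ Cfsg.charDegree (χ : G → ℂ) ∧ ¬ p ∣ Cfsg.detOrder (χ : G → ℂ)},
      (Cfsg.charDegree (χ : G → ℂ) : ℤ) ^ 2) = ∑ᶠ μ : prim G p, (1 : ℤ) := by
      rw [← finsum_set_coe_eq_finsum_mem]
      symm
      have hdet : ∀ μ : G →* ℂˣ, Cfsg.detChar (hf μ) = hf μ := by
        intro μ
        have e1 : hf μ = (homRep μ).character := (homRep_character μ).symm
        ext g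
        rw [e1, detChar_eq', ← e1, hf_apply]
        have e2 : homRep μ g = (μ g : ℂ) • LinearMap.id := by ext; simp [homRep]
        rw [e2, LinearMap.det_smul, LinearMap.det_id, Module.finrank_self, pow_one, mul_one]
      refine finsum_eq_of_bijective (fun μ => ⟨⟨hf (μ : G →* ℂˣ), isIrr_hf _⟩, ?_, ?_⟩) ⟨?_, ?_⟩ ?_
      · change ¬ p ∣ Cfsg.charDegree (hf (μ : G →* ℂˣ))
        rw [hd1]
        exact fun h => hp.one_lt.ne' (Nat.dvd_one.mp h)
      · change ¬ p ∣ Cfsg.detOrder (hf (μ : G →* ℂˣ))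
        rw [Cfsg.detOrder, hdet, orderOf_hf, ← Nat.Prime.coprime_iff_not_dvd hp]
        exact Nat.Coprime.symm μ.2
      · intro μ ν h
        have h2 := congrArg (fun z => z.1) h
        have h3 := congrArg (fun z : Cfsg.IrrCharacter G => (z : G → ℂ)) h2
        exact Subtype.ext (hf_injective h3)
      · intro χ
        have h4 : Cfsg.charDegree (χ.1 : G → ℂ) = 1 := by
          by_contra hne
          exact χ.2.1 (hdeg χ.1 hne)
        have h5 : (χ.1 : G → ℂ) 1 = 1 := by
          rw [← H27.charDegree_cast (irr_isChar χ.1.2), h4, Nat.cast_one]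
        obtain ⟨μ, hμ⟩ := exists_hf (irr_isChar χ.1.2) h5
        refine ⟨⟨μ, ?_⟩, ?_⟩
        · have h6 := χ.2.2
          rw [hμ, Cfsg.detOrder, hdet, orderOf_hf, ← Nat.Prime.coprime_iff_not_dvd hp] at h6
          exact Nat.Coprime.symm h6
        · apply Subtype.ext
          apply Subtype.ext
          exact hμ.symm
      · intro μ
        change (1 : ℤ) = (Cfsg.charDegree (hf (μ : G →* ℂˣ)) : ℤ) ^ 2
        rw [hd1]
        simp
    haveI : Fintype (prim G p) := Fintype.ofFinite _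
    rw [h3, finsum_eq_sum_of_fintype, Nat.card_eq_fintype_card]
    simp
  rw [h2] at h1
  have h4 : ¬ p ∣ Nat.card (Cfsg.pResidual p G) := by
    intro h
    apply not_dvd_prim (G := G) (p := p)
    have h5 : (p : ℤ) ∣ (Nat.card (Cfsg.pResidual p G) : ℤ) := by exact_mod_cast h
    have h6 := (Int.ModEq.dvd_iff h1).mp h5
    exact_mod_cast h6
  refine ⟨Cfsg.pResidual p G, inferInstance, ?_, ?_⟩
  · exact ((Nat.Prime.coprime_iff_not_dvd hp).mpr h4).symm
  · obtain ⟨k, hk⟩ := IsPGroup.iff_card.mp (H18.isPGroup_quotient_pResidual (p := p) (G := G))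
    exact ⟨k, by rw [Subgroup.index, hk]⟩

end Cfsg.Agent.S4456
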