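import Cfsg.Statements.S5136
import Cfsg.Agent.H28.FusFactor2

set_option autoImplicit false
open Cfsg

namespace Cfsg.Agent.S5136

open Cfsg.FusionSystem Cfsg.Agent.H28

/-- Let F₁ and F₂ be fusion systems over finite p-groups S₁ and S₂ (inside ambient groups Ω₁ and Ω₂). Then their direct product exists: there is a fusion system over S₁ × S₂ inside Ω₁ × Ω₂ whose maps with source P ≤ S₁ × S₂ are exactly the restrictions to P of the homomorphisms (x₁, x₂) ↦ (φ₁ x₁, φ₂ x₂) with φ₁ a map of F₁ on the first projection of P and φ₂ a map of F₂ on the second projection. -/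
theorem result {Ω₁ Ω₂ : Type*} [Group Ω₁] [Group Ω₂] {S₁ : Subgroup Ω₁} {S₂ : Subgroup Ω₂} [Finite S₁] [Finite S₂] (p : ℕ) [Fact p.Prime] (h₁ : IsPGroup p S₁) (h₂ : IsPGroup p S₂) (F₁ : Cfsg.FusionSystem S₁) (F₂ : Cfsg.FusionSystem S₂) : ∃ E : Cfsg.FusionSystem (S₁.prod S₂), Cfsg.FusionSystem.IsProductSystem F₁ F₂ E := by
  have hfst : ∀ {P : Subgroup (Ω₁ × Ω₂)} {x : Ω₁ × Ω₂}, x ∈ P → x.1 ∈ P.map (MonoidHom.fst Ω₁ Ω₂) :=
    fun hx => ⟨_, hx, rfl⟩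
  have hsnd : ∀ {P : Subgroup (Ω₁ × Ω₂)} {x : Ω₁ × Ω₂}, x ∈ P → x.2 ∈ P.map (MonoidHom.snd Ω₁ Ω₂) :=
    fun hx => ⟨_, hx, rfl⟩
  have hle1 : ∀ {P : Subgroup (Ω₁ × Ω₂)}, P ≤ S₁.prod S₂ → P.map (MonoidHom.fst Ω₁ Ω₂) ≤ S₁ := by
    rintro P hP _ ⟨x, hx, rfl⟩
    exact (hP hx).1
  have hle2 : ∀ {P : Subgroup (Ω₁ × Ω₂)}, P ≤ S₁.prod S₂ → P.map (MonoidHom.snd Ω₁ Ω₂) ≤ S₂ := by
    rintro P hP _ ⟨x, hx, rfl⟩
    exact (hP hx).2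
  let E : Cfsg.FusionSystem (S₁.prod S₂) :=
    { Hom := fun P => {φ | P ≤ S₁.prod S₂ ∧ ∃ f₁ f₂, Mor F₁ (P.map (MonoidHom.fst Ω₁ Ω₂)) f₁ ∧
        Mor F₂ (P.map (MonoidHom.snd Ω₁ Ω₂)) f₂ ∧ ∀ x : P, φ x = (f₁ (x : Ω₁ × Ω₂).1, f₂ (x : Ω₁ × Ω₂).2)}
      le_of_mem := by
        rintro P φ ⟨hP, f₁, f₂, hf₁, hf₂, h⟩
        refine ⟨hP, fun x => ?_⟩
        rw [h]
        exact ⟨hf₁.mem (hfst x.2), hf₂.mem (hsnd x.2)⟩
      injective_of_mem := by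
        rintro P φ ⟨hP, f₁, f₂, hf₁, hf₂, h⟩ x y hxy
        rw [h, h, Prod.mk.injEq] at hxy
        exact Subtype.ext (Prod.ext (hf₁.inj (hfst x.2) (hfst y.2) hxy.1)
          (hf₂.inj (hsnd x.2) (hsnd y.2) hxy.2))
      conj_mem := by
        intro P g hP hg
        exact ⟨hP, fun x => g.1 * x * g.1⁻¹, fun x => g.2 * x * g.2⁻¹, mor_conj (hle1 hP) hg.1,
          mor_conj (hle2 hP) hg.2, fun x => rfl⟩
      comp_mem := by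
        rintro P Q φ ψ ⟨hP, f₁, f₂, hf₁, hf₂, h⟩ ⟨hQ, g₁, g₂, hg₁, hg₂, h'⟩ hm
        refine ⟨hP, fun x => g₁ (f₁ x), fun x => g₂ (f₂ x), hf₁.comp hg₁ ?_, hf₂.comp hg₂ ?_,
          fun x => ?_⟩
        · rintro _ ⟨x, hx, rfl⟩
          have := hm ⟨x, hx⟩
          rw [h] at this
          exact hfst this
        · rintro _ ⟨x, hx, rfl⟩
          have := hm ⟨x, hx⟩
          rw [h] at this
          exact hsnd this
        · show ψ ⟨φ x, hm x⟩ = _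
          rw [h']
          show (g₁ (φ x).1, g₂ (φ x).2) = _
          rw [h]
      inv_mem := by
        rintro P φ ⟨hP, f₁, f₂, hf₁, hf₂, h⟩
        obtain ⟨i₁, hi₁, hi11, -, -⟩ := hf₁.inverse
        obtain ⟨i₂, hi₂, hi21, -, -⟩ := hf₂.inverse
        have hinj : Function.Injective φ := by
          intro x y hxy
          rw [h, h, Prod.mk.injEq] at hxy
          exact Subtype.ext (Prod.ext (hf₁.inj (hfst x.2) (hfst y.2) hxy.1)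
            (hf₂.inj (hsnd x.2) (hsnd y.2) hxy.2))
        have hr1 : φ.range.map (MonoidHom.fst Ω₁ Ω₂) ≤ img (P.map (MonoidHom.fst Ω₁ Ω₂)) f₁ := by
          rintro _ ⟨_, ⟨x, rfl⟩, rfl⟩
          rw [h]
          exact mem_img_of_mem (hfst x.2)
        have hr2 : φ.range.map (MonoidHom.snd Ω₁ Ω₂) ≤ img (P.map (MonoidHom.snd Ω₁ Ω₂)) f₂ := by
          rintro _ ⟨_, ⟨x, rfl⟩, rfl⟩
          rw [h]
          exact mem_img_of_mem (hsnd x.2)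
        let e := MonoidHom.ofInjective hinj
        refine ⟨P.subtype.comp e.symm.toMonoidHom, ⟨?_, i₁, i₂, hi₁.mono hr1, hi₂.mono hr2,
          ?_⟩, ?_⟩
        · rintro _ ⟨x, rfl⟩
          rw [h]
          exact ⟨hf₁.mem (hfst x.2), hf₂.mem (hsnd x.2)⟩
        · rintro ⟨_, x, rfl⟩
          show ((e.symm ⟨φ x, _⟩ : P) : Ω₁ × Ω₂) = _
          have e2 : (⟨φ x, ⟨_, rfl⟩⟩ : φ.range) = e x := rfl
          have e3 : φ x = (f₁ (x : Ω₁ × Ω₂).1, f₂ (x : Ω₁ × Ω₂).2) := h x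
          show _ = (i₁ (φ x).1, i₂ (φ x).2)
          rw [e2, MulEquiv.symm_apply_apply, e3]
          show _ = (i₁ (f₁ (x : Ω₁ × Ω₂).1), i₂ (f₂ (x : Ω₁ × Ω₂).2))
          rw [hi11 _ (hfst x.2), hi21 _ (hsnd x.2)]
        · intro x
          show ((e.symm ⟨φ x, _⟩ : P) : Ω₁ × Ω₂) = _
          have e2 : (⟨φ x, ⟨_, rfl⟩⟩ : φ.range) = e x := rfl
          rw [e2, MulEquiv.symm_apply_apply] }
  refine ⟨E, fun P φ => ⟨?_, ?_⟩⟩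
  · rintro ⟨hP, f₁, f₂, ⟨φ₁, hφ₁, h₁'⟩, ⟨φ₂, hφ₂, h₂'⟩, h⟩
    refine ⟨hP, φ₁, hφ₁, φ₂, hφ₂, fun x h1 h2 => ?_⟩
    rw [h, h₁', h₂']
  · rintro ⟨hP, φ₁, hφ₁, φ₂, hφ₂, h⟩
    refine ⟨hP, toFun φ₁, toFun φ₂, mor_toFun hφ₁, mor_toFun hφ₂, fun x => ?_⟩
    rw [toFun_apply φ₁ (hfst x.2), toFun_apply φ₂ (hsnd x.2)]
    exact h x _ _
end Cfsg.Agent.S5136
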