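import Cfsg.Prelude
import Cfsg.Agent.H25.Metac3
import Cfsg.Agent.H23.Quat

set_option autoImplicit false
open Cfsg

namespace Cfsg.Agent.S1896

open Subgroup Cfsg.Agent.H25

/-- A finite metacyclic 2-group whose automorphism group is not a 2-group is isomorphic to the quaternion group of order 8 or to a homocyclic abelian group Z_{2^n} × Z_{2^n}. -/
theorem result {X : Type*} [Group X] [Finite X] (hX : IsPGroup 2 X)
    (hm : Cfsg.IsMetacyclic X) (hA : ¬ IsPGroup 2 (MulAut X)) :
    Nonempty (X ≃* QuaternionGroup 2) ∨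
      ∃ n : ℕ, Nonempty (X ≃* Multiplicative (ZMod (2 ^ n)) × Multiplicative (ZMod (2 ^ n))) := by
  classical
  haveI : Finite (MulAut X) := inferInstance
  obtain ⟨L, hLn, hLc, hq⟩ := hm
  haveI := hLn
  obtain ⟨σ0, hσ0⟩ : ∃ σ0 : MulAut X, ∀ k : ℕ, σ0 ^ 2 ^ k ≠ 1 := by
    by_contra h
    push Not at h
    exact hA h
  obtain ⟨k, m, hmo, hkm⟩ := Nat.exists_eq_two_pow_mul_odd (n := orderOf σ0) (orderOf_pos σ0).ne'
  set σ : MulAut X := σ0 ^ 2 ^ k with hσ
  have ho : orderOf σ = m := by
    rw [hσ, orderOf_pow, hkm, Nat.gcd_eq_right (Dvd.intro _ rfl), Nat.mul_div_cancel_left _ (by positivity)]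
  obtain ⟨-, u, -, huF, halt⟩ := metac_core hX L hLc hq σ (by rw [ho]; exact hmo) (hσ0 k)
  rcases halt with ⟨hc, hinf, hsup⟩ | ⟨hcard, hou, hs2, hconj⟩
  · right
    obtain ⟨n, hn⟩ := (haveI : Fact (Nat.Prime 2) := ⟨Nat.prime_two⟩; IsPGroup.iff_orderOf.mp hX u)
    refine ⟨n, nonempty_equiv_of_split hc hn ?_ hinf hsup⟩
    rw [← hn]; exact MulEquiv.orderOf_eq σ u
  · left
    have hnot : σ u ∉ zpowers u := by
      rintro ⟨i, hi⟩
      have hi' : u ^ i = σ u := hi
      have h1 : Commute (σ u) u := by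
        rw [← hi']; exact (Commute.refl u).zpow_left i
      rw [h1.eq, mul_inv_cancel_right] at hconj
      have h2 : u ^ 2 = 1 := by
        rw [pow_two]
        nth_rewrite 1 [hconj]
        exact inv_mul_cancel _
      have h3 := orderOf_dvd_of_pow_eq_one h2
      rw [hou] at h3
      omega
    apply H23.nonempty_mulEquiv_quaternionGroup 2 u (σ u) (by rw [hou]) (by rw [← pow_two, hs2]) hconj hnot
    apply Subgroup.eq_top_of_card_eq
    have h1 : zpowers u ≤ closure {u, σ u} := zpowers_le.mpr (subset_closure (by simp))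
    have h2 : Nat.card (zpowers u) ∣ Nat.card (closure {u, σ u}) := Subgroup.card_dvd_of_le h1
    have h3 : Nat.card (closure {u, σ u}) ∣ Nat.card X := Subgroup.card_subgroup_dvd_card _
    rw [Nat.card_zpowers, hou] at h2
    rw [hcard] at h3 ⊢
    have h4 : Nat.card (closure {u, σ u}) ≠ 4 := by
      intro h4
      have h5 : zpowers u = closure {u, σ u} := by
        apply Subgroup.eq_of_le_of_card_ge h1
        rw [h4, Nat.card_zpowers, hou]
      apply hnot
      rw [h5]
      exact subset_closure (by simp)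
    have h5 : Nat.card (closure {u, σ u}) ≤ 8 := Nat.le_of_dvd (by norm_num) h3
    generalize Nat.card (closure {u, σ u}) = N at *
    interval_cases N <;> omega

end Cfsg.Agent.S1896
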