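import Cfsg.Statements.S0495
import Cfsg.Agent.H9.PSLRec

set_option autoImplicit false
open Cfsg

namespace Cfsg.Agent.S0495

/-- A simple group of order 168 is isomorphic to the projective special linear group of dimension 2 over the field with
7 elements. -/
theorem result {G : Type*} [Group G] [Finite G] [IsSimpleGroup G]
    (h : Nat.card G = 168) {F : Type*} [Field F] [Fintype F] (hF : Fintype.card F = 7) :
    Nonempty (G ≃* Matrix.ProjectiveSpecialLinearGroup (Fin 2) F) := by
  haveI := Fact.mk (show Nat.Prime 7 by norm_num)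
  haveI := Fact.mk (show Nat.Prime 3 by norm_num)
  have hG : ¬ IsMulCommutative G := Cfsg.Agent.H9.Simple.not_comm_of_not_prime (by rw [h]; norm_num)
  have hd : 7 ∣ Nat.card G := by rw [h]; norm_num
  obtain ⟨P⟩ : Nonempty (Sylow 7 G) := inferInstance
  have h1 : Nat.card (Sylow 7 G) ∣ 24 :=
    Cfsg.Agent.H9.Syl.card_sylow_dvd_of_card P (k := 1) (m := 24) (by rw [h]; norm_num) (by norm_num)
  have h2 : Nat.card (Sylow 7 G) ≡ 1 [MOD 7] := card_sylow_modEq_one 7 G
  have h3 : Nat.card (Sylow 7 G) ≠ 1 := Cfsg.Agent.H9.Simple.card_sylow_ne_one hG hd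
  have h4 : Nat.card (Sylow 7 G) = 7 + 1 := by
    have key : ∀ n ∈ Nat.divisors 24, n % 7 = 1 → n ≠ 1 → n = 7 + 1 := by decide +kernel
    exact key _ (Nat.mem_divisors.mpr ⟨h1, by norm_num⟩) h2 h3
  have hP : Nat.card (P : Subgroup G) = 7 :=
    Cfsg.Agent.H9.Syl.card_sylow_prime P hd (by rw [h]; norm_num)
  have h168 : 2 * Nat.card G = 7 * (7 ^ 2 - 1) := by rw [h]; norm_num
  obtain ⟨e⟩ := Cfsg.Agent.H9.PSLModel.psl_of_check hG P hP h4 (by norm_num) (by norm_num) h168
    Cfsg.Agent.H9.PSLModel.check7 (by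
      intro t s _ hs hts hN
      have hs3 : orderOf s = 3 := hs
      rw [pow_one] at hts
      -- a Sylow 3-subgroup
      have hcard3 : Nat.card (Subgroup.zpowers s) = 3 ^ 1 := by rw [Nat.card_zpowers, hs3, pow_one]
      obtain ⟨S, hS⟩ := IsPGroup.exists_le_sylow (p := 3) (P := Subgroup.zpowers s)
        (Cfsg.Agent.H9.Simple.isPGroup_zpowers (k := 1) (by rw [hs3, pow_one]))
      have hSc : Nat.card (S : Subgroup G) = 3 :=
        Cfsg.Agent.H9.Syl.card_sylow_prime S (by rw [h]; norm_num) (by rw [h]; norm_num)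
      have hSe : Subgroup.zpowers s = S := by
        apply Subgroup.eq_of_le_of_card_ge hS
        rw [hcard3, hSc]; norm_num
      apply Cfsg.Agent.H9.Simple.not_normalizer_le_centralizer hG (p := 3) (by rw [h]; norm_num) S
      have hcs : ∀ g : G, g * s = s * g → g ∈ Subgroup.centralizer ((S : Subgroup G) : Set G) := by
        intro g hg
        rw [Subgroup.mem_centralizer_iff]
        intro y hy
        rw [SetLike.mem_coe, ← hSe] at hy
        obtain ⟨j, rfl⟩ := Subgroup.mem_zpowers_iff.mp hy
        have : Commute g s := hg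
        exact (this.zpow_right j).eq.symm
      have hz : ∀ g ∈ Subgroup.zpowers s, g ∈ Subgroup.centralizer ((S : Subgroup G) : Set G) := by
        intro g hg
        obtain ⟨j, rfl⟩ := Subgroup.mem_zpowers_iff.mp hg
        apply hcs
        exact ((Commute.refl s).zpow_left j).eq
      intro g hg
      have h5 : g * s * g⁻¹ ∈ Subgroup.zpowers s := by
        rw [hSe]
        exact (Subgroup.mem_normalizer_iff.mp hg s).mp (by change s ∈ (S : Subgroup G); rw [← hSe]; exact Subgroup.mem_zpowers s)
      rcases hN g h5 with h6 | h6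
      · exact hz g h6
      · have h7 : t ∈ Subgroup.centralizer ((S : Subgroup G) : Set G) := hcs t (mul_inv_eq_iff_eq_mul.mp hts)
        have h8 := mul_mem h7 (hz _ h6)
        rwa [mul_inv_cancel_left] at h8)
  exact ⟨e.trans (Cfsg.Agent.H5.PSLCongr (ZMod.ringEquivOfPrime F (by norm_num) hF))⟩

end Cfsg.Agent.S0495
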