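import Cfsg.Statements.S0496
import Cfsg.Agent.H9.ExcQ

set_option autoImplicit false
open Cfsg

namespace Cfsg.Agent.S0496

open Cfsg.Agent.H9 Cfsg.Agent.H9.Exc in
set_option maxRecDepth 100000 in
theorem table : ((List.range 1093).all fun n => Sieve.checkC n || n == 0 ||
    [60,168,360,504,660,1092,612,720,756,1008,1040,1080].contains n) = true := by decide +kernel

open Cfsg.Agent.H9 Cfsg.Agent.H9.Exc in
theorem kill {G : Type*} [Group G] [Finite G] [IsSimpleGroup G] (hG : ¬ IsMulCommutative G) (n p k m B : ℕ)
    (hn : Nat.card G = n) (hp : p.Prime) (hk : 0 < k) (hm : n = 2 ^ k * m) (hm2 : ¬ 2 ∣ m)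
    (h : exKill2 n p (2 ^ k) B = true) : False := by
  have h1 := exKill2_sound hG hp (k := k) (m' := m) (B := B) hk (by rw [hn, hm]) hm2
  rw [hn, h] at h1
  exact absurd h1 (by decide)

/-- A non-abelian finite simple group of order at most 1092 has order 60, 168, 360, 504, 660 or 1092. -/
theorem result {G : Type*} [Group G] [Finite G] [IsSimpleGroup G]
    (hG : ¬ IsMulCommutative G) (h : Nat.card G ≤ 1092) :
    Nat.card G = 60 ∨ Nat.card G = 168 ∨ Nat.card G = 360 ∨ Nat.card G = 504 ∨ Nat.card G = 660 ∨
      Nat.card G = 1092 := by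
  have h0 : 0 < Nat.card G := Nat.card_pos
  have hs := Cfsg.Agent.H9.Sieve.sieveC hG
  have h1 := List.all_eq_true.mp table (Nat.card G) (List.mem_range.mpr (by omega))
  rw [hs, Bool.false_or, Bool.or_eq_true, beq_iff_eq] at h1
  rcases h1 with h1 | h1
  · omega
  · rw [List.contains_iff_mem] at h1
    simp only [List.mem_cons, List.not_mem_nil, or_false] at h1
    rcases h1 with h1 | h1 | h1 | h1 | h1 | h1 | h1 | h1 | h1 | h1 | h1 | h1
    · simp [h1]
    · simp [h1]
    · simp [h1]
    · simp [h1]
    · simp [h1]
    · simp [h1]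
    · exact (kill hG 612 17 2 153 25 h1 (by norm_num) (by norm_num) (by norm_num) (by norm_num) (by decide +kernel)).elim
    · exact (kill hG 720 5 4 45 27 h1 (by norm_num) (by norm_num) (by norm_num) (by norm_num) (by decide +kernel)).elim
    · exact (kill hG 756 7 2 189 28 h1 (by norm_num) (by norm_num) (by norm_num) (by norm_num) (by decide +kernel)).elim
    · exact (kill hG 1008 7 4 63 32 h1 (by norm_num) (by norm_num) (by norm_num) (by norm_num) (by decide +kernel)).elim
    · exact (kill hG 1040 13 4 65 33 h1 (by norm_num) (by norm_num) (by norm_num) (by norm_num) (by decide +kernel)).elim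
    · exact (kill hG 1080 5 3 135 33 h1 (by norm_num) (by norm_num) (by norm_num) (by norm_num) (by decide +kernel)).elim

end Cfsg.Agent.S0496
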