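import Cfsg.Statements.S2119
import Cfsg.Agent.H22.AutAlt

set_option autoImplicit false
set_option linter.all false
open Cfsg

namespace Cfsg.Agent.S2119

open Cfsg.Agent.H22.AutAlt Equiv Equiv.Perm


/-- Automorphisms of the alternating groups: for n ≥ 4 with n ≠ 6, every automorphism of the alternating group of degree n is conjugation by a unique permutation, i.e. conjugation induces an isomorphism from the symmetric group of degree n onto the automorphism group of the alternating group (so the outer automorphism group has order 2). -/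
theorem result (n : ℕ) (hn : 4 ≤ n) (h6 : n ≠ 6) : Function.Bijective (MulAut.conjNormal : Equiv.Perm (Fin n) →* MulAut ↥(alternatingGroup (Fin n))) := by
  obtain ⟨u, v, w, t, huv, huw, hut, hvw, hvt, hwt⟩ :
      ∃ u v w t : Fin n, u ≠ v ∧ u ≠ w ∧ u ≠ t ∧ v ≠ w ∧ v ≠ t ∧ w ≠ t := by
    refine ⟨⟨0, by omega⟩, ⟨1, by omega⟩, ⟨2, by omega⟩, ⟨3, by omega⟩, ?_, ?_, ?_, ?_, ?_, ?_⟩ <;>
      simp [Fin.ext_iff]
  constructor
  · rw [injective_iff_map_eq_one]
    intro σ hσ
    by_contra hne
    have hc : ∀ x : alternatingGroup (Fin n), σ * x * σ⁻¹ = x := by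
      intro x
      have := congrArg (fun g : MulAut (alternatingGroup (Fin n)) => ((g x : alternatingGroup (Fin n)) : Perm (Fin n))) hσ
      exact this
    obtain ⟨a, ha⟩ : ∃ a, σ a ≠ a := by
      by_contra hcon
      push Not at hcon
      exact hne (Equiv.ext hcon)
    -- two further points
    obtain ⟨c, d, hca, hcb, hda, hdb, hcd⟩ : ∃ c d : Fin n, c ≠ a ∧ c ≠ σ a ∧ d ≠ a ∧ d ≠ σ a ∧ c ≠ d := by
      have h1 : 1 < (Finset.univ \ {a, σ a} : Finset (Fin n)).card := by
        rw [Finset.card_sdiff_of_subset (Finset.subset_univ _), Finset.card_univ, Fintype.card_fin]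
        have := Finset.card_le_two (a := a) (b := σ a)
        omega
      obtain ⟨c, hc, d, hd, hcd⟩ := Finset.one_lt_card.1 h1
      simp only [Finset.mem_sdiff, Finset.mem_univ, true_and, Finset.mem_insert, Finset.mem_singleton, not_or] at hc hd
      exact ⟨c, d, hc.1, hc.2, hd.1, hd.2, hcd⟩
    have h2 := hc ⟨cyc a c d, (cyc_three hca.symm hda.symm hcd).mem_alternatingGroup⟩
    rw [mul_inv_eq_iff_eq_mul] at h2
    have h3 := congrArg (fun g : Perm (Fin n) => g a) h2
    simp only [mul_apply] at h3
    rw [cyc_fst hca.symm hda.symm, cyc_other ha hcb.symm hdb.symm] at h3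
    exact hca (σ.injective h3)
  · intro f
    let g : alternatingGroup (Fin n) →* Perm (Fin n) := (alternatingGroup (Fin n)).subtype.comp f.toMonoidHom
    obtain ⟨σ, hσ⟩ := conj_of_three huv huw hut hvw hvt hwt g
      (Subtype.val_injective.comp f.injective)
      (fun x hx => aut_three (by rw [Fintype.card_fin]; exact h6) f hx)
    refine ⟨σ, ?_⟩
    apply MulEquiv.ext
    intro x
    apply Subtype.ext
    exact (hσ x).symm

end Cfsg.Agent.S2119
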