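import Cfsg.Statements.S2530
import Cfsg.Agent.H22.CoxPres

set_option autoImplicit false
open Cfsg

namespace Cfsg.Agent.S2530

open Cfsg.Agent.H6

/-- adjacent transpositions -/
def st (n : ℕ) (i : Fin n) : Equiv.Perm (Fin (n + 1)) := Equiv.swap i.castSucc i.succ

lemma genInv (n : ℕ) : GenInv (st n) where
  sq i := Equiv.swap_mul_self _ _
  gen := by
    have h := Equiv.Perm.mclosure_swap_castSucc_succ n
    rw [eq_top_iff]
    intro x _
    have hx : x ∈ Submonoid.closure (Set.range fun i : Fin n ↦ Equiv.swap i.castSucc i.succ) := by rw [h]; trivial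
    have h2 : Submonoid.closure (Set.range fun i : Fin n ↦ Equiv.swap i.castSucc i.succ) ≤ (Subgroup.closure (Set.range (st n))).toSubmonoid :=
      Submonoid.closure_le.2 Subgroup.subset_closure
    exact h2 hx

lemma val_swap {n : ℕ} (j : Fin n) (a : Fin (n + 1)) : ((st n j a : Fin (n + 1)) : ℕ) = if a.val = j.val then j.val + 1 else if a.val = j.val + 1 then j.val else a.val := by
  unfold st
  rw [Equiv.swap_apply_def]
  by_cases h1 : a = j.castSucc
  · rw [if_pos h1, if_pos (by rw [h1]; rfl)]; rfl
  · rw [if_neg h1, if_neg (fun h : (a : ℕ) = (j : ℕ) => h1 (Fin.ext h))]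
    by_cases h2 : a = j.succ
    · rw [if_pos h2, if_pos (by rw [h2]; rfl)]; rfl
    · rw [if_neg h2, if_neg (fun h : (a : ℕ) = (j : ℕ) + 1 => h2 (Fin.ext h))]

lemma exch (n : ℕ) (L : List (Fin n)) (i : Fin n) (h : (wp (st n) L i.succ : ℕ) < (wp (st n) L i.castSucc : ℕ)) :
    ∃ (L₁ L₂ : List (Fin n)) (j : Fin n), L = L₁ ++ j :: L₂ ∧ wp (st n) L₂ * st n i = st n j * wp (st n) L₂ := by
  induction L with
  | nil =>
    exfalso
    rw [wp_nil] at h
    change (i.succ : ℕ) < (i.castSucc : ℕ) at h
    simp at h
  | cons j L ih =>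
    by_cases h1 : (wp (st n) L i.succ : ℕ) < (wp (st n) L i.castSucc : ℕ)
    · obtain ⟨L₁, L₂, k, rfl, h2⟩ := ih h1
      exact ⟨j :: L₁, L₂, k, rfl, h2⟩
    · refine ⟨[], L, j, rfl, ?_⟩
      rw [wp_cons] at h
      change (st n j (wp (st n) L i.succ) : ℕ) < (st n j (wp (st n) L i.castSucc) : ℕ) at h
      rw [val_swap, val_swap] at h
      have hne : (wp (st n) L i.succ : ℕ) ≠ (wp (st n) L i.castSucc : ℕ) := by
        intro he
        have := (wp (st n) L).injective (Fin.ext he)
        have := congrArg Fin.val this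
        simp at this
      have h3 : (wp (st n) L i.castSucc : ℕ) = j.val ∧ (wp (st n) L i.succ : ℕ) = j.val + 1 := by
        split_ifs at h <;> omega
      have e1 : wp (st n) L i.castSucc = j.castSucc := Fin.ext h3.1
      have e2 : wp (st n) L i.succ = j.succ := Fin.ext h3.2
      unfold st
      rw [Equiv.mul_swap_eq_swap_mul]
      unfold st at e1 e2
      rw [e1, e2]

lemma lt_of_inv {n : ℕ} (w : Equiv.Perm (Fin (n + 1))) (i : Fin n) (h : (w i.succ : ℕ) < (w i.castSucc : ℕ)) : len (st n) (w * st n i) < len (st n) w := by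
  obtain ⟨L, hL, rfl⟩ := (genInv n).exists_red w
  obtain ⟨L₁, L₂, j, rfl, h2⟩ := exch n L i h
  have : wp (st n) (L₁ ++ j :: L₂) * st n i = wp (st n) (L₁ ++ L₂) := by
    rw [wp_append, wp_append, wp_cons, mul_assoc, mul_assoc, h2, (genInv n).cancel]
  rw [this, ← hL]
  have := len_le (s := st n) (L₁ ++ L₂)
  simp only [List.length_append, List.length_cons] at *
  omega

lemma lt_iff {n : ℕ} (w : Equiv.Perm (Fin (n + 1))) (i : Fin n) : (w i.succ : ℕ) < (w i.castSucc : ℕ) ↔ len (st n) (w * st n i) ≤ len (st n) w := by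
  constructor
  · intro h; exact (lt_of_inv w i h).le
  · intro h
    by_contra hc
    have hne : (w i.succ : ℕ) ≠ (w i.castSucc : ℕ) := by
      intro he
      have := w.injective (Fin.ext he)
      have := congrArg Fin.val this
      simp at this
    have h1 : ((w * st n i) i.succ : ℕ) < ((w * st n i) i.castSucc : ℕ) := by
      show (w (Equiv.swap i.castSucc i.succ i.succ) : ℕ) < (w (Equiv.swap i.castSucc i.succ i.castSucc) : ℕ)
      rw [Equiv.swap_apply_right, Equiv.swap_apply_left]
      omega
    have h2 := lt_of_inv _ i h1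
    rw [(genInv n).cancel'] at h2
    omega

lemma exchange (n : ℕ) : Exchange (st n) := by
  intro i L hL hlen
  have hinv : (wp (st n) L.reverse i.succ : ℕ) < (wp (st n) L.reverse i.castSucc : ℕ) := by
    rw [lt_iff, (genInv n).wp_reverse, ← (genInv n).len_inv, mul_inv_rev, inv_inv, (genInv n).inv_eq, (genInv n).len_inv]
    exact hlen
  obtain ⟨L₁, L₂, j, h1, h2⟩ := exch n _ i hinv
  refine ⟨L₂.reverse, L₁.reverse, j, ?_, ?_⟩
  · have := congrArg List.reverse h1
    simpa using this
  · rw [(genInv n).wp_reverse]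
    have := congrArg (·⁻¹) h2
    simp only [mul_inv_rev, (genInv n).inv_eq] at this
    exact this

lemma ord_adj {n : ℕ} (i j : Fin n) (h : i.val + 1 = j.val) : orderOf (st n i * st n j) = 3 := by
  have e : st n i * st n j = Equiv.swap i.succ i.castSucc * Equiv.swap i.succ j.succ := by
    unfold st
    rw [Equiv.swap_comm i.castSucc i.succ]
    congr 2
    exact Fin.ext (by simp [h])
  rw [e]
  apply Equiv.Perm.IsThreeCycle.orderOf
  apply Equiv.Perm.isThreeCycle_swap_mul_swap_same
  · intro h; have := congrArg Fin.val h; simp at this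
  · intro h; have := congrArg Fin.val h; simp at this; omega
  · intro h; have := congrArg Fin.val h; simp at this; omega

lemma ord_far {n : ℕ} (i j : Fin n) (h0 : i.val ≠ j.val) (h1 : i.val + 1 ≠ j.val) (h2 : j.val + 1 ≠ i.val) : orderOf (st n i * st n j) = 2 := by
  have hd : Equiv.Perm.Disjoint (st n i) (st n j) := by
    intro a
    by_cases ha : a.val = i.val ∨ a.val = i.val + 1
    · right
      apply Fin.ext
      rw [val_swap]
      split_ifs <;> omega
    · left
      apply Fin.ext
      rw [val_swap]
      split_ifs <;> omega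
  have hc := hd.commute
  apply orderOf_eq_prime
  · rw [sq]
    have : st n i * st n j * (st n i * st n j) = (st n i * st n i) * (st n j * st n j) := by
      rw [mul_assoc, ← mul_assoc (st n j), ← hc.eq]
      simp only [mul_assoc]
    rw [this, (genInv n).sq, (genInv n).sq, one_mul]
  · intro h
    have h3 : (st n i * st n j) i.castSucc = i.castSucc := by rw [h]; rfl
    have h4 := congrArg Fin.val h3
    change (st n i (st n j i.castSucc) : ℕ) = _ at h4
    rw [val_swap, val_swap] at h4
    simp only [Fin.val_castSucc] at h4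
    split_ifs at h4 <;> omega

/-- The Coxeter presentation of the symmetric group: for every n, the symmetric group on n+1 letters is the Coxeter group of type A_n with the adjacent transpositions (i, i+1) as simple reflections; that is, it is presented by generators r_1, …, r_n subject to r_i² = 1, (r_i r_j)² = 1 for |i − j| > 1 and (r_i r_{i+1})³ = 1, with r_i mapping to (i, i+1). -/
theorem result (n : ℕ) :
    ∃ cs : CoxeterSystem (CoxeterMatrix.A n) (Equiv.Perm (Fin (n + 1))), ∀ i : Fin n, cs.simple i = Equiv.swap i.castSucc i.succ := by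
  obtain ⟨cs, hcs⟩ := Cfsg.Agent.H22.exists_coxeterSystem (genInv n) (exchange n) (by
    intro i h
    have h1 : st n i i.castSucc = i.castSucc := by rw [h]; rfl
    have h2 := congrArg Fin.val h1
    rw [val_swap] at h2
    simp at h2) (CoxeterMatrix.A n) (by
    intro i j hij
    have hij' : i.val ≠ j.val := fun h => hij (Fin.ext h)
    show (if i = j then 1 else (if (j : ℕ) + 1 = i ∨ (i : ℕ) + 1 = j then 3 else 2)) = _
    rw [if_neg hij]
    by_cases h : (j : ℕ) + 1 = i ∨ (i : ℕ) + 1 = j
    · rw [if_pos h]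
      rcases h with h | h
      · rw [Cfsg.Agent.H22.orderOf_mul_comm', ord_adj j i h]
      · rw [ord_adj i j h]
    · rw [if_neg h]
      push Not at h
      rw [ord_far i j hij' h.2 h.1])
  exact ⟨cs, fun i => by rw [hcs]; rfl⟩

end Cfsg.Agent.S2530
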