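import Cfsg.Statements.S0088
import Cfsg.Agent.H2.Conj

set_option autoImplicit false
set_option linter.style.haveILetI false
set_option linter.unusedVariables false
set_option linter.unusedSectionVars false
open Cfsg

namespace Cfsg.Agent.S0088

open scoped IsMulCommutative in
theorem aux {G : Type*} [Group G] [Finite G] (H : Subgroup G) (hc : IsMulCommutative H)
    (hHall : Nat.Coprime (Nat.card H) H.index) {x : G} (hx : x ∈ H) (hx' : x ∈ commutator G)
    (hz : x ∈ Subgroup.center G) : x = 1 := by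
  haveI := hc
  let V : G →* H := MonoidHom.transfer (MonoidHom.id H)
  have h1 : V x = 1 := by
    have := Abelianization.commutator_subset_ker V hx'
    exact this
  have key : ∀ (k : ℕ) (g₀ : G), g₀⁻¹ * x ^ k * g₀ ∈ H → g₀⁻¹ * x ^ k * g₀ = x ^ k := by
    intro k g₀ _
    rw [mul_assoc, ← (Subgroup.mem_center_iff.1 (pow_mem hz k)) g₀, inv_mul_cancel_left]
  have h2 := MonoidHom.transfer_eq_pow (MonoidHom.id H) x key
  have h3 : x ^ H.index = 1 := by
    have h4 : V x = _ := h2
    rw [h1] at h4
    exact (congrArg Subtype.val h4).symm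
  have h5 : orderOf x ∣ H.index := orderOf_dvd_of_pow_eq_one h3
  have h6 : orderOf x ∣ Nat.card H := H2.orderOf_dvd_card_of_mem hx
  have h7 := Nat.dvd_gcd h6 h5
  rw [hHall.gcd_eq_one] at h7
  exact orderOf_eq_one_iff.1 (Nat.dvd_one.1 h7)

/-- An abelian Hall subgroup meets G' ∩ Z(G) trivially. -/
theorem result {G : Type*} [Group G] [Finite G] (H : Subgroup G) (hc : IsMulCommutative H) (hHall : Nat.Coprime (Nat.card H) H.index) : H ⊓ commutator G ⊓ Subgroup.center G = ⊥ := by
  rw [eq_bot_iff]
  rintro x ⟨⟨h1, h2⟩, h3⟩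
  exact Subgroup.mem_bot.2 (aux H hc hHall h1 h2 h3)

end Cfsg.Agent.S0088
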