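import Cfsg.Statements.S2202
import Cfsg.Agent.H4.IAh

set_option autoImplicit false
open Cfsg

namespace Cfsg.Agent.S2202

/-- Finite groups in which the centralizer of every involution is abelian. Let G be a finite group of even order in which the centralizer of every element of order 2 is abelian. Then the Sylow 2-subgroups of G are cyclic, or a Sylow 2-subgroup of G is normal, or G is isomorphic to the direct product of SL₂(F) for a finite field F of characteristic two and an abelian group of odd order. -/
theorem result {G : Type*} [Group G] [Finite G] (heven : Even (Nat.card G)) (h : ∀ t : G, orderOf t = 2 → IsMulCommutative ↥(Subgroup.centralizer ({t} : Set G))) :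
    (∀ P : Sylow 2 G, IsCyclic ↥P) ∨ (∀ P : Sylow 2 G, (P : Subgroup G).Normal) ∨
    (∃ (F : Type) (_ : Field F) (_ : Fintype F) (A : Type) (_ : CommGroup A) (_ : Finite A), CharP F 2 ∧ Odd (Nat.card A) ∧ Nonempty (G ≃* Matrix.SpecialLinearGroup (Fin 2) F × A)) := by
  classical
  by_contra hcon
  push Not at hcon
  obtain ⟨⟨P, hP⟩, ⟨Q, hQ⟩, h3⟩ := hcon
  haveI : Fact (Nat.Prime 2) := ⟨Nat.prime_two⟩
  have hPn : ¬ (P : Subgroup G).Normal := by
    intro hn
    apply hQ
    have h1 : Q = P := by
      obtain ⟨g, hg⟩ := MulAction.exists_smul_eq G P Q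
      rw [← hg]
      exact Sylow.smul_eq_of_normal
    rw [h1]; exact hn
  have hIA := Cfsg.Agent.H4.IA_of h P hP hPn
  obtain ⟨F, i1, i2, A, i3, i4, hc, ho, hn⟩ := hIA.split (fun S => ⟨⟨fun a b => Subtype.ext
    (Cfsg.Agent.H4.sylow_comm_of h S a.2 b.2)⟩⟩)
  obtain ⟨e⟩ := hn
  exact (h3 F i1 i2 A i3 i4 hc ho).elim e

end Cfsg.Agent.S2202
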