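import Cfsg.Statements.S0802
import Mathlib
import Cfsg.Agent.H5.PSLA4
import Cfsg.Agent.S0252

set_option autoImplicit false
open Cfsg

namespace Cfsg.Agent.S0802

theorem a4_rels : ∃ X Y T : alternatingGroup (Fin 4), X * X = 1 ∧ X ≠ 1 ∧ X * Y = Y * X ∧ T * X * T⁻¹ = Y ∧
    T * Y * T⁻¹ = X * Y :=
  ⟨⟨Equiv.swap 0 1 * Equiv.swap 2 3, by rw [Equiv.Perm.mem_alternatingGroup]; decide⟩,
    ⟨Equiv.swap 1 2 * Equiv.swap 0 3, by rw [Equiv.Perm.mem_alternatingGroup]; decide⟩,
    ⟨Equiv.swap 0 1 * Equiv.swap 1 2, by rw [Equiv.Perm.mem_alternatingGroup]; decide⟩,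
    by decide, by decide, by decide, by decide, by decide⟩

/-- PSL_2(p^n) has a subgroup isomorphic to A_4 if and only if it is not the case that p = 2 and n is odd. -/
theorem result {F : Type*} [Field F] [Fintype F] (p n : ℕ) [Fact p.Prime] [CharP F p] (hF : Fintype.card F = p ^ n) : (∃ H : Subgroup (Matrix.ProjectiveSpecialLinearGroup (Fin 2) F), Nonempty (H ≃* alternatingGroup (Fin 4))) ↔ ¬ (p = 2 ∧ Odd n) := by
  classical
  have hpp : p.Prime := Fact.out
  have hn0 : n ≠ 0 := by
    rintro rfl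
    have := Fintype.one_lt_card (α := F)
    rw [hF, pow_zero] at this
    omega
  constructor
  · rintro ⟨H, ⟨e⟩⟩ ⟨rfl, hodd⟩
    have h2 : (2 : F) = 0 := by
      have := CharP.cast_eq_zero F 2
      exact_mod_cast this
    have hinj := Cfsg.Agent.H5.pi_injective_of_two h2
    obtain ⟨X, Y, T, r1, r2, r3, r4, r5⟩ := a4_rels
    let f : alternatingGroup (Fin 4) →* Matrix.ProjectiveSpecialLinearGroup (Fin 2) F :=
      H.subtype.comp e.symm.toMonoidHom
    have hf : Function.Injective f := (Subgroup.subtype_injective _).comp e.symm.injective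
    obtain ⟨x, hx⟩ := QuotientGroup.mk'_surjective (Subgroup.center (Matrix.SpecialLinearGroup (Fin 2) F)) (f X)
    obtain ⟨y, hy⟩ := QuotientGroup.mk'_surjective (Subgroup.center (Matrix.SpecialLinearGroup (Fin 2) F)) (f Y)
    obtain ⟨t, ht⟩ := QuotientGroup.mk'_surjective (Subgroup.center (Matrix.SpecialLinearGroup (Fin 2) F)) (f T)
    obtain ⟨b, hb, hb1⟩ := Cfsg.Agent.H5.root_of_A4 h2 x y t
      (hinj (by rw [map_mul, hx, ← map_mul, r1, map_one, map_one]))
      (fun h => r2 (hf (by rw [map_one, ← hx, h, map_one])))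
      (hinj (by rw [map_mul, map_mul, hx, hy, ← map_mul, r3, map_mul]))
      (hinj (by rw [map_mul, map_mul, map_inv, hx, hy, ht, ← r4, map_mul, map_mul, map_inv]))
      (hinj (by
        rw [map_mul, map_mul, map_inv, map_mul, hx, hy, ht]
        have := congrArg f r5
        rwa [map_mul, map_mul, map_inv, map_mul] at this))
    have h3 := Cfsg.Agent.H5.three_dvd_of_root hb hb1
    rw [hF] at h3
    obtain ⟨k, rfl⟩ := hodd
    have h4 : ∃ m, 2 ^ (2 * k + 1) = 3 * m + 2 := by
      clear h3 hF hn0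
      induction k with
      | zero => exact ⟨0, by norm_num⟩
      | succ k ih =>
        obtain ⟨m, hm⟩ := ih
        refine ⟨4 * m + 2, ?_⟩
        rw [show 2 * (k + 1) + 1 = (2 * k + 1) + 2 by ring, pow_add, hm]
        ring
    obtain ⟨m, hm⟩ := h4
    rw [hm] at h3
    omega
  · intro hne
    by_cases hp2 : p = 2
    · subst hp2
      have hev : Even n := by
        rw [← Nat.not_odd_iff_even]; exact fun h => hne ⟨rfl, h⟩
      obtain ⟨k, hk⟩ := hev
      haveI : Fact (Nat.Prime 2) := ⟨Nat.prime_two⟩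
      have hK : Nat.card (GaloisField 2 2) = 4 := by rw [GaloisField.card 2 2 (by norm_num)]; norm_num
      haveI : Finite (GaloisField 2 2) := Nat.finite_of_card_ne_zero (by rw [hK]; norm_num)
      haveI := Fintype.ofFinite (GaloisField 2 2)
      obtain ⟨ι⟩ := Cfsg.Agent.H5.exists_ringHom_of_card (K := GaloisField 2 2) (F := F) (m := k) (by
        rw [hK, Nat.card_eq_fintype_card, hF, hk, ← two_mul, pow_mul]
        norm_num)
      obtain ⟨f, hf⟩ := Cfsg.Agent.H5.psl_embed (n := 2) ι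
      obtain ⟨e⟩ := Cfsg.Agent.S0252.result (F := GaloisField 2 2) (by rw [← Nat.card_eq_fintype_card, hK])
      obtain ⟨g, hg⟩ := Cfsg.Agent.H5.exists_hom_A4_A5
      exact Cfsg.Agent.H5.exists_subgroup_of_inj (f.comp (e.symm.toMonoidHom.comp g))
        (hf.comp (e.symm.injective.comp hg))
    · have hodd : Odd (Fintype.card F) := by rw [hF]; exact (hpp.odd_of_ne_two hp2).pow
      have h2 := Cfsg.Agent.H5.two_ne_zero_of_odd hodd
      obtain ⟨V, hV⟩ := Cfsg.Agent.H5.psl_exists_klein (F := F) h2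
      exact Cfsg.Agent.H5.exists_A4_of_klein (Cfsg.Agent.H5.psl_klein_count h2) (Cfsg.Agent.H5.psl_klein_cent h2) hV

end Cfsg.Agent.S0802
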