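import Cfsg.Statements.S0803
import Mathlib
import Cfsg.Agent.H5.PSLA4

set_option autoImplicit false
open Cfsg

namespace Cfsg.Agent.S0803

/-- PSL_2(q) has a subgroup isomorphic to S_4 iff q² ≡ 1 (mod 16). -/
theorem result {F : Type*} [Field F] [Fintype F] {q : ℕ} (hF : Fintype.card F = q) : (∃ H : Subgroup (Matrix.ProjectiveSpecialLinearGroup (Fin 2) F), Nonempty (H ≃* Equiv.Perm (Fin 4))) ↔ q ^ 2 % 16 = 1 := by
  classical
  have hq1 : 1 < q := hF ▸ Fintype.one_lt_card
  have hcard := Cfsg.Agent.H5.card_PSL2 hF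
  constructor
  · rintro ⟨H, ⟨e⟩⟩
    rcases Nat.even_or_odd q with hev | hodd
    · exfalso
      -- an element of order four in even characteristic
      obtain ⟨p, hp⟩ := CharP.exists F
      haveI : Fact p.Prime := ⟨CharP.char_is_prime F p⟩
      obtain ⟨n, -, hn⟩ := FiniteField.card F p
      have hp2 : p = 2 := by
        have h1 : 2 ∣ p := by
          have := hev.two_dvd
          rw [← hF, hn] at this
          exact Nat.prime_two.dvd_of_dvd_pow this
        exact ((Nat.prime_dvd_prime_iff_eq Nat.prime_two Fact.out).1 h1).symm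
      subst hp2
      have h2 : (2 : F) = 0 := by
        have := CharP.cast_eq_zero F 2
        exact_mod_cast this
      have hinj := Cfsg.Agent.H5.pi_injective_of_two h2
      let c : Equiv.Perm (Fin 4) := c[0, 1, 2, 3]
      have hc4 : c ^ 4 = 1 := by decide
      have hc2 : c ^ 2 ≠ 1 := by decide
      obtain ⟨g, hg⟩ := QuotientGroup.mk'_surjective (Subgroup.center (Matrix.SpecialLinearGroup (Fin 2) F))
        ((e.symm c : H) : Matrix.ProjectiveSpecialLinearGroup (Fin 2) F)
      have hg4 : g ^ 4 = 1 := by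
        apply hinj
        rw [map_pow, hg, map_one, ← Subgroup.coe_pow, ← map_pow, hc4, map_one, Subgroup.coe_one]
      have hg2 : g ^ 2 ≠ 1 := by
        intro h
        apply hc2
        apply e.symm.injective
        rw [map_pow, map_one]
        apply Subtype.ext
        rw [Subgroup.coe_pow, ← hg, ← map_pow, h, map_one, Subgroup.coe_one]
      have hord : orderOf g = 2 ^ (1 + 1) := orderOf_eq_prime_pow (by simpa using hg2) (by simpa using hg4)
      have hco : ∀ n : ℕ, (g : Matrix (Fin 2) (Fin 2) F) ^ n = 1 → orderOf g ∣ n := by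
        intro n h
        apply orderOf_dvd_of_pow_eq_one
        apply Subtype.ext
        rw [Matrix.SpecialLinearGroup.coe_pow, h, Matrix.SpecialLinearGroup.coe_one]
      rcases Cfsg.Agent.H22.sl2_cases 2 g with h | h | ⟨a, ha⟩
      · have := hco _ h
        rw [hord, hF] at this
        obtain ⟨k, hk⟩ := hev
        omega
      · have := hco _ h
        rw [hord, hF] at this
        obtain ⟨k, hk⟩ := hev
        omega
      · apply hg2
        apply Subtype.ext
        rw [Matrix.SpecialLinearGroup.coe_pow, Matrix.SpecialLinearGroup.coe_one, ha]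
        have hd : ((g ^ 2 : Matrix.SpecialLinearGroup (Fin 2) F) : Matrix (Fin 2) (Fin 2) F).det = 1 := (g ^ 2).2
        rw [Matrix.SpecialLinearGroup.coe_pow, ha] at hd
        have hd2 : a ^ 2 = 1 := by simpa using hd
        have h3 : (a - 1) ^ 2 = 0 := by linear_combination hd2 + (1 - a) * h2
        have h4 : a = 1 := by
          have := pow_eq_zero_iff (two_ne_zero) |>.1 h3
          linear_combination this
        rw [h4, one_smul]
    · have hg : Nat.gcd 2 (q - 1) = 2 := by
        rw [Nat.gcd_eq_left_iff_dvd]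
        obtain ⟨k, hk⟩ := hodd
        rw [hk]; simp
      rw [hg] at hcard
      have h24 : 24 ∣ Nat.card (Matrix.ProjectiveSpecialLinearGroup (Fin 2) F) := by
        have h1 := H.card_subgroup_dvd_card
        rw [Nat.card_congr e.toEquiv, Nat.card_perm, Nat.card_fin] at h1
        exact h1
      obtain ⟨c, hc⟩ := h24
      rw [hc] at hcard
      have h16 : 16 ∣ q * (q ^ 2 - 1) := ⟨3 * c, by rw [← hcard]; ring⟩
      have hcop : Nat.Coprime 16 q := by
        rw [show (16 : ℕ) = 2 ^ 4 by norm_num]
        apply Nat.Coprime.pow_left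
        rw [Nat.coprime_two_left]
        exact hodd
      obtain ⟨m, hm⟩ := hcop.dvd_of_dvd_mul_left h16
      have h1 : 1 ≤ q ^ 2 := Nat.one_le_pow _ _ (by omega)
      omega
  · intro h16
    have hodd : Odd q := by
      by_contra hne
      rw [Nat.not_odd_iff_even] at hne
      obtain ⟨k, hk⟩ := hne
      have : q ^ 2 = 4 * (k * k) := by rw [hk]; ring
      omega
    have hg : Nat.gcd 2 (q - 1) = 2 := by
      rw [Nat.gcd_eq_left_iff_dvd]
      obtain ⟨k, hk⟩ := hodd
      rw [hk]; simp
    rw [hg] at hcard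
    have h2 := Cfsg.Agent.H5.two_ne_zero_of_odd (F := F) (by rw [hF]; exact hodd)
    have h8 : 8 ∣ Nat.card (Matrix.ProjectiveSpecialLinearGroup (Fin 2) F) := by
      obtain ⟨m, hm⟩ : ∃ m, q ^ 2 - 1 = 16 * m := ⟨q ^ 2 / 16, by omega⟩
      rw [hm] at hcard
      refine ⟨q * m, ?_⟩
      have : q * (16 * m) = 2 * (8 * (q * m)) := by ring
      omega
    obtain ⟨V, hV⟩ := Cfsg.Agent.H5.psl_exists_klein (F := F) h2
    have hall := Cfsg.Agent.H5.psl_klein_count h2
    have hcent := Cfsg.Agent.H5.psl_klein_cent h2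
    have h24 := Cfsg.Agent.H5.card_normalizer_24 hall hcent h8 hV
    rcases Cfsg.Agent.H5.klein_perm4 hall hcent hV with ⟨h, -⟩ | ⟨-, h⟩
    · omega
    · exact ⟨_, h⟩

end Cfsg.Agent.S0803
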