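import Cfsg.Statements.S0804
import Mathlib
import Cfsg.Agent.H5.PSLA5

set_option autoImplicit false
open Cfsg

namespace Cfsg.Agent.S0804

/-- PSL_2(q) has a subgroup isomorphic to A_5 iff 5 ∣ q(q² − 1). -/
theorem result {F : Type*} [Field F] [Fintype F] {q : ℕ} (hF : Fintype.card F = q) : (∃ H : Subgroup (Matrix.ProjectiveSpecialLinearGroup (Fin 2) F), Nonempty (H ≃* alternatingGroup (Fin 5))) ↔ 5 ∣ q * (q ^ 2 - 1) := by
  constructor
  · rintro ⟨H, ⟨e⟩⟩
    have hcard := Cfsg.Agent.H5.card_PSL2 hF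
    rw [← hcard]
    have h60 : Nat.card (alternatingGroup (Fin 5)) = 60 := by
      rw [Nat.card_eq_fintype_card]
      have := two_mul_card_alternatingGroup (α := Fin 5)
      rw [Fintype.card_perm, Fintype.card_fin] at this
      have h7 : Nat.factorial 5 = 120 := rfl
      omega
    have h1 := H.card_subgroup_dvd_card
    rw [Nat.card_congr e.toEquiv, h60] at h1
    exact ((by norm_num : (5 : ℕ) ∣ 60).trans h1).trans (dvd_mul_left _ _)
  · intro h5
    obtain ⟨f, hf⟩ := Cfsg.Agent.H5.psl_has_a5 (F := F) (by rw [hF]; exact h5)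
    exact Cfsg.Agent.H5.exists_subgroup_of_inj f hf

end Cfsg.Agent.S0804
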