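import Cfsg.Statements.S0805
import Mathlib
import Cfsg.Agent.H5.PGLEmb
import Cfsg.Agent.H5.SL2Inv

set_option autoImplicit false
open Cfsg

namespace Cfsg.Agent.S0805

/-- Subfield subgroups: let F be a finite field of odd order q and K a finite field with |K|^m = q, m ≥ 1. Then PSL_2(F) has a subgroup isomorphic to PSL_2(K), and has a subgroup isomorphic to PGL_2(K) if and only if m is even. -/
theorem result {F K : Type*} [Field F] [Fintype F] [Field K] [Fintype K] {q : ℕ} (hF : Fintype.card F = q) (hodd : Odd q) (m : ℕ) (hm : 1 ≤ m) (hK : Fintype.card K ^ m = q) : (∃ H : Subgroup (Matrix.ProjectiveSpecialLinearGroup (Fin 2) F), Nonempty (H ≃* Matrix.ProjectiveSpecialLinearGroup (Fin 2) K)) ∧ ((∃ H : Subgroup (Matrix.ProjectiveSpecialLinearGroup (Fin 2) F), Nonempty (H ≃* Matrix.ProjGenLinGroup (Fin 2) K)) ↔ Even m) := by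
  classical
  have h2 := Cfsg.Agent.H5.two_ne_zero_of_odd (F := F) (by rw [hF]; exact hodd)
  obtain ⟨ι⟩ := Cfsg.Agent.H5.exists_ringHom_of_card (K := K) (F := F) (m := m) (by
    rw [Nat.card_eq_fintype_card, Nat.card_eq_fintype_card, hK, hF])
  refine ⟨?_, ?_, ?_⟩
  · obtain ⟨f, hf⟩ := Cfsg.Agent.H5.psl_embed (n := 2) ι
    exact Cfsg.Agent.H5.exists_subgroup_of_inj f hf
  · rintro ⟨H, ⟨e⟩⟩
    by_contra hme
    rw [Nat.not_even_iff_odd] at hme
    have h1 := H.card_subgroup_dvd_card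
    rw [Nat.card_congr e.toEquiv, Cfsg.Agent.H5.card_PGL2 rfl] at h1
    have hcard := Cfsg.Agent.H5.card_PSL2 hF
    have hg : Nat.gcd 2 (q - 1) = 2 := by
      rw [Nat.gcd_eq_left_iff_dvd]
      obtain ⟨k, hk⟩ := hodd
      rw [hk]; simp
    rw [hg] at hcard
    set k := Fintype.card K with hk
    have hk1 : 1 < k := Fintype.one_lt_card
    have hkodd : Odd k := by
      by_contra hne
      rw [Nat.not_odd_iff_even] at hne
      have : Even q := by rw [← hK]; exact hne.pow_of_ne_zero (by omega)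
      exact (Nat.not_even_iff_odd.2 hodd) this
    -- q ^ 2 - 1 = (k ^ 2 - 1) * S with S odd
    have hS : (k ^ 2 - 1) * (∑ i ∈ Finset.range m, (k ^ 2) ^ i) = q ^ 2 - 1 := by
      have h3 : 1 ≤ (k ^ 2) ^ m := Nat.one_le_pow _ _ (by positivity)
      have h4 : 1 ≤ k ^ 2 := Nat.one_le_pow _ _ (by positivity)
      have h5 : ((k ^ 2 : ℤ) - 1) * (∑ i ∈ Finset.range m, ((k : ℤ) ^ 2) ^ i) = ((k : ℤ) ^ 2) ^ m - 1 := mul_geom_sum _ _
      have h6 : q ^ 2 = (k ^ 2) ^ m := by rw [← hK]; ring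
      rw [h6]
      zify [h3, h4]
      exact h5
    have hSodd : Odd (∑ i ∈ Finset.range m, (k ^ 2) ^ i) := by
      rw [Nat.odd_iff]
      rw [Finset.sum_nat_mod]
      have h7 : ∀ i ∈ Finset.range m, (k ^ 2) ^ i % 2 = 1 := by
        intro i _
        exact Nat.odd_iff.1 (hkodd.pow.pow)
      rw [Finset.sum_congr rfl h7]
      simp
      exact Nat.odd_iff.1 hme
    obtain ⟨c, hc⟩ := h1
    rw [hc, ← hS] at hcard
    have hpos : 0 < k ^ 2 - 1 := by
      have : 1 < k ^ 2 := Nat.one_lt_pow (by norm_num) hk1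
      omega
    have h8 : (k ^ 2 - 1) * (2 * (k * c)) = (k ^ 2 - 1) * (q * (∑ i ∈ Finset.range m, (k ^ 2) ^ i)) := by
      calc (k ^ 2 - 1) * (2 * (k * c)) = 2 * (k * (k ^ 2 - 1) * c) := by ring
        _ = q * ((k ^ 2 - 1) * (∑ i ∈ Finset.range m, (k ^ 2) ^ i)) := hcard
        _ = _ := by ring
    have h9 := Nat.eq_of_mul_eq_mul_left hpos h8
    have h10 : Odd (q * (∑ i ∈ Finset.range m, (k ^ 2) ^ i)) := hodd.mul hSodd
    rw [← h9] at h10
    exact (Nat.not_even_iff_odd.2 h10) ⟨k * c, by ring⟩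
  · intro hme
    exact Cfsg.Agent.H5.pgl_embed_psl ι (Cfsg.Agent.H5.isSquare_of_even ι hme (by rw [hK, hF]) h2)

end Cfsg.Agent.S0805
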