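import Cfsg.Statements.S1030
import Cfsg.Agent.H22.ChevPar
import Cfsg.Agent.H22.SL2Hom

set_option autoImplicit false
set_option linter.all false
open Cfsg

namespace Cfsg.Agent.S1030

open Cfsg.Agent.H6 Cfsg.Agent.H22

open Cfsg.Lie in
theorem conj_all {D : ChevalleyDatum} {N : ℕ} {η : ℕ → ℕ → ℤ} {rc : ℕ → ℕ → ℤ} {F : Type*} [Field F]
    (hG : Good D N η rc) (hE : H6.Ext D rc) : ∀ r < D.nroots, ∀ t : F, t ≠ 0 → ∀ u : F,
    nX D (xg D F) r t * xg D F r u * (nX D (xg D F) r t)⁻¹ = xg D F (D.neg r) (-(t⁻¹ ^ 2 * u)) := by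
  apply hG.root_induction (p := fun r => ∀ t : F, t ≠ 0 → ∀ u : F,
    nX D (xg D F) r t * xg D F r u * (nX D (xg D F) r t)⁻¹ = xg D F (D.neg r) (-(t⁻¹ ^ 2 * u)))
  · intro i hi t ht u
    have h1 := hG.ngr_conj_xg hi (Units.mk0 t ht) (hG.simple_lt i hi) u
    rw [hG.w_simple, hG.eta_simple i hi, hG.cartan_diag i hi] at h1
    change nX D (xg D F) (D.simple i) t * _ * (nX D (xg D F) (D.simple i) t)⁻¹ = _ at h1
    rw [h1]
    congr 1
    rw [zpow_neg, Units.val_inv_eq_inv_val]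
    push_cast
    rw [Units.val_mk0]
    have : (t ^ (2 : ℤ) : F) = t ^ 2 := by norm_cast
    rw [this, inv_pow]
    ring
  · intro i hi r hr ih t ht u
    obtain ⟨χ, hm⟩ := hG.mon_ng (F := F) hE ⟨i, hi⟩
    have hχ : ((χ ⟨r, hr⟩ : Fˣ) : F) ≠ 0 := Units.ne_zero _
    have h1 := ih ((χ ⟨r, hr⟩ : F)⁻¹ * t) (mul_ne_zero (inv_ne_zero hχ) ht) ((χ ⟨r, hr⟩ : F)⁻¹ * u)
    have h2 := hm.conj_nX ⟨r, hr⟩ ((χ ⟨r, hr⟩ : F)⁻¹ * t)
    have h3 := hm.act ⟨r, hr⟩ ((χ ⟨r, hr⟩ : F)⁻¹ * u)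
    rw [← mul_assoc, mul_inv_cancel₀ hχ, one_mul] at h2 h3
    have h4 := hm.act (hG.ngf ⟨r, hr⟩) (-(((χ ⟨r, hr⟩ : F)⁻¹ * t)⁻¹ ^ 2 * ((χ ⟨r, hr⟩ : F)⁻¹ * u)))
    rw [hm.neg, hG.W_neg] at h4
    change ng D F i * nX D (xg D F) r _ * (ng D F i)⁻¹ = nX D (xg D F) (D.reflectRoot i r) t at h2
    change ng D F i * xg D F r _ * (ng D F i)⁻¹ = xg D F (D.reflectRoot i r) u at h3
    change ng D F i * xg D F (D.neg r) _ * (ng D F i)⁻¹ = xg D F (D.neg (D.reflectRoot i r)) _ at h4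
    rw [← h2, ← h3]
    have e : ng D F i * nX D (xg D F) r ((χ ⟨r, hr⟩ : F)⁻¹ * t) * (ng D F i)⁻¹ *
        (ng D F i * xg D F r ((χ ⟨r, hr⟩ : F)⁻¹ * u) * (ng D F i)⁻¹) *
        (ng D F i * nX D (xg D F) r ((χ ⟨r, hr⟩ : F)⁻¹ * t) * (ng D F i)⁻¹)⁻¹ =
        ng D F i * (nX D (xg D F) r ((χ ⟨r, hr⟩ : F)⁻¹ * t) * xg D F r ((χ ⟨r, hr⟩ : F)⁻¹ * u) *
          (nX D (xg D F) r ((χ ⟨r, hr⟩ : F)⁻¹ * t))⁻¹) * (ng D F i)⁻¹ := by group
    rw [e, h1, h4]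
    congr 1
    rw [Units.val_inv_eq_inv_val]
    field_simp

open Cfsg.Lie in
theorem sl2rel {D : ChevalleyDatum} {N : ℕ} {η : ℕ → ℕ → ℤ} {rc : ℕ → ℕ → ℤ} {F : Type*} [Field F]
    (hG : Good D N η rc) (hE : H6.Ext D rc) {r : ℕ} (hr : r < D.nroots) :
    SL2Rel (xg D F r) (xg D F (D.neg r)) where
  addX := fun t u => hG.xg_add r t u
  addY := fun t u => hG.xg_add _ t u
  conj := fun t ht u => conj_all hG hE r hr t ht u
  hmul := fun c d hc hd => by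
    have := hG.hgr_mul (F := F) hr (Units.mk0 c hc) (Units.mk0 d hd)
    exact this

/-- There is a homomorphism `SL₂(F) → GL` with image `⟨X_r, X_{-r}⟩` sending `[[1,t],[0,1]]` to `x_r(t)` and `[[1,0],[t,1]]` to `x_{-r}(t)`. -/
theorem result {F : Type*} [Field F] (D : Cfsg.Lie.ChevalleyDatum) (hD : D ∈ [Cfsg.Lie.chevG2, Cfsg.Lie.chevB2, Cfsg.Lie.chevD4, Cfsg.Lie.chevF4, Cfsg.Lie.chevE6, Cfsg.Lie.chevE7, Cfsg.Lie.chevE8]) (r : ℕ) (hr : r < D.nroots) :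
    ∃ φ : Matrix.SpecialLinearGroup (Fin 2) F →* GL D.Idx F,
      φ.range = D.rootSubgroup F r ⊔ D.rootSubgroup F (D.neg r) ∧
      ∀ (g : Matrix.SpecialLinearGroup (Fin 2) F) (t : F),
        ((g : Matrix (Fin 2) (Fin 2) F) = !![1, t; 0, 1] → ((φ g : GL D.Idx F) : Matrix D.Idx D.Idx F) = D.x F r t) ∧
        ((g : Matrix (Fin 2) (Fin 2) F) = !![1, 0; t, 1] → ((φ g : GL D.Idx F) : Matrix D.Idx D.Idx F) = D.x F (D.neg r) t) := by
  obtain ⟨N, η, rc, hG, hE⟩ := exists_ext hD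
  obtain ⟨φ, h1, h2⟩ := exists_sl2_hom (sl2rel (F := F) hG hE hr)
  refine ⟨φ, ?_, ?_⟩
  · apply le_antisymm
    · have : (⊤ : Subgroup (Matrix.SpecialLinearGroup (Fin 2) F)) ≤ (D.rootSubgroup F r ⊔ D.rootSubgroup F (D.neg r)).comap φ := by
        have hK : (D.rootSubgroup F r ⊔ D.rootSubgroup F (D.neg r)).comap φ = ⊤ := by
          have hx : ∀ t, ux t ∈ (D.rootSubgroup F r ⊔ D.rootSubgroup F (D.neg r)).comap φ := fun t => by
            rw [Subgroup.mem_comap, h1]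
            exact Subgroup.mem_sup_left (hG.mem_rootSubgroup.2 ⟨t, rfl⟩)
          have hy : ∀ t, uy t ∈ (D.rootSubgroup F r ⊔ D.rootSubgroup F (D.neg r)).comap φ := fun t => by
            rw [Subgroup.mem_comap, h2]
            exact Subgroup.mem_sup_right (hG.mem_rootSubgroup.2 ⟨t, rfl⟩)
          apply sl2_gen hx
          have e : (uw : Matrix.SpecialLinearGroup (Fin 2) F) = ux 1 * uy (-1) * ux 1 := by
            apply Subtype.ext
            show (uw : Matrix.SpecialLinearGroup (Fin 2) F).1 = (ux 1).1 * (uy (-1)).1 * (ux 1).1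
            simp only [uw, ux, uy]
            rw [Matrix.mul_fin_two, Matrix.mul_fin_two]
            simp
          rw [e]
          exact mul_mem (mul_mem (hx _) (hy _)) (hx _)
        rw [hK]
      rintro _ ⟨g, rfl⟩
      exact this (Subgroup.mem_top g)
    · refine sup_le ?_ ?_
      · intro g hg
        obtain ⟨t, rfl⟩ := hG.mem_rootSubgroup.1 hg
        exact ⟨ux t, h1 t⟩
      · intro g hg
        obtain ⟨t, rfl⟩ := hG.mem_rootSubgroup.1 hg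
        exact ⟨uy t, h2 t⟩
  · intro g t
    constructor
    · intro hg
      have : g = ux t := Subtype.ext hg
      rw [this, h1, hG.coe_xg]
    · intro hg
      have : g = uy t := Subtype.ext hg
      rw [this, h2, hG.coe_xg]

end Cfsg.Agent.S1030
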