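import Cfsg.Statements.S1536
import Cfsg.Agent.H3.Fix

set_option autoImplicit false
open Cfsg Cfsg.Agent.H3

namespace Cfsg.Agent.S1536

/-- Let H be a normal subgroup of the finite group M whose order is coprime to its index. For x ∈ M: some non-principal irreducible character of H is unchanged under h ↦ θ(x h x⁻¹) if and only if some non-identity element of H commutes with x. -/
theorem result {M : Type*} [Group M] [Finite M] (H : Subgroup M) [hN : H.Normal] (hHall : Nat.Coprime (Nat.card H) H.index) (x : M) : (∃ θ : H → ℂ, Cfsg.IsIrrCharacter H θ ∧ θ ≠ (fun _ => 1) ∧ (fun h : H => θ ⟨x * h * x⁻¹, hN.conj_mem h h.2 x⟩) = θ) ↔ ∃ h ∈ H, h ≠ 1 ∧ x * h = h * x := by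
  classical
  haveI := Fintype.ofFinite M
  have hcard := card_fixed_irr hN x
  constructor
  · rintro ⟨θ, hθ, hθ1, hθx⟩
    -- two fixed characters
    have h2 : 1 < Nat.card {χ : IrrCharacter H // cj hN x (χ : H → ℂ) = χ} := by
      rw [Finite.one_lt_card_iff_nontrivial]
      refine ⟨⟨⟨⟨θ, hθ⟩, hθx⟩, ⟨⟨fun _ => 1, isIrr_one⟩, rfl⟩, fun h => hθ1 ?_⟩⟩
      exact congrArg (fun z : {χ : IrrCharacter H // cj hN x (χ : H → ℂ) = χ} => (z.1 : H → ℂ)) h
    rw [hcard, Finite.one_lt_card_iff_nontrivial] at h2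
    have hone : ConjClasses.map (cjEquiv hN x).toMonoidHom (ConjClasses.mk 1) =
        (ConjClasses.mk 1 : ConjClasses H) := by
      rw [class_fixed_iff]
      exact ⟨1, H.one_mem, by simp⟩
    obtain ⟨⟨C, hC⟩, hCne⟩ := exists_ne (⟨ConjClasses.mk 1, hone⟩ :
      {C : ConjClasses H // ConjClasses.map (cjEquiv hN x).toMonoidHom C = C})
    obtain ⟨k, rfl⟩ := ConjClasses.mk_surjective C
    have hk1 : k ≠ 1 := by
      rintro rfl
      exact hCne rfl
    rw [class_fixed_iff] at hC
    obtain ⟨c, hc, hck⟩ := hC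
    -- decomposition of `x`
    obtain ⟨s, t, hst⟩ := (Nat.isCoprime_iff_coprime.mpr hHall)
    set n := Nat.card H with hn
    set m := H.index with hm
    let u : M := (x ^ m) ^ t
    let v : M := (x ^ n) ^ s
    have huH : u ∈ H := H.zpow_mem (Subgroup.pow_index_mem H x) t
    have hxvu : x = v * u := by
      show x = (x ^ n) ^ s * (x ^ m) ^ t
      rw [← zpow_natCast, ← zpow_natCast, ← zpow_mul, ← zpow_mul, ← zpow_add]
      have : (n : ℤ) * s + m * t = 1 := by rw [← hst]; ring
      rw [this, zpow_one]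
    have hvord : Nat.Coprime (orderOf v) (Nat.card H) := by
      have h3 : v ^ m = 1 := by
        show ((x ^ n) ^ s) ^ m = 1
        rw [← zpow_natCast, ← zpow_natCast, ← zpow_mul, ← zpow_mul]
        have h4 : (n : ℤ) * (s * m) = ((n * m : ℕ) : ℤ) * s := by push_cast; ring
        rw [h4, zpow_mul, zpow_natCast, hn, hm, Subgroup.card_mul_index, pow_card_eq_one', one_zpow]
      exact Nat.Coprime.coprime_dvd_left (orderOf_dvd_of_pow_eq_one h3) hHall.symm
    by_cases hu1 : u = 1
    · rw [hu1, mul_one] at hxvu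
      rw [← hxvu] at hvord
      obtain ⟨g, hg, h3⟩ := fixed_class_meets hN hvord k.2 hc hck
      refine ⟨g * k * g⁻¹, H.mul_mem (H.mul_mem hg k.2) (H.inv_mem hg), ?_, h3⟩
      intro h4
      apply hk1
      have h5 : (k : M) = 1 := by
        have := congrArg (fun z => g⁻¹ * z * g) h4
        simpa [mul_assoc] using this
      exact Subtype.ext h5
    · refine ⟨u, huH, hu1, ?_⟩
      show x * (x ^ m) ^ t = (x ^ m) ^ t * x
      exact ((Commute.refl x).pow_right m).zpow_right t
  · rintro ⟨h, hh, hh1, hxh⟩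
    have hfix : ∀ k : H, x * (k : M) = k * x →
        ConjClasses.map (cjEquiv hN x).toMonoidHom (ConjClasses.mk k) = ConjClasses.mk k := by
      intro k hk
      rw [class_fixed_iff]
      exact ⟨1, H.one_mem, by rw [hk]; simp⟩
    have h2 : 1 < Nat.card {C : ConjClasses H // ConjClasses.map (cjEquiv hN x).toMonoidHom C = C} := by
      rw [Finite.one_lt_card_iff_nontrivial]
      refine ⟨⟨⟨_, hfix ⟨h, hh⟩ hxh⟩, ⟨_, hfix 1 (by simp)⟩, fun h3 => hh1 ?_⟩⟩
      have h4 : ConjClasses.mk (⟨h, hh⟩ : H) = ConjClasses.mk 1 := congrArg Subtype.val h3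
      rw [ConjClasses.mk_eq_mk_iff_isConj, isConj_iff] at h4
      obtain ⟨c, hc⟩ := h4
      have h5 : (⟨h, hh⟩ : H) = 1 := by
        have := congrArg (fun z => c⁻¹ * z * c) hc
        simpa [mul_assoc] using this
      exact congrArg Subtype.val h5
    rw [← hcard, Finite.one_lt_card_iff_nontrivial] at h2
    obtain ⟨⟨θ, hθ⟩, hθ1⟩ := exists_ne (⟨⟨fun _ => 1, isIrr_one⟩, rfl⟩ :
      {χ : IrrCharacter H // cj hN x (χ : H → ℂ) = χ})
    refine ⟨θ, θ.2, ?_, hθ⟩
    intro h3
    apply hθ1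
    apply Subtype.ext
    apply Subtype.ext
    exact h3

end Cfsg.Agent.S1536
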