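import Cfsg.Statements.S1379
import Cfsg.Agent.H21.OT14r

set_option autoImplicit false
set_option linter.unusedVariables false
open Cfsg

namespace Cfsg.Agent.S1379

/-- Let G be a minimal simple group of odd order; for a maximal subgroup M write M̃ for the union of the G-conjugates of the cosets x R(x), x ≠ 1 in M_σ. Then M̃ ∩ Ñ = ∅ for non-conjugate maximal M, N; if every maximal subgroup has κ empty, every g ≠ 1 lies in some M̃; and if M = K U M_σ has K ≠ 1 with Ẑ = K K* − (K ∪ K*), then every g ≠ 1 lies in some Ñ or in a conjugate of Ẑ, and no conjugate of an element of Ẑ lies in any Ñ. -/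
theorem result {G : Type*} [Group G] [Finite G] (hG : Cfsg.IsMinSimpleOddOrder G) :
    (∀ M N : Subgroup G, IsCoatom M → IsCoatom N → (∀ g : G, N ≠ M.map (MulAut.conj g).toMonoidHom) → Cfsg.tildeOf M ((Cfsg.sigmaCore M : Set G) \ {1}) ∩ Cfsg.tildeOf N ((Cfsg.sigmaCore N : Set G) \ {1}) = ∅) ∧
      ((∀ M : Subgroup G, IsCoatom M → Cfsg.kappa M = ∅) →
        ∀ g : G, g ≠ 1 → ∃ M : Subgroup G, IsCoatom M ∧ g ∈ Cfsg.tildeOf M ((Cfsg.sigmaCore M : Set G) \ {1})) ∧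
      ∀ (M K U : Subgroup G), IsCoatom M → Cfsg.IsSigmaDecomposition M K U → K ≠ ⊥ →
        (∀ g : G, g ≠ 1 → (∃ N : Subgroup G, IsCoatom N ∧ g ∈ Cfsg.tildeOf N ((Cfsg.sigmaCore N : Set G) \ {1})) ∨
            ∃ y : G, ∃ z ∈ ((↑(K ⊔ (Cfsg.sigmaCore M ⊓ Subgroup.centralizer (K : Set G))) : Set G) \ ((K : Set G) ∪ ↑(Cfsg.sigmaCore M ⊓ Subgroup.centralizer (K : Set G)))), g = y * z * y⁻¹) ∧
        ∀ N : Subgroup G, IsCoatom N → ∀ y : G, ∀ z ∈ ((↑(K ⊔ (Cfsg.sigmaCore M ⊓ Subgroup.centralizer (K : Set G))) : Set G) \ ((K : Set G) ∪ ↑(Cfsg.sigmaCore M ⊓ Subgroup.centralizer (K : Set G)))), y * z * y⁻¹ ∉ Cfsg.tildeOf N ((Cfsg.sigmaCore N : Set G) \ {1}) := by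
  refine ⟨?_, ?_, ?_⟩
  · intro M N hM hN h
    exact Set.disjoint_iff_inter_eq_empty.1 (H21.tl_disjoint hG hM hN h)
  · intro h g hg
    rcases H21.dich hG hg with h1 | h1
    · exact (H21.inTilde_iff hG).1 h1
    · exfalso
      obtain ⟨M, hM, y, hy, hy1, k, hk, hk1, hkk, -, -⟩ := h1
      obtain ⟨p, hp, hd, hpk⟩ := hkk.prime_mem hk1
      rw [h M hM] at hpk
      exact hpk
  · intro M K U hM hKU hK
    obtain ⟨M', hD, -⟩ := (H21.dec_PM hM hKU hK).exists_dual hG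
    refine ⟨fun g hg => ?_, fun N hN y z hz hmem => ?_⟩
    · rcases H21.dich hG hg with h1 | h1
      · exact Or.inl ((H21.inTilde_iff hG).1 h1)
      · exact Or.inr (hD.hat_conj_of_inHat hG h1)
    · obtain ⟨k, hk, w, hw, hk1, hw1, rfl⟩ := H21.mem_Zhat hz
      exact H21.not_tilde_hat hG (H21.inTilde_of_mem hG hN hmem)
        (H21.inHat_conj (hD.pm.inHat hG hk hk1 hw hw1) y)

end Cfsg.Agent.S1379
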