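import Cfsg.Statements.S1524
import Cfsg.Agent.H3.Sibley3

set_option autoImplicit false
open Cfsg Cfsg.Agent Cfsg.Agent.H3

namespace Cfsg.Agent.S1524

/-- Let G be a finite group and H ≤ L subgroups with L of odd order, H ≠ ⊥ nilpotent and normal in L with a nontrivial complement W₁ in L (H ⊓ W₁ = ⊥, H ⊔ W₁ = L) acting on H without non-identity fixed points (L is a Frobenius group with kernel H), and suppose the underlying set of H is a TI-subset of G whose normaliser is L. Let S be the set of functions on L induced from the non-principal irreducible characters of H. Then (S, L minus 1, induction to G) is coherent. -/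
theorem result {G : Type*} [Group G] [Fintype G] (H L W₁ : Subgroup G) [Fintype L] (hodd : Odd (Nat.card L)) (hHL : H ≤ L) (hW₁L : W₁ ≤ L) (hH1 : H ≠ ⊥) (hW1 : W₁ ≠ ⊥) (hnil : Group.IsNilpotent H) (hHn : ∀ x ∈ L, ∀ h ∈ H, x * h * x⁻¹ ∈ H) (hinf : H ⊓ W₁ = ⊥) (hsup : H ⊔ W₁ = L) (hfpf : ∀ w ∈ W₁, w ≠ 1 → ∀ h ∈ H, w * h = h * w → h = 1) (hTI : Cfsg.IsTISubset (H : Set G)) (hN : Subgroup.normalizer (H : Set G) = L) : Cfsg.IsCoherent (Cfsg.inducedIrrAbove (H.subgroupOf L) ⊥) {1}ᶜ (fun α : L → ℂ => Cfsg.indFun L α) := by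
  have hKn : (H.subgroupOf L).Normal := ⟨fun n hn g => hHn g g.2 n hn⟩
  have hHL' : H ≠ L := by
    intro h
    apply hW1
    rw [eq_bot_iff, ← hinf, h]
    exact le_inf hW₁L le_rfl
  have hfpf' : ∀ x : L, x ∉ H.subgroupOf L → ∀ k ∈ H.subgroupOf L, x * k = k * x → k = 1 := by
    intro x hx
    refine (fpf_of_complement hKn (W₁.subgroupOf L) ?_ ?_ x hx).2
    · rw [← Subgroup.subgroupOf_sup hHL hW₁L, hsup, Subgroup.subgroupOf_self]
    · intro w hw hw1 k hk hwk
      exact Subtype.ext (hfpf w hw (fun h => hw1 (Subtype.ext h)) k hk (congrArg Subtype.val hwk))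
  obtain ⟨τ₁, h₁⟩ := sibley_frob hodd hHL hH1 hHL' hnil hKn hfpf' hTI hN
  refine ⟨?_, τ₁, h₁.1, h₁.2⟩
  have hK1 : H.subgroupOf L ≠ ⊥ := by
    intro h
    apply hH1
    rw [Subgroup.subgroupOf_eq_bot] at h
    rw [eq_bot_iff]
    intro x hx
    exact (Subgroup.disjoint_def.1 h) hx (hHL hx)
  obtain ⟨χ, hχ⟩ := exists_above hKn (A := ⊥) inferInstance (bot_lt_iff_ne_bot.2 hK1)
  have hirr : IsIrrCharacter L χ ∧ χ ≠ fun _ => 1 := by
    haveI := Fintype.ofFinite (H.subgroupOf L)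
    obtain ⟨θ, hθ, hθ1, -, rfl⟩ := hχ
    refine ⟨isIrr_ind_of_fpf hKn hfpf' hθ hθ1, fun h => ?_⟩
    have h3 : classInner (indFun (H.subgroupOf L) θ) (fun _ => 1) = 0 := by
      rw [frobenius_reciprocity _ _ (classFun_const 1)]
      exact classInner_of_irr_ne hθ isIrr_one hθ1
    rw [h, classInner_self_of_irr isIrr_one] at h3
    exact one_ne_zero h3
  refine ⟨χ - conjFun χ, ?_, fun h => odd_conj_ne hodd hirr.1 hirr.2 (sub_eq_zero.1 h).symm⟩
  rw [zspanOn_one]
  refine ⟨zspan_sub (zspan_mem hχ) (zspan_mem (conj_above hχ)), ?_⟩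
  obtain ⟨n, hn⟩ := char_one_eq_nat (irr_isChar hirr.1)
  show χ 1 - (starRingEnd ℂ) (χ 1) = 0
  rw [hn]; simp

end Cfsg.Agent.S1524
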