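import Cfsg.Statements.S1526
import Cfsg.Agent.H18.FTI7
import Cfsg.Agent.S1524

set_option autoImplicit false
open Cfsg
open Cfsg.Agent.H18 Cfsg.Agent.H3

namespace Cfsg.Agent.S1526

theorem sibley_aux {G : Type*} [Group G] [Fintype G] (P : FTI G) (hodd : Odd (Nat.card G))
    (h1 : Cfsg.IsTISubset (P.H : Set G)) (h2 : Subgroup.normalizer (P.H : Set G) = P.L) :
    P.SibleyFor := by
  obtain ⟨W₁, w1, w2, w3, w4, w5⟩ := P.sibley_hyp
  refine Cfsg.Agent.S1524.result P.H P.L W₁ (P.L_odd hodd) P.le w1 P.ne_bot w2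
      P.H_nilpotent ?_ w3 w4 w5 h1 h2
  intro x hx h hh
  exact Subgroup.mem_subgroupOf.1 (P.normal.conj_mem ⟨h, P.le hh⟩ (Subgroup.mem_subgroupOf.2 hh)
    ⟨x, hx⟩)

/-- Let G be a finite group of odd order and (L i, H i), i in a finite index type with at least two elements, pairs of subgroups with H i a nontrivial proper normal subgroup of L i such that every non-identity element of H i has its centraliser within L i contained in H i (L i is a Frobenius group with kernel H i), the orders of the H i pairwise coprime, and the underlying set of each H i a TI-subset of G with normaliser L i. If every non-identity element of G is conjugate to an element of some H i, we reach a contradiction. -/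
theorem result {G : Type*} [Group G] [Finite G] (hodd : Odd (Nat.card G)) {ι : Type*} [Fintype ι] (hι : 2 ≤ Fintype.card ι) (L H : ι → Subgroup G) (hHL : ∀ i, H i < L i) (hH1 : ∀ i, H i ≠ ⊥) (hHn : ∀ i, ∀ x ∈ L i, ∀ h ∈ H i, x * h * x⁻¹ ∈ H i) (hfrob : ∀ i, ∀ h ∈ H i, h ≠ 1 → L i ⊓ Subgroup.centralizer ({h} : Set G) ≤ H i) (hcop : ∀ i j, i ≠ j → Nat.Coprime (Nat.card (H i)) (Nat.card (H j))) (hTI : ∀ i, Cfsg.IsTISubset (H i : Set G) ∧ Subgroup.normalizer (H i : Set G) = L i) (hcover : ∀ g : G, g ≠ 1 → ∃ i, ∃ x : G, x * g * x⁻¹ ∈ H i) : False := by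
  haveI := Fintype.ofFinite G
  haveI : Nonempty ι := by
    rw [← Fintype.card_pos_iff]; omega
  let P : ι → FTI G := fun i => {
    L := L i
    H := H i
    le := (hHL i).le
    ne_top := (hHL i).ne
    ne_bot := hH1 i
    normal := by
      constructor
      intro h hh x
      exact Subgroup.mem_subgroupOf.2 (hHn i x x.2 h (Subgroup.mem_subgroupOf.1 hh))
    fpf := by
      intro x hx k hk h
      by_contra hk1
      apply hx
      rw [Subgroup.mem_subgroupOf] at hk ⊢
      apply hfrob i k hk (fun h' => hk1 (Subtype.ext h'))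
      refine Subgroup.mem_inf.2 ⟨x.2, ?_⟩
      rw [Subgroup.mem_centralizer_singleton_iff]
      exact congrArg Subtype.val h
    ti := by
      intro g hg k hk h
      exact (hTI i).1 g (by rw [(hTI i).2]; exact hg) k hk h }
  have hcop' : ∀ i j, i ≠ j → Nat.Coprime (P i).h (P j).h := hcop
  have hcover' : ∀ g : G, g ≠ 1 → ∃ i, g ∈ (P i).supp := by
    intro g hg
    obtain ⟨i, x, hx⟩ := hcover g hg
    exact ⟨i, hg, x⁻¹, by simpa using hx⟩
  have hcoh : ∀ i, (P i).SibleyFor := fun i => sibley_aux (P i) hodd (hTI i).1 (hTI i).2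
  exact family_false P (fun i => ((P i).exists_coh (hcoh i)).some) hodd hcop' hcover'

end Cfsg.Agent.S1526
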