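import Cfsg.Statements.S1521
import Cfsg.Agent.H3.IndCoh2

set_option autoImplicit false
open Cfsg Cfsg.Agent Cfsg.Agent.H3

namespace Cfsg.Agent.S1521

/-- Let K be a solvable normal subgroup of the finite group L of odd order and (S, τ, R) a coherence system from L to G with S the functions induced from non-principal irreducible characters of K; S(A) as before. Let M ≤ K be normal in L with K/M nilpotent, H₁ = [K, K] ⊔ M, H₁ < K < L, and suppose every element of K outside H₁ is centralised modulo H₁ only from inside K (L/H₁ is a Frobenius group with kernel K/H₁). Suppose one of the following: some normal subgroup of L lies strictly between H₁ and K; or [K:H₁] > 4[L:K]^2 + 1; or [K:M] is not a prime power; or [K,K] ≤ M; or [K:M] is a power of a prime p with [L:K] dividing p − 1. Then S(M) is coherent. -/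
theorem result {L : Type*} [Group L] [Fintype L] {G : Type*} [Group G] [Fintype G] (K : Subgroup L) [hK : K.Normal] (hsolv : Group.IsSolvable K) (τ : (L → ℂ) → (G → ℂ)) (R : (L → ℂ) → Finset (G → ℂ)) (hS : Cfsg.IsCoherenceSystem (Cfsg.inducedIrrAbove K ⊥) τ R) (hodd : Odd (Nat.card L)) (M : Subgroup L) [M.Normal] (hMK : M ≤ K) [(M.subgroupOf K).Normal] (hnil : Group.IsNilpotent (↥K ⧸ M.subgroupOf K)) (H₁ : Subgroup L) (hH₁ : H₁ = ⁅K, K⁆ ⊔ M) (hH₁K : H₁ < K) (hKL : K < ⊤) (hfrob : ∀ k ∈ K, k ∉ H₁ → ∀ x : L, x * k * x⁻¹ * k⁻¹ ∈ H₁ → x ∈ K) (hgood : (∃ N : Subgroup L, N.Normal ∧ H₁ < N ∧ N < K) ∨ 4 * K.index ^ 2 + 1 < H₁.relIndex K ∨ (¬ ∃ p m : ℕ, p.Prime ∧ M.relIndex K = p ^ m) ∨ ⁅K, K⁆ ≤ M ∨ (∃ p m : ℕ, p.Prime ∧ M.relIndex K = p ^ m ∧ K.index ∣ p - 1)) : Cfsg.IsCoherent (Cfsg.inducedIrrAbove K M) {1}ᶜ τ := by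
  have hn := nil_lcs hnil
  refine pf65 hK hsolv hS hodd inferInstance hMK hn hH₁ hH₁K hKL hfrob ?_
  rcases hgood with h | h | h | h | h
  · exact Or.inl h
  · exact Or.inr (Or.inl h)
  · refine Or.inr (Or.inr (Or.inl ⟨?_, h⟩))
    intro q hq hqd
    have h1 := prime_dvd_ab (Q := K ⧸ M.subgroupOf K) hnil hq hqd
    have h2 : (commutator (K ⧸ M.subgroupOf K)).index = H₁.relIndex K := by
      have h3 : (commutator (K ⧸ M.subgroupOf K)).comap (QuotientGroup.mk' (M.subgroupOf K)) =
          H₁.subgroupOf K := by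
        have h4 : commutator (K ⧸ M.subgroupOf K) =
            (commutator K).map (QuotientGroup.mk' (M.subgroupOf K)) := by
          rw [commutator_def, commutator_def, Subgroup.map_commutator,
            Subgroup.map_top_of_surjective _ (QuotientGroup.mk'_surjective _)]
        rw [h4, Subgroup.comap_map_eq, QuotientGroup.ker_mk', hH₁]
        apply (Subgroup.map_injective K.subtype_injective)
        rw [Subgroup.map_sup, Subgroup.subgroupOf_map_subtype, Subgroup.subgroupOf_map_subtype,
          inf_eq_left.2 hMK, commutator_def, Subgroup.map_commutator,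
          ← MonoidHom.range_eq_map, Subgroup.range_subtype]
        exact (inf_eq_left.2 (sup_le (Subgroup.commutator_le_left K K) hMK)).symm
      rw [← Subgroup.index_comap_of_surjective _ (QuotientGroup.mk'_surjective (M.subgroupOf K)),
        h3]
      rfl
    rwa [h2] at h1
  · exact Or.inr (Or.inr (Or.inr (Or.inl h)))
  · exact Or.inr (Or.inr (Or.inr (Or.inr h)))

end Cfsg.Agent.S1521
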