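import Cfsg.Statements.S1518
import Cfsg.Agent.H3.CohI
import Cfsg.Agent.S1500
import Cfsg.Agent.S1501
import Cfsg.Agent.H11.PF5

set_option autoImplicit false
open Cfsg Cfsg.Agent Cfsg.Agent.H3
open scoped ComplexConjugate

namespace Cfsg.Agent.S1518

/-- Under the Dade hypothesis for (A, L, H): if χ is an irreducible character of L vanishing at every non-identity element of L outside A, then the Dade image of χ − conj χ equals μ − conj μ for some irreducible character μ of G. -/
theorem result {G : Type*} [Group G] [Fintype G] (A : Set G) (L : Subgroup G) [Fintype L] (H : G → Subgroup G) (hD : Cfsg.DadeHypothesis A L H) (χ : L → ℂ) (hχ : Cfsg.IsIrrCharacter L χ) (hsupp : ∀ x : L, x ≠ 1 → (x : G) ∉ A → χ x = 0) : ∃ μ : G → ℂ, Cfsg.IsIrrCharacter G μ ∧ Cfsg.dadeIsometry A L H (χ - Cfsg.conjFun χ) = μ - Cfsg.conjFun μ := by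
  classical
  have h1A := hD.one_not_mem
  set α : L → ℂ := χ - conjFun χ with hα
  have hαg : IsGeneralizedCharacter L α := isGen_sub (isGen_of_irr hχ) (isGen_of_irr (isIrr_conj hχ))
  have hαc := isGen_classFun hαg
  have hαA : ∀ x : L, (x : G) ∉ A → α x = 0 := by
    intro x hx
    by_cases h : x = 1
    · obtain ⟨n, hn⟩ := char_one_eq_nat (irr_isChar hχ)
      show χ x - conj (χ x) = 0
      rw [h, hn]; simp
    · show χ x - conj (χ x) = 0
      rw [hsupp x h hx]; simp
  have hconj : ∀ g : G, conj (dadeIsometry A L H α g) = - dadeIsometry A L H α g := by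
    intro g
    unfold dadeIsometry
    split_ifs with h
    · show conj (χ _ - conj (χ _)) = -(χ _ - conj (χ _))
      rw [map_sub, Complex.conj_conj]; ring
    · simp
  by_cases hreal : α = 0
  · refine ⟨fun _ => 1, isIrr_one, ?_⟩
    rw [hreal]
    ext g
    have h2 : dadeIsometry A L H (0 : L → ℂ) g = 0 := by
      unfold dadeIsometry
      split_ifs <;> rfl
    rw [h2]
    simp [conjFun]
  · have hgen := Cfsg.Agent.S1501.result A L H hD α hαg hαA
    have hne : χ ≠ conjFun χ := fun h => hreal (by rw [hα]; exact sub_eq_zero.2 h)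
    have hnorm : classInner (dadeIsometry A L H α) (dadeIsometry A L H α) = 2 := by
      rw [(Cfsg.Agent.S1500.result A L H hD α hαc hαA).1 α hαc hαA, hα]
      have hχc : IsIrrCharacter L (conjFun χ) := isIrr_conj hχ
      simp only [classInner_sub_left, classInner_sub_right, classInner_self_of_irr hχ,
        classInner_self_of_irr hχc, classInner_of_irr_ne hχ hχc hne,
        classInner_of_irr_ne hχc hχ hne.symm]
      ring
    have hone : dadeIsometry A L H α 1 = 0 := by
      apply H11.PF.dade_zero hD
      rintro ⟨a, ha, x, u, hu, hx⟩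
      have h2 : (a : G) * u = 1 := by rw [← hx]; group
      have h3 : (a : G) = u⁻¹ := eq_inv_of_mul_eq_one_left h2
      have h4 : (a : G) ∈ H (a : G) ⊓ (L ⊓ Subgroup.centralizer ({(a : G)} : Set G)) := by
        refine ⟨?_, a.2, Subgroup.mem_centralizer_singleton_iff.2 rfl⟩
        have := (H (a : G)).inv_mem hu
        rwa [← h3] at this
      rw [hD.inf_eq_bot _ ha, Subgroup.mem_bot] at h4
      exact h1A (h4 ▸ ha)
    obtain ⟨a, b, hab, h⟩ := gen_norm_two hgen hone hnorm
    refine ⟨a, a.2, ?_⟩
    -- `b` is the conjugate of `a`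
    have hac : IsIrrCharacter G (conjFun (a : G → ℂ)) := isIrr_conj a.2
    have hbc : IsIrrCharacter G (conjFun (b : G → ℂ)) := isIrr_conj b.2
    have h5 : conjFun (a : G → ℂ) - conjFun (b : G → ℂ) = -((a : G → ℂ) - (b : G → ℂ)) := by
      rw [← h]
      ext g
      rw [Pi.neg_apply, ← hconj g, h]
      simp [conjFun]
    have h6 : conjFun (b : G → ℂ) = a := by
      by_contra hcon
      have h7 := congrArg (fun f => classInner f (a : G → ℂ)) h5
      simp only [classInner_sub_left, classInner_neg_left, classInner_self_of_irr a.2,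
        classInner_of_irr_ne hbc a.2 hcon,
        classInner_of_irr_ne b.2 a.2 (fun h => hab (Subtype.ext h.symm))] at h7
      obtain ⟨m, hm⟩ := classInner_char_nat (irr_isChar hac) (irr_isChar a.2)
      rw [hm] at h7
      have h8 : ((m + 1 : ℕ) : ℂ) = 0 := by push_cast; linear_combination h7
      have h9 : m + 1 = 0 := by exact_mod_cast h8
      omega
    rw [h, ← h6, conjFun_conjFun]

end Cfsg.Agent.S1518
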