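import Cfsg.Statements.S1525
import Cfsg.Agent.H3.Basic2
import Cfsg.Agent.H11.PF5

set_option autoImplicit false
open Cfsg Cfsg.Agent Cfsg.Agent.H3
open scoped ComplexConjugate

namespace Cfsg.Agent.S1525

/-- Under the Dade hypothesis for (A, L, H), let χ be a class function of G and let ψ be a function on L whose value at each a ∈ A is the average of χ over the coset a·H(a). Then (1/|G|) Σ |χ g|² over the elements g of G conjugate into some coset a·H(a) with a ∈ A is at least (1/|L|) Σ_{a ∈ A ∩ L} |ψ a|². -/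
theorem result {G : Type*} [Group G] [Fintype G] (A : Set G) (L : Subgroup G) [Fintype L] (H : G → Subgroup G) (hD : Cfsg.DadeHypothesis A L H) (χ : G → ℂ) (hχ : Cfsg.IsClassFunction G χ) (ψ : L → ℂ) (hψ : ∀ a : L, (a : G) ∈ A → ψ a = (Nat.card (H a) : ℂ)⁻¹ * ∑ᶠ u ∈ (H a : Set G), χ (a * u)) : (Nat.card L : ℝ)⁻¹ * ∑ᶠ a ∈ {a : L | (a : G) ∈ A}, ‖ψ a‖ ^ 2 ≤ (Nat.card G : ℝ)⁻¹ * ∑ᶠ g ∈ {g : G | ∃ a ∈ A, ∃ u ∈ H a, ∃ x : G, x * g * x⁻¹ = a * u}, ‖χ g‖ ^ 2 := by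
  classical
  let P : G → Prop := fun g => ∃ a ∈ A, ∃ u ∈ H a, ∃ x : G, x * g * x⁻¹ = a * u
  have hP : ∀ g, P g ↔ ∃ a : ↥L, (a : G) ∈ A ∧ ∃ x : G, ∃ u ∈ H (a : G),
      x * g * x⁻¹ = (a : G) * u := by
    intro g
    constructor
    · rintro ⟨a, ha, u, hu, x, h⟩
      exact ⟨⟨a, hD.subset ha⟩, ha, x, u, hu, h⟩
    · rintro ⟨a, ha, x, u, hu, h⟩
      exact ⟨a, ha, u, hu, x, h⟩
  have hPc : ∀ g h : G, P (h * g * h⁻¹) ↔ P g := by
    intro g h
    constructor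
    · rintro ⟨a, ha, u, hu, x, h1⟩
      exact ⟨a, ha, u, hu, x * h, by rw [← h1]; group⟩
    · rintro ⟨a, ha, u, hu, x, h1⟩
      exact ⟨a, ha, u, hu, x * h⁻¹, by rw [← h1]; group⟩
  let F : G → ℂ := fun g => if P g then χ g * conj (χ g) else 0
  have hF : IsClassFunction G F := by
    intro g h
    show (if P (h * g * h⁻¹) then χ (h * g * h⁻¹) * conj (χ (h * g * h⁻¹)) else 0) = _
    rw [hχ g h]
    simp only [hPc]
    rfl
  have hF0 : ∀ g, (¬ ∃ a : ↥L, (a : G) ∈ A ∧ ∃ x : G, ∃ u ∈ H (a : G),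
      x * g * x⁻¹ = (a : G) * u) → F g = 0 := by
    intro g hg
    show (if P g then _ else 0) = 0
    rw [if_neg (fun h => hg ((hP g).1 h))]
  have hsum := H11.PF.dade_sum hD F hF hF0
  -- real version
  let f : G → ℝ := fun g => if P g then ‖χ g‖ ^ 2 else 0
  have hFf : ∀ g, F g = (f g : ℂ) := by
    intro g
    show (if P g then χ g * conj (χ g) else 0) = ((if P g then ‖χ g‖ ^ 2 else 0 : ℝ) : ℂ)
    split_ifs
    · rw [Complex.mul_conj, Complex.normSq_eq_norm_sq]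
    · simp
  have hsum' : (Nat.card L : ℝ) * ∑ g : G, f g = (Nat.card G : ℝ) *
      ∑ a : L, if (a : G) ∈ A then (Nat.card (H a) : ℝ)⁻¹ *
        ∑ u : G, if u ∈ H (a : G) then f (a * u) else 0 else 0 := by
    have h1 : (((Nat.card L : ℝ) * ∑ g : G, f g : ℝ) : ℂ) = (((Nat.card G : ℝ) *
      ∑ a : L, if (a : G) ∈ A then (Nat.card (H a) : ℝ)⁻¹ *
        ∑ u : G, if u ∈ H (a : G) then f (a * u) else 0 else 0 : ℝ) : ℂ) := by
      simp only [hFf] at hsum
      push_cast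
      simp only [apply_ite (fun x : ℝ => (x : ℂ)), Complex.ofReal_zero, Complex.ofReal_mul,
        Complex.ofReal_inv, Complex.ofReal_natCast, Complex.ofReal_sum]
      exact hsum
    exact_mod_cast h1
  have hRHS : ∑ᶠ g ∈ {g : G | ∃ a ∈ A, ∃ u ∈ H a, ∃ x : G, x * g * x⁻¹ = a * u}, ‖χ g‖ ^ 2 =
      ∑ g : G, f g := by
    rw [finsum_mem_def, finsum_eq_sum_of_fintype]
    refine Finset.sum_congr rfl fun g _ => ?_
    rw [Set.indicator_apply]
    rfl
  have hLHS : ∑ᶠ a ∈ {a : L | (a : G) ∈ A}, ‖ψ a‖ ^ 2 =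
      ∑ a : L, if (a : G) ∈ A then ‖ψ a‖ ^ 2 else 0 := by
    rw [finsum_mem_def, finsum_eq_sum_of_fintype]
    refine Finset.sum_congr rfl fun a _ => ?_
    rw [Set.indicator_apply]
    rfl
  have hG0 : (0 : ℝ) < Nat.card G := by exact_mod_cast Nat.card_pos
  have hL0 : (0 : ℝ) < Nat.card L := by exact_mod_cast Nat.card_pos
  have hkey : ∑ a : L, (if (a : G) ∈ A then ‖ψ a‖ ^ 2 else 0) ≤
      ∑ a : L, if (a : G) ∈ A then (Nat.card (H a) : ℝ)⁻¹ *
        ∑ u : G, if u ∈ H (a : G) then f (a * u) else 0 else 0 := by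
    refine Finset.sum_le_sum fun a _ => ?_
    split_ifs with ha
    · have h0 : (0 : ℝ) < Nat.card (H (a : G)) := by exact_mod_cast Nat.card_pos
      have h1 : ∑ᶠ u ∈ (H (a : G) : Set G), χ ((a : G) * u) =
          ∑ u ∈ Finset.univ.filter (fun u => u ∈ H (a : G)), χ ((a : G) * u) := by
        rw [finsum_mem_def, finsum_eq_sum_of_fintype, Finset.sum_filter]
        refine Finset.sum_congr rfl fun u _ => ?_
        rw [Set.indicator_apply]; rfl
      have hcard : (Finset.univ.filter (fun u => u ∈ H (a : G))).card = Nat.card (H (a : G)) := by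
        rw [Nat.card_eq_fintype_card, Fintype.card_subtype]
      have h2 : ‖ψ a‖ ≤ (Nat.card (H (a : G)) : ℝ)⁻¹ *
          ∑ u ∈ Finset.univ.filter (fun u => u ∈ H (a : G)), ‖χ ((a : G) * u)‖ := by
        rw [hψ a ha, norm_mul, norm_inv, Complex.norm_natCast, h1]
        exact mul_le_mul_of_nonneg_left (norm_sum_le _ _) (by positivity)
      have h3 := sq_sum_le_card_mul_sum_sq
        (s := Finset.univ.filter (fun u => u ∈ H (a : G))) (f := fun u => ‖χ ((a : G) * u)‖)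
      rw [hcard] at h3
      have h4 : ∑ u : G, (if u ∈ H (a : G) then f (a * u) else 0) =
          ∑ u ∈ Finset.univ.filter (fun u => u ∈ H (a : G)), ‖χ ((a : G) * u)‖ ^ 2 := by
        rw [Finset.sum_filter]
        refine Finset.sum_congr rfl fun u _ => ?_
        split_ifs with hu
        · show (if P ((a : G) * u) then _ else 0) = _
          rw [if_pos ⟨a, ha, u, hu, 1, by simp⟩]
        · rfl
      rw [h4]
      calc ‖ψ a‖ ^ 2 ≤ ((Nat.card (H (a : G)) : ℝ)⁻¹ *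
          ∑ u ∈ Finset.univ.filter (fun u => u ∈ H (a : G)), ‖χ ((a : G) * u)‖) ^ 2 :=
            pow_le_pow_left₀ (norm_nonneg _) h2 2
        _ = (Nat.card (H (a : G)) : ℝ)⁻¹ ^ 2 *
          (∑ u ∈ Finset.univ.filter (fun u => u ∈ H (a : G)), ‖χ ((a : G) * u)‖) ^ 2 := by
            rw [mul_pow]
        _ ≤ (Nat.card (H (a : G)) : ℝ)⁻¹ ^ 2 * (Nat.card (H (a : G)) *
          ∑ u ∈ Finset.univ.filter (fun u => u ∈ H (a : G)), ‖χ ((a : G) * u)‖ ^ 2) :=
            mul_le_mul_of_nonneg_left h3 (by positivity)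
        _ = _ := by field_simp
    · exact le_rfl
  have h5 : (Nat.card G : ℝ)⁻¹ * ∑ g : G, f g = (Nat.card L : ℝ)⁻¹ *
      ∑ a : L, if (a : G) ∈ A then (Nat.card (H a) : ℝ)⁻¹ *
        ∑ u : G, if u ∈ H (a : G) then f (a * u) else 0 else 0 := by
    rw [inv_mul_eq_iff_eq_mul₀ hG0.ne', ← mul_assoc, mul_comm (Nat.card G : ℝ), mul_assoc,
      eq_inv_mul_iff_mul_eq₀ hL0.ne']
    exact hsum'
  calc _ = (Nat.card L : ℝ)⁻¹ * ∑ a : L, (if (a : G) ∈ A then ‖ψ a‖ ^ 2 else 0) := by rw [← hLHS]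
    _ ≤ (Nat.card L : ℝ)⁻¹ * ∑ a : L, (if (a : G) ∈ A then (Nat.card (H a) : ℝ)⁻¹ *
        ∑ u : G, if u ∈ H (a : G) then f (a * u) else 0 else 0) :=
          mul_le_mul_of_nonneg_left hkey (by positivity)
    _ = (Nat.card G : ℝ)⁻¹ * ∑ g : G, f g := h5.symm
    _ = _ := by rw [← hRHS]

end Cfsg.Agent.S1525
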