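import Cfsg.Statements.S4441
import Cfsg.Agent.L.DO12

set_option autoImplicit false
open Cfsg

namespace Cfsg.Agent.S4441

/-- Let p be an odd prime and G a finite group whose Sylow p-subgroup P has order p; let C = C_G(P), N = N_G(P), e the index of C in N and t = (p − 1)/e; fix a maximal ideal M of the algebraic integers containing p and let B₀ be the principal block. Then B₀ is the disjoint union of a set X of e characters and a set Y of t characters such that: each χ ∈ X has a sign ε_χ with χ(1) ≡ ε_χ (mod p) and χ(x y) = ε_χ for every non-identity x ∈ P and every p-regular y ∈ C; all members of Y agree on the p-regular elements of G; there is one sign ε with θ(1) ≡ ε e (mod p) for every θ ∈ Y; and for every θ ∈ Y and every p-regular g, ε θ(g) = Σ_{χ ∈ X} ε_χ χ(g). -/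
theorem result {G : Type*} [Group G] [Fintype G] (p : ℕ) [Fact p.Prime] (M : Ideal Cfsg.AlgInt) (hM : Cfsg.IsPModular p M) (hodd : p ≠ 2) (P : Sylow p G) (hP : Nat.card P = p) (e : ℕ) (he : (Subgroup.centralizer ((P : Subgroup G) : Set G)).relIndex (Subgroup.normalizer ((P : Subgroup G) : Set G)) = e) : ∃ X Y : Set (Cfsg.IrrCharacter G), Cfsg.principalBlock M G = X ∪ Y ∧ Disjoint X Y ∧ Nat.card X = e ∧ Nat.card Y = (p - 1) / e ∧ ∃ (εX : Cfsg.IrrCharacter G → ℤ) (ε : ℤ), (∀ χ ∈ X, (εX χ = 1 ∨ εX χ = -1) ∧ (Cfsg.charDegree (χ : G → ℂ) : ℤ) ≡ εX χ [ZMOD p] ∧ ∀ x : G, x ∈ (P : Subgroup G) → x ≠ 1 → ∀ y : G, y ∈ Subgroup.centralizer ((P : Subgroup G) : Set G) → ¬ p ∣ orderOf y → (χ : G → ℂ) (x * y) = (εX χ : ℂ)) ∧ (ε = 1 ∨ ε = -1) ∧ (∀ θ ∈ Y, (Cfsg.charDegree (θ : G → ℂ) : ℤ) ≡ ε * (e : ℤ) [ZMOD p]) ∧ (∀ θ ∈ Y, ∀ θ' ∈ Y, ∀ g : G, ¬ p ∣ orderOf g → (θ : G → ℂ) g = (θ' : G → ℂ) g) ∧ ∀ θ ∈ Y, ∀ g : G, ¬ p ∣ orderOf g →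 (ε : ℂ) * (θ : G → ℂ) g = ∑ᶠ χ ∈ X, (εX χ : ℂ) * (χ : G → ℂ) g := by
  classical
  let _ : Fintype (Cfsg.Agent.H26.cz (P : Subgroup G)) := Fintype.ofFinite _
  have hpr := hM.2.1.isPrime
  have h := Cfsg.Agent.LD.Loc.of_sylow P hP
  have hB : Cfsg.IsPBlock M (Cfsg.principalBlock M G) := Cfsg.Agent.H11.principalBlock_isPBlock
  have hBP : Cfsg.IsDefectGroup p M (Cfsg.principalBlock M G) (P : Subgroup G) :=
    (Cfsg.Agent.H26.st4652 p M hM P).mpr ⟨P, rfl⟩
  obtain ⟨θ, hTh, hval, hThs, hst⟩ := Cfsg.Agent.LD.principal_Th h hM hBP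
  obtain ⟨k0, hg, f', Y, c, s, D⟩ := h.exists_dat hM hB hBP hTh
  have he' : (Cfsg.Agent.H26.cz (P : Subgroup G)).relIndex
      (Cfsg.Agent.LD.stT (P : Subgroup G) θ) = e := by rw [hst]; exact he
  have hfm := D.exc.fmul
  rw [he'] at hfm
  obtain ⟨hfpos, hepos⟩ := h.fpos hM hB hTh D.exc
  rw [he'] at hepos
  have hdiv : (p - 1) / e = f' := by rw [← hfm, Nat.mul_div_cancel_left _ hepos]
  have hcard1 : Nat.card (Cfsg.Agent.LD.Th M (P : Subgroup G) (Cfsg.principalBlock M G)) = 1 := by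
    rw [hThs]; simp
  have hdeg : Cfsg.charDegree (θ : Cfsg.Agent.H26.cz (P : Subgroup G) → ℂ) = 1 := by
    have h1 := Cfsg.Agent.H27.charDegree_cast (Cfsg.Agent.H3.irr_isChar θ.2)
    rw [hval] at h1
    exact_mod_cast h1
  refine ⟨Cfsg.principalBlock M G \ Y, Y, ?_, ?_, ?_, ?_, c, -s, ?_, ?_, ?_, ?_, ?_⟩
  · rw [Set.diff_union_self, Set.union_eq_left.mpr D.exc.sub]
  · exact Set.disjoint_sdiff_left
  · rw [D.cardX, he']
  · rw [D.exc.card, hdiv]
  · rintro χ ⟨hχ, hY⟩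
    refine ⟨D.c1 χ hχ hY, ?_, ?_⟩
    · have h1 := h.deg_X hM hB hBP hTh D hχ hY
      rw [hcard1, hdeg] at h1
      simpa using h1
    · intro x hx hx1 y hy hyp
      have hfin := Fintype.ofFinite (Cfsg.IrrCharacter (Cfsg.Agent.H26.cz (P : Subgroup G)))
      have h1 := h.translate hM hB hχ hx hx1
        (s := (⟨y, hy⟩ : Cfsg.Agent.H26.cz (P : Subgroup G))) (by
          rw [Subgroup.orderOf_mk]; exact hyp)
      have h2 : (Finset.univ.filter fun η : Cfsg.IrrCharacter (Cfsg.Agent.H26.cz (P : Subgroup G)) =>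
          η ∈ Cfsg.Agent.LD.Th M (P : Subgroup G) (Cfsg.principalBlock M G)) = {θ} := by
        ext η
        simp [hThs]
      rw [h2, Finset.sum_singleton, hval, mul_one, D.hc χ hχ hY x hx hx1] at h1
      exact h1
  · rcases D.s1 with h1 | h1
    · right; rw [h1]
    · left; rw [h1, neg_neg]
  · intro ψ hψ
    have h1 := h.deg_Y hM hB hBP hTh D hψ
    rw [hdeg, mul_one] at h1
    have he2 : (Cfsg.Agent.H26.cz (P : Subgroup G)).relIndex
      (Cfsg.Agent.H26.nz (P : Subgroup G)) = e := he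
    rw [he2] at h1
    exact h1
  · exact D.yreg
  · intro ψ hψ g hg'
    have h1 := D.rel g hg' ψ hψ
    push_cast
    linear_combination -h1

end Cfsg.Agent.S4441
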