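import Cfsg.Statements.S1230
import Cfsg.Agent.H4.ElemCent
import Cfsg.Agent.H4.RegField
import Cfsg.Agent.H4.ProjLine

set_option autoImplicit false
open Cfsg

namespace Cfsg.Agent.S1230

open OnePoint in
theorem recog {G : Type*} [Group G] [Finite G] {T : Sylow 2 G} (h : H4.EC T)
    {K : Type} [Field K] [Finite K] [DecidableEq K] {y : G ⧸ Subgroup.normalizer ((T : Subgroup G) : Set G)}
    (hy : y ≠ QuotientGroup.mk 1) (E : K → G) (hET : ∀ k, E k ∈ T) (hEinj : Function.Injective E)
    (hEsurj : ∀ t ∈ T, ∃ k, E k = t) (hEadd : ∀ a b, E (a + b) = E a * E b)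
    (hED : ∀ d ∈ H4.twoPt G (QuotientGroup.mk 1 : G ⧸ Subgroup.normalizer ((T : Subgroup G) : Set G)) y,
      ∃ s : K, s ≠ 0 ∧ ∀ k, d * E k * d⁻¹ = E (s * k)) :
    Nonempty (G ≃* Matrix.ProjectiveSpecialLinearGroup (Fin 2) K) := by
  classical
  set x0 : G ⧸ Subgroup.normalizer ((T : Subgroup G) : Set G) := QuotientGroup.mk 1 with hx0
  have hE0 : E 0 = 1 := by
    have := hEadd 0 0
    rw [add_zero] at this
    exact (mul_eq_left.1 this.symm)
  have hE1 : E 1 ≠ 1 := by
    intro h1; rw [← hE0] at h1; exact one_ne_zero (hEinj h1)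
  have htwo : (2 : K) = 0 := by
    apply hEinj
    rw [hE0, ← one_add_one_eq_two, hEadd]
    exact (H4.ec_elem h).2 _ (hET 1)
  haveI : CharP K 2 := CharTwo.of_one_ne_zero_of_two_eq_zero one_ne_zero htwo
  have hsq : ∀ s : K, ∃ a, s = a * a := by
    intro s
    exact FiniteField.isSquare_of_char_two (CharP.ringChar_of_prime_eq_zero Nat.prime_two (by exact_mod_cast htwo)) s
  -- T fixes x0
  have hTx : ∀ t ∈ T, t • x0 = x0 := fun t ht => H4.mem_normalizer_iff_fix.1 (Subgroup.le_normalizer ht)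
  -- the bijection
  let f : OnePoint K → G ⧸ Subgroup.normalizer ((T : Subgroup G) : Set G) := fun p => p.elim x0 (fun k => E k • y)
  have hf0 : f ∞ = x0 := rfl
  have hfk : ∀ k : K, f (k : OnePoint K) = E k • y := fun k => rfl
  have hne : ∀ k : K, E k • y ≠ x0 := by
    intro k hk
    apply hy
    exact smul_left_cancel (E k) (hk.trans (hTx _ (hET k)).symm)
  have hfinj : Function.Injective f := by
    intro p q hpq
    cases p with
    | infty =>
      cases q with
      | infty => rfl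
      | coe k => rw [hf0, hfk] at hpq; exact absurd hpq.symm (hne k)
    | coe k =>
      cases q with
      | infty => rw [hf0, hfk] at hpq; exact absurd hpq (hne k)
      | coe l =>
        rw [hfk, hfk] at hpq
        rw [hEinj (H4.ec_T_free h hy (hET k) (hET l) hpq)]
  have hfsurj : Function.Surjective f := by
    intro x
    by_cases hx : x = x0
    · exact ⟨∞, hx.symm⟩
    · obtain ⟨t, ht, htx⟩ := H4.ec_T_regular h hy hx
      obtain ⟨k, hk⟩ := hEsurj t ht
      exact ⟨(k : OnePoint K), by rw [hfk, hk, htx]⟩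
  let φ : OnePoint K ≃ G ⧸ Subgroup.normalizer ((T : Subgroup G) : Set G) := Equiv.ofBijective f ⟨hfinj, hfsurj⟩
  have hφ0 : φ ∞ = x0 := rfl
  have hφk : ∀ k : K, φ (k : OnePoint K) = E k • y := fun k => rfl
  let ρ : G →* Equiv.Perm (OnePoint K) :=
    { toFun := fun g => (φ.trans (MulAction.toPerm g)).trans φ.symm
      map_one' := by ext p; simp
      map_mul' := by intro a b; ext p; simp [mul_smul] }
  have hρ : ∀ g p, ρ g p = φ.symm (g • φ p) := fun g p => rfl
  have hρ' : ∀ g p q, ρ g p = q ↔ g • φ p = φ q := by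
    intro g p q
    rw [hρ, Equiv.symm_apply_eq]
  -- the special point
  have hz0 : E 1 • y ≠ y := by
    intro hc
    exact hE1 (H4.ec_T_free h hy (hET 1) (one_mem T) (by rw [hc, one_smul]))
  -- the involution
  obtain ⟨u, hu, hux, huy, huz⟩ : ∃ u : G, orderOf u = 2 ∧ u • x0 = y ∧ u • y = x0 ∧ u • (E 1 • y) = E 1 • y := by
    obtain ⟨u', hu', hux, huy⟩ := H4.ec_swap_exists h (Ne.symm hy)
    obtain ⟨w, hw⟩ := H4.semb_exists_fix (H4.ec_strong h) hu'
    have hw1 : w ≠ x0 := by rintro rfl; rw [hux] at hw; exact hy hw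
    have hw2 : w ≠ y := by rintro rfl; rw [huy] at hw; exact hw1 hw.symm
    obtain ⟨d, hd, hdw⟩ := H4.ec_D_transitive h hy hw1 hw2 (hne 1) hz0
    have hd' := H4.mem_twoPt.1 hd
    have hdi1 : d⁻¹ • x0 = x0 := by rw [inv_smul_eq_iff]; exact hd'.1.symm
    have hdi2 : d⁻¹ • y = y := by rw [inv_smul_eq_iff]; exact hd'.2.symm
    refine ⟨d * u' * d⁻¹, by rw [H4.orderOf_conj, hu'], ?_, ?_, ?_⟩
    · rw [mul_smul, mul_smul, hdi1, hux]; exact hd'.2
    · rw [mul_smul, mul_smul, hdi2, huy]; exact hd'.1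
    · rw [← hdw, ← mul_smul]
      have : d * u' * d⁻¹ * d = d * u' := by group
      rw [this, mul_smul, hw]
  have huu := H4.mul_self_of_orderOf_two hu
  -- images of the generators
  have hρT : ∀ t ∈ T, ρ t ∈ (H4.slPerm K).range := by
    intro t ht
    obtain ⟨b, rfl⟩ := hEsurj t ht
    apply H4.slPerm_trans_mem b
    · rw [hρ', hφ0]; exact hTx _ ht
    · intro k
      rw [hρ', hφk, hφk, hEadd, mul_smul]
  have hρD : ∀ d ∈ H4.twoPt G x0 y, ρ d ∈ (H4.slPerm K).range := by
    intro d hd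
    obtain ⟨s, hs0, hs⟩ := hED d hd
    obtain ⟨a, ha⟩ := hsq s
    have ha0 : a ≠ 0 := by rintro rfl; rw [mul_zero] at ha; exact hs0 ha
    have hd' := H4.mem_twoPt.1 hd
    apply H4.slPerm_mul_mem a ha0
    · rw [hρ', hφ0]; exact hd'.1
    · intro k
      rw [hρ', hφk, hφk, ← ha, ← hs k]
      nth_rewrite 2 [← hd'.2]
      rw [← mul_smul, ← mul_smul]
      congr 1; group
  have hρu : ρ u ∈ (H4.slPerm K).range := by
    apply H4.slPerm_inv_mem
    · rw [hρ', hφ0, hφk, hE0, one_smul]; exact hux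
    · rw [hρ', hφ0, hφk, hE0, one_smul]; exact huy
    · intro k hk
      rw [hρ', hφk, hφk, CharTwo.neg_eq]
      have hEk : E k ≠ 1 := by rw [← hE0]; exact fun hc => hk (hEinj hc)
      obtain ⟨d, hd1, hd2, hd3⟩ := H4.semb_conj_in_two_point (H4.ec_strong h) hux huy (Ne.symm hy)
        (H4.ec_orderOf h (hET 1) hE1) (hTx _ (hET 1)) (H4.ec_orderOf h (hET k) hEk) (hTx _ (hET k))
      have hd : d ∈ H4.twoPt G x0 y := H4.mem_twoPt.2 ⟨hd1, hd2⟩
      obtain ⟨s, hs0, hs⟩ := hED d hd
      have hsk : s = k := by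
        apply hEinj
        rw [← hd3, hs 1, mul_one]
      rw [hsk] at hs
      have h4 : d⁻¹ * E 1 * d = E k⁻¹ := by
        have := hs k⁻¹
        rw [mul_inv_cancel₀ hk] at this
        rw [← this]; group
      have hdi2 : d⁻¹ • y = y := by rw [inv_smul_eq_iff]; exact hd2.symm
      have huinv := H4.ec_inverts h (Ne.symm hy) hu hux hd
      rw [← h4, ← hd3]
      calc u • (d * E 1 * d⁻¹) • y = u • (d * E 1) • y := by rw [mul_smul (d * E 1), hdi2]
        _ = (u * d * u⁻¹) • (u • (E 1 • y)) := by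
              rw [← mul_smul, ← mul_smul, ← mul_smul]
              congr 1; group
        _ = d⁻¹ • (E 1 • y) := by rw [huinv, huz]
        _ = (d⁻¹ * E 1 * d) • y := by rw [mul_smul _ d, hd2, mul_smul]
  have hH : ∀ g : G, g • x0 = x0 → ρ g ∈ (H4.slPerm K).range := by
    intro g hg
    obtain ⟨d, hd, t, ht, rfl⟩ := H4.ec_decomp h hy hg
    rw [map_mul]
    exact mul_mem (hρD d hd) (hρT t ht)
  refine H4.psl_recognition ρ ?_ ?_ ?_
  · rw [injective_iff_map_eq_one]
    intro g hg
    have key : ∀ p, g • φ p = φ p := by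
      intro p
      rw [← hρ', hg]; rfl
    have k1 := key ∞
    have k2 := key ((0 : K) : OnePoint K)
    have k3 := key ((1 : K) : OnePoint K)
    rw [hφ0] at k1
    rw [hφk, hE0, one_smul] at k2
    rw [hφk] at k3
    exact H4.ec_three_points h (Ne.symm hy) (Ne.symm (hne 1)) (Ne.symm hz0) k1 k2 k3
  · intro g
    by_cases hg : g • x0 = x0
    · exact hH g hg
    · obtain ⟨t, ht, htw⟩ := H4.ec_T_regular h hg hy
      have h1 : (u * t * g) • x0 = x0 := by rw [mul_smul, mul_smul, htw, huy]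
      have h2 := hH _ h1
      have h3 : g = t⁻¹ * (u⁻¹ * (u * t * g)) := by group
      rw [h3, map_mul, map_mul, map_inv, map_inv]
      exact mul_mem (inv_mem (hρT t ht)) (mul_mem (inv_mem hρu) h2)
  · intro a b c hab hac hbc
    have n1 : (∞ : OnePoint K) ≠ ((0 : K) : OnePoint K) := infty_ne_coe _
    have n2 : (∞ : OnePoint K) ≠ ((1 : K) : OnePoint K) := infty_ne_coe _
    have n3 : ((0 : K) : OnePoint K) ≠ ((1 : K) : OnePoint K) := by
      intro h; exact zero_ne_one (OnePoint.coe_injective h)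
    obtain ⟨g, h1, h2, h3⟩ := H4.ec_triply h (φ ∞) (φ ((0 : K) : OnePoint K)) (φ ((1 : K) : OnePoint K)) (φ a) (φ b) (φ c)
      (fun h => n1 (φ.injective h)) (fun h => n2 (φ.injective h)) (fun h => n3 (φ.injective h))
      (fun h => hab (φ.injective h)) (fun h => hac (φ.injective h)) (fun h => hbc (φ.injective h))
    exact ⟨g, (hρ' _ _ _).2 h1, (hρ' _ _ _).2 h2, (hρ' _ _ _).2 h3⟩

/-- Let G be a finite group with a Sylow 2-subgroup T that is neither cyclic nor normal, such that the centralizer of every involution is an elementary abelian 2-group. Then G ≅ PSL(2,F) for a finite field F with |F| = |T|. -/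
theorem result {G : Type*} [Group G] [Finite G] (T : Sylow 2 G) (hnc : ¬ IsCyclic (T : Subgroup G)) (hnn : ¬ (T : Subgroup G).Normal) (hC : ∀ t : G, orderOf t = 2 → IsMulCommutative (Subgroup.centralizer ({t} : Set G)) ∧ ∀ c ∈ Subgroup.centralizer ({t} : Set G), c ^ 2 = 1) : ∃ (F : Type) (_ : Field F) (_ : Fintype F), Fintype.card F = Nat.card T ∧ Nonempty (G ≃* Matrix.ProjectiveSpecialLinearGroup (Fin 2) F) := by
  classical
  have h : H4.EC T := ⟨hnc, hnn, hC⟩
  have hS := H4.ec_strong h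
  have hge := H4.ec_card_ge h
  have hex : ∃ y : G ⧸ Subgroup.normalizer ((T : Subgroup G) : Set G), y ≠ QuotientGroup.mk 1 := by
    by_contra hcon
    push Not at hcon
    apply hS.1
    rw [eq_top_iff]
    intro g _
    have := hcon (QuotientGroup.mk g)
    have := QuotientGroup.eq.1 this.symm
    simpa using this
  obtain ⟨y, hy⟩ := hex
  set x0 : G ⧸ Subgroup.normalizer ((T : Subgroup G) : Set G) := QuotientGroup.mk 1 with hx0
  haveI : Nontrivial (T : Subgroup G) := by
    apply Finite.one_lt_card_iff_nontrivial.1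
    have : Nat.card (T : Subgroup G) = Nat.card T := rfl
    omega
  obtain ⟨t1, ht1⟩ := exists_ne (1 : (T : Subgroup G))
  letI : CommGroup (T : Subgroup G) :=
    { (inferInstance : Group (T : Subgroup G)) with
      mul_comm := fun a b => Subtype.ext ((H4.ec_elem h).1 a.1 a.2 b.1 b.2) }
  have hconj : ∀ d ∈ H4.twoPt G x0 y, ∀ t ∈ (T : Subgroup G), d * t * d⁻¹ ∈ (T : Subgroup G) := by
    intro d hd t ht
    have hdN : d ∈ Subgroup.normalizer ((T : Subgroup G) : Set G) := H4.mem_normalizer_iff_fix.2 (H4.mem_twoPt.1 hd).1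
    exact (Subgroup.mem_normalizer_iff.1 hdN t).1 ht
  let c : H4.twoPt G x0 y → AddMonoid.End (Additive (T : Subgroup G)) := fun d =>
    { toFun := fun a => Additive.ofMul ⟨d.1 * (Additive.toMul a).1 * d.1⁻¹, hconj d.1 d.2 _ (Additive.toMul a).2⟩
      map_zero' := by
        apply congrArg Additive.ofMul
        apply Subtype.ext
        show d.1 * 1 * d.1⁻¹ = 1
        group
      map_add' := by
        intro a b
        apply congrArg Additive.ofMul
        apply Subtype.ext
        show d.1 * ((Additive.toMul a).1 * (Additive.toMul b).1) * d.1⁻¹ = (d.1 * (Additive.toMul a).1 * d.1⁻¹) * (d.1 * (Additive.toMul b).1 * d.1⁻¹)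
        group }
  have hc : ∀ d a, c d a = Additive.ofMul ⟨d.1 * (Additive.toMul a).1 * d.1⁻¹, hconj d.1 d.2 _ (Additive.toMul a).2⟩ := fun _ _ => rfl
  obtain ⟨u, hu, hux, huy⟩ := H4.ec_swap_exists h (Ne.symm hy)
  obtain ⟨K, hK1, hK2, e, he1, he2⟩ := H4.exists_field_of_regular c (Additive.ofMul t1)
    (fun hc => ht1 (Additive.ofMul.injective hc))
    (by
      intro d d'
      refine DFunLike.ext _ _ (fun a => ?_)
      apply Additive.toMul.injective
      apply Subtype.ext
      show d.1 * (d'.1 * (Additive.toMul a).1 * d'.1⁻¹) * d.1⁻¹ = d'.1 * (d.1 * (Additive.toMul a).1 * d.1⁻¹) * d'.1⁻¹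
      have hcm := H4.ec_twoPt_comm h (Ne.symm hy) d.2 d'.2
      have hcm2 : d'.1⁻¹ * d.1⁻¹ = d.1⁻¹ * d'.1⁻¹ := by rw [← mul_inv_rev, ← mul_inv_rev, hcm]
      calc d.1 * (d'.1 * (Additive.toMul a).1 * d'.1⁻¹) * d.1⁻¹ = (d.1 * d'.1) * (Additive.toMul a).1 * (d'.1⁻¹ * d.1⁻¹) := by simp only [mul_assoc]
        _ = d'.1 * (d.1 * (Additive.toMul a).1 * d.1⁻¹) * d'.1⁻¹ := by rw [hcm, hcm2]; simp only [mul_assoc])
    (by
      intro a ha
      have ha' : (Additive.toMul a).1 ≠ 1 := by
        intro h1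
        apply ha
        apply Additive.toMul.injective
        exact Subtype.ext h1
      obtain ⟨d, hd1, hd2, hd3⟩ := H4.semb_conj_in_two_point (H4.ec_strong h) hux huy (Ne.symm hy)
        (H4.ec_orderOf h t1.2 (fun h1 => ht1 (Subtype.ext h1))) (H4.mem_normalizer_iff_fix.1 (Subgroup.le_normalizer t1.2))
        (H4.ec_orderOf h (Additive.toMul a).2 ha') (H4.mem_normalizer_iff_fix.1 (Subgroup.le_normalizer (Additive.toMul a).2))
      refine ⟨⟨d, H4.mem_twoPt.2 ⟨hd1, hd2⟩⟩, ?_⟩
      apply Additive.toMul.injective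
      apply Subtype.ext
      exact hd3)
    (by
      intro d a b hab
      apply Additive.toMul.injective
      apply Subtype.ext
      have : d.1 * (Additive.toMul a).1 * d.1⁻¹ = d.1 * (Additive.toMul b).1 * d.1⁻¹ :=
        congrArg (fun z : Additive (T : Subgroup G) => (Additive.toMul z).1) hab
      exact mul_left_cancel (mul_right_cancel this))
  refine ⟨K, hK1, hK2, ?_, ?_⟩
  · rw [← Nat.card_eq_fintype_card]
    exact Nat.card_congr (e.toEquiv.trans Additive.toMul)
  · refine recog h hy (fun k => (Additive.toMul (e k)).1) (fun k => (Additive.toMul (e k)).2) ?_ ?_ ?_ ?_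
    · intro a b hab
      apply e.injective
      apply Additive.toMul.injective
      exact Subtype.ext hab
    · intro t ht
      refine ⟨e.symm (Additive.ofMul ⟨t, ht⟩), ?_⟩
      simp only [AddEquiv.apply_symm_apply]; rfl
    · intro a b
      simp only [map_add]
      rfl
    · intro d hd
      obtain ⟨s, hs0, hs⟩ := he2 ⟨d, hd⟩
      refine ⟨s, hs0, fun k => ?_⟩
      exact congrArg (fun z : Additive (T : Subgroup G) => (Additive.toMul z).1) (hs k)

end Cfsg.Agent.S1230
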