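import Cfsg.Statements.S4496
import Cfsg.Agent.H1.Cores

set_option autoImplicit false
open Cfsg

namespace Cfsg.Agent.S4496

open Subgroup
open Cfsg.Agent
open scoped Pointwise commutatorElement


/-- Let the finite group G contain an element x of prime order p with C_G(x) = ⟨x⟩. Then: (a) every normal subgroup of order divisible by p contains the commutator subgroup; (b) every normal subgroup S of order prime to p has order dividing the number of subgroups of order p of G and congruent to 1 modulo p, and in G/S the image of x again has prime order p and commutes only with its own powers. -/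
theorem result {G : Type*} [Group G] [Finite G] (p : ℕ) (hp : p.Prime) (x : G) (hx : orderOf x = p) (hC : Subgroup.centralizer ({x} : Set G) = Subgroup.zpowers x) (S : Subgroup G) [S.Normal] : (p ∣ Nat.card S → commutator G ≤ S) ∧ (¬ p ∣ Nat.card S → Nat.card S ∣ Nat.card {H : Subgroup G // Nat.card H = p} ∧ Nat.card S % p = 1 ∧ orderOf (QuotientGroup.mk x : G ⧸ S) = p ∧ Subgroup.centralizer ({(QuotientGroup.mk x : G ⧸ S)} : Set (G ⧸ S)) = Subgroup.zpowers (QuotientGroup.mk x : G ⧸ S)) := by
  classical
  haveI : Fact p.Prime := ⟨hp⟩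
  set Z := zpowers x with hZ
  have hZcard : Nat.card Z = p := by rw [hZ, Nat.card_zpowers, hx]
  have hZp : IsPGroup p Z := IsPGroup.of_card (n := 1) (by rw [hZcard, pow_one])
  obtain ⟨P, hP⟩ := hZp.exists_le_sylow
  -- `P = ⟨x⟩`
  have hxP : x ∈ (P : Subgroup G) := hP (mem_zpowers x)
  have hx1 : x ≠ 1 := by
    rintro rfl
    rw [orderOf_one] at hx
    exact hp.one_lt.ne hx
  have hPZ : (P : Subgroup G) = Z := by
    refine le_antisymm ?_ hP
    haveI : Nontrivial (P : Subgroup G) := ⟨⟨⟨x, hxP⟩, 1, fun h => hx1 (congrArg Subtype.val h)⟩⟩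
    haveI hcn : Nontrivial (center (P : Subgroup G)) := P.2.center_nontrivial
    obtain ⟨z, hz⟩ := exists_ne (1 : center (P : Subgroup G))
    -- `z ∈ C(x) = ⟨x⟩`
    have hzc : ((z : (P : Subgroup G)) : G) ∈ Z := by
      rw [← hC, mem_centralizer_singleton_iff]
      have := mem_center_iff.mp z.2 ⟨x, hxP⟩
      exact (congrArg Subtype.val this).symm
    have hz1 : ((z : (P : Subgroup G)) : G) ≠ 1 := by
      intro h
      exact hz (Subtype.ext (Subtype.ext h))
    -- so `⟨z⟩ = Z`
    have hzz : zpowers ((z : (P : Subgroup G)) : G) = Z := by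
      apply eq_of_le_of_card_ge (zpowers_le.mpr hzc)
      rw [hZcard, Nat.card_zpowers]
      have h1 : orderOf ((z : (P : Subgroup G)) : G) ∣ p := by
        have := orderOf_dvd_of_mem_zpowers hzc
        rwa [hx] at this
      rcases (Nat.dvd_prime hp).mp h1 with h2 | h2
      · exact absurd (orderOf_eq_one_iff.mp h2) hz1
      · exact h2.ge
    intro y hy
    rw [← hC, mem_centralizer_singleton_iff]
    have hyz : y * ((z : (P : Subgroup G)) : G) = ((z : (P : Subgroup G)) : G) * y := by
      have := mem_center_iff.mp z.2 ⟨y, hy⟩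
      exact congrArg Subtype.val this
    have hxz : x ∈ zpowers ((z : (P : Subgroup G)) : G) := by rw [hzz]; exact mem_zpowers x
    obtain ⟨k, rfl⟩ := mem_zpowers_iff.mp hxz
    exact (Commute.zpow_right hyz k)
  have hPcard : Nat.card (P : Subgroup G) = p := by rw [hPZ, hZcard]
  have hfac : (Nat.card G).factorization p = 1 := by
    have h1 := P.card_eq_multiplicity
    rw [hPcard] at h1
    exact (Nat.pow_right_injective hp.two_le (show p ^ 1 = p ^ (Nat.card G).factorization p by
      rw [pow_one]; exact h1)).symm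
  constructor
  · intro hpS
    -- `P ≤ S`
    have hPS : (P : Subgroup G) ≤ S := by
      obtain ⟨y, hy⟩ := exists_prime_orderOf_dvd_card' p hpS
      have hy' : orderOf (y : G) = p := by rw [Subgroup.orderOf_coe]; exact hy
      have hyc : Nat.card (zpowers (y : G)) = p := by rw [Nat.card_zpowers, hy']
      have hyp : IsPGroup p (zpowers (y : G)) := IsPGroup.of_card (n := 1) (by rw [hyc, pow_one])
      obtain ⟨R, hR⟩ := hyp.exists_le_sylow
      obtain ⟨g, hg⟩ := MulAction.exists_smul_eq G R P
      have hRc : Nat.card (R : Subgroup G) = p := by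
        rw [R.card_eq_multiplicity, hfac, pow_one]
      have hRe : zpowers (y : G) = (R : Subgroup G) :=
        eq_of_le_of_card_ge hR (by rw [hRc, hyc])
      rw [← hg]
      intro w hw
      rw [Sylow.coe_subgroup_smul] at hw
      obtain ⟨v, hv, rfl⟩ := (mem_smul_pointwise_iff_exists w _ (R : Subgroup G)).mp hw
      have hvS : v ∈ S := by
        rw [← hRe] at hv
        exact (zpowers_le.mpr y.2) hv
      exact (inferInstance : S.Normal).conj_mem v hvS g
    have hfr := (P.subtype hPS).normalizer_sup_eq_top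
    have hmap : ((P.subtype hPS : Sylow p S) : Subgroup S).map S.subtype = (P : Subgroup G) := by
      rw [Sylow.coe_subtype]
      exact map_subgroupOf_eq_of_le hPS
    rw [hmap] at hfr
    -- elements of the normalizer commute modulo `C(x)`
    have hnx : ∀ n ∈ Subgroup.normalizer ((P : Subgroup G) : Set G), ∃ k : ℤ, n * x * n⁻¹ = x ^ k := by
      intro n hn
      have h1 : n * x * n⁻¹ ∈ (P : Subgroup G) := (mem_normalizer_iff.mp hn x).mp hxP
      rw [hPZ] at h1
      obtain ⟨k, hk⟩ := mem_zpowers_iff.mp h1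
      exact ⟨k, hk.symm⟩
    have hcomm : ∀ a ∈ Subgroup.normalizer ((P : Subgroup G) : Set G),
        ∀ b ∈ Subgroup.normalizer ((P : Subgroup G) : Set G), (b * a)⁻¹ * (a * b) ∈ S := by
      intro a ha b hb
      obtain ⟨i, hi⟩ := hnx a ha
      obtain ⟨j, hj⟩ := hnx b hb
      apply hPS
      rw [hPZ, ← hC, mem_centralizer_singleton_iff]
      have hpow : ∀ (c : G) (m : ℤ), c * x ^ m * c⁻¹ = (c * x * c⁻¹) ^ m := fun c m =>
        (conj_zpow (i := m) (a := c) (b := x)).symm
      have h1 : (a * b) * x * (a * b)⁻¹ = x ^ (i * j) := by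
        calc (a * b) * x * (a * b)⁻¹ = a * (b * x * b⁻¹) * a⁻¹ := by group
          _ = x ^ (i * j) := by rw [hj, hpow, hi, zpow_mul]
      have h2 : (b * a) * x * (b * a)⁻¹ = x ^ (i * j) := by
        calc (b * a) * x * (b * a)⁻¹ = b * (a * x * a⁻¹) * b⁻¹ := by group
          _ = x ^ (i * j) := by rw [hi, hpow, hj, mul_comm i j, zpow_mul]
      have h3 : (a * b) * x * (a * b)⁻¹ = (b * a) * x * (b * a)⁻¹ := by rw [h1, h2]
      calc (b * a)⁻¹ * (a * b) * x = (b * a)⁻¹ * ((a * b) * x * (a * b)⁻¹) * (a * b) := by group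
        _ = (b * a)⁻¹ * ((b * a) * x * (b * a)⁻¹) * (a * b) := by rw [h3]
        _ = x * ((b * a)⁻¹ * (a * b)) := by group
    rw [_root_.commutator_def, commutator_le]
    intro g _ h _
    have hrep : ∀ g : G, ∃ n ∈ Subgroup.normalizer ((P : Subgroup G) : Set G),
        (QuotientGroup.mk g : G ⧸ S) = QuotientGroup.mk n := by
      intro g
      have h1 : g ∈ Subgroup.normalizer ((P : Subgroup G) : Set G) ⊔ S := by
        rw [hfr]; exact mem_top g
      rw [mem_sup_of_normal_right] at h1
      obtain ⟨n, hn, s, hs, rfl⟩ := h1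
      refine ⟨n, hn, ?_⟩
      rw [eq_comm, QuotientGroup.eq]
      have : n⁻¹ * (n * s) = s := by group
      rw [this]; exact hs
    obtain ⟨a, ha, hga⟩ := hrep g
    obtain ⟨b, hb, hhb⟩ := hrep h
    rw [← QuotientGroup.eq_one_iff]
    have h4 : (QuotientGroup.mk (a * b) : G ⧸ S) = QuotientGroup.mk (b * a) :=
      (QuotientGroup.eq.mpr (hcomm a ha b hb)).symm
    show QuotientGroup.mk' S ⁅g, h⁆ = 1
    rw [map_commutatorElement, commutatorElement_eq_one_iff_mul_comm]
    show (QuotientGroup.mk g : G ⧸ S) * QuotientGroup.mk h = QuotientGroup.mk h * QuotientGroup.mk g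
    rw [hga, hhb]
    exact h4
  · intro hpS
    -- `S ∩ ⟨x⟩ = 1`
    have hSZ : ∀ y ∈ S, y ∈ Z → y = 1 := by
      intro y hyS hyZ
      have h1 : orderOf y ∣ Nat.card S := by
        rw [show y = ((⟨y, hyS⟩ : S) : G) from rfl, Subgroup.orderOf_coe]
        exact orderOf_dvd_natCard _
      have h2 : orderOf y ∣ p := by
        have := orderOf_dvd_of_mem_zpowers hyZ
        rwa [hx] at this
      rcases (Nat.dvd_prime hp).mp h2 with h3 | h3
      · exact orderOf_eq_one_iff.mp h3
      · rw [h3] at h1; exact absurd h1 hpS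
    have hcx : ∀ y : G, y * x = x * y → y ∈ Z := by
      intro y hy
      rw [← hC, mem_centralizer_singleton_iff]; exact hy
    have hSn : ∀ (s : G), s ∈ S → ∀ g : G, g * s * g⁻¹ ∈ S :=
      fun s hs g => (inferInstance : S.Normal).conj_mem s hs g
    -- every element of `xS` is conjugate to `x`
    have hconj : ∀ s ∈ S, ∃ t ∈ S, x * s = t⁻¹ * x * t := by
      let φ : S → S := fun t => ⟨x⁻¹ * (t : G)⁻¹ * x * (t : G), by
        have h1 := hSn (t : G)⁻¹ (inv_mem t.2) x⁻¹
        rw [inv_inv] at h1
        exact S.mul_mem h1 t.2⟩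
      have hinj : Function.Injective φ := by
        intro t u htu
        have h1 : x⁻¹ * (t : G)⁻¹ * x * (t : G) = x⁻¹ * (u : G)⁻¹ * x * (u : G) :=
          congrArg Subtype.val htu
        have h2 : (u : G) * (t : G)⁻¹ * x = x * ((u : G) * (t : G)⁻¹) := by
          calc (u : G) * (t : G)⁻¹ * x
              = u * x * (x⁻¹ * (t : G)⁻¹ * x * (t : G)) * (t : G)⁻¹ := by group
            _ = u * x * (x⁻¹ * (u : G)⁻¹ * x * (u : G)) * (t : G)⁻¹ := by rw [h1]
            _ = _ := by group
        have h3 : (u : G) * (t : G)⁻¹ = 1 :=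
          hSZ _ (S.mul_mem u.2 (inv_mem t.2)) (hcx _ h2)
        exact Subtype.ext (mul_inv_eq_one.mp h3).symm
      have hsurj : Function.Surjective φ := Finite.surjective_of_injective hinj
      intro s hs
      obtain ⟨t, ht⟩ := hsurj ⟨s, hs⟩
      refine ⟨t, t.2, ?_⟩
      have h1 : x⁻¹ * (t : G)⁻¹ * x * (t : G) = s := congrArg Subtype.val ht
      rw [← h1]; group
    refine ⟨?_, ?_, ?_, ?_⟩
    · -- the number of subgroups of order `p`
      have hcnt : Nat.card {H : Subgroup G // Nat.card H = p} = Nat.card (Sylow p G) := by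
        refine Nat.card_congr
          { toFun := fun H => Sylow.ofCard H.1 (by rw [hfac, pow_one]; exact H.2)
            invFun := fun R => ⟨(R : Subgroup G), by rw [R.card_eq_multiplicity, hfac, pow_one]⟩
            left_inv := fun H => Subtype.ext rfl
            right_inv := fun R => Sylow.ext rfl }
      rw [hcnt, P.card_eq_index_normalizer]
      set N := Subgroup.normalizer ((P : Subgroup G) : Set G) with hN
      have hSN : S ⊓ N = ⊥ := by
        rw [eq_bot_iff]
        intro y hy
        obtain ⟨hyS, hyN⟩ := mem_inf.mp hy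
        rw [mem_bot]
        apply hSZ y hyS
        apply hcx
        -- `[y, x] ∈ S ∩ P`
        have h1 : y * x * y⁻¹ ∈ (P : Subgroup G) := (mem_normalizer_iff.mp hyN x).mp hxP
        have h2 : y * x * y⁻¹ * x⁻¹ ∈ Z := by
          rw [hPZ] at h1
          exact Z.mul_mem h1 (inv_mem (mem_zpowers x))
        have h3 : y * x * y⁻¹ * x⁻¹ ∈ S := by
          have : y * x * y⁻¹ * x⁻¹ = y * (x * y⁻¹ * x⁻¹) := by group
          rw [this]
          exact S.mul_mem hyS (hSn _ (inv_mem hyS) x)
        have h4 := hSZ _ h3 h2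
        rwa [mul_inv_eq_one, mul_inv_eq_iff_eq_mul] at h4
      have h1 : S.relIndex (N ⊔ S) = Nat.card N := by
        rw [relIndex_sup_right, ← inf_relIndex_right, hSN, relIndex_bot_left]
      have h2 : Nat.card S * S.relIndex (N ⊔ S) = Nat.card (N ⊔ S : Subgroup G) :=
        Cfsg.Agent.H1.card_mul_relIndex le_sup_right
      rw [h1] at h2
      have h3 : Nat.card S * Nat.card N ∣ N.index * Nat.card N := by
        rw [h2, index_mul_card]
        exact card_subgroup_dvd_card _
      exact Nat.dvd_of_mul_dvd_mul_right Nat.card_pos h3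
    · -- `|S| ≡ 1 mod p`
      have hZp' : IsPGroup p Z := hZp
      let act : MulAction Z S :=
        { smul := fun z s => ⟨(z : G) * s * (z : G)⁻¹, hSn _ s.2 _⟩
          one_smul := fun s => Subtype.ext (by show (1 : G) * s * (1 : G)⁻¹ = s; group)
          mul_smul := fun a b s => Subtype.ext (by
            show ((a * b : Z) : G) * s * ((a * b : Z) : G)⁻¹ = (a : G) * ((b : G) * s * (b : G)⁻¹) * (a : G)⁻¹
            rw [Subgroup.coe_mul]; group) }
      have h1 := hZp'.card_modEq_card_fixedPoints (α := S)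
      have h2 : MulAction.fixedPoints Z S = {1} := by
        ext s
        rw [MulAction.mem_fixedPoints, Set.mem_singleton_iff]
        constructor
        · intro h
          have h3 : x * (s : G) * x⁻¹ = s := congrArg Subtype.val (h ⟨x, mem_zpowers x⟩)
          have h4 : (s : G) * x = x * s := by
            rw [mul_inv_eq_iff_eq_mul] at h3
            exact h3.symm
          exact Subtype.ext (hSZ _ s.2 (hcx _ h4))
        · rintro rfl z
          apply Subtype.ext
          show (z : G) * 1 * (z : G)⁻¹ = 1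
          group
      rw [h2] at h1
      have h3 : Nat.card ({1} : Set S) = 1 := by simp
      rw [h3] at h1
      have h4 : Nat.card S % p = 1 % p := h1
      rwa [Nat.mod_eq_of_lt hp.one_lt] at h4
    · -- order of the image
      have h1 : (QuotientGroup.mk x : G ⧸ S) ≠ 1 := by
        intro h
        rw [QuotientGroup.eq_one_iff] at h
        exact hx1 (hSZ x h (mem_zpowers x))
      refine orderOf_eq_prime ?_ h1
      rw [← QuotientGroup.mk_pow, ← hx, pow_orderOf_eq_one]; rfl
    · apply le_antisymm
      · intro q hq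
        obtain ⟨g, rfl⟩ := QuotientGroup.mk_surjective q
        rw [mem_centralizer_singleton_iff, ← QuotientGroup.mk_mul, ← QuotientGroup.mk_mul,
          eq_comm, QuotientGroup.eq] at hq
        -- `g⁻¹ x g ∈ x S`... 
        have h1 : x⁻¹ * (g⁻¹ * x * g) ∈ S := by
          have h2 := inv_mem hq
          have h3 := hSn _ hq g
          have h4 := hSn _ (inv_mem hq) x⁻¹
          have h5 : (x * g)⁻¹ * (g * x) = g⁻¹ * x⁻¹ * g * x := by group
          rw [h5] at hq
          have h6 := hSn _ (inv_mem hq) 1
          have h7 : x⁻¹ * (g⁻¹ * x * g) = (g⁻¹ * x⁻¹ * g * x)⁻¹ := by group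
          rw [h7]
          exact inv_mem hq
        obtain ⟨t, ht, hts⟩ := hconj _ h1
        have h2 : g⁻¹ * x * g = t⁻¹ * x * t := by
          rw [← hts]; group
        have h3 : g * t⁻¹ ∈ Z := by
          apply hcx
          calc g * t⁻¹ * x = g * (t⁻¹ * x * t) * t⁻¹ := by group
            _ = g * (g⁻¹ * x * g) * t⁻¹ := by rw [h2]
            _ = x * (g * t⁻¹) := by group
        obtain ⟨k, hk⟩ := mem_zpowers_iff.mp h3
        rw [mem_zpowers_iff]
        refine ⟨k, ?_⟩
        rw [← QuotientGroup.mk_zpow, hk, QuotientGroup.eq]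
        have : (g * t⁻¹)⁻¹ * g = t := by group
        rw [this]; exact ht
      · rw [zpowers_le, mem_centralizer_singleton_iff]

end Cfsg.Agent.S4496
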