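import Cfsg.Statements.S4503
import Cfsg.Agent.L.SM8

set_option autoImplicit false
open Cfsg

namespace Cfsg.Agent.S4503

/-- Let G be a finite group whose order is divisible by the prime p exactly once and which has no normal subgroup of order p. Then every faithful character χ of G has degree at least (p − 1)/2: 2·χ(1) + 1 ≥ p. -/
theorem result {G : Type*} [Group G] [Finite G] (p : ℕ) (hp : p.Prime) (hdiv : p ∣ Nat.card G) (hsq : ¬ p ^ 2 ∣ Nat.card G) (hnn : ∀ H : Subgroup G, H.Normal → Nat.card H ≠ p) (χ : G → ℂ) (hχ : Cfsg.IsCharacter G χ) (hfaith : ∀ g : G, χ g = χ 1 → g = 1) : p ≤ 2 * Cfsg.charDegree χ + 1 := by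
  by_contra hlt
  push Not at hlt
  have hF : Fact p.Prime := ⟨hp⟩
  have hn : Nat.card G ≠ 0 := Nat.card_pos.ne'
  have hfac : (Nat.card G).factorization p = 1 := by
    have h1 : 1 ≤ (Nat.card G).factorization p := (hp.dvd_iff_one_le_factorization hn).mp hdiv
    have h2 : ¬ 2 ≤ (Nat.card G).factorization p := fun h =>
      hsq ((hp.pow_dvd_iff_le_factorization hn).mpr h)
    omega
  obtain ⟨S⟩ : Nonempty (Sylow p G) := inferInstance
  have hS : Nat.card S = p := by
    have h1 : Nat.card (S : Subgroup G) = p ^ (Nat.card G).factorization p :=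
      S.card_eq_multiplicity
    rw [hfac, pow_one] at h1
    exact h1
  have h := Cfsg.Agent.LD.Loc.of_sylow S hS
  exact hnn _ (Cfsg.Agent.LD.brauer_small (Nat.card G) G (S : Subgroup G) h χ hχ hfaith hlt rfl) hS

end Cfsg.Agent.S4503
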