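import Cfsg.Statements.S4508
import Cfsg.Agent.H9.SPrE

set_option autoImplicit false
open Cfsg

namespace Cfsg.Agent.S4508

open Subgroup MulAction
open Cfsg.Agent.H9

/-- Let the finite group G contain an element x of prime order p with C_G(x) = ⟨x⟩, and let t be the number of conjugacy classes of elements of order p. If G has an irreducible character of degree p − 1, then t is even or the commutator subgroup has even index. -/
theorem result {G : Type*} [Group G] [Finite G] (p : ℕ) (hp : p.Prime) (x : G) (hx : orderOf x = p) (hC : Subgroup.centralizer ({x} : Set G) = Subgroup.zpowers x) (t : ℕ) (ht : Nat.card {C : ConjClasses G // ∃ g ∈ C.carrier, orderOf g = p} = t) (χ : Cfsg.IrrCharacter G) (hχ : Cfsg.charDegree (χ : G → ℂ) + 1 = p) : Even t ∨ Even (commutator G).index := by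
  classical
  haveI : Fact p.Prime := ⟨hp⟩
  letI : Fintype G := Fintype.ofFinite G
  obtain ⟨h1, h2, h3⟩ := SPr.t_iff hx hC ht
  obtain ⟨c1, c2, c3⟩ := SPr.count hx hC ht
  rcases hp.eq_two_or_odd' with hp2 | hpodd
  · right
    have h4 : t = p - 1 := by subst hp2; omega
    have h5 := (SPr.complement hx hC (h2.mp h4)).2.1
    rw [h5, hp2]
    exact even_two
  by_cases hte : Even t
  · exact Or.inl hte
  right
  rw [Nat.not_even_iff_odd] at hte
  have hp1e : Even (p - 1) := Nat.Odd.sub_odd hpodd odd_one
  set P : Subgroup G := zpowers x with hPdef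
  letI : Fintype P := Fintype.ofFinite P
  have hP : Nat.card P = p := by rw [hPdef, Nat.card_zpowers, hx]
  have hCP : centralizer (P : Set G) = P := by rw [hPdef, O168.centralizer_zpowers', hC]
  have h5 := H1.card_mul_relIndex (K := P) (H := normalizer (P : Set G)) le_normalizer
  set e := P.relIndex (normalizer (P : Set G)) with he
  rw [hP] at h5
  have het : e * t = p - 1 := by
    apply Nat.eq_of_mul_eq_mul_left hp.pos
    rw [← c1, ← h5]; ring
  have hp2' : 2 < p := lt_of_le_of_ne hp.two_le (fun h => by rw [← h] at hpodd; exact absurd hpodd (by decide))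
  have heeven : Even e := by
    rw [← het, Nat.even_mul] at hp1e
    rcases hp1e with h | h
    · exact h
    · exact absurd h (Nat.not_even_iff_odd.mpr hte)
  have he0 : 0 < e := Nat.pos_of_ne_zero (by rintro h; rw [h, zero_mul] at het; omega)
  have he2 : 2 ≤ e := by
    obtain ⟨k, hk⟩ := heeven
    omega
  -- the character
  have hχirr : IsIrrCharacter G (χ : G → ℂ) := χ.2
  obtain ⟨d, hd0, hd⟩ := H3.irr_one_eq_nat hχirr
  have hdp : d = p - 1 := by
    have h6 : Cfsg.charDegree (χ : G → ℂ) = d := by
      unfold Cfsg.charDegree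
      rw [hd]
      simp
    omega
  rw [hdp] at hd
  have hne : (χ : G → ℂ) ≠ fun _ => 1 := by
    intro h
    rw [h] at hd
    have h6 : (1 : ℂ) = ((p - 1 : ℕ) : ℂ) := hd
    have h7 : 1 = p - 1 := by exact_mod_cast h6
    omega
  have hfix := SPr.no_fixed hP hCP h5.symm he2 (Dvd.intro _ het) hχirr hd hne
  have hvan := fun z hz hzP => SPr.vanish hP hCP (H3.irr_isChar hχirr) hfix (z := z) hz hzP
  -- the Sylow 2-subgroup of the normalizer
  haveI : Fact (Nat.Prime 2) := ⟨Nat.prime_two⟩
  obtain ⟨T⟩ : Nonempty (Sylow 2 (normalizer (P : Set G))) := inferInstance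
  haveI : IsCyclic P := isCyclic_of_prime_card hP
  have hinj : Function.Injective ((P.normalizerMonoidHom).comp (T : Subgroup (normalizer (P : Set G))).subtype) := by
    rw [injective_iff_map_eq_one]
    intro u hu
    have h6 : (u : normalizer (P : Set G)) ∈ (P.normalizerMonoidHom).ker := MonoidHom.mem_ker.mpr hu
    rw [normalizerMonoidHom_ker, hCP, mem_subgroupOf] at h6
    obtain ⟨k, hk⟩ := T.isPGroup' u
    have h7 : orderOf ((u : normalizer (P : Set G)) : G) ∣ p := by
      rw [← hP]; exact P.orderOf_dvd_natCard h6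
    have h8 : orderOf ((u : normalizer (P : Set G)) : G) ∣ 2 ^ k := by
      apply orderOf_dvd_of_pow_eq_one
      have := congrArg (fun w : (T : Subgroup (normalizer (P : Set G))) => ((w : normalizer (P : Set G)) : G)) hk
      simpa using this
    have h9 : Nat.Coprime p (2 ^ k) := Nat.Coprime.pow_right _ ((Nat.coprime_primes hp Nat.prime_two).mpr hp2'.ne')
    have h10 : orderOf ((u : normalizer (P : Set G)) : G) = 1 := by
      apply Nat.dvd_one.mp
      rw [← h9]
      exact Nat.dvd_gcd h7 h8
    exact Subtype.ext (Subtype.ext (orderOf_eq_one_iff.mp h10))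
  haveI hcyc : IsCyclic (ZMod (Nat.card P))ˣ := by
    rw [hP]; infer_instance
  haveI hcyc2 : IsCyclic (MulAut P) := isCyclic_of_injective (IsCyclic.mulAutMulEquiv P).toMonoidHom (IsCyclic.mulAutMulEquiv P).injective
  haveI hTc : IsCyclic (T : Subgroup (normalizer (P : Set G))) := isCyclic_of_injective _ hinj
  obtain ⟨y0, hy0⟩ := hTc.exists_generator
  set y : G := ((y0 : normalizer (P : Set G)) : G) with hy
  have hyN : y ∈ normalizer (P : Set G) := y0.1.2
  have hyo : orderOf y = Nat.card (T : Subgroup (normalizer (P : Set G))) := by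
    rw [hy, orderOf_coe, orderOf_coe]
    exact orderOf_eq_card_of_forall_mem_zpowers hy0
  obtain ⟨s, hs⟩ := IsPGroup.iff_card.mp T.isPGroup'
  set q := Nat.card (T : Subgroup (normalizer (P : Set G))) with hq
  -- arithmetic
  have hTi := T.not_dvd_index
  have hTm := card_mul_index (T : Subgroup (normalizer (P : Set G)))
  set r := (T : Subgroup (normalizer (P : Set G))).index with hr
  rw [← h5] at hTm
  have hcop : Nat.Coprime q p := by
    rw [hs]
    exact Nat.Coprime.pow_left _ ((Nat.coprime_primes Nat.prime_two hp).mpr hp2'.ne)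
  obtain ⟨e', he'⟩ : q ∣ e := hcop.dvd_of_dvd_mul_left (Dvd.intro r hTm)
  have hq0 : 0 < q := Nat.card_pos
  have hre' : r = p * e' := by
    apply Nat.eq_of_mul_eq_mul_left hq0
    change q * r = q * (p * e')
    calc q * r = p * e := hTm
      _ = q * (p * e') := by rw [he']; ring
  have he'odd : Odd e' := by
    rw [← Nat.not_even_iff_odd]
    intro h
    apply hTi
    change 2 ∣ r
    rw [hre']
    exact Dvd.dvd.mul_left h.two_dvd p
  have hqe : Even q := by
    by_contra hcon
    rw [Nat.not_even_iff_odd] at hcon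
    have : Odd e := by rw [he']; exact hcon.mul he'odd
    exact (Nat.not_even_iff_odd.mpr this) heeven
  have hyk : ∀ k, 0 < k → k < q → (χ : G → ℂ) (y ^ k) = 0 := by
    intro k hk0 hkq
    apply hvan _ (pow_mem hyN k)
    intro hmem
    have h7 : orderOf (y ^ k) ∣ p := by
      rw [← hP]; exact P.orderOf_dvd_natCard hmem
    have h8 : orderOf (y ^ k) ∣ q := by
      rw [← hyo]; exact orderOf_pow_dvd k
    have h9 : orderOf (y ^ k) = 1 := by
      apply Nat.dvd_one.mp
      rw [← hcop]
      exact Nat.dvd_gcd h8 h7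
    rw [orderOf_eq_one_iff] at h9
    have h10 := orderOf_dvd_of_pow_eq_one h9
    rw [hyo] at h10
    exact absurd (Nat.le_of_dvd hk0 h10) (by omega)
  obtain ⟨n, ρ, hρ, hρχ⟩ := hχirr
  refine SPr.even_index (y := y) (q := q) (m := e' * t) hyo hqe (he'odd.mul hte) ρ ?_ ?_
  · have h6 : ρ.character 1 = (χ : G → ℂ) 1 := by rw [← hρχ]
    rw [h6, hd, ← het, he', mul_assoc]
  · intro k hk0 hkq
    have h6 : ρ.character (y ^ k) = (χ : G → ℂ) (y ^ k) := by rw [← hρχ]
    rw [h6, hyk k hk0 hkq]

end Cfsg.Agent.S4508
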