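import Cfsg.Statements.S3224
import Cfsg.Agent.H20.Basic
import Cfsg.Agent.H22.Dihedral

set_option autoImplicit false
open Cfsg


namespace Cfsg.Agent.S3224


universe u

/-- counting via a homomorphism -/
theorem card_le_mul {G H : Type*} [Group G] [Group H] [Finite G] (f : G →* H) {a b : ℕ}
    (hr : Nat.card f.range ≤ a) (hk : Nat.card f.ker ≤ b) : Nat.card G ≤ a * b := by
  have h5 : Nat.card G = Nat.card f.range * Nat.card f.ker := by
    rw [← Nat.card_congr (QuotientGroup.quotientKerEquivRange f).toEquiv]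
    exact Subgroup.card_eq_card_quotient_mul_card_subgroup f.ker
  rw [h5]; exact Nat.mul_le_mul hr hk

theorem base {S : Type u} [Group S] [Finite S] (hcard : Nat.card S = 8) (x : S)
    (hx : orderOf x = 2) (hC : Nat.card (Subgroup.centralizer ({x} : Set S)) ≤ 4) :
    ∃ y : S, orderOf y = 4 ∧ x ∉ Subgroup.zpowers y := by
  have hCtop : ¬ ∀ s : S, s * x = x * s := by
    intro h
    have : Subgroup.centralizer ({x} : Set S) = ⊤ := by
      rw [eq_top_iff]; intro s _
      exact Subgroup.mem_centralizer_singleton_iff.mpr (h s)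
    rw [this, Subgroup.card_top, hcard] at hC
    omega
  obtain ⟨y, hy⟩ : ∃ y : S, y ^ 2 ≠ 1 := by
    by_contra hcon
    push Not at hcon
    apply hCtop
    intro s
    have hinv : ∀ t : S, t⁻¹ = t := fun t => by
      rw [inv_eq_iff_mul_eq_one, ← pow_two, hcon]
    have := hinv (s * x)
    rw [mul_inv_rev, hinv, hinv] at this
    exact this.symm
  have hyd : orderOf y ∣ 2 ^ 3 := by
    have := orderOf_dvd_natCard y
    rwa [hcard] at this
  have hy4 : orderOf y = 4 := by
    obtain ⟨k, hk, hk2⟩ := (Nat.dvd_prime_pow Nat.prime_two).mp hyd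
    interval_cases k
    · exfalso; apply hy
      rw [pow_zero, orderOf_eq_one_iff] at hk2
      rw [hk2, one_pow]
    · exfalso; apply hy
      rw [pow_one] at hk2
      rw [← hk2]; exact pow_orderOf_eq_one y
    · rw [hk2]; norm_num
    · exfalso
      have hcyc : IsCyclic S := isCyclic_of_orderOf_eq_card y (by rw [hk2, hcard]; norm_num)
      apply hCtop
      intro s
      exact (IsCyclic.isMulCommutative (α := S)).1.1 s x
  refine ⟨y, hy4, ?_⟩
  intro hxy
  have hidx : (Subgroup.zpowers y).index = 2 := by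
    have h1 := (Subgroup.zpowers y).index_mul_card
    rw [Nat.card_zpowers, hy4, hcard] at h1
    omega
  have hn : (Subgroup.zpowers y).Normal := Subgroup.normal_of_index_eq_two hidx
  -- x = y^2
  have hmem : ∀ w ∈ Subgroup.zpowers y, orderOf w = 4 → w ^ 2 = y ^ 2 := by
    intro w hw hwo
    obtain ⟨k, rfl⟩ := mem_powers_iff_mem_zpowers.mpr hw
    simp only at hwo ⊢
    have hy4' : y ^ 4 = 1 := by rw [← hy4]; exact pow_orderOf_eq_one y
    rcases Nat.even_or_odd' k with ⟨j, rfl | rfl⟩
    · exfalso
      have h1 : (y ^ (2 * j)) ^ 2 = 1 := by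
        rw [← pow_mul]
        have : 2 * j * 2 = 4 * j := by ring
        rw [this, pow_mul, hy4', one_pow]
      have := orderOf_dvd_of_pow_eq_one h1
      rw [hwo] at this
      have := Nat.le_of_dvd (by norm_num) this
      omega
    · rw [← pow_mul]
      have : (2 * j + 1) * 2 = 4 * j + 2 := by ring
      rw [this, pow_add, pow_mul, hy4', one_pow, one_mul]
  have hxy2 : x = y ^ 2 := by
    obtain ⟨k, rfl⟩ := mem_powers_iff_mem_zpowers.mpr hxy
    simp only at hx ⊢
    have hy4' : y ^ 4 = 1 := by rw [← hy4]; exact pow_orderOf_eq_one y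
    have hkx : (y ^ k) ^ 2 = 1 := by rw [← hx]; exact pow_orderOf_eq_one _
    have hk1 : y ^ k ≠ 1 := by
      intro h; rw [h, orderOf_one] at hx; omega
    rw [← pow_mul, ← orderOf_dvd_iff_pow_eq_one, hy4] at hkx
    have h2k : 2 ∣ k := by omega
    obtain ⟨j, rfl⟩ := h2k
    rcases Nat.even_or_odd' j with ⟨l, rfl | rfl⟩
    · exfalso; apply hk1
      have : 2 * (2 * l) = 4 * l := by ring
      rw [this, pow_mul, hy4', one_pow]
    · have : 2 * (2 * l + 1) = 4 * l + 2 := by ring
      rw [this, pow_add, pow_mul, hy4', one_pow, one_mul]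
  apply hCtop
  intro s
  have h1 : s * y * s⁻¹ ∈ Subgroup.zpowers y := hn.conj_mem y (Subgroup.mem_zpowers y) s
  have h2 : orderOf (s * y * s⁻¹) = 4 := by
    rw [← hy4]; exact (orderOf_injective (MulAut.conj s).toMonoidHom (MulAut.conj s).injective y)
  have h3 := hmem _ h1 h2
  rw [conj_pow, ← hxy2] at h3
  exact mul_inv_eq_iff_eq_mul.mp h3

theorem exists_y : ∀ (m : ℕ) (S : Type u) [Group S] [Finite S], Nat.card S = 2 ^ (m + 3) → ∀ x : S,
    orderOf x = 2 → Nat.card (Subgroup.centralizer ({x} : Set S)) ≤ 4 →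
    ∃ y : S, orderOf y = 2 ^ (m + 2) ∧ x ∉ Subgroup.zpowers y := by
  intro m
  induction m with
  | zero =>
    intro S _ _ hcard x hx hC
    exact base (by rw [hcard]; norm_num) x hx hC
  | succ m ih =>
    intro S _ _ hcard x hx hC
    have hf : Fact (Nat.Prime 2) := ⟨Nat.prime_two⟩
    have hS : IsPGroup 2 S := IsPGroup.of_card hcard
    have hbig : 16 ≤ Nat.card S := by
      rw [hcard]
      calc 16 = 2 ^ 4 := by norm_num
        _ ≤ 2 ^ (m + 1 + 3) := Nat.pow_le_pow_right (by norm_num) (by omega)
    have hCtop : ¬ ∀ s : S, s * x = x * s := by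
      intro h
      have : Subgroup.centralizer ({x} : Set S) = ⊤ := by
        rw [eq_top_iff]; intro s _
        exact Subgroup.mem_centralizer_singleton_iff.mpr (h s)
      rw [this, Subgroup.card_top] at hC
      omega
    have hx2 : x ^ 2 = 1 := by rw [← hx]; exact pow_orderOf_eq_one x
    have hx1 : x ≠ 1 := by intro h; rw [h, orderOf_one] at hx; omega
    -- central involution
    have hnt : Nontrivial S := by
      rw [← Finite.one_lt_card_iff_nontrivial]; omega
    have hZ : Nontrivial (Subgroup.center S) := hS.center_nontrivial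
    have hZ2 : 2 ∣ Nat.card (Subgroup.center S) := by
      rcases (hS.to_subgroup (Subgroup.center S)).card_eq_or_dvd with h | h
      · have := Finite.one_lt_card_iff_nontrivial.mpr hZ
        omega
      · exact h
    obtain ⟨⟨z, hzc⟩, hz⟩ := exists_prime_orderOf_dvd_card' 2 hZ2
    rw [Subgroup.orderOf_mk] at hz
    rw [Subgroup.mem_center_iff] at hzc
    have hz2 : z ^ 2 = 1 := by rw [← hz]; exact pow_orderOf_eq_one z
    have hz1 : z ≠ 1 := by intro h; rw [h, orderOf_one] at hz; omega
    have hxz : x ≠ z := by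
      intro h; apply hCtop; intro s; rw [h]; exact hzc s
    have hmemz : ∀ w ∈ Subgroup.zpowers z, w = 1 ∨ w = z := fun w hw =>
      H20.mem_zpowers_of_orderOf_two hz hw
    have hNn : (Subgroup.zpowers z).Normal := by
      refine ⟨fun n hn g => ?_⟩
      have : g * n * g⁻¹ = n := by
        rcases hmemz n hn with h | h
        · rw [h]; group
        · rw [h, hzc g, mul_inv_cancel_right]
      rwa [this]
    have hxN : x ∉ Subgroup.zpowers z := by
      intro h
      rcases hmemz x h with h | h
      · exact hx1 h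
      · exact hxz h
    -- centralizer of x is {1,x,z,xz}
    have hCx : ∀ c : S, c * x = x * c → c = 1 ∨ c = x ∨ c = z ∨ c = x * z := by
      intro c hc
      by_contra hcon
      push Not at hcon
      obtain ⟨h1, h2, h3, h4⟩ := hcon
      classical
      have hsub : ({1, x, z, x * z, c} : Set S) ⊆ (Subgroup.centralizer ({x} : Set S) : Set S) := by
        intro w hw
        simp only [Set.mem_insert_iff, Set.mem_singleton_iff] at hw
        change w ∈ Subgroup.centralizer ({x} : Set S)
        rw [Subgroup.mem_centralizer_singleton_iff]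
        rcases hw with rfl | rfl | rfl | rfl | rfl
        · simp
        · rfl
        · exact (hzc x).symm
        · rw [mul_assoc, ← hzc x]
        · exact hc
      have hle := Set.ncard_le_ncard hsub (Set.toFinite _)
      have hxz1 : x * z ≠ 1 := by
        intro h; apply hxz
        have : z⁻¹ = z := by rw [inv_eq_iff_mul_eq_one, ← pow_two, hz2]
        rw [← this]; exact eq_inv_of_mul_eq_one_left h
      have h5 : ({1, x, z, x * z, c} : Set S).ncard = 5 := by
        have : ({1, x, z, x * z, c} : Set S) = (({1, x, z, x * z, c} : Finset S) : Set S) := by simp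
        rw [this, Set.ncard_coe_finset]
        rw [Finset.card_insert_of_notMem, Finset.card_insert_of_notMem, Finset.card_insert_of_notMem,
          Finset.card_insert_of_notMem, Finset.card_singleton]
        · simp; exact fun h => h4 h.symm
        · simp only [Finset.mem_insert, Finset.mem_singleton, not_or]
          exact ⟨fun h => hx1 (by simpa using h), fun h => h3 h.symm⟩
        · simp only [Finset.mem_insert, Finset.mem_singleton, not_or]
          exact ⟨hxz, fun h => hz1 (by simpa using h), fun h => h2 h.symm⟩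
        · simp only [Finset.mem_insert, Finset.mem_singleton, not_or]
          exact ⟨fun h => hx1 h.symm, fun h => hz1 h.symm, fun h => hxz1 h.symm, fun h => h1 h.symm⟩
      rw [h5] at hle
      have : (Subgroup.centralizer ({x} : Set S) : Set S).ncard =
        Nat.card (Subgroup.centralizer ({x} : Set S)) := rfl
      omega
    -- quotient
    let q := QuotientGroup.mk' (Subgroup.zpowers z)
    have hqs : Function.Surjective q := QuotientGroup.mk'_surjective _
    have hqk : ∀ w : S, q w = 1 ↔ w ∈ Subgroup.zpowers z := fun w => QuotientGroup.eq_one_iff w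
    have hqcard : Nat.card (S ⧸ Subgroup.zpowers z) = 2 ^ (m + 3) := by
      have h1 := Subgroup.card_eq_card_quotient_mul_card_subgroup (Subgroup.zpowers z)
      rw [Nat.card_zpowers, hz, hcard] at h1
      have h2 : 2 ^ (m + 1 + 3) = 2 ^ (m + 3) * 2 := by rw [← pow_succ]
      rw [h2] at h1
      exact (Nat.eq_of_mul_eq_mul_right (by norm_num) h1).symm
    have hqx : orderOf (q x) = 2 := by
      apply orderOf_eq_prime
      · rw [← map_pow, hx2, map_one]
      · intro h; exact hxN ((hqk x).mp h)
    have hqC : Nat.card (Subgroup.centralizer ({q x} : Set (S ⧸ Subgroup.zpowers z))) ≤ 4 := by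
      set D : Subgroup S := (Subgroup.centralizer ({q x} : Set (S ⧸ Subgroup.zpowers z))).comap q with hD
      have hDmem : ∀ d ∈ D, x * d * x⁻¹ * d⁻¹ ∈ Subgroup.zpowers z := by
        intro d hd
        have h1 := Subgroup.mem_centralizer_singleton_iff.mp (Subgroup.mem_comap.mp hd)
        rw [← hqk, map_mul, map_mul, map_mul, map_inv, map_inv, ← h1]
        group
      have hDcen : ∀ d ∈ D, ∀ w : S, w * (x * d * x⁻¹ * d⁻¹) = (x * d * x⁻¹ * d⁻¹) * w := by
        intro d hd w
        rcases hmemz _ (hDmem d hd) with h | h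
        · rw [h]; simp
        · rw [h]; exact hzc w
      let f : D →* Subgroup.zpowers z :=
        { toFun := fun d => ⟨x * d * x⁻¹ * d⁻¹, hDmem d d.2⟩
          map_one' := by apply Subtype.ext; simp
          map_mul' := by
            rintro ⟨a, ha⟩ ⟨b, hb⟩
            apply Subtype.ext
            change x * (a * b) * x⁻¹ * (a * b)⁻¹ = (x * a * x⁻¹ * a⁻¹) * (x * b * x⁻¹ * b⁻¹)
            have h1 := hDcen b hb a⁻¹
            calc x * (a * b) * x⁻¹ * (a * b)⁻¹ = x * a * x⁻¹ * ((x * b * x⁻¹ * b⁻¹) * a⁻¹) := by group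
              _ = x * a * x⁻¹ * (a⁻¹ * (x * b * x⁻¹ * b⁻¹)) := by rw [h1]
              _ = _ := by group }
      have hDcard : Nat.card D ≤ 2 * 4 := by
        apply card_le_mul f
        · calc Nat.card f.range ≤ Nat.card (Subgroup.zpowers z) :=
              Nat.card_le_card_of_injective _ Subtype.val_injective
            _ = 2 := by rw [Nat.card_zpowers, hz]
        · have hker : ∀ d : f.ker, ((d : D) : S) ∈ Subgroup.centralizer ({x} : Set S) := by
            rintro ⟨⟨d, hd⟩, hk⟩
            have h1 : x * d * x⁻¹ * d⁻¹ = 1 := congrArg Subtype.val (MonoidHom.mem_ker.mp hk)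
            change d ∈ Subgroup.centralizer ({x} : Set S)
            rw [Subgroup.mem_centralizer_singleton_iff]
            rw [mul_inv_eq_one, mul_inv_eq_iff_eq_mul] at h1
            exact h1.symm
          refine (Nat.card_le_card_of_injective (fun d : f.ker => (⟨((d : D) : S), hker d⟩ :
            Subgroup.centralizer ({x} : Set S))) ?_).trans hC
          intro a b hab
          exact Subtype.ext (Subtype.ext (by simpa using hab))
      have hDcard2 : Nat.card D = Nat.card (Subgroup.centralizer ({q x} : Set (S ⧸ Subgroup.zpowers z))) * 2 := by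
        have h1 : D.index * Nat.card D = Nat.card S := D.index_mul_card
        have h2 : D.index = (Subgroup.centralizer ({q x} : Set (S ⧸ Subgroup.zpowers z))).index :=
          Subgroup.index_comap_of_surjective _ hqs
        have h3 := (Subgroup.centralizer ({q x} : Set (S ⧸ Subgroup.zpowers z))).index_mul_card
        have h4 := Subgroup.card_eq_card_quotient_mul_card_subgroup (Subgroup.zpowers z)
        rw [Nat.card_zpowers, hz] at h4
        have hpos : 0 < (Subgroup.centralizer ({q x} : Set (S ⧸ Subgroup.zpowers z))).index :=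
          Nat.pos_of_ne_zero Subgroup.index_ne_zero_of_finite
        rw [h2] at h1
        apply Nat.eq_of_mul_eq_mul_left hpos
        rw [h1, h4, ← h3]; ring
      omega
    obtain ⟨yq, hyq, hxyq⟩ := ih (S ⧸ Subgroup.zpowers z) hqcard (q x) hqx hqC
    obtain ⟨y, rfl⟩ := hqs yq
    have hxy : x ∉ Subgroup.zpowers y := by
      rintro ⟨k, hk⟩
      apply hxyq
      refine ⟨k, ?_⟩
      change (q y) ^ k = q x
      rw [← map_zpow]; exact congrArg q hk
    refine ⟨y, ?_, hxy⟩
    have hyN : y ^ (2 ^ (m + 2)) ∈ Subgroup.zpowers z := by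
      rw [← hqk, map_pow, ← hyq, pow_orderOf_eq_one]
    have hyhalf : y ^ (2 ^ (m + 1)) ∉ Subgroup.zpowers z := by
      rw [← hqk, map_pow]
      intro h
      have := orderOf_dvd_of_pow_eq_one h
      rw [hyq] at this
      have := (Nat.pow_dvd_pow_iff_le_right (by norm_num)).mp this
      omega
    rcases hmemz _ hyN with h | h
    · exfalso
      set w := y ^ (2 ^ (m + 1)) with hw
      have hw2 : w ^ 2 = 1 := by
        rw [hw, ← pow_mul, ← pow_succ]; exact h
      have hw1 : w ≠ 1 := fun h' => hyhalf (h' ▸ one_mem _)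
      -- Y = preimage of ⟨q y⟩, index 2
      have hYidx : (Subgroup.zpowers (q y)).index = 2 := by
        have h1 := (Subgroup.zpowers (q y)).index_mul_card
        rw [Nat.card_zpowers, hyq, hqcard] at h1
        have h2 : 2 ^ (m + 3) = 2 * 2 ^ (m + 2) := by rw [← pow_succ']
        rw [h2] at h1
        exact Nat.eq_of_mul_eq_mul_right (by positivity) h1
      have hYn : (Subgroup.zpowers (q y)).Normal := Subgroup.normal_of_index_eq_two hYidx
      obtain ⟨i, hi⟩ := hYn.conj_mem (q y) (Subgroup.mem_zpowers _) (q x)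
      have hi' : (q y) ^ i = q x * q y * (q x)⁻¹ := hi
      have h1 : (y ^ i)⁻¹ * (x * y * x⁻¹) ∈ Subgroup.zpowers z := by
        rw [← hqk, map_mul, map_inv, map_zpow, map_mul, map_mul, map_inv, hi']
        group
      have h2 : (x * y * x⁻¹) ^ 2 = (y ^ i) ^ 2 := by
        have h3 : x * y * x⁻¹ = y ^ i * ((y ^ i)⁻¹ * (x * y * x⁻¹)) := by group
        rcases hmemz _ h1 with h4 | h4
        · rw [h3, h4, mul_one]
        · rw [h3, h4]
          have : Commute (y ^ i) z := hzc (y ^ i)
          rw [this.mul_pow, hz2, mul_one]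
      have h3 : x * w * x⁻¹ = w ^ i := by
        have h4 : w = (y ^ 2) ^ (2 ^ m) := by rw [hw, ← pow_mul, ← pow_succ']
        rw [h4, ← conj_pow, ← conj_pow, h2]
        rw [← zpow_natCast, ← zpow_natCast, ← zpow_natCast, ← zpow_natCast]
        rw [← zpow_mul, ← zpow_mul, ← zpow_mul, ← zpow_mul]
        congr 1; ring
      have h5 : w ^ i = w := by
        rcases Int.even_or_odd' i with ⟨j, rfl | rfl⟩
        · exfalso; apply hw1
          have h6 : w ^ (2 * j) = 1 := by
            rw [zpow_mul]
            have : w ^ (2 : ℤ) = 1 := by exact_mod_cast hw2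
            rw [this, one_zpow]
          rw [h6] at h3
          have := congrArg (fun t => x⁻¹ * t * x) h3
          simpa [mul_assoc] using this
        · rw [zpow_add, zpow_mul]
          have : w ^ (2 : ℤ) = 1 := by exact_mod_cast hw2
          rw [this, one_zpow, one_mul, zpow_one]
      rw [h5] at h3
      have h6 : w * x = x * w := (mul_inv_eq_iff_eq_mul.mp h3).symm
      have hwy : q w ∈ Subgroup.zpowers (q y) := by
        rw [hw, map_pow]; exact pow_mem (Subgroup.mem_zpowers _) _
      rcases hCx w h6 with h7 | h7 | h7 | h7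
      · exact hw1 h7
      · apply hxyq; rw [← h7]; exact hwy
      · apply hyhalf; rw [h7]; exact Subgroup.mem_zpowers z
      · apply hxyq
        have h8 : q w = q x := by
          rw [h7, map_mul, (hqk z).mpr (Subgroup.mem_zpowers z), mul_one]
        rw [← h8]; exact hwy
    · have h1 : y ^ (2 ^ (m + 3)) = 1 := by
        rw [pow_succ, pow_mul, h, hz2]
      obtain ⟨k, hk1, hk2⟩ := (Nat.dvd_prime_pow Nat.prime_two).mp (orderOf_dvd_of_pow_eq_one h1)
      have h2 : m + 3 ≤ k := by
        by_contra hcon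
        have h3 : y ^ (2 ^ (m + 2)) = 1 := by
          rw [← orderOf_dvd_iff_pow_eq_one, hk2]
          exact pow_dvd_pow 2 (by omega)
        rw [h3] at h; exact hz1 h.symm
      have : k = m + 3 := by omega
      rw [hk2, this]

/-- A finite 2-group containing an involution whose centralizer has order 4 is dihedral, quasi-dihedral (semidihedral), or of order 4. -/
theorem result {S : Type*} [Group S] [Finite S] (hS : IsPGroup 2 S)
    (x : S) (hx : orderOf x = 2) (hC : Nat.card ↥(Subgroup.centralizer ({x} : Set S)) = 4) :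
    (∃ n : ℕ, Nonempty (S ≃* DihedralGroup n)) ∨ Cfsg.IsQuasiDihedral S ∨ Nat.card S = 4 := by
  classical
  have hf : Fact (Nat.Prime 2) := ⟨Nat.prime_two⟩
  obtain ⟨k, hk⟩ := IsPGroup.iff_card.mp hS
  have hx2 : x ^ 2 = 1 := by rw [← hx]; exact pow_orderOf_eq_one x
  have h4 : 4 ∣ Nat.card S := by rw [← hC]; exact Subgroup.card_subgroup_dvd_card _
  have hk2 : 2 ≤ k := by
    rw [hk] at h4
    exact (Nat.pow_dvd_pow_iff_le_right (x := 2) (by norm_num)).mp (by simpa using h4)
  rcases Nat.eq_or_lt_of_le hk2 with h | h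
  · right; right; rw [hk, ← h]; norm_num
  obtain ⟨m, rfl⟩ : ∃ m, k = m + 3 := ⟨k - 3, by omega⟩
  obtain ⟨y, hy, hxy⟩ := exists_y m S hk x hx hC.le
  have hidx : (Subgroup.zpowers y).index = 2 := by
    have h1 := (Subgroup.zpowers y).index_mul_card
    rw [Nat.card_zpowers, hy, hk] at h1
    have h2 : 2 ^ (m + 3) = 2 * 2 ^ (m + 2) := by rw [← pow_succ']
    rw [h2] at h1
    exact Nat.eq_of_mul_eq_mul_right (by positivity) h1
  have hYn : (Subgroup.zpowers y).Normal := Subgroup.normal_of_index_eq_two hidx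
  obtain ⟨i, hi⟩ : ∃ i : ℕ, x * y * x⁻¹ = y ^ i := by
    obtain ⟨i, hi⟩ := mem_powers_iff_mem_zpowers.mpr (hYn.conj_mem y (Subgroup.mem_zpowers _) x)
    exact ⟨i, hi.symm⟩
  have hyo : y ^ (2 ^ (m + 2)) = 1 := by rw [← hy]; exact pow_orderOf_eq_one y
  have hiodd : Odd i := by
    rw [← Nat.not_even_iff_odd]
    rintro ⟨j, hj⟩
    have h1 : (x * y * x⁻¹) ^ (2 ^ (m + 1)) = 1 := by
      rw [hi, ← pow_mul, hj, ← two_mul, mul_comm 2 j, mul_assoc, ← pow_succ', mul_comm, pow_mul, hyo, one_pow]
    rw [conj_pow] at h1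
    have h2 : y ^ (2 ^ (m + 1)) = 1 := by
      have := congrArg (fun t => x⁻¹ * t * x) h1
      simpa [mul_assoc] using this
    have := orderOf_dvd_of_pow_eq_one h2
    rw [hy] at this
    have := (Nat.pow_dvd_pow_iff_le_right (by norm_num)).mp this
    omega
  have hi4 : i % 4 = 3 := by
    have h1 : i % 4 = 1 ∨ i % 4 = 3 := by
      obtain ⟨j, hj⟩ := hiodd
      omega
    rcases h1 with h1 | h1
    · exfalso
      -- c = y^(2^m) has order 4 and commutes with x
      set c := y ^ (2 ^ m) with hc
      have hco : orderOf c = 4 := by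
        rw [hc, orderOf_pow, hy, Nat.gcd_eq_right (pow_dvd_pow 2 (by omega)), pow_add]
        rw [Nat.mul_div_cancel_left _ (by positivity)]; norm_num
      have hcx : x * c * x⁻¹ = c := by
        rw [hc, ← conj_pow, hi, ← pow_mul]
        obtain ⟨j, hj⟩ : ∃ j, i = 4 * j + 1 := ⟨i / 4, by omega⟩
        have : i * 2 ^ m = 2 ^ (m + 2) * j + 2 ^ m := by rw [hj, pow_add]; ring
        rw [this, pow_add, pow_mul, hyo, one_pow, one_mul]
      have hcC : Subgroup.zpowers c ≤ Subgroup.centralizer ({x} : Set S) := by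
        rw [Subgroup.zpowers_le, Subgroup.mem_centralizer_singleton_iff]
        exact (mul_inv_eq_iff_eq_mul.mp hcx).symm
      have heq : Subgroup.zpowers c = Subgroup.centralizer ({x} : Set S) :=
        Subgroup.eq_of_le_of_card_ge hcC (by rw [hC, Nat.card_zpowers, hco])
      apply hxy
      have h2 : x ∈ Subgroup.zpowers c := by
        rw [heq, Subgroup.mem_centralizer_singleton_iff]
      exact (Subgroup.zpowers_le.mpr (pow_mem (Subgroup.mem_zpowers y) (2 ^ m))) h2
    · exact h1
  have hisq : y ^ (i * i) = y ^ 1 := by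
    have h1 : x * (x * y * x⁻¹) * x⁻¹ = y := by
      calc x * (x * y * x⁻¹) * x⁻¹ = x ^ 2 * y * (x ^ 2)⁻¹ := by rw [pow_two]; group
        _ = y := by rw [hx2]; simp
    rw [hi, ← conj_pow, hi, ← pow_mul] at h1
    rw [h1, pow_one]
  rw [pow_eq_pow_iff_modEq, hy] at hisq
  obtain ⟨j, hj⟩ : ∃ j, i = 4 * j + 3 := ⟨i / 4, by omega⟩
  have hdvd : 2 ^ (m + 1) ∣ i + 1 := by
    have h1 : 2 ^ (m + 2) ∣ i * i - 1 := (Nat.modEq_iff_dvd' (by nlinarith)).mp hisq.symm
    have h2 : i * i - 1 = 2 * ((2 * j + 1) * (i + 1)) := by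
      rw [hj]
      have : (4 * j + 3) * (4 * j + 3) = 2 * ((2 * j + 1) * (4 * j + 3 + 1)) + 1 := by ring
      omega
    rw [h2, pow_succ', ] at h1
    have h3 := Nat.dvd_of_mul_dvd_mul_left (by norm_num) h1
    apply Nat.Coprime.dvd_of_dvd_mul_left _ h3
    apply Nat.Coprime.pow_left
    rw [Nat.coprime_two_left]; exact ⟨j, rfl⟩
  obtain ⟨t, ht⟩ := hdvd
  have hyi : y ^ i * y = (y ^ (2 ^ (m + 1))) ^ t := by
    rw [← pow_succ, ht, pow_mul]
  have hz2 : (y ^ (2 ^ (m + 1))) ^ 2 = 1 := by rw [← pow_mul, ← pow_succ]; exact hyo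
  rcases Nat.even_or_odd' t with ⟨l, hl | hl⟩
  · left
    have h1 : y ^ i * y = 1 := by rw [hyi, hl, pow_mul, hz2, one_pow]
    have h2 : y ^ i = y⁻¹ := eq_inv_of_mul_eq_one_left h1
    refine ⟨2 ^ (m + 2), ?_⟩
    have hxi : x⁻¹ = x := by rw [inv_eq_iff_mul_eq_one, ← pow_two, hx2]
    apply H22.nonempty_mulEquiv_dihedralGroup (2 ^ (m + 2)) y x (by rw [← pow_two]; exact hx2) ?_ hy hxy
    · rw [eq_top_iff]
      intro s _
      have hyc : Subgroup.zpowers y ≤ Subgroup.closure {y, x} := by
        rw [Subgroup.zpowers_le]; exact Subgroup.subset_closure (by simp)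
      have hxc : x ∈ Subgroup.closure {y, x} := Subgroup.subset_closure (by simp)
      by_cases hs : s ∈ Subgroup.zpowers y
      · exact hyc hs
      · have h3 : x⁻¹ * s ∈ Subgroup.zpowers y := by
          rw [Subgroup.mul_mem_iff_of_index_two hidx, inv_mem_iff]
          exact ⟨fun h => absurd h hxy, fun h => absurd h hs⟩
        have h4 := mul_mem hxc (hyc h3)
        rwa [mul_inv_cancel_left] at h4
    · rw [← h2, ← hi, hxi]
  · right; left
    have h1 : y ^ i * y = y ^ (2 ^ (m + 1)) := by
      rw [hyi, hl, pow_succ, pow_mul, hz2, one_pow, one_mul]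
    have hm : 1 ≤ m := by
      by_contra hcon
      have hm0 : m = 0 := by omega
      rw [hm0] at ht
      rw [hl] at ht
      omega
    refine ⟨m + 2, by omega, by rw [hk], y, x, hy, hx, ?_⟩
    rw [hi]
    have h2 : m + 2 - 1 = m + 1 := rfl
    rw [h2]
    have h3 : y ^ (2 ^ (m + 1) - 1) * y = y ^ (2 ^ (m + 1)) := by
      rw [← pow_succ]; congr 1
      have : 1 ≤ 2 ^ (m + 1) := Nat.one_le_two_pow
      omega
    exact mul_right_cancel (h1.trans h3.symm)


end Cfsg.Agent.S3224
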