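import Cfsg.Statements.S1444
import Cfsg.Agent.H1.BG36N

set_option autoImplicit false
open Cfsg

namespace Cfsg.Agent.S1444

/-- Let G be a solvable group of odd order, H a normal subgroup of order coprime to its index, R a complement to H in G, and R₀ ≤ R a subgroup of prime order such that every Sylow subgroup of H ∩ C_G(R₀) is cyclic. Then for every prime p the commutator subgroup [H, R] satisfies [H,R] = O_{p',p,p'}([H,R]). -/
theorem result {G : Type*} [Group G] [Finite G] [Group.IsSolvable G] (hodd : Odd (Nat.card G)) (H R R₀ : Subgroup G) [H.Normal] (hHall : (Nat.card H).Coprime H.index)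
    (hR : Subgroup.IsComplement' H R) (hR₀ : R₀ ≤ R) (hR₀p : (Nat.card R₀).Prime) (hZ : IsZGroup ↥(H ⊓ Subgroup.centralizer (R₀ : Set G)))
    (p : ℕ) [Fact p.Prime] :
    Cfsg.PLengthLE p 1 ↥⁅H, R⁆ := by
    haveI hHn : H.Normal := inferInstance
    obtain ⟨⟨ρ, hρ0⟩, hρ⟩ : ∃ ρ : R₀, ρ ≠ 1 := by
      haveI : Nontrivial R₀ := by
        rw [← Finite.one_lt_card_iff_nontrivial]
        exact hR₀p.one_lt
      exact exists_ne 1
    have hgen : (Subgroup.zpowers ρ : Subgroup G) = R₀ := by
      apply Subgroup.eq_of_le_of_card_ge (by rw [Subgroup.zpowers_le]; exact hρ0)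
      have h1 : orderOf ρ ∣ Nat.card R₀ := Subgroup.orderOf_dvd_natCard R₀ hρ0
      have h2 : orderOf ρ ≠ 1 := by
        rw [Ne, orderOf_eq_one_iff]
        exact fun h => hρ (Subtype.ext h)
      rw [Nat.card_zpowers]
      exact ((Nat.dvd_prime hR₀p).mp h1).resolve_left h2 |>.ge
    have hcent : (Subgroup.centralizer (R₀ : Set G)) = Subgroup.centralizer ({ρ} : Set G) := by
      rw [← hgen]
      rw [Subgroup.zpowers_eq_closure, Subgroup.centralizer_closure]
    have hRi : Nat.card R = H.index := by
      have h1 := hR.card_mul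
      have h2 := H.card_mul_index
      exact Nat.eq_of_mul_eq_mul_left Nat.card_pos (h1.trans h2.symm)
    have hcop : (Nat.card R).Coprime (Nat.card H) := by rw [hRi]; exact hHall.symm
    have hr2 : Nat.card R₀ ≠ 2 := by
      intro h2
      have h3 : 2 ∣ Nat.card G := h2 ▸ Subgroup.card_subgroup_dvd_card R₀
      exact (Nat.not_even_iff_odd.mpr hodd) (even_iff_two_dvd.mpr h3)
    refine H1.main36 hR₀p hr2 (Nat.card H) G H R ρ rfl ?_
      { RH := by rw [Subgroup.normalizer_eq_top]; exact le_top
        ρR := hR₀ hρ0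
        cop := hcop
        solv := inferInstance
        odd := Odd.of_dvd_nat hodd (Subgroup.card_subgroup_dvd_card H)
        ZH := by rw [← hcent]; exact hZ
        rH := ?_ }
    · exact orderOf_dvd_iff_pow_eq_one.mp (Subgroup.orderOf_dvd_natCard R₀ hρ0)
    · intro h1
      have h2 : Nat.card R₀ ∣ Nat.card R := Subgroup.card_dvd_of_le hR₀
      have h3 := Nat.dvd_gcd h2 h1
      rw [hcop.gcd_eq_one] at h3
      exact hR₀p.one_lt.ne' (Nat.dvd_one.mp h3)

end Cfsg.Agent.S1444
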