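import Cfsg.Statements.S1511
import Cfsg.Agent.H3.PTI2

set_option autoImplicit false
open Cfsg Cfsg.Agent Cfsg.Agent.H3

namespace Cfsg.Agent.S1511

/-- Let L be a finite group with K normal with complement W₁ ≠ 1 a cyclic Hall subgroup, and W₂ ≠ 1 a cyclic subgroup of K equal to C_K(x) for every non-identity x ∈ W₁, with W₁W₂ of odd order. Then there are a map μ from the linear characters of W = W₁ ⊔ W₂ to irreducible characters of L, injective, and a sign δ(ω) ∈ {1, −1} depending only on the values of ω on W₂, such that: for ω, ω' agreeing on W₂, the function induced to L from ω − ω' equals δ(ω) • (μ ω − μ ω'); μ ω x = δ(ω) ω x for x ∈ W outside W₂; every irreducible character of L not of the form μ ω vanishes on W outside W₂; and μ ω 1 − δ(ω) is an integer multiple of Nat.card W₁. -/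
theorem result {L : Type*} [Group L] [Fintype L] (K W₁ W₂ : Subgroup L) [hK : K.Normal] (hKW₁ : K ⊓ W₁ = ⊥) (hKW₁' : K ⊔ W₁ = ⊤) (hW₁ : W₁ ≠ ⊥) (hW₁c : IsCyclic W₁) (hHall : Nat.Coprime (Nat.card W₁) W₁.index) (hW₂ : W₂ ≠ ⊥) (hW₂c : IsCyclic W₂) (hW₂K : W₂ ≤ K) (hC : ∀ x ∈ W₁, x ≠ 1 → K ⊓ Subgroup.centralizer ({x} : Set L) = W₂) (hodd : Odd (Nat.card ↥(W₁ ⊔ W₂))) : ∃ (μ : (↥(W₁ ⊔ W₂) →* ℂˣ) → (L → ℂ)) (δ : (↥(W₁ ⊔ W₂) →* ℂˣ) → ℂ), Function.Injective μ ∧ (∀ ω, Cfsg.IsIrrCharacter L (μ ω)) ∧ (∀ ω, δ ω = 1 ∨ δ ω = -1) ∧ (∀ ω ω' : ↥(W₁ ⊔ W₂) →* ℂˣ, (∀ w : ↥(W₁ ⊔ W₂), (w : L) ∈ W₂ → ω w = ω' w) → δ ω = δ ω' ∧ Cfsg.indFun (W₁ ⊔ W₂) (fun w => (ω w : ℂ) - (ω' w : ℂ)) = δ ω • (μ ω - μ ω')) ∧ (∀ ω, ∀ w : ↥(W₁ ⊔ W₂), (w : L) ∉ W₂ → μ ω w = δ ω * (ω w : ℂ)) ∧ (∀ θ : L → ℂ, Cfsg.IsIrrCharacter L θ → (∀ ω, θ ≠ μ ω) → ∀ w : ↥(W₁ ⊔ W₂), (w : L) ∉ W₂ → θ w = 0) ∧ (∀ ω, ∃ n : ℤ,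 μ ω 1 - δ ω = n * (Nat.card W₁ : ℂ)) := by
  classical
  have h : PTI K W₁ W₂ := ⟨hK, hKW₁, hKW₁', hW₁, hW₁c, hHall, hW₂, hW₂c, hW₂K, hC⟩
  haveI : Finite (↥(W₁ ⊔ W₂) →* ℂˣ) := H11.PF.finite_dual h.hcomm
  haveI := Fintype.ofFinite (↥(W₁ ⊔ W₂) →* ℂˣ)
  obtain ⟨μ, δ, hinj, hirr, hδ, hind⟩ := h.exceptional
  have hval : ∀ ω, ∀ w : ↥(W₁ ⊔ W₂), (w : L) ∉ W₂ → μ ω w = δ ω * (ω w : ℂ) := by
    intro ω w hw
    rw [h.values hδ hind (irr_classFun (hirr ω)) w hw, Finset.sum_eq_single ω]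
    · rw [classInner_self_of_irr (hirr ω), mul_one]
    · intro η _ hη
      rw [classInner_of_irr_ne (hirr ω) (hirr η) (fun h => hη (hinj h).symm)]
      ring
    · intro h; exact absurd (Finset.mem_univ _) h
  refine ⟨μ, δ, hinj, hirr, hδ, hind, hval, ?_, ?_⟩
  · intro θ hθ hne w hw
    rw [h.values hδ hind (irr_classFun hθ) w hw]
    refine Finset.sum_eq_zero fun η _ => ?_
    rw [classInner_of_irr_ne hθ (hirr η) (hne η)]
    ring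
  · intro ω
    haveI := Fintype.ofFinite W₁
    let ι : W₁ →* ↥(W₁ ⊔ W₂) := Subgroup.inclusion le_sup_left
    have hδ' : ∃ d : ℤ, δ ω = d := by
      rcases hδ ω with h1 | h1
      · exact ⟨1, by rw [h1]; simp⟩
      · exact ⟨-1, by rw [h1]; simp⟩
    obtain ⟨d, hd⟩ := hδ'
    have hgen : IsGeneralizedCharacter W₁ (fun x : W₁ => μ ω x - (d : ℂ) * (ω (ι x) : ℂ)) := by
      have h1 : IsGeneralizedCharacter W₁ (fun x : W₁ => μ ω x) :=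
        isGen_comp (isGen_of_irr (hirr ω)) W₁.subtype
      have h2 : IsGeneralizedCharacter W₁ (fun x : W₁ => (ω (ι x) : ℂ)) :=
        isGen_of_irr (isIrr_hf (ω.comp ι))
      exact isGen_sub h1 (isGen_intCast_smul d h2)
    obtain ⟨n, hn⟩ := classInner_gen_int hgen isGen_one
    refine ⟨n, ?_⟩
    have h3 : classInner (fun x : W₁ => μ ω x - (d : ℂ) * (ω (ι x) : ℂ)) (fun _ => 1) =
        (Nat.card W₁ : ℂ)⁻¹ * (μ ω 1 - δ ω) := by
      rw [classInner, Finset.sum_eq_single 1]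
      · rw [hd]; simp
      · intro x _ hx
        have hx2 : (x : L) ∉ W₂ := by
          intro h2
          have h5 : (x : L) ∈ W₁ ⊓ W₂ := ⟨x.2, h2⟩
          rw [h.inf₂, Subgroup.mem_bot] at h5
          exact hx (Subtype.ext h5)
        have h4 := hval ω (ι x) hx2
        have h5 : μ ω x = (d : ℂ) * (ω (ι x) : ℂ) := by rw [← hd]; exact h4
        rw [h5]; simp
      · intro h; exact absurd (Finset.mem_univ _) h
    rw [h3] at hn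
    have h4 : (Nat.card W₁ : ℂ) ≠ 0 := card_ne_zeroC
    field_simp at hn
    linear_combination hn

end Cfsg.Agent.S1511
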