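import Cfsg.Statements.S1513
import Cfsg.Agent.H3.PrimeTI

set_option autoImplicit false
open Cfsg Cfsg.Agent Cfsg.Agent.H3

namespace Cfsg.Agent.S1513

/-- Let L be a finite group with K normal with complement W₁ ≠ 1 a cyclic Hall subgroup, and W₂ ≠ 1 a cyclic subgroup of K equal to C_K(x) for every non-identity x ∈ W₁, with W₁W₂ of odd order. For an irreducible character θ of K: if θ is not fixed under conjugation by some element of W₁, then the function induced from θ to L is an irreducible character of L; and the irreducible characters of K fixed by all of W₁ are exactly Nat.card W₂ in number, each inducing to the sum of Nat.card W₁ pairwise distinct irreducible characters of L. -/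
theorem result {L : Type*} [Group L] [Fintype L] (K W₁ W₂ : Subgroup L) [hK : K.Normal] (hKW₁ : K ⊓ W₁ = ⊥) (hKW₁' : K ⊔ W₁ = ⊤) (hW₁ : W₁ ≠ ⊥) (hW₁c : IsCyclic W₁) (hHall : Nat.Coprime (Nat.card W₁) W₁.index) (hW₂ : W₂ ≠ ⊥) (hW₂c : IsCyclic W₂) (hW₂K : W₂ ≤ K) (hC : ∀ x ∈ W₁, x ≠ 1 → K ⊓ Subgroup.centralizer ({x} : Set L) = W₂) (hodd : Odd (Nat.card ↥(W₁ ⊔ W₂))) : (∀ θ : K → ℂ, Cfsg.IsIrrCharacter K θ → (∃ x ∈ W₁, (fun k : K => θ ⟨x * k * x⁻¹, hK.conj_mem (k : L) k.2 x⟩) ≠ θ) → Cfsg.IsIrrCharacter L (Cfsg.indFun K θ)) ∧ Nat.card {θ : Cfsg.IrrCharacter K // ∀ x ∈ W₁, (fun k : K => (θ : K → ℂ) ⟨x * k * x⁻¹, hK.conj_mem (k : L) k.2 x⟩) = θ} = Nat.card W₂ ∧ (∀ θ : K → ℂ, Cfsg.IsIrrCharacter K θ → (∀ x ∈ W₁, (fun k : K => θ ⟨x * k * x⁻¹, hK.conj_mem (k : L) k.2 x⟩) = θ) → ∃ C : Finset (L → ℂ), C.card = Nat.card W₁ ∧ (∀ μ ∈ C, Cfsg.IsIrrCharacter L μ) ∧ Cfsg.indFun K θ = ∑ μ ∈ C, μ) :=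 by
  classical
  have h : PTI K W₁ W₂ := ⟨hK, hKW₁, hKW₁', hW₁, hW₁c, hHall, hW₂, hW₂c, hW₂K, hC⟩
  haveI := Fintype.ofFinite K
  refine ⟨?_, ?_, ?_⟩
  · intro θ hθ hx
    exact isIrr_ind_of_inertia_eq hK hθ (h.inertia_eq hθ hx)
  · obtain ⟨w, hw, hw1, hgen⟩ := h.exists_gen
    rw [← h.card_fixed hw hw1]
    refine Nat.card_congr (Equiv.subtypeEquivRight fun θ => ⟨fun hθ => hθ w hw, fun hθ x hx => ?_⟩)
    exact h.fixed_all hw hw1 θ.2 hθ x hx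
  · intro θ hθ hfix
    have hinv : ∀ g : L, cj hK g θ = θ := by
      intro g
      obtain ⟨k, hk, y, hy, rfl⟩ := h.exists_mul g
      exact (inertia hK θ).mul_mem (le_inertia hK (irr_classFun hθ) hk) (hfix y hy)
    obtain ⟨χ, hχ, hχθ⟩ := extends_of_cyclic hK hθ hinv h.isCyclic_quotient
    obtain ⟨C, hC1, hC2, hC3⟩ := H11.PF.ind_invariant_abelian hK h.commutator_mem hθ hinv hχ 1
      one_pos (fun n => by rw [hχθ n]; simp)
    refine ⟨C, ?_, fun μ hμ => (hC1 μ hμ).1, ?_⟩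
    · rw [h.cardW, ← hC3]; simp
    · rw [hC2]; simp

end Cfsg.Agent.S1513
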