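import Cfsg.Statements.S1387
import Cfsg.Agent.H21.OBasic

set_option autoImplicit false
open Cfsg

namespace Cfsg.Agent.S1387

open Subgroup
open Cfsg.Agent.L (cj nz SylIn)
open Cfsg.Agent.H21 Cfsg.Agent.OOT

/-- Let M be a subgroup of a finite group G with type-P data (W₁, U, W₂) and H = M_F. Then the Fitting subgroup F(M) is generated by H and the centralizer of H in U. -/
theorem result {G : Type*} [Group G] [Finite G] (M W₁ U W₂ : Subgroup G) (hP : Cfsg.IsTypePWith M W₁ U W₂) :
    Cfsg.fittingOf M = Cfsg.fittingHallOf M ⊔ (U ⊓ Subgroup.centralizer (Cfsg.fittingHallOf M : Set G)) := by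
  set H := fittingHallOf M with hH
  set F := fittingOf M with hF
  have hFn : Group.IsNilpotent F := fittingOf_nilpotent M
  have hHF : H ≤ F := fhOf_le_fittingOf M
  have hHallM := fhOf_hall M
  rw [← hH] at hHallM
  set π : Set ℕ := {p | p ∣ Nat.card H} with hπ
  set π' : Set ℕ := {p | ¬ p ∣ Nat.card H} with hπ'
  have hππ : ∀ p : ℕ, p.Prime → (p ∈ π' ↔ p ∉ π) := fun p _ => Iff.rfl
  have hDM : ⁅M, M⁆ ≤ M := Subgroup.commutator_le_self M
  have hHallF : IsPiHallOf π H F := OOT.IsPiHallOf.of_le hHallM hHF (fittingOf_le M)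
  have hHD : H ≤ ⁅M, M⁆ := hHF.trans hP.fitting_le
  have hHallD : IsPiHallOf π H ⁅M, M⁆ := OOT.IsPiHallOf.of_le hHallM hHD hDM
  have hN := nil_piCore_hall hFn π'
  set N := piCoreOf π' F with hN'
  have hcN := (OOT.IsPiHallOf.isComplIn hππ hHallF hN).1
  have hU := complIn_hall hππ hP.U_compl hHallD
  have hMN : M ≤ nz N := (le_normalizer_fittingOf M).trans (normalizer_le_normalizer_piCoreOf π' F)
  have hNU : N ≤ U := le_hall_of_normal hU (hN.1.trans hP.fitting_le) (hDM.trans hMN) hN.2.1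
  have hNH : N ≤ centralizer (H : Set G) := by
    refine nil_cent hFn hN.1 hHF ?_
    rw [Nat.coprime_comm]
    exact coprime_of_pi (π := π) (fun p _ h => h) (fun p hp h1 h2 => hN.2.1 p hp h2 h1)
  apply le_antisymm
  · rw [← complIn_sup hcN]
    exact sup_le le_sup_left ((le_inf hNU hNH).trans le_sup_right)
  · refine sup_le hHF ?_
    rw [hF, ← hP.fitting_eq]
    refine le_trans (inf_le_inf_right _ ?_) le_sup_right
    exact hP.U_compl.2.1.trans hDM

end Cfsg.Agent.S1387
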