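import Cfsg.Statements.S1545
import Cfsg.Agent.H1.Wielandt310

set_option autoImplicit false
open Cfsg

namespace Cfsg.Agent.S1545

/-- Let X be a finite group with subgroups U, E and H such that U and E generate a subgroup UE = U ⊔ E normalising H, with U normal in UE, U ⊓ E = ⊥, U ≠ ⊥, E ≠ ⊥, every non-identity element of E commuting with no non-identity element of U (UE is a Frobenius group with kernel U acting on H by conjugation), H solvable, H ⊓ (U ⊔ E) = ⊥ and the orders of H and U ⊔ E coprime. Then Nat.card (H ⊓ C(U ⊔ E)) ^ Nat.card E * Nat.card H = Nat.card (H ⊓ C(E)) ^ Nat.card E * Nat.card (H ⊓ C(U)), where C(·) denotes the centraliser. -/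
theorem result {X : Type*} [Group X] [Finite X] (U E H : Subgroup X) (hU1 : U ≠ ⊥) (hE1 : E ≠ ⊥) (hUE : U ⊓ E = ⊥) (hUn : ∀ e ∈ E, ∀ u ∈ U, e * u * e⁻¹ ∈ U) (hfpf : ∀ e ∈ E, e ≠ 1 → ∀ u ∈ U, e * u = u * e → u = 1) (hHn : ∀ x ∈ U ⊔ E, ∀ h ∈ H, x * h * x⁻¹ ∈ H) (hdisj : H ⊓ (U ⊔ E) = ⊥) (hsolv : Group.IsSolvable H) (hcop : Nat.Coprime (Nat.card H) (Nat.card ↥(U ⊔ E))) : Nat.card ↥(H ⊓ Subgroup.centralizer ((U ⊔ E : Subgroup X) : Set X)) ^ Nat.card E * Nat.card H = Nat.card ↥(H ⊓ Subgroup.centralizer (E : Set X)) ^ Nat.card E * Nat.card ↥(H ⊓ Subgroup.centralizer (U : Set X)) := by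
    have hEU : E ≤ Subgroup.normalizer (U : Set X) :=
      H23.le_normalizer_of_conj_mem fun a ha g hg => hUn a ha g hg
    have hXH : U ⊔ E ≤ Subgroup.normalizer (H : Set X) :=
      H23.le_normalizer_of_conj_mem fun a ha g hg => hHn a ha g hg
    have hUs : Group.IsSolvable U := by
      obtain ⟨r, hr, hrd⟩ : ∃ r, r.Prime ∧ r ∣ Nat.card E :=
        Nat.exists_prime_and_dvd (fun h => hE1 (Subgroup.card_eq_one.mp h))
      haveI : Fact r.Prime := ⟨hr⟩
      obtain ⟨⟨ρ, hρE⟩, hρo⟩ := exists_prime_orderOf_dvd_card' (G := E) r hrd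
      have hρo' : orderOf ρ = r := by rw [← hρo]; exact (Subgroup.orderOf_mk ρ hρE).symm
      have hρ1 : ρ ≠ 1 := by
        rintro rfl
        rw [orderOf_one] at hρo'
        exact hr.one_lt.ne hρo'
      have := H20.Fpf.isNilpotent_of_conj (K := U) hr (h := ρ)
        (by rw [← hρo', pow_orderOf_eq_one]) (hUn ρ hρE) (hfpf ρ hρE hρ1)
      infer_instance
    exact H1.wielandt_main (Nat.card H) X U E H rfl
      { EU := hEU
        UH := le_sup_left.trans hXH
        EH := le_sup_right.trans hXH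
        frob := fun x hx hx1 a ha hc => hfpf x hx hx1 a ha hc
        solU := hUs
        solH := hsolv
        cop := hcop.symm }

end Cfsg.Agent.S1545
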