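import Cfsg.Statements.S1546
import Mathlib.Data.Nat.Factorization.Induction

set_option autoImplicit false
open Cfsg

namespace Cfsg.Agent.S1546

theorem geom (p q : ℕ) (hp : 2 ≤ p) : (p ^ q - 1) / (p - 1) = ∑ k ∈ Finset.range q, p ^ k :=
  (Nat.geomSum_eq hp q).symm

theorem modEq_sum {n : ℕ} {ι : Type*} (s : Finset ι) {f g : ι → ℕ}
    (h : ∀ i ∈ s, f i ≡ g i [MOD n]) : ∑ i ∈ s, f i ≡ ∑ i ∈ s, g i [MOD n] := by
  classical
  induction s using Finset.induction_on with
  | empty => simp [Nat.ModEq]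
  | insert a s ha ih =>
    rw [Finset.sum_insert ha, Finset.sum_insert ha]
    exact (h a (Finset.mem_insert_self a s)).add (ih fun i hi => h i (Finset.mem_insert_of_mem hi))

theorem mod_sub (p q : ℕ) (hp : 2 ≤ p) : (∑ k ∈ Finset.range q, p ^ k) ≡ q [MOD (p - 1)] := by
  have h1 : p ≡ 1 [MOD (p - 1)] := by
    have : (p - 1) + 1 = p := by omega
    have h2 : (p - 1) + 1 ≡ 0 + 1 [MOD (p - 1)] := by
      apply Nat.ModEq.add_right
      exact (Nat.modEq_zero_iff_dvd.2 dvd_rfl)
    rwa [this, zero_add] at h2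
  calc ∑ k ∈ Finset.range q, p ^ k ≡ ∑ k ∈ Finset.range q, 1 [MOD (p - 1)] := by
        apply modEq_sum
        intro i _
        have := h1.pow i
        rwa [one_pow] at this
    _ = q := by simp


/-- Let p and q be odd primes and N = (p ^ q − 1) / (p − 1) = 1 + p + ⋯ + p^(q−1). Then N is odd; if p ≡ 1 (mod q) then q ∣ N; and if p is not ≡ 1 (mod q) then N is coprime to p − 1 and every divisor of N is ≡ 1 (mod q). -/
theorem result (p q : ℕ) (hp : p.Prime) (hq : q.Prime) (hp2 : p ≠ 2) (hq2 : q ≠ 2) : Odd ((p ^ q - 1) / (p - 1)) ∧ (p % q = 1 → q ∣ (p ^ q - 1) / (p - 1)) ∧ (p % q ≠ 1 → Nat.Coprime ((p ^ q - 1) / (p - 1)) (p - 1) ∧ ∀ x : ℕ, x ∣ (p ^ q - 1) / (p - 1) → x % q = 1) := by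
  have : Fact q.Prime := ⟨hq⟩
  have hp2' := hp.two_le
  have hq2' := hq.two_le
  rw [geom p q hp2']
  set N := ∑ k ∈ Finset.range q, p ^ k with hN
  have hNpos : N ≠ 0 := by
    have h1 : 0 < N := by
      rw [hN]
      apply Finset.sum_pos
      · intro i _
        exact pow_pos hp.pos i
      · exact ⟨0, Finset.mem_range.2 hq.pos⟩
    omega
  have hmul : N * (p - 1) + 1 = p ^ q := by
    have := Nat.geomSum_eq hp2' q
    have h1 : (p - 1) ∣ p ^ q - 1 := by
      have := Nat.sub_dvd_pow_sub_pow p 1 q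
      rwa [one_pow] at this
    rw [hN, this, Nat.div_mul_cancel h1]
    have : 0 < p ^ q := pow_pos hp.pos q
    omega
  refine ⟨?_, ?_, ?_⟩
  · -- odd
    have hpo : Odd p := hp.odd_of_ne_two hp2
    have hqo : Odd q := hq.odd_of_ne_two hq2
    have h1 : N ≡ q [MOD 2] := by
      calc N ≡ ∑ k ∈ Finset.range q, 1 [MOD 2] := by
            apply modEq_sum
            intro i _
            exact Nat.odd_iff.1 (hpo.pow)
        _ = q := by simp
    rw [Nat.odd_iff]
    rw [← Nat.odd_iff.1 hqo]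
    exact h1
  · intro h
    have h1 : p ≡ 1 [MOD q] := by
      change p % q = 1 % q
      rw [h, Nat.mod_eq_of_lt hq.one_lt]
    have h2 : N ≡ 0 [MOD q] := by
      calc N ≡ ∑ k ∈ Finset.range q, 1 [MOD q] := by
            apply modEq_sum
            intro i _
            have := h1.pow i
            rwa [one_pow] at this
        _ = q := by simp
        _ ≡ 0 [MOD q] := Nat.modEq_zero_iff_dvd.2 dvd_rfl
    exact Nat.modEq_zero_iff_dvd.1 h2
  · intro h
    have hcop : Nat.Coprime N (p - 1) := by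
      rw [Nat.coprime_iff_gcd_eq_one]
      by_contra hne
      obtain ⟨r, hr, hrd⟩ := Nat.exists_prime_and_dvd hne
      have h1 : r ∣ N := hrd.trans (Nat.gcd_dvd_left _ _)
      have h2 : r ∣ p - 1 := hrd.trans (Nat.gcd_dvd_right _ _)
      have h3 : N ≡ q [MOD r] := (mod_sub p q hp2').of_dvd h2
      have h4 : r ∣ q := by
        have h5 := (Nat.modEq_zero_iff_dvd.2 h1)
        exact Nat.modEq_zero_iff_dvd.1 (h3.symm.trans h5)
      have h5 : r = q := (Nat.prime_dvd_prime_iff_eq hr hq).1 h4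
      rw [h5] at h2
      apply h
      have h6 : p ≡ 1 [MOD q] := ((Nat.modEq_iff_dvd' (by omega)).2 h2).symm
      change p % q = 1 % q at h6
      rwa [Nat.mod_eq_of_lt hq.one_lt] at h6
    refine ⟨hcop, ?_⟩
    have hprime : ∀ r : ℕ, r.Prime → r ∣ N → r % q = 1 := by
      intro r hr hrN
      have : Fact r.Prime := ⟨hr⟩
      have h1 : (p : ZMod r) ^ q = 1 := by
        have h2 : ((N * (p - 1) + 1 : ℕ) : ZMod r) = ((p ^ q : ℕ) : ZMod r) := by rw [hmul]
        rw [Nat.cast_add, Nat.cast_mul, (ZMod.natCast_eq_zero_iff N r).2 hrN, zero_mul, zero_add,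
          Nat.cast_one, Nat.cast_pow] at h2
        exact h2.symm
      have h2 : orderOf (p : ZMod r) ∣ q := orderOf_dvd_of_pow_eq_one h1
      rcases (Nat.dvd_prime hq).1 h2 with h3 | h3
      · exfalso
        rw [orderOf_eq_one_iff] at h3
        have h4 : r ∣ p - 1 := by
          rw [← ZMod.natCast_eq_zero_iff, Nat.cast_sub hp.one_le, h3]
          simp
        have h5 := Nat.dvd_gcd hrN h4
        rw [Nat.coprime_iff_gcd_eq_one.1 hcop] at h5
        exact hr.one_lt.ne' (Nat.dvd_one.1 h5)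
      · have h4 : q ∣ r - 1 := by
          rw [← h3]
          have h5 : (p : ZMod r) ≠ 0 := by
            intro h6
            rw [h6, zero_pow hq.ne_zero] at h1
            exact zero_ne_one h1
          exact ZMod.orderOf_dvd_card_sub_one h5
        have h6 : r ≡ 1 [MOD q] := ((Nat.modEq_iff_dvd' hr.one_le).2 h4).symm
        change r % q = 1 % q at h6
        rwa [Nat.mod_eq_of_lt hq.one_lt] at h6
    intro x
    induction x using Nat.recOnMul with
    | zero =>
      intro h0
      exact absurd (Nat.eq_zero_of_zero_dvd h0) hNpos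
    | one =>
      intro _
      exact Nat.mod_eq_of_lt hq.one_lt
    | prime r hr => exact hprime r hr
    | mul a b ha hb =>
      intro hab
      have h1 := ha ((Dvd.intro _ rfl).trans hab)
      have h2 := hb ((Dvd.intro_left _ rfl).trans hab)
      rw [Nat.mul_mod, h1, h2]
      exact Nat.mod_eq_of_lt hq.one_lt

end Cfsg.Agent.S1546
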