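import Cfsg.Statements.S1388
import Cfsg.Agent.H21.OBasic
import Cfsg.Agent.S1387

set_option autoImplicit false
open Cfsg

namespace Cfsg.Agent.S1388

open Subgroup
open Cfsg.Agent.L (cj nz SylIn)
open Cfsg.Agent.H21 Cfsg.Agent.OOT

/-- Let M be a subgroup of a finite group G with type-P data (W₁, U, W₂) and H = M_F. Then the derived subgroup of U centralizes H, and if U ≠ 1 then U does not centralize H. -/
theorem result {G : Type*} [Group G] [Finite G] (M W₁ U W₂ : Subgroup G) (hP : Cfsg.IsTypePWith M W₁ U W₂) :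
    ⁅U, U⁆ ≤ Subgroup.centralizer (Cfsg.fittingHallOf M : Set G) ∧ (U ≠ ⊥ → ¬ U ≤ Subgroup.centralizer (Cfsg.fittingHallOf M : Set G)) := by
  have h1387 := S1387.result M W₁ U W₂ hP
  have hUD : U ≤ ⁅M, M⁆ := hP.U_compl.2.1
  have hDM : ⁅M, M⁆ ≤ M := Subgroup.commutator_le_self M
  have hUM : U ≤ M := hUD.trans hDM
  constructor
  · intro x hx
    have h1 : x ∈ ⁅⁅M, M⁆, ⁅M, M⁆⁆ := Subgroup.commutator_mono hUD hUD hx
    have h2 := hP.derived_two_le h1
    rw [hP.fitting_eq, h1387] at h2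
    have hn : U ⊓ centralizer (fittingHallOf M : Set G) ≤ nz (fittingHallOf M) :=
      inf_le_right.trans (cent_le_nz _)
    obtain ⟨a, ha, b, hb, e⟩ := (H1.mem_sup_iff_of_le_normalizer hn).1 h2
    have hxU : x ∈ U := Subgroup.commutator_le_self U hx
    have ha' : a ∈ fittingHallOf M ⊓ U := by
      refine ⟨ha, ?_⟩
      rw [← e] at hxU
      exact (U.mul_mem_cancel_right hb.1).1 hxU
    rw [hP.U_compl.2.2.1, Subgroup.mem_bot] at ha'
    rw [← e, ha', one_mul]
    exact hb.2
  · intro hU1 hc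
    apply hU1
    have hHM := fhOf_le M
    have hFeq : fittingOf M = ⁅M, M⁆ := by
      rw [h1387, inf_eq_left.2 hc]
      exact complIn_sup hP.U_compl
    have hDn : Group.IsNilpotent ↥⁅M, M⁆ := hFeq ▸ fittingOf_nilpotent M
    have hcop : (Nat.card ↥⁅M, M⁆).Coprime (⁅M, M⁆.relIndex M) := by
      rw [complIn_relIndex_left hP.W₁_compl, ← complIn_relIndex_right hP.W₁_compl]
      exact hP.W₁_hall.symm
    have hDH : ⁅M, M⁆ ≤ fittingHallOf M := by
      refine le_fhOf hDM ?_ hDn hcop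
      rw [← hFeq]
      exact le_normalizer_fittingOf M
    rw [eq_bot_iff, ← hP.U_compl.2.2.1]
    exact le_inf (hUD.trans hDH) le_rfl

end Cfsg.Agent.S1388
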