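import Cfsg.Statements.S0214
import Cfsg.Agent.H4.Basic2

set_option autoImplicit false
open Cfsg

namespace Cfsg.Agent.S0214

/-- Let H be a proper subgroup of the finite group G and P a nontrivial Sylow 2-subgroup of H. Then H is strongly embedded in G if and only if N_G(X) ≤ H for every nontrivial subgroup X of P. -/
theorem result {G : Type*} [Group G] [Finite G] (H : Subgroup G) (hH : H ≠ ⊤) (P : Sylow 2 ↥H) (hP : (P : Subgroup ↥H) ≠ ⊥) : Cfsg.IsStronglyEmbedded H ↔ (∀ X : Subgroup ↥H, X ≤ (P : Subgroup ↥H) → X ≠ ⊥ → Subgroup.normalizer ((X.map H.subtype : Subgroup G) : Set G) ≤ H) := by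
  haveI : Fact (Nat.Prime 2) := ⟨Nat.prime_two⟩
  have hPmap : IsPGroup 2 ((P : Subgroup H).map H.subtype) := P.2.map _
  -- nontrivial 2-subgroups contain involutions
  have hinv : ∀ Q : Subgroup G, IsPGroup 2 Q → Q ≠ ⊥ → ∃ s ∈ Q, orderOf s = 2 := by
    intro Q hQ hne
    apply H4.exists_involution
    intro hodd
    obtain ⟨k, hk⟩ := IsPGroup.iff_card.1 hQ
    rw [hk] at hodd
    have hk0 : k = 0 := by
      by_contra h
      have : Even (2 ^ k) := (Nat.even_pow.2 ⟨even_two, h⟩)
      exact (Nat.not_even_iff_odd.2 hodd) this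
    rw [hk0, pow_zero] at hk
    exact hne (Subgroup.card_eq_one.1 hk)
  constructor
  · rintro ⟨_, _, h3⟩ X hXP hX1 g hg
    by_contra hgH
    have hXp : IsPGroup 2 (X.map H.subtype) := (P.2.to_le hXP).map _
    have hXne : X.map H.subtype ≠ ⊥ := by
      intro h
      rw [Subgroup.map_eq_bot_iff_of_injective _ H.subtype_injective] at h
      exact hX1 h
    obtain ⟨s, hs, hs2⟩ := hinv _ hXp hXne
    have hsub : X.map H.subtype ≤ H := by
      rintro _ ⟨y, _, rfl⟩; exact y.2
    refine H4.not_odd_card_of_mem (Subgroup.mem_inf.2 ⟨hsub hs, (H4.mem_map_conj H g s).2 ?_⟩) hs2 (h3 g hgH)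
    apply hsub
    have := (Subgroup.mem_normalizer_iff.1 (inv_mem hg) s).1 hs
    simpa using this
  · intro h
    -- normalizers of 2-subgroups
    have hN : ∀ Q : Subgroup G, IsPGroup 2 Q → Q ≠ ⊥ → Q ≤ H → Subgroup.normalizer (Q : Set G) ≤ H := by
      intro Q hQ hne hQH
      obtain ⟨c, hc⟩ := H4.exists_map_conj_le_sylow P (Q.subgroupOf H) hQ.comap_subtype
      have hmap : ((Q.subgroupOf H).map (MulAut.conj c).toMonoidHom).map H.subtype = Q.map (MulAut.conj c.1).toMonoidHom := by
        ext x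
        rw [H4.mem_map_conj]
        constructor
        · rintro ⟨y, hy, rfl⟩
          rw [SetLike.mem_coe, H4.mem_map_conj] at hy
          exact hy
        · intro hx
          have hxH : x ∈ H := by
            have h1 := mul_mem (mul_mem c.2 (hQH hx)) (inv_mem c.2)
            have : c.1 * ((c.1)⁻¹ * x * c.1) * (c.1)⁻¹ = x := by group
            rwa [this] at h1
          refine ⟨⟨x, hxH⟩, ?_, rfl⟩
          rw [SetLike.mem_coe, H4.mem_map_conj]
          exact hx
      have hne' : (Q.subgroupOf H).map (MulAut.conj c).toMonoidHom ≠ ⊥ := by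
        intro h0
        rw [Subgroup.map_eq_bot_iff_of_injective _ (MulAut.conj c).injective] at h0
        apply hne
        rw [Subgroup.subgroupOf_eq_bot] at h0
        exact disjoint_self.1 (h0.mono_right hQH)
      have h1 := h _ hc hne'
      rw [hmap] at h1
      intro n hn
      have h2 : c.1 * n * (c.1)⁻¹ ∈ Subgroup.normalizer ((Q.map (MulAut.conj c.1).toMonoidHom : Subgroup G) : Set G) := by
        rw [← H4.map_conj_eq_iff_mem_normalizer, H4.map_conj_mul]
        have e : c.1 * n * (c.1)⁻¹ * c.1 = c.1 * n := by group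
        rw [e, ← H4.map_conj_mul, (H4.map_conj_eq_iff_mem_normalizer Q n).2 hn]
      have h3 := h1 h2
      have h4 := mul_mem (mul_mem (inv_mem c.2) h3) c.2
      have e : (c.1)⁻¹ * (c.1 * n * (c.1)⁻¹) * c.1 = n := by group
      rwa [e] at h4
    have hev : Even (Nat.card H) := by
      rw [← Nat.not_odd_iff_even]
      have hne : (P : Subgroup H).map H.subtype ≠ ⊥ := by
        intro h0
        rw [Subgroup.map_eq_bot_iff_of_injective _ H.subtype_injective] at h0
        exact hP h0
      obtain ⟨s, hs, hs2⟩ := hinv _ hPmap hne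
      have hsH : s ∈ H := by
        obtain ⟨y, _, rfl⟩ := hs; exact y.2
      exact H4.not_odd_card_of_mem hsH hs2
    refine ⟨hH, hev, fun g hg => ?_⟩
    by_contra hodd
    set D := H ⊓ H.map (MulAut.conj g).toMonoidHom with hD
    obtain ⟨Q0⟩ := (inferInstance : Nonempty (Sylow 2 D))
    set Q : Subgroup G := (Q0 : Subgroup D).map D.subtype with hQ
    have hQp : IsPGroup 2 Q := Q0.2.map _
    have hQD : Q ≤ D := by rintro _ ⟨y, _, rfl⟩; exact y.2
    have hQmax : ∀ R : Subgroup G, IsPGroup 2 R → R ≤ D → Q ≤ R → R = Q := by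
      intro R hR hRD hQR
      have h1 : IsPGroup 2 (R.subgroupOf D) := hR.comap_subtype
      have h2 : (Q0 : Subgroup D) ≤ R.subgroupOf D := by
        intro y hy
        rw [Subgroup.mem_subgroupOf]
        exact hQR ⟨y, hy, rfl⟩
      have h3 := Q0.3 h1 h2
      apply le_antisymm _ hQR
      intro y hy
      have : (⟨y, hRD hy⟩ : D) ∈ R.subgroupOf D := hy
      rw [h3] at this
      exact ⟨_, this, rfl⟩
    have hQne : Q ≠ ⊥ := by
      intro h0
      obtain ⟨s, hs, hs2⟩ := H4.exists_involution hodd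
      have hz : IsPGroup 2 (Subgroup.zpowers s) := IsPGroup.of_card (n := 1) (by rw [Nat.card_zpowers, hs2, pow_one])
      have := hQmax _ hz (by rw [Subgroup.zpowers_le]; exact hs) (by rw [h0]; exact bot_le)
      rw [h0, Subgroup.zpowers_eq_bot] at this
      exact H4.ne_one_of_orderOf_two hs2 this
    have hNQ : Subgroup.normalizer (Q : Set G) ≤ D := by
      apply le_inf
      · exact hN Q hQp hQne (hQD.trans inf_le_left)
      · intro n hn
        rw [H4.mem_map_conj]
        have hQg : Q.map (MulAut.conj g⁻¹).toMonoidHom ≤ H := by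
          intro x hx
          rw [H4.mem_map_conj, inv_inv] at hx
          have := (Subgroup.mem_inf.1 (hQD hx)).2
          rw [H4.mem_map_conj] at this
          have e : g⁻¹ * (g * x * g⁻¹) * g = x := by group
          rwa [e] at this
        have hne' : Q.map (MulAut.conj g⁻¹).toMonoidHom ≠ ⊥ := by
          intro h0
          rw [Subgroup.map_eq_bot_iff_of_injective _ (MulAut.conj g⁻¹).injective] at h0
          exact hQne h0
        apply hN _ (H4.isPGroup_map_conj hQp _) hne' hQg
        rw [← H4.map_conj_eq_iff_mem_normalizer, H4.map_conj_mul]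
        have e : g⁻¹ * n * g * g⁻¹ = g⁻¹ * n := by group
        rw [e, ← H4.map_conj_mul, (H4.map_conj_eq_iff_mem_normalizer Q n).2 hn]
    obtain ⟨T, hT⟩ := hQp.exists_le_sylow
    have hTQ : (T : Subgroup G) = Q := by
      by_contra hne
      have hlt : Q < (T : Subgroup G) := lt_of_le_of_ne hT (fun h => hne h.symm)
      obtain ⟨n, hnT, hnQ, hnN⟩ := H4.normalizer_lt_of_lt_sylow T.2 hlt
      have h1 : IsPGroup 2 ((T : Subgroup G) ⊓ D : Subgroup G) := T.2.to_inf_left
      have := hQmax _ h1 inf_le_right (le_inf hT hQD)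
      apply hnQ
      rw [← this]
      exact Subgroup.mem_inf.2 ⟨hnT, hNQ hnN⟩
    have hTH : (T : Subgroup G) ≤ H := by rw [hTQ]; exact hQD.trans inf_le_left
    have hgTH : ((g⁻¹ • T : Sylow 2 G) : Subgroup G) ≤ H := by
      intro x hx
      have h1 := (H4.mem_sylow_smul_iff T g⁻¹ x).1 hx
      rw [inv_inv] at h1
      have h2 : g * x * g⁻¹ ∈ D := by
        apply hQD; rw [← hTQ]; exact h1
      have := (Subgroup.mem_inf.1 h2).2
      rw [H4.mem_map_conj] at this
      have e : g⁻¹ * (g * x * g⁻¹) * g = x := by group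
      rwa [e] at this
    obtain ⟨c, hc⟩ := MulAction.exists_smul_eq H ((g⁻¹ • T).subtype hgTH) (T.subtype hTH)
    have hcg : c.1 * g⁻¹ ∈ Subgroup.normalizer ((T : Subgroup G) : Set G) := by
      rw [← H4.map_conj_eq_iff_mem_normalizer, H4.map_conj_eq_iff]
      intro x hx
      rw [H4.mem_map_conj] at hx
      -- x = c g⁻¹ y g c⁻¹ with y ∈ T
      have h1 : (c.1)⁻¹ * x * c.1 ∈ (g⁻¹ • T : Sylow 2 G) := by
        rw [H4.mem_sylow_smul_iff, inv_inv]
        have e : g * ((c.1)⁻¹ * x * c.1) * g⁻¹ = (c.1 * g⁻¹)⁻¹ * x * (c.1 * g⁻¹) := by group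
        rw [e]; exact hx
      have hxH : x ∈ H := by
        have h2 := mul_mem (mul_mem c.2 (hgTH h1)) (inv_mem c.2)
        have e : c.1 * ((c.1)⁻¹ * x * c.1) * (c.1)⁻¹ = x := by group
        rwa [e] at h2
      have h3 : (⟨x, hxH⟩ : H) ∈ c • ((g⁻¹ • T).subtype hgTH) := by
        rw [H4.mem_sylow_smul_iff]
        exact h1
      rw [hc] at h3
      exact h3
    have h5 := hNQ (by rw [← hTQ]; exact hcg)
    have h6 := (Subgroup.mem_inf.1 h5).1
    apply hg
    have h7 := mul_mem (inv_mem h6) c.2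
    have e : (c.1 * g⁻¹)⁻¹ * c.1 = g := by group
    rwa [e] at h7

end Cfsg.Agent.S0214
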