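import Cfsg.Statements.S0224
import Cfsg.Agent.H4.Basic

set_option autoImplicit false
open Cfsg

namespace Cfsg.Agent.S0224

/-- Let H be a proper subgroup of even order of the finite group G. Then H is strongly embedded if and only if each involution of H fixes exactly one point (namely the coset H) in the action of G on the cosets of H. -/
theorem result {G : Type*} [Group G] [Finite G] (H : Subgroup G) (hH : H ≠ ⊤) (heven : Even (Nat.card H)) : Cfsg.IsStronglyEmbedded H ↔ ∀ t ∈ H, orderOf t = 2 → Nat.card {c : G ⧸ H // t • c = c} = 1 := by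
  have hfix := H4.smul_mk_eq_iff H
  constructor
  · rintro ⟨_, _, h3⟩ t htH ht
    rw [Nat.card_eq_one_iff_unique]
    constructor
    · constructor
      have key : ∀ c : {c : G ⧸ H // t • c = c}, c.1 = QuotientGroup.mk 1 := by
        rintro ⟨c, hc⟩
        induction c using QuotientGroup.induction_on with
        | H g =>
          rw [hfix] at hc
          by_cases hg : g ∈ H
          · exact (QuotientGroup.eq.2 (by simpa using hg)).symm
          · exfalso
            exact H4.not_odd_card_of_mem (Subgroup.mem_inf.2 ⟨htH, (H4.mem_map_conj H g t).2 hc⟩) ht (h3 g hg)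
      intro a b
      exact Subtype.ext ((key a).trans (key b).symm)
    · exact ⟨⟨QuotientGroup.mk 1, (hfix t 1).2 (by simpa using htH)⟩⟩
  · intro h
    refine ⟨hH, heven, fun g hg => ?_⟩
    by_contra hodd
    obtain ⟨s, hs, hs2⟩ := H4.exists_involution hodd
    obtain ⟨hsH, hsg⟩ := Subgroup.mem_inf.1 hs
    rw [H4.mem_map_conj] at hsg
    have h1 := h s hsH hs2
    rw [Nat.card_eq_one_iff_unique] at h1
    have h2 := h1.1.elim ⟨QuotientGroup.mk 1, (hfix s 1).2 (by simpa using hsH)⟩ ⟨QuotientGroup.mk g, (hfix s g).2 hsg⟩
    have h3 := QuotientGroup.eq.1 (Subtype.ext_iff.1 h2)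
    apply hg
    simpa using h3

end Cfsg.Agent.S0224
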