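import Cfsg.Statements.S0319
import Cfsg.Agent.H6.BN2

set_option autoImplicit false
open Cfsg

namespace Cfsg.Agent.S0319

/-- Simplicity criterion for groups with a (B,N)-pair: if the distinguished generators admit no
splitting into two non-empty mutually commuting parts, `B` is solvable, `G` is perfect and the intersection
of all conjugates of `B` is trivial, then `G` is simple. -/
theorem result {G : Type*} [Group G] [Nontrivial G]
    (P : Cfsg.BNPair G) (hirr : P.Irreducible) (hsolv : Group.IsSolvable P.B) (hperf : commutator G = ⊤)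
    (hcore : P.B.normalCore = ⊥) : IsSimpleGroup G := by
  have hs := H6.BN.genInv P
  refine IsSimpleGroup.mk ?_
  intro H hH
  -- H ⊔ B is parabolic
  have hJeq := H6.BN.eq_parabolic P (H ⊔ P.B) le_sup_right
  set J : Set G := P.S ∩ ((H ⊔ P.B : Subgroup G) : Set G) with hJ
  have hJS : J ⊆ P.S := Set.inter_subset_left
  have hmemJ : ∀ g : G, g ∈ P.parabolic J ↔ ∃ h ∈ H, ∃ b ∈ P.B, g = h * b := by
    intro g
    rw [← hJeq, ← SetLike.mem_coe, Subgroup.normal_mul, Set.mem_mul]
    constructor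
    · rintro ⟨x, hx, y, hy, rfl⟩; exact ⟨x, hx, y, hy, rfl⟩
    · rintro ⟨x, hx, y, hy, rfl⟩; exact ⟨x, hx, y, hy, rfl⟩
  rcases Set.eq_empty_or_nonempty J with hJe | hJne
  · -- H ≤ B
    left
    have hHB : H ≤ P.B := by
      intro h hh
      have : h ∈ P.parabolic J := (hmemJ h).2 ⟨h, hh, 1, one_mem _, by simp⟩
      rw [hJe] at this
      simpa [Cfsg.BNPair.parabolic] using this
    have := Subgroup.normal_le_normalCore.2 hHB
    rw [hcore] at this
    exact le_bot_iff.1 this
  rcases Set.eq_empty_or_nonempty (P.S \ J) with hKe | hKne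
  · -- H B = G
    right
    have hJS' : J = P.S := Set.Subset.antisymm hJS (Set.sdiff_eq_empty.1 hKe)
    have htop : P.parabolic J = ⊤ := by
      rw [eq_top_iff, ← P.sup_eq_top, hJS']
      refine sup_le le_sup_left ?_
      rw [← P.closure_sup]
      exact sup_le le_sup_right (inf_le_left.trans le_sup_left)
    have hHB : H ⊔ P.B = ⊤ := by rw [hJeq, htop]
    -- G / H is solvable
    have hsurj : Function.Surjective ((QuotientGroup.mk' H).comp P.B.subtype) := by
      intro x
      obtain ⟨g, rfl⟩ := QuotientGroup.mk'_surjective H x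
      have hg : g ∈ P.parabolic J := by rw [htop]; trivial
      obtain ⟨h, hh, b, hb, rfl⟩ := (hmemJ g).1 hg
      refine ⟨⟨b, hb⟩, ?_⟩
      simp only [MonoidHom.comp_apply, Subgroup.subtype_apply, QuotientGroup.mk'_apply]
      rw [QuotientGroup.eq]
      have : (b : G)⁻¹ * (h * b) = b⁻¹ * h * (b⁻¹)⁻¹ := by simp [mul_assoc]
      rw [this]
      exact hH.conj_mem h hh b⁻¹
    have hsolv' : Group.IsSolvable (G ⧸ H) := Group.isSolvable_of_surjective hsurj
    by_contra hne
    have hnt : Nontrivial (G ⧸ H) := by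
      rw [← not_subsingleton_iff_nontrivial]
      intro hsub
      exact hne ((QuotientGroup.subsingleton_iff).1 hsub)
    have hlt := Group.IsSolvable.commutator_lt_top_of_nontrivial (G ⧸ H)
    have : commutator (G ⧸ H) = ⊤ := by
      have e := Subgroup.map_commutator (⊤ : Subgroup G) ⊤ (QuotientGroup.mk' H)
      rw [← MonoidHom.range_eq_map, MonoidHom.range_eq_top.2 (QuotientGroup.mk'_surjective H)] at e
      rw [commutator_def, ← e, ← commutator_def, hperf, ← MonoidHom.range_eq_map,
        MonoidHom.range_eq_top.2 (QuotientGroup.mk'_surjective H)]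
    rw [this] at hlt
    exact absurd hlt (lt_irrefl _)
  · exfalso
    obtain ⟨s1, hs1, s2, hs2, hns⟩ := hirr J hJS hJne hKne
    apply hns
    set i1 : P.S := ⟨s1, hJS hs1⟩ with hi1
    set i2 : P.S := ⟨s2, hs2.1⟩ with hi2
    have hne12 : H6.BN.sm P i1 ≠ H6.BN.sm P i2 := by
      intro h
      have := H6.BN.sm_inj P h
      have : s1 = s2 := congrArg Subtype.val this
      exact hs2.2 (this ▸ hs1)
    have hi2J : ∀ w, (∃ L : List P.S, H6.IsRed (H6.BN.sm P) L ∧ H6.wp (H6.BN.sm P) L = w ∧ i2 ∈ L) →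
        w ∉ H6.BN.WJ P J := by
      rintro w ⟨L, h1, rfl, h3⟩ hmem
      have := H6.letters_mem hs (H6.BN.exchange P) (H6.BN.sm_inj P) (H6.BN.sm_ne_one P) h1 hmem i2 h3
      exact hs2.2 this
    -- an element of H in C(s1)
    obtain ⟨h, hh, b, hb, e⟩ := (hmemJ s1).1 (H6.BN.subset_parabolic P J hs1)
    have hhC : h ∈ H6.BN.C P (H6.BN.sm P i1) := by
      have : h = s1 * b⁻¹ := by rw [e]; simp
      rw [this]
      exact H6.BN.C_mul_right P (H6.BN.sm_mem_C P i1) (P.B.inv_mem hb)
    have hconj : s2 * h * s2⁻¹ ∈ P.parabolic J := (hmemJ _).2 ⟨_, hH.conj_mem h hh s2, 1, one_mem _, by simp⟩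
    -- s2 s1 reduced
    have hl1 : ∀ i, H6.len (H6.BN.sm P) (H6.BN.sm P i) = 1 := by
      intro i
      have h1 := hs.len_s_le i
      have h2 : H6.len (H6.BN.sm P) (H6.BN.sm P i) ≠ 0 := fun h => H6.BN.sm_ne_one P i (hs.len_eq_zero.1 h)
      omega
    have hl2 : H6.len (H6.BN.sm P) (H6.BN.sm P i2 * H6.BN.sm P i1) = 2 := by
      have h1 := hs.len_smul_le i2 (H6.BN.sm P i1)
      have h2 := hs.len_le_smul i2 (H6.BN.sm P i1)
      have h3 := H6.BN.len_smul_ne P i2 (H6.BN.sm P i1)
      have h4 : H6.len (H6.BN.sm P) (H6.BN.sm P i2 * H6.BN.sm P i1) ≠ 0 := by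
        intro h
        rw [hs.len_eq_zero] at h
        apply hne12
        have := hs.cancel i2 (H6.BN.sm P i1)
        rw [h, mul_one] at this
        exact this.symm
      rw [hl1] at h1 h2 h3
      omega
    have hred2 : H6.IsRed (H6.BN.sm P) [i2, i1] := by
      rw [H6.IsRed, H6.wp_cons, H6.wp_single, hl2]; rfl
    have h21 : s2 * h ∈ H6.BN.C P (H6.BN.sm P i2 * H6.BN.sm P i1) :=
      H6.BN.C_smul_red P (by rw [hl2, hl1]; omega) (H6.BN.sm_mem_C P i2) hhC
    have h212 := H6.BN.C_smul' P (H6.BN.sm_inv_mem_C P i2) h21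
    rcases h212 with h212 | h212
    · have hmem := (H6.BN.mem_parabolic_iff P hJS h212).1 hconj
      -- length of s2 s1 s2
      have hl3 : H6.len (H6.BN.sm P) (H6.BN.sm P i2 * H6.BN.sm P i1 * H6.BN.sm P i2) ≤ 2 := by
        by_contra hcon
        push Not at hcon
        have hle := H6.len_le (s := H6.BN.sm P) [i2, i1, i2]
        have hred3 : H6.IsRed (H6.BN.sm P) [i2, i1, i2] := by
          have e3 : H6.wp (H6.BN.sm P) [i2, i1, i2] = H6.BN.sm P i2 * H6.BN.sm P i1 * H6.BN.sm P i2 := by
            simp [mul_assoc]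
          rw [H6.IsRed, e3]
          rw [e3] at hle
          simp only [List.length_cons, List.length_nil] at hle ⊢
          omega
        exact hi2J _ ⟨[i2, i1, i2], hred3, by simp [mul_assoc], by simp⟩ hmem
      -- exchange
      have hex := H6.BN.exchange P i2 [i1, i2] (by
        rw [H6.IsRed]
        have : H6.wp (H6.BN.sm P) [i1, i2] = (H6.BN.sm P i2 * H6.BN.sm P i1)⁻¹ := by
          simp [hs.inv_eq]
        rw [this, hs.len_inv, hl2]; rfl) (by
        have e4 : H6.wp (H6.BN.sm P) [i1, i2] = (H6.BN.sm P i2 * H6.BN.sm P i1)⁻¹ := by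
          simp [hs.inv_eq]
        rw [e4, hs.len_inv, hl2, mul_inv_rev, hs.inv_eq, hs.inv_eq, ← mul_assoc]
        exact hl3)
      obtain ⟨L₁, L₂, j, e5, e6⟩ := hex
      match L₁, e5, e6 with
      | [], e5, e6 =>
        simp only [List.nil_append, List.cons.injEq] at e5
        rw [← e5.1] at e6
        simp only [H6.wp_nil, mul_one, one_mul] at e6
        exact absurd e6.symm hne12
      | [x], e5, e6 =>
        simp only [List.cons_append, List.nil_append, List.cons.injEq] at e5
        rw [← e5.1, ← e5.2.1, H6.wp_single] at e6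
        -- s2 s1 = s1 s2
        have e7 : H6.BN.pr P (⟨s1, P.subset i1.2⟩ * ⟨s2, P.subset i2.2⟩ * ⟨s1, P.subset i1.2⟩⁻¹ * ⟨s2, P.subset i2.2⟩⁻¹) = 1 := by
          simp only [map_mul, map_inv]
          change H6.BN.sm P i1 * H6.BN.sm P i2 * (H6.BN.sm P i1)⁻¹ * (H6.BN.sm P i2)⁻¹ = 1
          rw [← e6]; simp
        exact (H6.BN.pr_eq_one_iff P).1 e7
      | x :: y :: L, e5, e6 =>
        have := congrArg List.length e5
        simp at this
    · have hmem := (H6.BN.mem_parabolic_iff P hJS h212).1 hconj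
      exact absurd hmem (hi2J _ ⟨[i2, i1], hred2, by simp, by simp⟩)

end Cfsg.Agent.S0319
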