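import Cfsg.Statements.S0647
import Cfsg.Agent.H2.OmegaZ

set_option autoImplicit false
set_option linter.style.haveILetI false
set_option linter.unusedVariables false
set_option linter.unusedSectionVars false
open Cfsg

namespace Cfsg.Agent.S0647

theorem mem_of_comm {S : Type*} [Group S] {A : Subgroup S} (hA : IsMulCommutative A)
    (hmax : ∀ B : Subgroup S, IsMulCommutative B → A ≤ B → B = A) {x : S}
    (hx : ∀ a ∈ A, a * x = x * a) : x ∈ A := by
  have h1 : IsMulCommutative ↥(A ⊔ Subgroup.zpowers x) := by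
    have h2 : A ⊔ Subgroup.zpowers x = Subgroup.closure ((A : Set S) ∪ {x}) := by
      rw [Subgroup.closure_union, Subgroup.closure_eq, Subgroup.zpowers_eq_closure]
    rw [h2]
    apply Subgroup.isMulCommutative_closure
    have hA' := H20.isMulCommutative_iff.1 hA
    rintro a (ha | rfl) b (hb | rfl)
    · exact hA' a ha b hb
    · exact hx a ha
    · exact (hx b hb).symm
    · rfl
  have h3 := hmax _ h1 le_sup_left
  rw [← h3]
  exact (le_sup_right : Subgroup.zpowers x ≤ _) (Subgroup.mem_zpowers x)

/-- For a nonempty family of maximal abelian subgroups of a finite group, the intersection of the family is the centre of the subgroup it generates, which is also the full centralizer of that subgroup. -/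
theorem result {S : Type*} [Group S] [Finite S] (𝒜 : Set (Subgroup S)) (hne : 𝒜.Nonempty) (hab : ∀ A ∈ 𝒜, IsMulCommutative A) (hmax : ∀ A ∈ 𝒜, ∀ B : Subgroup S, IsMulCommutative B → A ≤ B → B = A) : sInf 𝒜 = sSup 𝒜 ⊓ Subgroup.centralizer ((sSup 𝒜 : Subgroup S) : Set S) ∧ sInf 𝒜 = Subgroup.centralizer ((sSup 𝒜 : Subgroup S) : Set S) := by
  have h1 : Subgroup.centralizer ((sSup 𝒜 : Subgroup S) : Set S) ≤ sInf 𝒜 := by
    intro x hx
    rw [Subgroup.mem_sInf]
    intro A hA
    apply mem_of_comm (hab A hA) (hmax A hA)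
    intro a ha
    exact Subgroup.mem_centralizer_iff.1 hx a ((le_sSup hA : A ≤ sSup 𝒜) ha)
  have h2 : sInf 𝒜 ≤ Subgroup.centralizer ((sSup 𝒜 : Subgroup S) : Set S) := by
    intro x hx
    have h3 : sSup 𝒜 ≤ Subgroup.centralizer ({x} : Set S) := by
      apply sSup_le
      intro A hA a ha
      rw [Subgroup.mem_centralizer_singleton_iff]
      exact (H20.isMulCommutative_iff.1 (hab A hA)) _ ha _ (Subgroup.mem_sInf.1 hx A hA)
    refine Subgroup.mem_centralizer_iff.2 ?_
    intro y hy
    exact Subgroup.mem_centralizer_singleton_iff.1 (h3 hy)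
  have h3 : sInf 𝒜 ≤ sSup 𝒜 := by
    obtain ⟨A, hA⟩ := hne
    exact (sInf_le hA).trans (le_sSup hA)
  exact ⟨le_antisymm (le_inf h3 h2) (inf_le_right.trans h1), le_antisymm h2 h1⟩

end Cfsg.Agent.S0647
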