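import Cfsg.Statements.S0649
import Cfsg.Agent.H2.OmegaZ

set_option autoImplicit false
set_option linter.style.haveILetI false
set_option linter.unusedVariables false
set_option linter.unusedSectionVars false
open Cfsg

namespace Cfsg.Agent.S0649

/-- In the Glauberman replacement situation, if B does not normalize A then some element of B normalizes N_S(A) without normalizing A. -/
theorem result {S : Type*} [Group S] [Finite S] {p : ℕ} [Fact p.Prime] (hS : IsPGroup p S) (B : Subgroup S) [B.Normal] (hB2 : p = 2 → IsMulCommutative B) (A : Subgroup S) (hA : IsMulCommutative A) (hBA : ⁅B, B⁆ ≤ A) (hnot : ¬ B ≤ Subgroup.normalizer (A : Set S)) : ∃ b ∈ B, b ∈ Subgroup.normalizer ((Subgroup.normalizer (A : Set S)) : Set S) ∧ b ∉ Subgroup.normalizer (A : Set S) := by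
  set M := Subgroup.normalizer (A : Set S) with hM
  have h1 : M < B ⊔ M := lt_of_le_of_ne le_sup_right (fun h => hnot (h ▸ le_sup_left))
  obtain ⟨x, hx1, hx2, hx3⟩ := H2.exists_mem_normalizer_not_mem (hS.to_subgroup (B ⊔ M)) h1
  obtain ⟨b, hb, m, hm, rfl⟩ := Subgroup.mem_sup_of_normal_left.1 hx1
  have hm' : m ∈ Subgroup.normalizer (M : Set S) := Subgroup.le_normalizer hm
  refine ⟨b, hb, ?_, ?_⟩
  · have := mul_mem hx2 (inv_mem hm')
    rwa [mul_inv_cancel_right] at this
  · intro h
    exact hx3 (mul_mem h hm)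

end Cfsg.Agent.S0649
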