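import Cfsg.Statements.S0652
import Cfsg.Agent.H2.ReplProp

set_option autoImplicit false
set_option linter.style.haveILetI false
set_option linter.unusedVariables false
set_option linter.unusedSectionVars false
open Cfsg

namespace Cfsg.Agent.S0652

/-- For odd p and D normal in the p-group S, the elementary abelian subgroups of D of largest order satisfy the replacement property for class-2 normal subgroups of S. -/
theorem result {S : Type*} [Group S] [Finite S] {p : ℕ} [Fact p.Prime] (hS : IsPGroup p S) (hp : p ≠ 2) (D : Subgroup S) [D.Normal] : ∀ (B : Subgroup S) [B.Normal], ⁅⁅B, B⁆, B⁆ = ⊥ → (∃ U ∈ (Set.image (fun A : Subgroup ↥D => A.map D.subtype) (Cfsg.maxElementaryAbelianSubgroups p ↥D)), ⁅B, B⁆ ≤ U ∧ ¬ B ≤ U) → ∃ A ∈ (Set.image (fun A : Subgroup ↥D => A.map D.subtype) (Cfsg.maxElementaryAbelianSubgroups p ↥D)), ⁅B, B⁆ ≤ A ∧ ¬ B ≤ A ∧ B ≤ Subgroup.normalizer (A : Set S) := by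
  intro B _ _ hex
  obtain ⟨U, hU, hU1, hU2⟩ := hex
  obtain ⟨A, hA, h1, h2, h3⟩ := H2.replacement_property hS hp (fun A => H2.EAIn p D A)
    (fun A hA => hA.2.1.1) B (fun A b hA h => hA.repl hS hp h)
    ⟨U, H2.mem_image_maxElem_iff.1 hU, hU1, hU2⟩
  exact ⟨A, H2.mem_image_maxElem_iff.2 hA, h1, h2, h3⟩

end Cfsg.Agent.S0652
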