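import Cfsg.Statements.S0655
import Cfsg.Agent.H2.OmegaZ

set_option autoImplicit false
set_option linter.style.haveILetI false
set_option linter.unusedVariables false
set_option linter.unusedSectionVars false
open Cfsg

namespace Cfsg.Agent.S0655

/-- In a p-group the intersection of all elementary abelian subgroups of largest order is the subgroup generated by the elements of order dividing p in the centre (equivalently the centralizer) of the elementary-version Thompson subgroup. -/
theorem result {S : Type*} [Group S] [Finite S] {p : ℕ} [Fact p.Prime] (hS : IsPGroup p S) : sInf (Cfsg.maxElementaryAbelianSubgroups p S) = Cfsg.omegaCenterThompson p S ∧ Cfsg.omegaCenterThompson p S = Cfsg.omegaOne p (Subgroup.centralizer (Cfsg.thompsonSubgroup p S : Set S)) := by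
  have hJ : thompsonSubgroup p S = sSup {A : Subgroup S | H2.EAIn p ⊤ A} := H2.thompsonSubgroup_eq p
  have h1 : sInf (maxElementaryAbelianSubgroups p S) ≤ omegaCenterThompson p S := by
    intro x hx
    obtain ⟨A, hA⟩ := H2.exists_eaIn p (⊤ : Subgroup S)
    have hxA : ∀ B, H2.EAIn p ⊤ B → x ∈ B := by
      intro B hB
      exact (Subgroup.mem_sInf.1 hx) B (H2.mem_maxElem_top.2 hB)
    have hxJ : x ∈ thompsonSubgroup p S := by
      rw [hJ]
      exact (le_sSup (show A ∈ {A : Subgroup S | H2.EAIn p ⊤ A} from hA)) (hxA A hA)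
    refine Subgroup.subset_closure ⟨⟨hxJ, ?_⟩, (H20.isElementaryAbelian_iff.1 hA.2.1).2 x (hxA A hA)⟩
    have h2 : thompsonSubgroup p S ≤ Subgroup.centralizer ({x} : Set S) := by
      rw [hJ]
      apply sSup_le
      intro B hB y hy
      rw [Subgroup.mem_centralizer_singleton_iff]
      exact (H20.isElementaryAbelian_iff.1 hB.2.1).1 _ hy _ (hxA B hB)
    refine Subgroup.mem_centralizer_iff.2 ?_
    intro y hy
    have := Subgroup.mem_centralizer_singleton_iff.1 (h2 hy)
    exact this
  have h2 : omegaCenterThompson p S ≤ omegaOne p (Subgroup.centralizer (thompsonSubgroup p S : Set S)) := by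
    apply Subgroup.closure_mono
    rintro x ⟨hx1, hx2⟩
    exact ⟨hx1.2, hx2⟩
  have h3 : omegaOne p (Subgroup.centralizer (thompsonSubgroup p S : Set S)) ≤
      sInf (maxElementaryAbelianSubgroups p S) := by
    unfold omegaOne
    rw [Subgroup.closure_le]
    rintro x ⟨hx1, hx2⟩
    refine Subgroup.mem_sInf.2 ?_
    intro A hA
    have hA' := H2.mem_maxElem_top.1 hA
    apply hA'.mem_of_centralize (Subgroup.mem_top x) hx2
    intro a ha
    exact Subgroup.mem_centralizer_iff.1 hx1 a (by
      rw [hJ]
      exact (le_sSup (show A ∈ {A : Subgroup S | H2.EAIn p ⊤ A} from hA')) ha)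
  exact ⟨le_antisymm h1 (h2.trans h3), le_antisymm h2 (h3.trans h1)⟩

end Cfsg.Agent.S0655
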