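import Cfsg.Statements.S0654
import Cfsg.Agent.H2.ZJ
import Cfsg.Agent.S0655

set_option autoImplicit false
set_option linter.style.haveILetI false
set_option linter.unusedVariables false
set_option linter.unusedSectionVars false
open Cfsg

namespace Cfsg.Agent.S0654

theorem map_sInf_subtype {G : Type*} [Group G] [Finite G] {p : ℕ} (S : Subgroup G) :
    (sInf (maxElementaryAbelianSubgroups p S)).map S.subtype =
      H2.Zf (fun U A => H2.EAIn p U A) S := by
  obtain ⟨A₀, hA₀⟩ := H2.exists_eaIn p S
  apply le_antisymm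
  · apply le_sInf
    intro A hA
    have h1 : (A.subgroupOf S).map S.subtype = A := Subgroup.map_subgroupOf_eq_of_le hA.1
    rw [← h1]
    apply Subgroup.map_mono
    apply sInf_le
    rw [H2.mem_maxElem_iff, h1]
    exact hA
  · intro x hx
    have hxS : x ∈ S := hA₀.1 ((Subgroup.mem_sInf.1 hx) A₀ hA₀)
    refine ⟨⟨x, hxS⟩, ?_, rfl⟩
    refine Subgroup.mem_sInf.2 ?_
    intro A hA
    have h1 := H2.mem_maxElem_iff.1 hA
    obtain ⟨y, hy, hyx⟩ := (Subgroup.mem_sInf.1 hx) _ h1
    have : y = ⟨x, hxS⟩ := Subtype.ext hyx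
    rw [← this]; exact hy

/-- The ZJ-Theorem for the elementary-abelian Thompson subgroup: for an odd prime p, a finite group G with C_G(O_p(G)) ≤ O_p(G) acting p-stably on its normal p-subgroups, and a Sylow p-subgroup S of G, the subgroup generated by the elements of order dividing p in Z(J_e(S)) is characteristic in G. -/
theorem result {G : Type*} [Group G] [Finite G] {p : ℕ} [Fact p.Prime] (hp : p ≠ 2) (hc : Subgroup.centralizer (Cfsg.pCore p G : Set G) ≤ Cfsg.pCore p G) (hst : ∀ (P : Subgroup G) [P.Normal], IsPGroup p P → Cfsg.IsPStableOn p P) (S : Sylow p G) : ((Cfsg.omegaCenterThompson p ↥(S : Subgroup G)).map (S : Subgroup G).subtype).Characteristic := by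
  have h1 := (Cfsg.Agent.S0655.result (S := ↥(S : Subgroup G)) (p := p) S.2).1
  rw [← h1, map_sInf_subtype]
  exact (H2.eaFam hp).ZJ_characteristic S hc hst

end Cfsg.Agent.S0654
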