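import Cfsg.Statements.S1154
import Mathlib
import Cfsg.Agent.H5.Ree2

set_option autoImplicit false
open Cfsg

namespace Cfsg.Agent.S1154

/-- In the small Ree group ²G₂(q), q = 3^(2m+1) with m ≥ 1, realised as G¹ inside the Chevalley group G₂ over the field with q elements (θ the 3^m-th power map), with `U¹ = G¹ ∩ U` (U the positive unipotent subgroup of the ambient G₂): `U¹` has exactly `q² - 1` elements of order 3. -/
theorem result {K : Type*} [Field K] [Fintype K] {m : ℕ} (hm : 1 ≤ m) (hK : Fintype.card K = 3 ^ (2 * m + 1)) :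
    Nat.card {u : ↥(Cfsg.Lie.chevG2.posUnipotent K ⊓ Cfsg.Lie.twistedG2 K (3 ^ m)) // orderOf u = 3} = (3 ^ (2 * m + 1)) ^ 2 - 1 := by
  obtain ⟨σ, h⟩ := Cfsg.Agent.H6.WG2.exists_ctx hK
  have hf := Cfsg.Agent.H6.WG2.fl_of_card hK
  have horder : ∀ g : ↥(Cfsg.Lie.chevG2.posUnipotent K ⊓ Cfsg.Lie.twistedG2 K (3 ^ m)),
      orderOf g = orderOf (g : Matrix.GeneralLinearGroup Cfsg.Lie.chevG2.Idx K) := fun g => (Subgroup.orderOf_coe g).symm
  let f : {p : K × K // p ≠ 0} → {u : ↥(Cfsg.Lie.chevG2.posUnipotent K ⊓ Cfsg.Lie.twistedG2 K (3 ^ m)) // orderOf u = 3} :=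
    fun p => ⟨⟨Cfsg.Agent.H6.WG2.RE K (3 ^ m) true 0 p.1.1 p.1.2, (Cfsg.Agent.H6.WG2.pos_iff h hf).2 ⟨_, _, _, rfl⟩⟩, by
      rw [horder]
      refine (Cfsg.Agent.H5.Ree.RE_order hf _ _ _).2 ⟨rfl, ?_⟩
      by_contra hc
      push Not at hc
      exact p.2 (Prod.ext hc.1 hc.2)⟩
  have hb : Function.Bijective f := by
    constructor
    · intro p p' hpp
      have h1 := congrArg (fun z => ((z.1 : ↥(Cfsg.Lie.chevG2.posUnipotent K ⊓ Cfsg.Lie.twistedG2 K (3 ^ m))) :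
        Matrix.GeneralLinearGroup Cfsg.Lie.chevG2.Idx K)) hpp
      obtain ⟨-, h2, h3⟩ := Cfsg.Agent.H6.WG2.RE_inj hf h1
      exact Subtype.ext (Prod.ext h2 h3)
    · rintro ⟨⟨g, hg⟩, ho⟩
      obtain ⟨t, u, v, rfl⟩ := (Cfsg.Agent.H6.WG2.pos_iff h hf).1 hg
      rw [horder] at ho
      obtain ⟨rfl, h2⟩ := (Cfsg.Agent.H5.Ree.RE_order hf t u v).1 ho
      refine ⟨⟨(u, v), ?_⟩, rfl⟩
      intro h3
      rw [Prod.mk_eq_zero] at h3
      rcases h2 with h2 | h2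
      · exact h2 h3.1
      · exact h2 h3.2
  rw [← Nat.card_congr (Equiv.ofBijective f hb)]
  have h4 : Nat.card {p : K × K // p ≠ 0} = Nat.card (K × K) - 1 := by
    classical
    rw [Nat.card_eq_fintype_card, Nat.card_eq_fintype_card, Fintype.card_subtype_compl, Fintype.card_subtype_eq]
  rw [h4, Nat.card_eq_fintype_card, Fintype.card_prod, hK, pow_two]

end Cfsg.Agent.S1154
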