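import Cfsg.Statements.S1249
import Cfsg.Agent.H4.Basic2

set_option autoImplicit false
open Cfsg

namespace Cfsg.Agent.S1249

/-- Let P and Q be Sylow p-subgroups of the finite group G both containing the subgroup A. If A is strongly closed in P, then A is strongly closed in Q. -/
theorem result {G : Type*} [Group G] [Finite G] {p : ℕ} [Fact p.Prime] (P Q : Sylow p G) (A : Subgroup G) (hAQ : A ≤ Q) (hA : Cfsg.IsStronglyClosed A (P : Subgroup G)) : Cfsg.IsStronglyClosed A (Q : Subgroup G) := by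
  obtain ⟨hAP, hsc⟩ := hA
  refine ⟨hAQ, fun x hx g hg => ?_⟩
  obtain ⟨h, hh⟩ := MulAction.exists_smul_eq G P Q
  have hPQ : ∀ y : G, y ∈ Q ↔ h⁻¹ * y * h ∈ P := by
    intro y
    rw [← hh]
    exact H4.mem_sylow_smul_iff P h y
  -- A^{h⁻¹} ≤ A
  have h1 : A.map (MulAut.conj h⁻¹).toMonoidHom ≤ A := by
    intro y hy
    rw [H4.mem_map_conj, inv_inv] at hy
    have h2 := (hPQ _).1 (hAQ hy)
    have h3 := hsc _ hy h⁻¹
    rw [inv_inv] at h3
    have h4 := h3 h2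
    have h5 : h⁻¹ * (h * y * h⁻¹) * h = y := by group
    rwa [h5] at h4
  have h2 := (H4.map_conj_eq_iff A h⁻¹).2 h1
  have h3 : h⁻¹ ∈ Subgroup.normalizer (A : Set G) := (H4.map_conj_eq_iff_mem_normalizer A h⁻¹).1 h2
  have h4 := (hPQ _).1 hg
  have h5 := hsc x hx (h⁻¹ * g) (by
    have : h⁻¹ * g * x * (h⁻¹ * g)⁻¹ = h⁻¹ * (g * x * g⁻¹) * h := by group
    rw [this]; exact h4)
  have h6 : h⁻¹ * (g * x * g⁻¹) * h⁻¹⁻¹ ∈ A := by
    have : h⁻¹ * g * x * (h⁻¹ * g)⁻¹ = h⁻¹ * (g * x * g⁻¹) * h⁻¹⁻¹ := by group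
    rwa [this] at h5
  exact (Subgroup.mem_normalizer_iff.1 h3 _).2 h6

end Cfsg.Agent.S1249
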