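import Cfsg.Statements.S1250
import Cfsg.Agent.H4.Basic2

set_option autoImplicit false
open Cfsg

namespace Cfsg.Agent.S1250

/-- Let S be a Sylow p-subgroup of the finite group G, A ≤ S strongly closed in S, and N a normal subgroup. Then the image of A in G ⧸ N is strongly closed in the image of S (which is a Sylow p-subgroup of G ⧸ N). -/
theorem result {G : Type*} [Group G] [Finite G] {p : ℕ} [Fact p.Prime] (S : Sylow p G) (A : Subgroup G) (hA : Cfsg.IsStronglyClosed A (S : Subgroup G)) (N : Subgroup G) [N.Normal] : Cfsg.IsStronglyClosed (A.map (QuotientGroup.mk' N)) ((S : Subgroup G).map (QuotientGroup.mk' N)) := by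
  obtain ⟨hAS, hsc⟩ := hA
  refine ⟨Subgroup.map_mono hAS, ?_⟩
  rintro _ ⟨x, hx, rfl⟩ q hq
  induction q using QuotientGroup.induction_on with
  | H g =>
    have e : (QuotientGroup.mk g : G ⧸ N) * QuotientGroup.mk' N x * (QuotientGroup.mk g)⁻¹ = QuotientGroup.mk' N (g * x * g⁻¹) := by
      rw [map_mul, map_mul, map_inv]; rfl
    rw [e] at hq ⊢
    obtain ⟨s, hs, hsx⟩ := hq
    have hK : g * x * g⁻¹ ∈ (S : Subgroup G) ⊔ N := by
      have h1 : s⁻¹ * (g * x * g⁻¹) ∈ N := QuotientGroup.eq.1 hsx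
      have h2 := mul_mem (show s ∈ (S : Subgroup G) ⊔ N from (le_sup_left : (S : Subgroup G) ≤ _) hs) ((le_sup_right : N ≤ (S : Subgroup G) ⊔ N) h1)
      have h3 : s * (s⁻¹ * (g * x * g⁻¹)) = g * x * g⁻¹ := by group
      rwa [h3] at h2
    set K := (S : Subgroup G) ⊔ N with hKdef
    have hSK : (S : Subgroup G) ≤ K := le_sup_left
    obtain ⟨k, hk⟩ := H4.mem_of_isPGroup_pow S.2 (hAS hx)
    have hp : IsPGroup p (Subgroup.zpowers (⟨g * x * g⁻¹, hK⟩ : K)) := by
      have h4 : (⟨g * x * g⁻¹, hK⟩ : K) ^ p ^ k = 1 := by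
        apply Subtype.ext
        show (g * x * g⁻¹) ^ p ^ k = 1
        rw [conj_pow, hk]; group
      have h5 : orderOf (⟨g * x * g⁻¹, hK⟩ : K) ∣ p ^ k := orderOf_dvd_of_pow_eq_one h4
      exact IsPGroup.of_card_dvd_pow (n := k) (by rw [Nat.card_zpowers]; exact h5)
    obtain ⟨y, hy⟩ := H4.mem_sylow_conj (S.subtype hSK) _ hp
    have h6 := hy _ (Subgroup.mem_zpowers _)
    have h7 : y.1 * (g * x * g⁻¹) * (y.1)⁻¹ ∈ (S : Subgroup G) := h6
    obtain ⟨s', hs', n, hn, hsn⟩ := H4.exists_mul_of_mem_sup_normal (show y.1 ∈ (S : Subgroup G) ⊔ N from y.2)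
    rw [← hsn] at h7
    have h8 : (n * g) * x * (n * g)⁻¹ ∈ (S : Subgroup G) := by
      have := mul_mem (mul_mem (inv_mem hs') h7) hs'
      have e2 : s'⁻¹ * (s' * n * (g * x * g⁻¹) * (s' * n)⁻¹) * s' = (n * g) * x * (n * g)⁻¹ := by group
      rwa [e2] at this
    have h9 := hsc x hx (n * g) h8
    refine ⟨_, h9, ?_⟩
    have hn1 : QuotientGroup.mk' N n = 1 := (QuotientGroup.eq_one_iff n).2 hn
    rw [map_mul, map_mul, map_inv, map_mul, hn1, one_mul, map_mul, map_mul, map_inv]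

end Cfsg.Agent.S1250
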