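import Cfsg.Statements.S1251
import Cfsg.Agent.H4.ZStar2
import Cfsg.Agent.H19.Sylow2

set_option autoImplicit false
open Cfsg

namespace Cfsg.Agent.S1251

/-- Let S be a Sylow 2-subgroup of the finite group G and A ≤ S strongly closed in S. If H is a subgroup normalized by A with no nontrivial normal subgroup of odd order and A ∩ H = 1, then A ≤ C_G(H). -/
theorem result {G : Type*} [Group G] [Finite G] (S : Sylow 2 G) (A : Subgroup G) (hA : Cfsg.IsStronglyClosed A (S : Subgroup G)) (H : Subgroup G) (hAH : A ≤ Subgroup.normalizer (H : Set G)) (hO : Cfsg.oddCore ↥H = ⊥) (hdisj : A ⊓ H = ⊥) : A ≤ Subgroup.centralizer (H : Set G) := by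
  haveI : Fact (Nat.Prime 2) := ⟨Nat.prime_two⟩
  set X := H ⊔ A with hX
  have hAp : IsPGroup 2 A := S.2.to_le hA.1
  obtain ⟨T, hT, hAT⟩ := Cfsg.Agent.H23.exists_isSylowOf_ge (G := X) (le_sup_right : A ≤ X) hAp
  have hXN : X ≤ Subgroup.normalizer (H : Set G) := sup_le Subgroup.le_normalizer hAH
  have hTH := Cfsg.Agent.H19.isSylowOf_inf_normal_rel (le_sup_left : H ≤ X) hXN hT
  -- strong closure in T
  obtain ⟨g, hg⟩ := H4.mem_sylow_conj S T hT.isPGroup
  have hgA : ∀ x : G, g * x * g⁻¹ ∈ A → x ∈ A := by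
    -- g A g⁻¹ ≤ A, hence equality
    have h1 : A.map (MulAut.conj g).toMonoidHom ≤ A := by
      rintro _ ⟨x, hx, rfl⟩
      exact hA.2 x hx g (hg x (hAT hx))
    have h2 : A.map (MulAut.conj g).toMonoidHom = A := by
      apply Subgroup.eq_of_le_of_card_ge h1
      rw [Subgroup.card_map_of_injective (MulAut.conj g).injective]
    intro x hx
    rw [← h2] at hx
    obtain ⟨y, hy, hyx⟩ := hx
    have h3 : g * y * g⁻¹ = g * x * g⁻¹ := hyx
    have h4 : y = x := mul_left_cancel (mul_right_cancel h3)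
    rw [← h4]; exact hy
  have hclosed : ∀ a ∈ A, ∀ l : G, l * a * l⁻¹ ∈ T → l * a * l⁻¹ ∈ A := by
    intro a ha l hl
    apply hgA
    have h1 := hg _ hl
    have h2 : g * (l * a * l⁻¹) * g⁻¹ = (g * l) * a * (g * l)⁻¹ := by group
    rw [h2] at h1 ⊢
    exact hA.2 a ha _ h1
  intro a ha
  rw [Subgroup.mem_centralizer_iff]
  intro h hh
  have haN := hAH ha
  set L := H ⊔ Subgroup.zpowers a with hL
  have hLX : L ≤ X := sup_le_sup_left (by rw [Subgroup.zpowers_le]; exact ha) H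
  have haL : a ∈ L := Subgroup.mem_sup_right (Subgroup.mem_zpowers a)
  have haT : a ∈ T := hAT ha
  have hTL : Cfsg.Agent.H23.IsSylowOf 2 (T ⊓ L) L := by
    apply Cfsg.Agent.H23.isSylowOf_of_not_dvd inf_le_right (hT.isPGroup.to_le inf_le_left)
    have e1 : H ⊔ (T ⊓ L) = L := by
      apply le_antisymm (sup_le le_sup_left inf_le_right)
      apply sup_le le_sup_left
      rw [Subgroup.zpowers_le]
      exact Subgroup.mem_sup_right (Subgroup.mem_inf.2 ⟨haT, haL⟩)
    have e2 := Cfsg.Agent.H1.card_sup_mul_card_inf_of_le_normalizer (H := H) (K := T ⊓ L)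
      ((inf_le_right.trans hLX).trans hXN)
    rw [e1] at e2
    have e3 : H ⊓ (T ⊓ L) = T ⊓ H := by
      apply le_antisymm
      · exact le_inf (inf_le_right.trans inf_le_left) inf_le_left
      · exact le_inf inf_le_right (le_inf inf_le_left (inf_le_right.trans le_sup_left))
    rw [e3] at e2
    have e4 := Cfsg.Agent.H19.card_relIndex (inf_le_right : T ⊓ L ≤ L)
    have e5 := Cfsg.Agent.H19.card_relIndex (inf_le_right : T ⊓ H ≤ H)
    have e6 : (T ⊓ L).relIndex L = (T ⊓ H).relIndex H := by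
      rw [← e4, ← e5] at e2
      have hp1 : 0 < Nat.card (T ⊓ L : Subgroup G) := Nat.card_pos
      have hp2 : 0 < Nat.card (T ⊓ H : Subgroup G) := Nat.card_pos
      apply Nat.eq_of_mul_eq_mul_left (Nat.mul_pos hp1 hp2)
      linarith
    rw [e6]
    exact hTH.not_dvd
  have hfac : ∀ l ∈ L, ∃ y ∈ H, l * a * l⁻¹ = y * a * y⁻¹ := by
    intro l hl
    obtain ⟨z, hz, y, hy, hzy⟩ := H4.exists_mul_of_mem_sup (A := Subgroup.zpowers a) (B := H)
      (by rw [Subgroup.zpowers_le]; exact haN) (by rw [sup_comm]; exact hl : l ∈ Subgroup.zpowers a ⊔ H)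
    refine ⟨z * y * z⁻¹, ?_, ?_⟩
    · have hzN : z ∈ Subgroup.normalizer (H : Set G) := (Subgroup.zpowers_le.2 haN) hz
      exact (Subgroup.mem_normalizer_iff.1 hzN y).1 hy
    · have h1 := H4.comm_zpowers hz (Subgroup.mem_zpowers a)
      have h2 : z⁻¹ * a * z = a := by rw [mul_assoc, ← h1]; group
      calc l * a * l⁻¹ = z * y * a * (z * y)⁻¹ := by rw [hzy]
        _ = z * y * (z⁻¹ * a * z) * (z * y)⁻¹ := by rw [h2]
        _ = z * y * z⁻¹ * a * (z * y * z⁻¹)⁻¹ := by group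
  -- isolated in L
  obtain ⟨Q, hQ⟩ := hTL
  have hQmem : ∀ l : L, l ∈ (Q : Subgroup L) ↔ (l : G) ∈ T := by
    intro l
    constructor
    · intro hl
      have : (l : G) ∈ T ⊓ L := by rw [← hQ]; exact ⟨l, hl, rfl⟩
      exact this.1
    · intro hl
      have : (l : G) ∈ T ⊓ L := ⟨hl, l.2⟩
      rw [← hQ] at this
      obtain ⟨l', hl', hll⟩ := this
      have : l' = l := Subtype.ext hll
      rw [← this]; exact hl'
  have key := H4.zstar_elt Q (x := (⟨a, haL⟩ : L)) ((hQmem _).2 haT) (by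
    rintro ⟨l, hl⟩ hlT
    have h1 : l * a * l⁻¹ ∈ T := (hQmem _).1 hlT
    have h2 := hclosed a ha l h1
    apply Subtype.ext
    show l * a * l⁻¹ = a
    obtain ⟨y, hy, hly⟩ := hfac l hl
    have h3 : l * a * l⁻¹ * a⁻¹ ∈ A ⊓ H := by
      refine Subgroup.mem_inf.2 ⟨A.mul_mem h2 (A.inv_mem ha), ?_⟩
      rw [hly]
      have h4 : y * a * y⁻¹ * a⁻¹ = y * (a * y⁻¹ * a⁻¹) := by group
      rw [h4]
      exact mul_mem hy ((Subgroup.mem_normalizer_iff.1 haN _).1 (inv_mem hy))
    rw [hdisj, Subgroup.mem_bot] at h3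
    exact mul_inv_eq_one.1 h3) ⟨h, Subgroup.mem_sup_left hh⟩
  -- O(L) ∩ H is a normal odd subgroup of H
  haveI hnorm : (oddCore L).Normal := Cfsg.Agent.H1.pPrimeCore_normal 2 L
  have hHL : H ≤ L := le_sup_left
  set N : Subgroup H := (oddCore L).comap (Subgroup.inclusion hHL) with hNdef
  have hN : N ≤ oddCore H := by
    apply H4.le_oddCore
    · infer_instance
    · have h1 : Nat.card N ∣ Nat.card (oddCore L) := by
        have h2 : Nat.card (N.map (Subgroup.inclusion hHL)) = Nat.card N :=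
          Subgroup.card_map_of_injective (Subgroup.inclusion_injective hHL)
        rw [← h2]
        apply Subgroup.card_dvd_of_le
        exact Subgroup.map_comap_le _ _
      exact Odd.of_dvd_nat (H4.oddCore_odd L) h1
  have h1 : a * h * a⁻¹ * h⁻¹ ∈ H :=
    mul_mem ((Subgroup.mem_normalizer_iff.1 haN h).1 hh) (inv_mem hh)
  have h2 : (⟨a * h * a⁻¹ * h⁻¹, h1⟩ : H) ∈ N := key
  have h3 := hN h2
  rw [hO, Subgroup.mem_bot] at h3
  have h4 : a * h * a⁻¹ * h⁻¹ = 1 := congrArg Subtype.val h3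
  rw [mul_inv_eq_one, mul_inv_eq_iff_eq_mul] at h4
  exact h4.symm

end Cfsg.Agent.S1251
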