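import Cfsg.Statements.S1292
import Cfsg.Agent.H10.PLoc

set_option autoImplicit false
open Cfsg

namespace Cfsg.Agent.S1292

/-- Let G be a finite group such that F*(C_G(t)) = O_2(C_G(t)) for every involution t. Then F*(N_G(T)) = O_2(N_G(T)) for every nontrivial 2-subgroup T of G. -/
theorem result {G : Type*} [Group G] [Finite G] (h : ∀ t : G, orderOf t = 2 → Cfsg.generalizedFittingSubgroup ↥(Subgroup.centralizer ({t} : Set G)) = Cfsg.pCore 2 ↥(Subgroup.centralizer ({t} : Set G))) (T : Subgroup G) (hT : IsPGroup 2 ↥T) (hT1 : T ≠ ⊥) : Cfsg.generalizedFittingSubgroup ↥(Subgroup.normalizer (T : Set G)) = Cfsg.pCore 2 ↥(Subgroup.normalizer (T : Set G)) := by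
  have hfact : Fact (Nat.Prime 2) := ⟨Nat.prime_two⟩
  rw [H10.genFitting_eq_pCore_iff]
  set N := Subgroup.normalizer (T : Set G) with hN
  -- a central involution of `T`
  have hnt : Nontrivial T := by rwa [Subgroup.nontrivial_iff_ne_bot]
  have hZ : Nontrivial (Subgroup.center T) := hT.center_nontrivial
  have hZp : IsPGroup 2 (Subgroup.center T) := hT.to_subgroup _
  obtain ⟨n, hn⟩ := IsPGroup.iff_card.mp hZp
  have h2dvd : 2 ∣ Nat.card (Subgroup.center T) := by
    have h1 : 1 < Nat.card (Subgroup.center T) := Finite.one_lt_card_iff_nontrivial.mpr hZ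
    rw [hn] at h1 ⊢
    rcases Nat.eq_zero_or_pos n with h0 | h0
    · rw [h0, pow_zero] at h1; exact absurd h1 (lt_irrefl _)
    · exact dvd_pow_self 2 h0.ne'
  obtain ⟨z, hz⟩ := exists_prime_orderOf_dvd_card' 2 h2dvd
  set t : G := ((z : T) : G) with ht
  have hto : orderOf t = 2 := by rw [ht, Subgroup.orderOf_coe, Subgroup.orderOf_coe, hz]
  have htT : t ∈ T := (z : T).2
  set H := Subgroup.centralizer ({t} : Set G) with hH
  have hTH : T ≤ H := by
    intro x hx
    rw [Subgroup.mem_centralizer_iff]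
    intro y hy
    rw [Set.mem_singleton_iff.mp hy]
    exact (congrArg Subtype.val (Subgroup.mem_center_iff.mp z.2 ⟨x, hx⟩)).symm
  have hCH : Subgroup.centralizer (T : Set G) ≤ H :=
    Subgroup.centralizer_le (by simpa using htT)
  have h1 := (H10.genFitting_eq_pCore_iff (p := 2)).mp (h t hto)
  have hTHp : IsPGroup 2 (T.subgroupOf H) := H10.isPGroup_subgroupOf hT
  have h2 := H10.charP_normalizer h1 hTHp
  set NH := Subgroup.normalizer ((T.subgroupOf H : Subgroup H) : Set H) with hNH
  have hTNH : T.subgroupOf H ≤ NH := Subgroup.le_normalizer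
  have hCNH : Subgroup.centralizer ((T.subgroupOf H : Subgroup H) : Set H) ≤ NH :=
    Subgroup.centralizer_le_normalizer _
  have hn2 : ((T.subgroupOf H).subgroupOf NH).Normal := H10.normal_subgroupOf_of_le le_rfl
  have h3 := H10.charP_subnormal h2 (H := Subgroup.centralizer
    (((T.subgroupOf H).subgroupOf NH : Subgroup NH) : Set NH))
    (Subgroup.Normal.isSubnormal inferInstance)
  have e1 := H10.centEquiv hTNH hCNH
  have e2 := H10.centEquiv hTH hCH
  have hTN : T ≤ N := Subgroup.le_normalizer
  have hCN : Subgroup.centralizer (T : Set G) ≤ N := Subgroup.centralizer_le_normalizer _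
  have e3 := H10.centEquiv hTN hCN
  have h4 := H10.charP_equiv ((e1.trans e2).trans e3.symm) h3
  have hn3 : (T.subgroupOf N).Normal := H10.normal_subgroupOf_of_le le_rfl
  exact H10.charP_of_centralizer (H10.le_pCore hn3 (H10.isPGroup_subgroupOf hT)) hn3 h4

end Cfsg.Agent.S1292
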