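import Cfsg.Statements.S1293
import Cfsg.Agent.H10.PLoc

set_option autoImplicit false
open Cfsg

namespace Cfsg.Agent.S1293

/-- Let G be finite with L_{p'}(G) = 1, and H = N_G(P) for a nontrivial p-subgroup P. Then L_{p'}(H) = 1 and O_{p'}(H) ≤ O_{p'}(G). -/
theorem result {G : Type*} [Group G] [Finite G] (p : ℕ) [Fact p.Prime] (hL : Cfsg.pLayer p G = ⊥) (P : Subgroup G) (hP : IsPGroup p ↥P) (hP1 : P ≠ ⊥) : Cfsg.pLayer p ↥(Subgroup.normalizer (P : Set G)) = ⊥ ∧ (Cfsg.pPrimeCore p ↥(Subgroup.normalizer (P : Set G))).map (Subgroup.normalizer (P : Set G)).subtype ≤ Cfsg.pPrimeCore p G := by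
  set O := Cfsg.pPrimeCore p G with hO
  set q := QuotientGroup.mk' O with hq
  set H := Subgroup.normalizer (P : Set G) with hH
  have hlay : Cfsg.layer (G ⧸ O) = ⊥ := H10.pLayer_eq_bot_iff.mp hL
  have hcQ : Subgroup.centralizer (Cfsg.pCore p (G ⧸ O) : Set (G ⧸ O)) ≤ Cfsg.pCore p (G ⧸ O) := by
    rw [← H10.fitting_eq_pCore (H10.pPrimeCore_quotient_eq_bot p)]
    exact H10.centralizer_fitting_le_iff_layer_eq_bot.mpr hlay
  have hPq : IsPGroup p (P.map q) := hP.map q
  have h1 := H10.charP_normalizer hcQ hPq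
  set M := Subgroup.normalizer ((P.map q : Subgroup (G ⧸ O)) : Set (G ⧸ O)) with hM
  have hMH : M = H.map q := H10.normalizer_map_mk hP (H10.pPrimeCore_coprime p G)
  have h2 : Cfsg.pPrimeCore p M = ⊥ := H10.charP_pPrimeCore_eq_bot h1
  have h3 : Cfsg.layer M = ⊥ := H10.charP_layer_eq_bot h1
  -- the surjection `H → M`
  let f : H →* M := (MulEquiv.subgroupCongr hMH.symm).toMonoidHom.comp (q.subgroupMap H)
  have hf : Function.Surjective f :=
    (MulEquiv.subgroupCongr hMH.symm).surjective.comp (MonoidHom.subgroupMap_surjective q H)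
  have hfval : ∀ x : H, ((f x : M) : G ⧸ O) = q x := fun x => rfl
  have hker : f.ker = O.subgroupOf H := by
    ext x
    rw [MonoidHom.mem_ker, Subtype.ext_iff, hfval, Subgroup.coe_one, hq, QuotientGroup.mk'_apply,
      QuotientGroup.eq_one_iff, Subgroup.mem_subgroupOf]
  have hOH : Cfsg.pPrimeCore p H = f.ker := by
    apply le_antisymm
    · have h4 : (Cfsg.pPrimeCore p H).map f ≤ Cfsg.pPrimeCore p M := by
        apply H10.le_pPrimeCore (Subgroup.Normal.map inferInstance f hf)
        exact Nat.Coprime.coprime_dvd_left (Subgroup.card_map_dvd _ _)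
          (H10.pPrimeCore_coprime p H)
      rw [h2, le_bot_iff, Subgroup.map_eq_bot_iff] at h4
      exact h4
    · rw [hker]
      apply H10.le_pPrimeCore inferInstance
      rw [H10.card_subgroupOf]
      exact Nat.Coprime.coprime_dvd_left (Subgroup.card_dvd_of_le inf_le_left)
        (H10.pPrimeCore_coprime p G)
  constructor
  · rw [H10.pLayer_eq_bot_iff]
    have e : H ⧸ Cfsg.pPrimeCore p H ≃* M :=
      (QuotientGroup.quotientMulEquivOfEq hOH).trans
        (QuotientGroup.quotientKerEquivOfSurjective f hf)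
    rw [← H10.layer_map_equiv e.symm, h3, Subgroup.map_bot]
  · rw [hOH, hker, Subgroup.subgroupOf_map_subtype]
    exact inf_le_left

end Cfsg.Agent.S1293
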