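import Cfsg.Statements.S1323
import Cfsg.Agent.H10.StdAlt

set_option autoImplicit false
open Cfsg

namespace Cfsg.Agent.S1323

/-- For n ≥ 9, the subgroup of the alternating group on Fin n fixing each of the points 0, 1, 2, 3 is a standard subgroup. -/
theorem result (n : ℕ) (h4 : 4 ≤ n) (hn : 9 ≤ n) : Cfsg.IsStandardSubgroup (⨅ i : Fin 4, MulAction.stabilizer ↥(alternatingGroup (Fin n)) (Fin.castLE h4 i : Fin n)) := by
  classical
  have hmem : ∀ x : Fin n, x ∈ Finset.univ.map (Fin.castLEEmb h4) ↔ ∃ i : Fin 4, Fin.castLE h4 i = x := by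
    intro x
    rw [Finset.mem_map]
    constructor
    · rintro ⟨i, -, h⟩
      exact ⟨i, h⟩
    · rintro ⟨i, h⟩
      exact ⟨i, Finset.mem_univ i, h⟩
  have hK : (⨅ i : Fin 4, MulAction.stabilizer ↥(alternatingGroup (Fin n)) (Fin.castLE h4 i : Fin n)) =
      H10.altFix (Finset.univ.map (Fin.castLEEmb h4)) := by
    ext g
    rw [Subgroup.mem_iInf, H10.mem_altFix]
    constructor
    · intro h x hx
      obtain ⟨i, rfl⟩ := (hmem x).1 hx
      exact h i
    · intro h i
      rw [MulAction.mem_stabilizer_iff]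
      exact h _ ((hmem _).2 ⟨i, rfl⟩)
  rw [hK]
  exact H10.altFix_standard (by rw [Finset.card_map]; rfl) (by rw [Fintype.card_fin]; exact hn)

end Cfsg.Agent.S1323
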