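import Cfsg.Statements.S1339
import Cfsg.Agent.H10.Transv
import Cfsg.Agent.H1.Cores

set_option autoImplicit false
open Cfsg

namespace Cfsg.Agent.S1339

/-- Let F be a field with 2 elements, n ≥ 3, and t ∈ SL(n, F) a transvection (t = 1 + E_{ij}, i ≠ j). Then the generalized Fitting subgroup of C(t) is O_2(C(t)). -/
theorem result {F : Type*} [Field F] [Fintype F] [DecidableEq F] (hF : Fintype.card F = 2) (n : ℕ) (hn : 3 ≤ n) (i j : Fin n) (hij : i ≠ j) (t : Matrix.SpecialLinearGroup (Fin n) F) (ht : (t : Matrix (Fin n) (Fin n) F) = Matrix.transvection i j 1) : Cfsg.generalizedFittingSubgroup ↥(Subgroup.centralizer ({t} : Set (Matrix.SpecialLinearGroup (Fin n) F))) = Cfsg.pCore 2 ↥(Subgroup.centralizer ({t} : Set (Matrix.SpecialLinearGroup (Fin n) F))) := by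
  classical
  haveI : Fact (Nat.Prime 2) := ⟨Nat.prime_two⟩
  haveI : Finite (Matrix.SpecialLinearGroup (Fin n) F) := inferInstance
  rw [H10.genFitting_eq_pCore_iff]
  -- elements of `C`
  have hC : ∀ g : Matrix.SpecialLinearGroup (Fin n) F, g ∈ Subgroup.centralizer ({t} : Set (Matrix.SpecialLinearGroup (Fin n) F)) →
      (∀ a, a ≠ i → (g : Matrix (Fin n) (Fin n) F) a i = 0) ∧ (g : Matrix (Fin n) (Fin n) F) i i = (g : Matrix (Fin n) (Fin n) F) j j ∧
      (∀ c, c ≠ j → (g : Matrix (Fin n) (Fin n) F) j c = 0) := by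
    intro g hg
    rw [Subgroup.mem_centralizer_singleton_iff] at hg
    apply H10.comm_transv hij
    rw [← ht]
    exact congrArg (fun x : Matrix.SpecialLinearGroup (Fin n) F => (x : Matrix (Fin n) (Fin n) F)) hg
  have hii : ∀ g : Matrix.SpecialLinearGroup (Fin n) F, g ∈ Subgroup.centralizer ({t} : Set (Matrix.SpecialLinearGroup (Fin n) F)) →
      (g : Matrix (Fin n) (Fin n) F) i i = 1 := by
    intro g hg
    rcases H10.two_field hF ((g : Matrix (Fin n) (Fin n) F) i i) with h | h
    · exfalso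
      have h1 := Matrix.det_eq_zero_of_column_eq_zero (A := (g : Matrix (Fin n) (Fin n) F)) i (by
        intro a
        by_cases ha : a = i
        · rw [ha, h]
        · exact (hC g hg).1 a ha)
      rw [g.2] at h1
      exact one_ne_zero h1
    · exact h
  -- action on vectors
  have hC2 : ∀ g : Matrix.SpecialLinearGroup (Fin n) F, g ∈ Subgroup.centralizer ({t} : Set (Matrix.SpecialLinearGroup (Fin n) F)) →
      ∀ w : Fin n → F, (g : Matrix (Fin n) (Fin n) F).mulVec w j = w j := by
    intro g hg w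
    rw [Matrix.mulVec, dotProduct, Finset.sum_eq_single j]
    · rw [← (hC g hg).2.1, hii g hg, one_mul]
    · intro b _ hb
      rw [(hC g hg).2.2 b hb, zero_mul]
    · intro h; exact absurd (Finset.mem_univ j) h
  have hC1 : ∀ g : Matrix.SpecialLinearGroup (Fin n) F, g ∈ Subgroup.centralizer ({t} : Set (Matrix.SpecialLinearGroup (Fin n) F)) →
      ∀ w : Fin n → F, (∀ a, a ≠ i → w a = 0) → (g : Matrix (Fin n) (Fin n) F).mulVec w = w := by
    intro g hg w hw
    ext a
    rw [Matrix.mulVec, dotProduct, Finset.sum_eq_single i]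
    · by_cases ha : a = i
      · rw [ha, hii g hg, one_mul]
      · rw [(hC g hg).1 a ha, zero_mul, hw a ha]
    · intro b _ hb
      rw [hw b hb, mul_zero]
    · intro h; exact absurd (Finset.mem_univ i) h
  have hmul : ∀ g h : ↥(Subgroup.centralizer ({t} : Set (Matrix.SpecialLinearGroup (Fin n) F))), ∀ w : Fin n → F,
      (((g * h : ↥(Subgroup.centralizer ({t} : Set (Matrix.SpecialLinearGroup (Fin n) F)))) : Matrix.SpecialLinearGroup (Fin n) F) : Matrix (Fin n) (Fin n) F).mulVec w =
      ((g : Matrix.SpecialLinearGroup (Fin n) F) : Matrix (Fin n) (Fin n) F).mulVec (((h : Matrix.SpecialLinearGroup (Fin n) F) : Matrix (Fin n) (Fin n) F).mulVec w) := by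
    intro g h w
    rw [Matrix.mulVec_mulVec]; rfl
  have hone : ∀ w : Fin n → F,
      (((1 : ↥(Subgroup.centralizer ({t} : Set (Matrix.SpecialLinearGroup (Fin n) F)))) : Matrix.SpecialLinearGroup (Fin n) F) : Matrix (Fin n) (Fin n) F).mulVec w = w := by
    intro w
    show (1 : Matrix (Fin n) (Fin n) F).mulVec w = w
    rw [Matrix.one_mulVec]
  let Q : Subgroup ↥(Subgroup.centralizer ({t} : Set (Matrix.SpecialLinearGroup (Fin n) F))) :=
    { carrier := {g | H10.IsQ i j ((g : Matrix.SpecialLinearGroup (Fin n) F) : Matrix (Fin n) (Fin n) F)}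
      one_mem' := by
        intro w _ a _
        rw [hone]
      mul_mem' := by
        intro g h hg hh w hw a ha
        rw [hmul, hg _ (by rw [hC2 _ h.2]; exact hw) a ha, hh w hw a ha]
      inv_mem' := by
        intro g hg w hw a ha
        have h1 := hg ((((g⁻¹ : ↥(Subgroup.centralizer ({t} : Set (Matrix.SpecialLinearGroup (Fin n) F)))) : Matrix.SpecialLinearGroup (Fin n) F) : Matrix (Fin n) (Fin n) F).mulVec w)
          (by rw [hC2 _ (g⁻¹).2]; exact hw) a ha
        rw [← hmul, mul_inv_cancel, hone] at h1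
        exact h1.symm }
  have hQ : ∀ g, g ∈ Q ↔ H10.IsQ i j ((g : Matrix.SpecialLinearGroup (Fin n) F) : Matrix (Fin n) (Fin n) F) := fun g => Iff.rfl
  have hQn : Q.Normal := by
    refine ⟨fun g hg h => ?_⟩
    rw [hQ]
    intro w hw a ha
    set u := (((h⁻¹ : ↥(Subgroup.centralizer ({t} : Set (Matrix.SpecialLinearGroup (Fin n) F)))) : Matrix.SpecialLinearGroup (Fin n) F) : Matrix (Fin n) (Fin n) F).mulVec w with hu
    have hs : ∀ b, b ≠ i → (((g : Matrix.SpecialLinearGroup (Fin n) F) : Matrix (Fin n) (Fin n) F).mulVec u - u) b = 0 := by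
      intro b hb
      rw [Pi.sub_apply, sub_eq_zero]
      exact hg u (by rw [hu, hC2 _ (h⁻¹).2]; exact hw) b hb
    have h1 := hC1 _ h.2 _ hs
    rw [Matrix.mulVec_sub] at h1
    have h2 : ((h : Matrix.SpecialLinearGroup (Fin n) F) : Matrix (Fin n) (Fin n) F).mulVec u = w := by
      rw [hu, ← hmul, mul_inv_cancel, hone]
    rw [hmul, hmul, ← hu]
    rw [h2] at h1
    have h3 := congrFun h1 a
    have h4 := hs a ha
    rw [h4, Pi.sub_apply, sub_eq_zero] at h3
    exact h3
  have hadd : ∀ X : Matrix (Fin n) (Fin n) F, X + X = 0 := by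
    have h1 : ∀ x : F, x + x = 0 := by
      have h11 : (1 : F) + 1 = 0 := by
        rcases H10.two_field hF ((1 : F) + 1) with h | h
        · exact h
        · exfalso
          have : (1 : F) + 1 = 1 + 0 := by rw [h, add_zero]
          exact one_ne_zero (add_left_cancel this)
      intro x
      rcases H10.two_field hF x with h | h
      · rw [h, add_zero]
      · rw [h, h11]
    intro X
    ext a b
    exact h1 _
  have hQ2 : IsPGroup 2 Q := by
    intro g
    refine ⟨2, ?_⟩
    set g' := (((g : ↥(Subgroup.centralizer ({t} : Set (Matrix.SpecialLinearGroup (Fin n) F)))) : Matrix.SpecialLinearGroup (Fin n) F) : Matrix (Fin n) (Fin n) F) with hg'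
    set M := g' - 1 with hM
    have hgM : g' = 1 + M := by rw [hM]; abel
    have hM1 : ∀ w : Fin n → F, (M.mulVec w) j = 0 := by
      intro w
      rw [hM, Matrix.sub_mulVec, Matrix.one_mulVec, Pi.sub_apply, sub_eq_zero]
      exact hC2 _ g.1.2 w
    have hM2 : ∀ w : Fin n → F, w j = 0 → ∀ a, a ≠ i → (M.mulVec w) a = 0 := by
      intro w hw a ha
      rw [hM, Matrix.sub_mulVec, Matrix.one_mulVec, Pi.sub_apply, sub_eq_zero]
      exact g.2 w hw a ha
    have hM3 : ∀ w : Fin n → F, (∀ a, a ≠ i → w a = 0) → M.mulVec w = 0 := by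
      intro w hw
      rw [hM, Matrix.sub_mulVec, Matrix.one_mulVec, sub_eq_zero]
      exact hC1 _ g.1.2 w hw
    have hM4 : M * M * M = 0 := by
      apply Matrix.toLin'.injective
      apply LinearMap.ext
      intro w
      rw [Matrix.toLin'_apply, map_zero, LinearMap.zero_apply, ← Matrix.mulVec_mulVec, ← Matrix.mulVec_mulVec]
      exact hM3 _ (hM2 _ (hM1 w))
    have h4 : g' * g' * (g' * g') = 1 := by
      have h5 : g' * g' = 1 + M * M := by
        rw [hgM]
        have : (1 + M) * (1 + M) = 1 + (M + M) + M * M := by noncomm_ring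
        rw [this, hadd, add_zero]
      rw [h5]
      have : (1 + M * M) * (1 + M * M) = 1 + (M * M + M * M) + M * M * M * M := by noncomm_ring
      rw [this, hadd, hM4, zero_mul, add_zero, add_zero]
    apply Subtype.ext; apply Subtype.ext; apply Subtype.ext
    show g' ^ (2 ^ 2) = 1
    rw [← h4, show (2 ^ 2 : ℕ) = 4 from rfl, pow_succ, pow_succ, pow_two]
    simp only [mul_assoc]
  have hle : Q ≤ Cfsg.pCore 2 ↥(Subgroup.centralizer ({t} : Set (Matrix.SpecialLinearGroup (Fin n) F))) := H1.le_pCore hQn hQ2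
  refine le_trans (Subgroup.centralizer_le (s := (Q : Set ↥(Subgroup.centralizer ({t} : Set (Matrix.SpecialLinearGroup (Fin n) F))))) (fun x hx => hle hx)) (le_trans ?_ hle)
  intro g hg
  rw [Subgroup.mem_centralizer_iff] at hg
  have hcol : ∀ b, b ≠ j → b ≠ i → (∀ a, a ≠ b → ((g : Matrix.SpecialLinearGroup (Fin n) F) : Matrix (Fin n) (Fin n) F) a b = 0) ∧
      ((g : Matrix.SpecialLinearGroup (Fin n) F) : Matrix (Fin n) (Fin n) F) b b = 1 := by
    intro b hbj hbi
    let u : Matrix.SpecialLinearGroup (Fin n) F := ⟨Matrix.transvection b j 1, Matrix.det_transvection_of_ne b j hbj 1⟩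
    have hu : u ∈ Subgroup.centralizer ({t} : Set (Matrix.SpecialLinearGroup (Fin n) F)) := by
      rw [Subgroup.mem_centralizer_singleton_iff]
      apply Subtype.ext
      show Matrix.transvection b j 1 * (t : Matrix (Fin n) (Fin n) F) = (t : Matrix (Fin n) (Fin n) F) * Matrix.transvection b j 1
      rw [ht]
      simp only [Matrix.transvection, mul_add, add_mul, mul_one, one_mul]
      rw [Matrix.single_mul_single_of_ne _ _ _ _ (Ne.symm hij), Matrix.single_mul_single_of_ne _ _ _ _ (Ne.symm hbj)]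
      abel
    have huQ : (⟨u, hu⟩ : ↥(Subgroup.centralizer ({t} : Set (Matrix.SpecialLinearGroup (Fin n) F)))) ∈ Q := by
      rw [hQ]
      intro w hw a ha
      show (Matrix.transvection b j 1).mulVec w a = w a
      rw [Matrix.transvection, Matrix.add_mulVec, Matrix.one_mulVec, Pi.add_apply, Matrix.single_mulVec]
      rw [add_eq_left]
      rw [hw]
      simp
    have h1 := hg _ huQ
    have h2 := congrArg (fun x : ↥(Subgroup.centralizer ({t} : Set (Matrix.SpecialLinearGroup (Fin n) F))) => ((x : Matrix.SpecialLinearGroup (Fin n) F) : Matrix (Fin n) (Fin n) F)) h1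
    have h3 := H10.comm_transv hbj (g := ((g : Matrix.SpecialLinearGroup (Fin n) F) : Matrix (Fin n) (Fin n) F)) h2.symm
    exact ⟨h3.1, by rw [h3.2.1, ← (hC _ g.2).2.1, hii _ g.2]⟩
  rw [hQ]
  intro w hw a ha
  rw [Matrix.mulVec, dotProduct, Finset.sum_eq_single a]
  · by_cases haj : a = j
    · rw [haj, hw, mul_zero]
    · rw [(hcol a haj ha).2, one_mul]
  · intro b _ hba
    by_cases hbj : b = j
    · rw [hbj, hw, mul_zero]
    · by_cases hbi : b = i
      · rw [hbi, (hC _ g.2).1 a ha, zero_mul]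
      · rw [(hcol b hbj hbi).1 a (Ne.symm hba), zero_mul]
  · intro h; exact absurd (Finset.mem_univ a) h

end Cfsg.Agent.S1339
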