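import Cfsg.Statements.S1340
import Cfsg.Agent.H10.SLStd
import Cfsg.Agent.H10.Tri4
import Cfsg.Agent.H1.Cores

set_option autoImplicit false
open Cfsg

namespace Cfsg.Agent.S1340

/-- Let F be a finite field of odd order and n ≥ 3 with (n, |F|) ≠ (3, 3). Then GL(n, F) has a non-central involution t such that C(t) / O(C(t)) has a component. -/
theorem result {F : Type*} [Field F] [Fintype F] [DecidableEq F] (hF : Odd (Fintype.card F)) (n : ℕ) (hn : 3 ≤ n) (h33 : ¬ (n = 3 ∧ Fintype.card F = 3)) : ∃ t : Matrix.GeneralLinearGroup (Fin n) F, orderOf t = 2 ∧ t ∉ Subgroup.center (Matrix.GeneralLinearGroup (Fin n) F) ∧ Cfsg.HasComponent (↥(Subgroup.centralizer ({t} : Set (Matrix.GeneralLinearGroup (Fin n) F))) ⧸ Cfsg.oddCore ↥(Subgroup.centralizer ({t} : Set (Matrix.GeneralLinearGroup (Fin n) F)))) := by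
  classical
  obtain ⟨m, rfl⟩ : ∃ m, n = m + 1 := ⟨n - 1, by omega⟩
  haveI : Fact (Nat.Prime 2) := ⟨Nat.prime_two⟩
  have h2 : (2 : F) ≠ 0 := by
    intro h
    have h1 : ringChar F = 2 := by
      haveI : CharP F 2 := CharTwo.of_one_ne_zero_of_two_eq_zero one_ne_zero h
      exact ringChar.eq F 2
    have := FiniteField.even_card_iff_char_two.1 h1
    rw [Nat.odd_iff] at hF
    omega
  have h1m1 : (1 : F) ≠ -1 := by
    intro h
    apply h2
    have : (1 : F) + 1 = 0 := by nth_rw 2 [h]; ring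
    rw [← this]; ring
  let D : Matrix (Fin (m + 1)) (Fin (m + 1)) F := Matrix.diagonal (fun i : Fin (m + 1) => if i = Fin.last m then (1 : F) else -1)
  have hDD : D * D = 1 := by
    show Matrix.diagonal _ * Matrix.diagonal _ = 1
    rw [Matrix.diagonal_mul_diagonal, ← Matrix.diagonal_one]
    congr 1
    funext i
    by_cases hi : i = Fin.last m
    · rw [if_pos hi, mul_one]
    · rw [if_neg hi]; ring
  let t : Matrix.GeneralLinearGroup (Fin (m + 1)) F := ⟨D, D, hDD, hDD⟩
  have htD : (t : Matrix (Fin (m + 1)) (Fin (m + 1)) F) = D := rfl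
  have ht1 : t ≠ 1 := by
    intro e
    have h3 : D = 1 := congrArg (fun x : Matrix.GeneralLinearGroup (Fin (m + 1)) F => (x : Matrix (Fin (m + 1)) (Fin (m + 1)) F)) e
    have h4 := congrFun (congrFun h3 0) 0
    have h5 : D 0 0 = -1 := by
      show Matrix.diagonal _ 0 0 = _
      rw [Matrix.diagonal_apply_eq, if_neg]
      intro e
      have := congrArg Fin.val e
      simp at this
      omega
    rw [h5, Matrix.one_apply_eq] at h4
    exact h1m1 h4.symm
  have ht2 : orderOf t = 2 := by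
    apply orderOf_eq_prime _ ht1
    rw [pow_two]
    exact Units.ext hDD
  have hC : ∀ g : Matrix.GeneralLinearGroup (Fin (m + 1)) F, g ∈ Subgroup.centralizer ({t} : Set (Matrix.GeneralLinearGroup (Fin (m + 1)) F)) ↔
      (∀ i, i ≠ Fin.last m → (g : Matrix (Fin (m + 1)) (Fin (m + 1)) F) i (Fin.last m) = 0) ∧
      (∀ i, i ≠ Fin.last m → (g : Matrix (Fin (m + 1)) (Fin (m + 1)) F) (Fin.last m) i = 0) := by
    intro g
    rw [Subgroup.mem_centralizer_singleton_iff, ← H10.comm_diag h2 (g : Matrix (Fin (m + 1)) (Fin (m + 1)) F)]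
    constructor
    · intro h
      exact congrArg (fun x : Matrix.GeneralLinearGroup (Fin (m + 1)) F => (x : Matrix (Fin (m + 1)) (Fin (m + 1)) F)) h
    · intro h
      exact Units.ext h
  refine ⟨t, ht2, ?_, ?_⟩
  · intro htc
    have h0l : (0 : Fin (m + 1)) ≠ Fin.last m := by
      intro e
      have := congrArg Fin.val e
      simp at this
      omega
    have hd : (Matrix.transvection (0 : Fin (m + 1)) (Fin.last m) (1 : F)).det ≠ 0 := by
      rw [Matrix.det_transvection_of_ne _ _ h0l 1]; exact one_ne_zero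
    let u : Matrix.GeneralLinearGroup (Fin (m + 1)) F := Matrix.GeneralLinearGroup.mkOfDetNeZero _ hd
    have h3 : u ∈ Subgroup.centralizer ({t} : Set (Matrix.GeneralLinearGroup (Fin (m + 1)) F)) := by
      rw [Subgroup.mem_centralizer_singleton_iff]
      exact Subgroup.mem_center_iff.1 htc u
    have h4 := ((hC u).1 h3).1 0 h0l
    have h5 : Matrix.transvection (0 : Fin (m + 1)) (Fin.last m) (1 : F) 0 (Fin.last m) = 0 := h4
    rw [Matrix.transvection, Matrix.add_apply, Matrix.one_apply_ne h0l, Matrix.single_apply_same, zero_add] at h5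
    exact one_ne_zero h5
  · let φ : Matrix.SpecialLinearGroup (Fin m) F →* Matrix.GeneralLinearGroup (Fin (m + 1)) F :=
      (Matrix.SpecialLinearGroup.toGL (n := Fin (m + 1)) (R := F)).comp (H10.slBlk (F := F) m)
    have hφ : Function.Injective φ := by
      intro a b hab
      apply H10.slBlk_inj m
      apply Subtype.ext
      exact congrArg (fun x : Matrix.GeneralLinearGroup (Fin (m + 1)) F => (x : Matrix (Fin (m + 1)) (Fin (m + 1)) F)) hab
    set K := φ.range with hK
    have hqs : Cfsg.IsQuasisimple K := by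
      apply H10.qs_of_mulEquiv (MonoidHom.ofInjective hφ)
      rcases Nat.lt_or_ge m 3 with hm | hm
      · have : m = 2 := by omega
        subst this
        apply H10.sl_qs_two
        rw [Nat.card_eq_fintype_card]
        have h3 : 1 < Fintype.card F := Fintype.one_lt_card
        have h4 : Fintype.card F ≠ 3 := fun e => h33 ⟨rfl, e⟩
        have h5 := Nat.odd_iff.1 hF
        omega
      · exact H10.sl_qs_three hm
    have hmem : ∀ g : Matrix.GeneralLinearGroup (Fin (m + 1)) F, g ∈ K ↔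
        (∀ i, i ≠ Fin.last m → (g : Matrix (Fin (m + 1)) (Fin (m + 1)) F) i (Fin.last m) = 0) ∧
        (∀ i, i ≠ Fin.last m → (g : Matrix (Fin (m + 1)) (Fin (m + 1)) F) (Fin.last m) i = 0) ∧
        (g : Matrix (Fin (m + 1)) (Fin (m + 1)) F) (Fin.last m) (Fin.last m) = 1 ∧ (g : Matrix (Fin (m + 1)) (Fin (m + 1)) F).det = 1 := by
      intro g
      constructor
      · rintro ⟨A, rfl⟩
        have h3 := H10.mem_slBlk_range.1 (⟨A, rfl⟩ : H10.slBlk (F := F) m A ∈ (H10.slBlk (F := F) m).range)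
        exact ⟨h3.1, h3.2.1, h3.2.2, (H10.slBlk (F := F) m A).2⟩
      · rintro ⟨h3, h4, h5, h6⟩
        obtain ⟨A, hA⟩ := (H10.mem_slBlk_range (g := (⟨(g : Matrix (Fin (m + 1)) (Fin (m + 1)) F), h6⟩ : Matrix.SpecialLinearGroup (Fin (m + 1)) F))).2 ⟨h3, h4, h5⟩
        refine ⟨A, Units.ext ?_⟩
        exact congrArg (fun x : Matrix.SpecialLinearGroup (Fin (m + 1)) F => (x : Matrix (Fin (m + 1)) (Fin (m + 1)) F)) hA
    have hKC : K ≤ Subgroup.centralizer ({t} : Set (Matrix.GeneralLinearGroup (Fin (m + 1)) F)) := by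
      intro k hk
      rw [hC]
      exact ⟨((hmem k).1 hk).1, ((hmem k).1 hk).2.1⟩
    have hconj : ∀ g ∈ Subgroup.centralizer ({t} : Set (Matrix.GeneralLinearGroup (Fin (m + 1)) F)), ∀ k ∈ K, g * k * g⁻¹ ∈ K := by
      intro g hg k hk
      have h3 := (hC _).1 (Subgroup.mul_mem _ (Subgroup.mul_mem _ hg (hKC hk)) (Subgroup.inv_mem _ hg))
      rw [hmem]
      refine ⟨h3.1, h3.2, ?_, ?_⟩
      · have h4 : (g : Matrix (Fin (m + 1)) (Fin (m + 1)) F) * ((g⁻¹ : Matrix.GeneralLinearGroup (Fin (m + 1)) F) : Matrix (Fin (m + 1)) (Fin (m + 1)) F) = 1 :=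
          congrArg (fun x : Matrix.GeneralLinearGroup (Fin (m + 1)) F => (x : Matrix (Fin (m + 1)) (Fin (m + 1)) F)) (mul_inv_cancel g)
        have h5 := congrFun (congrFun h4 (Fin.last m)) (Fin.last m)
        have hgi := ((hC _).1 (Subgroup.inv_mem _ hg)).1
        rw [H10.mul_ll hgi, Matrix.one_apply_eq] at h5
        show ((g : Matrix (Fin (m + 1)) (Fin (m + 1)) F) * (k : Matrix (Fin (m + 1)) (Fin (m + 1)) F) * ((g⁻¹ : Matrix.GeneralLinearGroup (Fin (m + 1)) F) : Matrix (Fin (m + 1)) (Fin (m + 1)) F)) (Fin.last m) (Fin.last m) = 1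
        rw [H10.mul_ll hgi, H10.mul_ll ((hmem k).1 hk).1, ((hmem k).1 hk).2.2.1, mul_one, h5]
      · have h4 : (g : Matrix (Fin (m + 1)) (Fin (m + 1)) F) * ((g⁻¹ : Matrix.GeneralLinearGroup (Fin (m + 1)) F) : Matrix (Fin (m + 1)) (Fin (m + 1)) F) = 1 :=
          congrArg (fun x : Matrix.GeneralLinearGroup (Fin (m + 1)) F => (x : Matrix (Fin (m + 1)) (Fin (m + 1)) F)) (mul_inv_cancel g)
        have h5 := congrArg Matrix.det h4
        rw [Matrix.det_mul, Matrix.det_one] at h5
        show ((g : Matrix (Fin (m + 1)) (Fin (m + 1)) F) * (k : Matrix (Fin (m + 1)) (Fin (m + 1)) F) * ((g⁻¹ : Matrix.GeneralLinearGroup (Fin (m + 1)) F) : Matrix (Fin (m + 1)) (Fin (m + 1)) F)).det = 1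
        rw [Matrix.det_mul, Matrix.det_mul, ((hmem k).1 hk).2.2.2, mul_one, h5]
    have hn : (K.subgroupOf (Subgroup.centralizer ({t} : Set (Matrix.GeneralLinearGroup (Fin (m + 1)) F)))).Normal := by
      refine ⟨fun k hk g => ?_⟩
      exact hconj _ g.2 _ hk
    have hqs' : Cfsg.IsQuasisimple (K.subgroupOf (Subgroup.centralizer ({t} : Set (Matrix.GeneralLinearGroup (Fin (m + 1)) F)))) :=
      H10.qs_of_mulEquiv (Subgroup.subgroupOfEquivOfLe hKC).symm hqs
    set K' := K.subgroupOf (Subgroup.centralizer ({t} : Set (Matrix.GeneralLinearGroup (Fin (m + 1)) F))) with hK'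
    set π := QuotientGroup.mk' (Cfsg.oddCore ↥(Subgroup.centralizer ({t} : Set (Matrix.GeneralLinearGroup (Fin (m + 1)) F)))) with hπ
    refine ⟨K'.map π, ?_, ?_⟩
    · haveI : (K'.map π).Normal := hn.map π (QuotientGroup.mk'_surjective _)
      exact this.isSubnormal
    · apply H10.qs_of_surjective (π.subgroupMap K') (π.subgroupMap_surjective K') hqs'
      rw [Subgroup.nontrivial_iff_ne_bot]
      intro hbot
      have hle : K' ≤ Cfsg.oddCore ↥(Subgroup.centralizer ({t} : Set (Matrix.GeneralLinearGroup (Fin (m + 1)) F))) := by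
        have := (Subgroup.map_eq_bot_iff K').1 hbot
        rwa [hπ, QuotientGroup.ker_mk'] at this
      have h3 := (H10.qs_even hqs').trans (Subgroup.card_dvd_of_le hle)
      have h4 := H1.pPrimeCore_coprime 2 ↥(Subgroup.centralizer ({t} : Set (Matrix.GeneralLinearGroup (Fin (m + 1)) F)))
      have h5 := Nat.dvd_gcd h3 (dvd_refl 2)
      rw [h4] at h5
      omega

end Cfsg.Agent.S1340
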