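import Cfsg.Statements.S1446
import Cfsg.Agent.H1.BG310

set_option autoImplicit false
open Cfsg

namespace Cfsg.Agent.S1446

/-- Let X be a finite group with subgroups K, R, M such that: K and R are nontrivial, K ∩ R = 1, R normalizes K, no non-identity element of R centralizes a non-identity element of K, K ⊔ R is solvable of odd order; M is nilpotent and nontrivial, normalized by K and by R, with order coprime to that of K ⊔ R, M ∩ C(K) = 1, and M ∩ C(x) = M ∩ C(R) for all non-identity x ∈ R. Then R has prime order p, #M = #(M ∩ C(R)) ^ p, and if M ∩ C(R) is cyclic then [K, K] centralizes M. -/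
theorem result {X : Type*} [Group X] [Finite X] (K R M : Subgroup X) (hK1 : K ≠ ⊥) (hR1 : R ≠ ⊥) (hKR : K ⊓ R = ⊥)
    (hRK : R ≤ Subgroup.normalizer (K : Set X)) (hfrob : ∀ r ∈ R, r ≠ 1 → K ⊓ Subgroup.centralizer ({r} : Set X) = ⊥)
    (hsolv : Group.IsSolvable ↥(K ⊔ R)) (hodd : Odd (Nat.card ↥(K ⊔ R)))
    (hM1 : M ≠ ⊥) (hMn : Group.IsNilpotent M) (hKM : K ≤ Subgroup.normalizer (M : Set X)) (hRM : R ≤ Subgroup.normalizer (M : Set X))
    (hcop : (Nat.card ↥(K ⊔ R)).Coprime (Nat.card M)) (hCK : M ⊓ Subgroup.centralizer (K : Set X) = ⊥)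
    (hpr : ∀ x ∈ R, x ≠ 1 → M ⊓ Subgroup.centralizer ({x} : Set X) = M ⊓ Subgroup.centralizer (R : Set X)) :
    (Nat.card R).Prime ∧ Nat.card M = Nat.card ↥(M ⊓ Subgroup.centralizer (R : Set X)) ^ Nat.card R ∧
      (IsCyclic ↥(M ⊓ Subgroup.centralizer (R : Set X)) → ⁅K, K⁆ ≤ Subgroup.centralizer (M : Set X)) := by
    have hKc : Nat.card K ∣ Nat.card ↥(K ⊔ R) := Subgroup.card_dvd_of_le le_sup_left
    have hRc : Nat.card R ∣ Nat.card ↥(K ⊔ R) := Subgroup.card_dvd_of_le le_sup_right
    have hKs : Group.IsSolvable K := H1.isSolvable_of_le le_sup_left hsolv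
    have hMs : Group.IsSolvable M := by
      haveI := hMn
      infer_instance
    have hfrob' : ∀ x ∈ R, x ≠ 1 → ∀ a ∈ K, Commute x a → a = 1 := by
      intro x hx hx1 a ha hc
      have h1 : a ∈ K ⊓ Subgroup.centralizer ({x} : Set X) := by
        refine Subgroup.mem_inf.mpr ⟨ha, ?_⟩
        rw [Subgroup.mem_centralizer_singleton_iff]
        exact hc.symm
      rwa [hfrob x hx hx1, Subgroup.mem_bot] at h1
    have key : ∀ S : Subgroup X, S ≤ R → S ≠ ⊥ →
        Nat.card M = Nat.card ↥(M ⊓ Subgroup.centralizer (R : Set X)) ^ Nat.card S := by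
      intro S hSR hS
      have h1 := H1.main310 (Nat.card M) X K S M rfl
        { SK := hSR.trans hRK
          KM := hKM
          SM := hSR.trans hRM
          frob := fun x hx hx1 a ha hc => hfrob' x (hSR hx) hx1 a ha hc
          solK := hKs
          solM := hMs
          copK := Nat.Coprime.coprime_dvd_left hKc hcop
          copS := Nat.Coprime.coprime_dvd_left ((Subgroup.card_dvd_of_le hSR).trans hRc) hcop
          CMK := hCK }
      have h2 : M ⊓ Subgroup.centralizer (S : Set X) = M ⊓ Subgroup.centralizer (R : Set X) := by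
        apply le_antisymm
        · obtain ⟨x, hx, hx1⟩ : ∃ x ∈ S, x ≠ 1 := by
            by_contra hno
            push Not at hno
            exact hS (eq_bot_iff.mpr fun x hx => by rw [Subgroup.mem_bot]; exact hno x hx)
          rw [← hpr x (hSR hx) hx1]
          refine inf_le_inf_left _ (Subgroup.centralizer_le ?_)
          intro y hy
          rw [Set.mem_singleton_iff.mp hy]; exact hx
        · exact inf_le_inf_left _ (Subgroup.centralizer_le hSR)
      rw [h2] at h1
      exact h1
    have hMcard : 1 < Nat.card M := by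
      rw [Nat.one_lt_iff_ne_zero_and_ne_one]
      exact ⟨Nat.card_pos.ne', fun h4 => hM1 (Subgroup.card_eq_one.mp h4)⟩
    have hC : 1 < Nat.card ↥(M ⊓ Subgroup.centralizer (R : Set X)) := by
      have h1 := key R le_rfl hR1
      by_contra h2
      have h3 : Nat.card ↥(M ⊓ Subgroup.centralizer (R : Set X)) = 1 :=
        le_antisymm (not_lt.mp h2) Nat.card_pos
      rw [h3, one_pow] at h1
      omega
    obtain ⟨r, hr, hrd⟩ : ∃ r, r.Prime ∧ r ∣ Nat.card R :=
      Nat.exists_prime_and_dvd (fun h => hR1 (Subgroup.card_eq_one.mp h))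
    haveI : Fact r.Prime := ⟨hr⟩
    obtain ⟨⟨ρ, hρR⟩, hρo⟩ := exists_prime_orderOf_dvd_card' (G := R) r hrd
    have hρo' : orderOf ρ = r := by rw [← hρo]; exact (Subgroup.orderOf_mk ρ hρR).symm
    have hρ1 : ρ ≠ 1 := by
      rintro rfl
      rw [orderOf_one] at hρo'
      exact hr.one_lt.ne hρo'
    have hzR : Subgroup.zpowers ρ ≤ R := by rw [Subgroup.zpowers_le]; exact hρR
    have hcardR : Nat.card R = r := by
      have h1 := key R le_rfl hR1
      have h2 := key (Subgroup.zpowers ρ) hzR (by
        rw [Ne, Subgroup.zpowers_eq_bot]; exact hρ1)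
      rw [h1, Nat.card_zpowers, hρo'] at h2
      exact Nat.pow_right_injective hC h2
    refine ⟨by rw [hcardR]; exact hr, key R le_rfl hR1, fun hcyc => ?_⟩
    have hρr : ρ ^ r = 1 := by rw [← hρo', pow_orderOf_eq_one]
    have hfix : ∀ x ∈ K, Commute ρ x → x = 1 := fun x hx hc => hfrob' ρ hρR hρ1 x hx hc
    refine H1.main310c hr (Nat.card M) X K M ρ rfl hρr
      { KM := hKM
        ρM := hRM hρR
        ρK := hRK hρR
        fix := hfix
        solK := hKs
        solM := hMs
        copK := Nat.Coprime.coprime_dvd_left hKc hcop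
        rK := H1.card_modEq_one_of_fix (hRK hρR) hρr hfix
        rM := ?_
        cyc := by rw [hpr ρ hρR hρ1]; exact hcyc }
    intro h
    have h2 := Nat.dvd_gcd (hrd.trans hRc) h
    rw [hcop.gcd_eq_one] at h2
    exact hr.one_lt.ne' (Nat.dvd_one.mp h2)

end Cfsg.Agent.S1446
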