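import Cfsg.Statements.S1578
import Cfsg.Agent.H29.CoTrans
import Cfsg.Agent.H7.Conway10

set_option autoImplicit false
open Cfsg

namespace Cfsg.Agent.S1578

open Cfsg.Agent.H7 Cfsg.Agent.H29

theorem main {u : leechLattice} (hu : bL u u = 6) : {v : leechLattice | bL v v = 4 ∧ bL v u = 3}.ncard = 552 := by
  obtain ⟨g, hg⟩ := to_t3 u hu
  exact ncardG (G := Co0) (fun u v => bL v v = 4 ∧ bL v u = 3)
    (fun g a x h => ⟨by rw [co0_bL]; exact h.1, by rw [co0_bL]; exact h.2⟩) V552_ncard ⟨g, hg⟩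

theorem cond {u v : leechLattice} (hu : bL u u = 6) : (sqNorm (v : GolayPt → ℤ) = 32 ∧
    sqNorm ((u : GolayPt → ℤ) - (v : GolayPt → ℤ)) = 32) ↔ (bL v v = 4 ∧ bL v u = 3) := by
  rw [sq32, sq32s]
  refine and_congr_right fun hv => ?_
  rw [bL_sub, bL_sub_right, bL_sub_right, hu, hv, bL_comm u v]
  constructor <;> intro h <;> omega

/-- A lattice vector of customary norm 6 is the sum of an unordered pair of minimal vectors in exactly 276 ways (552 ordered summands). -/
theorem result (u : ↥Cfsg.leechLattice) (hu : Cfsg.sqNorm (u : Cfsg.GolayPt → ℤ) = 48) : {v : ↥Cfsg.leechLattice | Cfsg.sqNorm (v : Cfsg.GolayPt → ℤ) = 32 ∧ Cfsg.sqNorm ((u - v) : Cfsg.GolayPt → ℤ) = 32}.ncard = 552 := by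
  have hu' := sq48.1 hu
  rw [← main hu']
  congr 1
  ext v
  exact cond hu'

end Cfsg.Agent.S1578
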