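import Cfsg.Statements.S1573
import Cfsg.Agent.S1578
import Cfsg.Agent.H29.CoStab

set_option autoImplicit false
open Cfsg

namespace Cfsg.Agent.S1573

open Cfsg.Agent.H7 Cfsg.Agent.H29

theorem smul_fin (n : ℤ) (h : {x : leechLattice | bL x x = n}.Finite) (v : leechLattice) (m : ℤ) :
    {w : leechLattice | bL w w = n ∧ bL v w = m}.Finite := h.subset fun _ hx => hx.1

/-- the number of vectors of norm four with given inner product does not depend on the vector -/
theorem const {v v' : leechLattice} (hv : bL v v = 4) (hv' : bL v' v' = 4) (m : ℤ) :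
    {w : leechLattice | bL w w = 4 ∧ bL v w = m}.ncard = {w : leechLattice | bL w w = 4 ∧ bL v' w = m}.ncard :=
  ncardG (G := Co0) (fun v w => bL w w = 4 ∧ bL v w = m)
    (fun g a x h => ⟨by rw [co0_bL]; exact h.1, by rw [co0_bL]; exact h.2⟩) rfl
    (co0_trans (hv.trans hv'.symm) (Or.inl hv))

theorem neg_eq (v : leechLattice) (m : ℤ) :
    {w : leechLattice | bL w w = 4 ∧ bL v w = m}.ncard = {w : leechLattice | bL w w = 4 ∧ bL v w = -m}.ncard := by
  have e : {w : leechLattice | bL w w = 4 ∧ bL v w = -m} = (fun x => -x) '' {w : leechLattice | bL w w = 4 ∧ bL v w = m} := by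
    ext x
    constructor
    · rintro ⟨h1, h2⟩
      exact ⟨-x, ⟨by rw [bL_neg, bL_neg_right, neg_neg, h1], by rw [bL_neg_right, h2, neg_neg]⟩, neg_neg x⟩
    · rintro ⟨y, ⟨h1, h2⟩, rfl⟩
      exact ⟨by rw [bL_neg, bL_neg_right, neg_neg, h1], by rw [bL_neg_right, h2]⟩
  rw [e, Set.ncard_image_of_injective _ neg_injective]

/-- inner product minus one: sums of norm six -/
theorem n1 {v : leechLattice} (hv : bL v v = 4) : {w : leechLattice | bL w w = 4 ∧ bL v w = -1}.ncard = 47104 := by
  have hL := leech_LLat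
  have d1 := double_count (A := {x : leechLattice | bL x x = 4}) (R := fun v w => bL w w = 4 ∧ bL v w = -1)
    hL.fin4 (fun a ha => const ha hv (-1)) (fun a _ => smul_fin 4 hL.fin4 a (-1))
  have d2 := double_count (A := {x : leechLattice | bL x x = 6}) (R := fun u v => bL v v = 4 ∧ bL v u = 3)
    hL.fin6 (fun a ha => S1578.main ha) (fun a _ => hL.fin4.subset fun _ hx => hx.1)
  have e : {p : leechLattice × leechLattice | p.1 ∈ {x : leechLattice | bL x x = 6} ∧ (bL p.2 p.2 = 4 ∧ bL p.2 p.1 = 3)}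
      = (fun p : leechLattice × leechLattice => (p.1 + p.2, p.1)) ''
        {p : leechLattice × leechLattice | p.1 ∈ {x : leechLattice | bL x x = 4} ∧ (bL p.2 p.2 = 4 ∧ bL p.1 p.2 = -1)} := by
    ext ⟨u, a⟩
    constructor
    · rintro ⟨h1, h2, h3⟩
      have h1 : bL u u = 6 := h1
      have h2 : bL a a = 4 := h2
      have h3 : bL a u = 3 := h3
      refine ⟨(a, u - a), ⟨h2, ?_, ?_⟩, ?_⟩
      · show bL (u - a) (u - a) = 4
        rw [bL_sub, bL_sub_right, bL_sub_right, h1, h2, bL_comm u a, h3]; norm_num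
      · show bL a (u - a) = -1
        rw [bL_sub_right, h2, h3]; norm_num
      · show (a + (u - a), a) = (u, a)
        rw [add_sub_cancel]
    · rintro ⟨⟨v, w⟩, ⟨h1, h2, h3⟩, h⟩
      have h1 : bL v v = 4 := h1
      have h2 : bL w w = 4 := h2
      have h3 : bL v w = -1 := h3
      have h4 : v + w = u := congrArg Prod.fst h
      have h5 : v = a := congrArg Prod.snd h
      subst h5; subst h4
      refine ⟨?_, h1, ?_⟩
      · show bL (v + w) (v + w) = 6
        rw [bL_add, bL_add_right, bL_add_right, h1, h2, bL_comm w v, h3]; norm_num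
      · show bL v (v + w) = 3
        rw [bL_add_right, h1, h3]; norm_num
  rw [e, Set.ncard_image_of_injective] at d2
  · have d3 := d1.symm.trans d2
    rw [hL.c4, hL.c6] at d3
    omega
  · rintro ⟨a, b⟩ ⟨c, d⟩ h
    have h1 : a + b = c + d := congrArg Prod.fst h
    have h2 : a = c := congrArg Prod.snd h
    subst h2
    rw [add_left_cancel h1]

/-- orthogonal vectors -/
theorem n0 {v : leechLattice} (hv : bL v v = 4) : {w : leechLattice | bL w w = 4 ∧ bL v w = 0}.ncard = 93150 := by
  have hL := leech_LLat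
  have d1 := double_count (A := {x : leechLattice | bL x x = 4}) (R := fun v w => bL w w = 4 ∧ bL v w = 0)
    hL.fin4 (fun a ha => const ha hv 0) (fun a _ => smul_fin 4 hL.fin4 a 0)
  have hc : ∀ a : leechLattice, bL a a = 8 → {x : leechLattice | (bL x x = 8 ∧ LCong a x) ∧ x ≠ a ∧ x ≠ -a}.ncard = 46 := by
    intro a ha
    have h1 := class8 ha
    have hfin : {x : leechLattice | bL x x = 8 ∧ LCong a x}.Finite := hL.fin8.subset fun _ hx => hx.1
    have h2 : {x : leechLattice | bL x x = 8 ∧ LCong a x} = insert a (insert (-a)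
        {x : leechLattice | (bL x x = 8 ∧ LCong a x) ∧ x ≠ a ∧ x ≠ -a}) := by
      ext x
      rw [Set.mem_insert_iff, Set.mem_insert_iff]
      constructor
      · intro hx
        by_cases h3 : x = a
        · exact Or.inl h3
        · by_cases h4 : x = -a
          · exact Or.inr (Or.inl h4)
          · exact Or.inr (Or.inr ⟨hx, h3, h4⟩)
      · rintro (rfl | rfl | hx)
        · exact ⟨ha, LCong.refl _⟩
        · exact ⟨by rw [bL_neg, bL_neg_right, neg_neg, ha], (LCong.neg a).symm⟩
        · exact hx.1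
    have hf2 : {x : leechLattice | (bL x x = 8 ∧ LCong a x) ∧ x ≠ a ∧ x ≠ -a}.Finite := hfin.subset fun _ hx => hx.1
    have hane : a ≠ -a := fun h => Cfsg.Agent.H29.neg_ne_self (ne_zero_of_norm ha (by norm_num)) h.symm
    rw [h2, Set.ncard_insert_of_notMem _ (hf2.insert _), Set.ncard_insert_of_notMem _ hf2] at h1
    · omega
    · intro h; exact h.2.2 rfl
    · rw [Set.mem_insert_iff, not_or]
      exact ⟨hane, fun h => h.2.1 rfl⟩
  have d2 := double_count (A := {x : leechLattice | bL x x = 8})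
    (R := fun a x => (bL x x = 8 ∧ LCong a x) ∧ x ≠ a ∧ x ≠ -a)
    hL.fin8 (fun a ha => hc a ha) (fun a _ => hL.fin8.subset fun _ hx => hx.1.1)
  have e : {p : leechLattice × leechLattice | p.1 ∈ {x : leechLattice | bL x x = 8} ∧
        ((bL p.2 p.2 = 8 ∧ LCong p.1 p.2) ∧ p.2 ≠ p.1 ∧ p.2 ≠ -p.1)}
      = (fun p : leechLattice × leechLattice => (p.1 + p.2, p.1 - p.2)) ''
        {p : leechLattice × leechLattice | p.1 ∈ {x : leechLattice | bL x x = 4} ∧ (bL p.2 p.2 = 4 ∧ bL p.1 p.2 = 0)} := by
    ext ⟨a, b⟩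
    constructor
    · rintro ⟨h1, ⟨h2, h3⟩, h4, h5⟩
      have h1 : bL a a = 8 := h1
      have h2 : bL b b = 8 := h2
      obtain ⟨u, hu⟩ : ∃ u : leechLattice, a - b = u + u := h3
      have h4 : b ≠ a := h4
      have h5 : b ≠ -a := h5
      have hab : bL a b = 0 := by
        rcases short_cong' (le_of_eq h1) (le_of_eq h2) ⟨u, hu⟩ with h | h | h
        · exact absurd h.symm h4
        · exact absurd (by rw [h, neg_neg]) h5
        · exact h.2.2
      have ea : a = b + (u + u) := by rw [← hu]; abel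
      have h6 : bL (a - b) (a - b) = 16 := by
        rw [bL_sub, bL_sub_right, bL_sub_right, h1, h2, bL_comm b a, hab]; norm_num
      have h7 : bL u u = 4 := by
        rw [hu, bL_add, bL_add_right] at h6; omega
      have h8 : bL a u = 4 := by
        have : bL a (a - b) = 8 := by rw [bL_sub_right, h1, hab]; norm_num
        rw [hu, bL_add_right] at this; omega
      refine ⟨(a - u, u), ⟨?_, h7, ?_⟩, ?_⟩
      · show bL (a - u) (a - u) = 4
        rw [bL_sub, bL_sub_right, bL_sub_right, h1, h7, bL_comm u a, h8]; norm_num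
      · show bL (a - u) u = 0
        rw [bL_sub, h8, h7]; norm_num
      · show (a - u + u, a - u - u) = (a, b)
        rw [sub_add_cancel]
        congr 1
        rw [ea]; abel
    · rintro ⟨⟨v, w⟩, ⟨h1, h2, h3⟩, h⟩
      have h1 : bL v v = 4 := h1
      have h2 : bL w w = 4 := h2
      have h3 : bL v w = 0 := h3
      have h4 : v + w = a := congrArg Prod.fst h
      have h5 : v - w = b := congrArg Prod.snd h
      subst h5; subst h4
      have hab : bL (v + w) (v - w) = 0 := by
        rw [bL_add, bL_sub_right, bL_sub_right, h1, h2, bL_comm w v, h3]; norm_num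
      have hnn : bL (v + w) (v + w) = 8 := by
        rw [bL_add, bL_add_right, bL_add_right, h1, h2, bL_comm w v, h3]; norm_num
      refine ⟨hnn, ⟨?_, ?_⟩, ?_, ?_⟩
      · show bL (v - w) (v - w) = 8
        rw [bL_sub, bL_sub_right, bL_sub_right, h1, h2, bL_comm w v, h3]; norm_num
      · exact ⟨w, by show v + w - (v - w) = w + w; abel⟩
      · intro h6
        have h6 : v - w = v + w := h6
        rw [h6, hnn] at hab
        omega
      · intro h6
        have h6 : v - w = -(v + w) := h6
        rw [h6, bL_neg_right, hnn] at hab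
        omega
  rw [e, Set.ncard_image_of_injective] at d2
  · have d3 := d1.symm.trans d2
    rw [hL.c4, hL.c8] at d3
    omega
  · rintro ⟨a, b⟩ ⟨c, d⟩ h
    have h1 : a + b = c + d := congrArg Prod.fst h
    have h2 : a - b = c - d := congrArg Prod.snd h
    have h3 : (2 : ℤ) • a = (2 : ℤ) • c := by
      rw [two_smul, two_smul]
      calc a + a = (a + b) + (a - b) := by abel
        _ = (c + d) + (c - d) := by rw [h1, h2]
        _ = c + c := by abel
    have h4 := two_inj h3
    subst h4
    rw [add_left_cancel h1]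

theorem values {v w : leechLattice} (hv : bL v v = 4) (hw : bL w w = 4) :
    w = v ∨ w = -v ∨ bL v w = 2 ∨ bL v w = 1 ∨ bL v w = 0 ∨ bL v w = -1 ∨ bL v w = -2 := by
  have hL := leech_LLat
  have h1 : bL (v - w) (v - w) = 8 - 2 * bL v w := by
    rw [bL_sub, bL_sub_right, bL_sub_right, hv, hw, bL_comm w v]; ring
  have h2 : bL (v + w) (v + w) = 8 + 2 * bL v w := by
    rw [bL_add, bL_add_right, bL_add_right, hv, hw, bL_comm w v]; ring
  by_cases a : v - w = 0
  · exact Or.inl (sub_eq_zero.1 a).symm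
  by_cases b : v + w = 0
  · exact Or.inr (Or.inl (by rw [eq_neg_iff_add_eq_zero, add_comm]; exact b))
  have h3 := hL.min _ a
  have h4 := hL.min _ b
  rw [h1] at h3
  rw [h2] at h4
  right; right; omega

theorem n2 {v : leechLattice} (hv : bL v v = 4) : {w : leechLattice | bL w w = 4 ∧ bL v w = -2}.ncard = 4600 := by
  have hL := leech_LLat
  have a1 := n1 hv
  have a0 := n0 hv
  have b1 := neg_eq v 1
  have b2 := neg_eq v 2
  set A : ℤ → Set leechLattice := fun m => {w : leechLattice | bL w w = 4 ∧ bL v w = m} with hA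
  have hf : ∀ m, (A m).Finite := fun m => smul_fin 4 hL.fin4 v m
  have hd : ∀ m n, m ≠ n → Disjoint (A m) (A n) := by
    intro m n hmn
    rw [Set.disjoint_left]
    rintro x ⟨_, hx⟩ ⟨_, hx'⟩
    exact hmn (hx.symm.trans hx')
  have hall : {x : leechLattice | bL x x = 4} = ((((((A 2 ∪ A 1) ∪ A 0) ∪ A (-1)) ∪ A (-2)) ∪ {v}) ∪ {-v}) := by
    ext x
    constructor
    · intro hx
      have hx : bL x x = 4 := hx
      rcases values hv hx with h | h | h | h | h | h | h
      · left; right; exact h
      · right; exact h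
      · left; left; left; left; left; left; exact ⟨hx, h⟩
      · left; left; left; left; left; right; exact ⟨hx, h⟩
      · left; left; left; left; right; exact ⟨hx, h⟩
      · left; left; left; right; exact ⟨hx, h⟩
      · left; left; right; exact ⟨hx, h⟩
    · rintro ((((((h | h) | h) | h) | h) | h) | h)
      · exact h.1
      · exact h.1
      · exact h.1
      · exact h.1
      · exact h.1
      · rw [Set.mem_singleton_iff] at h; rw [h]; exact hv
      · rw [Set.mem_singleton_iff] at h; rw [h]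
        show bL (-v) (-v) = 4
        rw [bL_neg, bL_neg_right, neg_neg, hv]
  have hv1 : ∀ m, m ≠ 4 → v ∉ A m := fun m hm h => hm (h.2.symm.trans hv)
  have hv2 : ∀ m, m ≠ -4 → -v ∉ A m := fun m hm h => hm (h.2.symm.trans (by rw [bL_neg_right, hv]))
  have hne : v ≠ -v := fun h => Cfsg.Agent.H29.neg_ne_self (ne_zero_of_norm hv (by norm_num)) h.symm
  have hc := hL.c4
  rw [hall, Set.ncard_union_eq _ ((((((hf 2).union (hf 1)).union (hf 0)).union (hf (-1))).union (hf (-2))).union (Set.finite_singleton _)) (Set.finite_singleton _),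
    Set.ncard_union_eq _ (((((hf 2).union (hf 1)).union (hf 0)).union (hf (-1))).union (hf (-2))) (Set.finite_singleton _),
    Set.ncard_union_eq _ ((((hf 2).union (hf 1)).union (hf 0)).union (hf (-1))) (hf (-2)),
    Set.ncard_union_eq _ (((hf 2).union (hf 1)).union (hf 0)) (hf (-1)),
    Set.ncard_union_eq _ ((hf 2).union (hf 1)) (hf 0), Set.ncard_union_eq (hd 2 1 (by norm_num)) (hf 2) (hf 1),
    Set.ncard_singleton, Set.ncard_singleton] at hc
  · have c2 : (A 2).ncard = (A (-2)).ncard := b2
    have c1 : (A 1).ncard = (A (-1)).ncard := b1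
    have c0 : (A 0).ncard = 93150 := a0
    have c1' : (A (-1)).ncard = 47104 := a1
    show (A (-2)).ncard = 4600
    omega
  · exact Set.disjoint_union_left.2 ⟨hd 2 0 (by norm_num), hd 1 0 (by norm_num)⟩
  · exact Set.disjoint_union_left.2 ⟨Set.disjoint_union_left.2 ⟨hd _ _ (by norm_num), hd _ _ (by norm_num)⟩, hd _ _ (by norm_num)⟩
  · exact Set.disjoint_union_left.2 ⟨Set.disjoint_union_left.2 ⟨Set.disjoint_union_left.2
      ⟨hd _ _ (by norm_num), hd _ _ (by norm_num)⟩, hd _ _ (by norm_num)⟩, hd _ _ (by norm_num)⟩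
  · rw [Set.disjoint_singleton_right]
    rintro ((((h | h) | h) | h) | h)
    all_goals exact hv1 _ (by norm_num) h
  · rw [Set.disjoint_singleton_right]
    rintro (((((h | h) | h) | h) | h) | h)
    · exact hv2 _ (by norm_num) h
    · exact hv2 _ (by norm_num) h
    · exact hv2 _ (by norm_num) h
    · exact hv2 _ (by norm_num) h
    · exact hv2 _ (by norm_num) h
    · exact hne h.symm

theorem fin (v : leechLattice) {m : ℤ} {k : ℤ} (hk : k = 8 * m) :
    {w : GolayPt → ℤ | w ∈ leechLattice ∧ (sqNorm w = 32 ∧ dotInt (v : GolayPt → ℤ) w = k)}.ncard =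
    {w : leechLattice | bL w w = 4 ∧ bL v w = m}.ncard := by
  rw [ncard_coe (P := fun w => sqNorm w = 32 ∧ dotInt (v : GolayPt → ℤ) w = k)]
  congr 1
  ext x
  rw [hk]
  exact and_congr sq32 dot_iff

/-- Census of minimal vectors by inner product with a fixed minimal vector: 4600 have customary inner product −2, 47104 have −1, and 93150 are orthogonal. -/
theorem result (v : Cfsg.GolayPt → ℤ) (hv : v ∈ Cfsg.leechLattice) (hvn : Cfsg.sqNorm v = 32) : {w : Cfsg.GolayPt → ℤ | w ∈ Cfsg.leechLattice ∧ Cfsg.sqNorm w = 32 ∧ Cfsg.dotInt v w = -16}.ncard = 4600 ∧ {w : Cfsg.GolayPt → ℤ | w ∈ Cfsg.leechLattice ∧ Cfsg.sqNorm w = 32 ∧ Cfsg.dotInt v w = -8}.ncard = 47104 ∧ {w : Cfsg.GolayPt → ℤ | w ∈ Cfsg.leechLattice ∧ Cfsg.sqNorm w = 32 ∧ Cfsg.dotInt v w = 0}.ncard = 93150 := by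
  have hv' : bL (⟨v, hv⟩ : leechLattice) ⟨v, hv⟩ = 4 := sq32.1 hvn
  exact ⟨(fin ⟨v, hv⟩ (m := -2) (by norm_num)).trans (n2 hv'), (fin ⟨v, hv⟩ (m := -1) (by norm_num)).trans (n1 hv'),
    (fin ⟨v, hv⟩ (m := 0) (by norm_num)).trans (n0 hv')⟩

end Cfsg.Agent.S1573
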