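import Cfsg.Statements.S1905
import Cfsg.Agent.H4.SEmb
import Cfsg.Agent.H14.Conj
import Cfsg.Agent.S1939
import Cfsg.Agent.H1.Basic

set_option autoImplicit false
open Cfsg

namespace Cfsg.Agent.S1905

open Subgroup

theorem outin {S : Type*} [Group S] [Finite S] (M : Subgroup S)
    (hC : ∀ i ∈ M, orderOf i = 2 → Subgroup.centralizer ({i} : Set S) ≤ M)
    {s t : S} (hs : orderOf s = 2) (ht : orderOf t = 2) (hsM : s ∉ M) (htM : t ∈ M) : IsConj s t := by
  have hs' := H4.mul_self_of_orderOf_two hs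
  have ht' := H4.mul_self_of_orderOf_two ht
  rcases Nat.even_or_odd (orderOf (s * t)) with he | ho
  · exfalso
    obtain ⟨c1, c2⟩ := H4.commute_pow_half hs' ht' (orderOf_pos _).ne' he
    have h2 := H4.even_pow_half (orderOf_pos _).ne' he
    have hz : (s * t) ^ (orderOf (s * t) / 2) ∈ M := hC t htM ht (mem_centralizer_singleton_iff.2 c2)
    exact hsM (hC _ hz h2 (mem_centralizer_singleton_iff.2 c1.symm))
  · obtain ⟨k, hk⟩ := H4.conj_of_odd hs' ht' ho
    exact isConj_iff.2 ⟨_, hk⟩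

theorem exists_out {S : Type*} [Group S] [Finite S] (M : Subgroup S) (hM : Even (Nat.card M))
    (hcore : Odd (Nat.card M.normalCore)) : ∃ s : S, orderOf s = 2 ∧ s ∉ M := by
  by_contra hcon
  push Not at hcon
  obtain ⟨i, hi, hi2⟩ := H4.exists_involution (K := M) (Nat.not_odd_iff_even.2 hM)
  have h1 : i ∈ M.normalCore := by
    intro b
    exact hcon _ (by rw [H4.orderOf_conj]; exact hi2)
  exact H4.not_odd_card_of_mem h1 hi2 hcore

/-- Let M be a subgroup of even order of a finite group S such that M contains the centralizer in S of each of its involutions and the normal core of M in S has odd order. Then all involutions of S are conjugate. If moreover N_S(X) ≤ M for a Sylow 2-subgroup X of M and I is an involution in the centre of X, then all involutions of M are conjugate in M and M = M₀ C_M(I) for some subgroup M₀ of M of odd order. -/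
theorem result {S : Type*} [Group S] [Finite S] (M : Subgroup S) (hM : Even (Nat.card M))
    (hC : ∀ i ∈ M, orderOf i = 2 → Subgroup.centralizer ({i} : Set S) ≤ M) (hcore : Odd (Nat.card M.normalCore)) :
    (∀ x y : S, orderOf x = 2 → orderOf y = 2 → IsConj x y) ∧
      ∀ (X : Sylow 2 M) (I : M), I ∈ (Subgroup.center ↥(X : Subgroup ↥M)).map (X : Subgroup ↥M).subtype → orderOf I = 2 →
        Subgroup.normalizer (((X : Subgroup M).map M.subtype : Subgroup S) : Set S) ≤ M →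
        (∀ x y : M, orderOf x = 2 → orderOf y = 2 → IsConj x y) ∧
          ∃ M₀ : Subgroup M, Odd (Nat.card M₀) ∧
            ∀ m : M, ∃ a ∈ M₀, ∃ c ∈ Subgroup.centralizer ({I} : Set M), m = a * c := by
  obtain ⟨s₀, hs₀, hs₀M⟩ := exists_out M hM hcore
  obtain ⟨t₀, ht₀M, ht₀⟩ := H4.exists_involution (K := M) (Nat.not_odd_iff_even.2 hM)
  have hone : ∀ x : S, orderOf x = 2 → IsConj x t₀ := by
    intro x hx
    by_cases hxM : x ∈ M
    · exact (outin M hC hs₀ hx hs₀M hxM).symm.trans (outin M hC hs₀ ht₀ hs₀M ht₀M)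
    · exact outin M hC hx ht₀ hxM ht₀M
  refine ⟨fun x y hx hy => (hone x hx).trans (hone y hy).symm, ?_⟩
  intro X I hIX hI hNX
  have hXS : H14.IsSylIn 2 ((X : Subgroup M).map M.subtype) M := H14.isSylIn_of_sylow X
  obtain ⟨XS, hXSd⟩ : ∃ XS, XS = (X : Subgroup M).map M.subtype := ⟨_, rfl⟩
  rw [← hXSd] at hXS hNX
  have hIS : ∀ x ∈ XS, x * (I : S) = I * x := by
    rw [hXSd]
    rintro _ ⟨x, hx, rfl⟩
    obtain ⟨⟨y, hyX⟩, hy, rfl⟩ := hIX
    have := mem_center_iff.1 hy ⟨x, hx⟩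
    have h1 : x * y = y * x := congrArg Subtype.val this
    exact congrArg Subtype.val h1
  have hIX' : (I : S) ∈ XS := by
    rw [hXSd]
    obtain ⟨⟨y, hyX⟩, hy, rfl⟩ := hIX
    exact ⟨y, hyX, rfl⟩
  have hI2 : orderOf (I : S) = 2 := by rw [orderOf_coe]; exact hI
  -- strongly embedded
  have hSE : Cfsg.IsStronglyEmbedded M := by
    refine ⟨fun h => hs₀M (h ▸ mem_top _), hM, ?_⟩
    intro g hg
    by_contra hodd
    obtain ⟨i, hi, hi2⟩ := H4.exists_involution hodd
    obtain ⟨hiM, hig⟩ := mem_inf.1 hi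
    have hig' : g⁻¹ * i * g ∈ M := (H4.mem_map_conj M g i).1 hig
    apply hg
    have hip : IsPGroup 2 (zpowers i) := by
      apply IsPGroup.of_card (n := 1)
      rw [Nat.card_zpowers, hi2]; rfl
    obtain ⟨m, hm, hmi⟩ := S1939.aux hXS hiM hip
    -- z₁ = m⁻¹ I m commutes with i
    have hcg : ∀ j : S, orderOf j = 2 → g⁻¹ * j * g ∈ M → ∀ y : S, y * j = j * y → g⁻¹ * y * g ∈ M := by
      intro j hj hjM y hy
      apply hC _ hjM
      · have := H4.orderOf_conj j g⁻¹
        rw [inv_inv] at this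
        rw [this, hj]
      · rw [mem_centralizer_singleton_iff]
        calc g⁻¹ * y * g * (g⁻¹ * j * g) = g⁻¹ * (y * j) * g := by group
          _ = g⁻¹ * (j * y) * g := by rw [hy]
          _ = _ := by group
    have hz1 : g⁻¹ * (m⁻¹ * I * m) * g ∈ M := by
      apply hcg i hi2 hig'
      have h1 := hIS _ hmi
      calc m⁻¹ * (I : S) * m * i = m⁻¹ * (I * (m * i * m⁻¹)) * m := by group
        _ = m⁻¹ * ((m * i * m⁻¹) * I) * m := by rw [h1]
        _ = _ := by group
    have hz1o : orderOf (m⁻¹ * (I : S) * m) = 2 := by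
      have := H4.orderOf_conj (I : S) m⁻¹
      rw [inv_inv] at this
      rw [this, hI2]
    have hXg : ∀ x ∈ XS, g⁻¹ * (m⁻¹ * x * m) * g ∈ M := by
      intro x hx
      apply hcg _ hz1o hz1
      have h1 := hIS _ hx
      calc m⁻¹ * x * m * (m⁻¹ * (I : S) * m) = m⁻¹ * (x * I) * m := by group
        _ = m⁻¹ * (I * x) * m := by rw [h1]
        _ = _ := by group
    have hle : H14.cj (g⁻¹ * m⁻¹) XS ≤ M := by
      intro y hy
      rw [H14.mem_cj] at hy
      have := hXg _ hy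
      convert this using 1
      group
    obtain ⟨m₂, hm₂, hle₂⟩ := hXS.exists_cj_le hle (H14.isPGroup_cj.2 hXS.pgroup)
    rw [H14.cj_cj] at hle₂
    have heq : H14.cj (m₂ * (g⁻¹ * m⁻¹)) XS = XS :=
      eq_of_le_of_card_ge hle₂ (by rw [H14.card_cj])
    have h5 := hNX (H14.mem_normalizer_cj.2 heq)
    have h6 : g = (m⁻¹ * (m₂ * (g⁻¹ * m⁻¹))⁻¹ * m₂) := by group
    rw [h6]
    exact M.mul_mem (M.mul_mem (M.inv_mem hm) (M.inv_mem h5)) hm₂
  have hconjM : ∀ x y : M, orderOf x = 2 → orderOf y = 2 → IsConj x y := by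
    intro x y hx hy
    obtain ⟨g, hg⟩ := isConj_iff.1 (H4.semb_isConj hSE (a := (x : S)) (b := (y : S))
      (by rw [orderOf_coe]; exact hx) (by rw [orderOf_coe]; exact hy))
    have hgM : g ∈ M := by
      by_contra hgn
      refine H4.not_odd_card_of_mem (x := (y : S)) (mem_inf.2 ⟨y.2, ?_⟩) (by rw [orderOf_coe]; exact hy)
        (hSE.2.2 g hgn)
      rw [← hg]
      exact H4.conj_mem_map_conj g x.2
    exact isConj_iff.2 ⟨⟨g, hgM⟩, Subtype.ext hg⟩
  refine ⟨hconjM, (M.map (MulAut.conj s₀).toMonoidHom).subgroupOf M, ?_, ?_⟩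
  · have h1 := hSE.2.2 s₀ hs₀M
    rwa [← H1.card_subgroupOf (inf_le_left : M ⊓ M.map (MulAut.conj s₀).toMonoidHom ≤ M),
      inf_subgroupOf_left] at h1
  · intro m
    have hne : (QuotientGroup.mk 1 : S ⧸ M) ≠ QuotientGroup.mk s₀ := by
      rw [Ne, QuotientGroup.eq]; simpa using hs₀M
    have hux : s₀ • (QuotientGroup.mk 1 : S ⧸ M) = QuotientGroup.mk s₀ := by
      rw [MulAction.Quotient.smul_mk, smul_eq_mul, mul_one]
    have huy : s₀ • (QuotientGroup.mk s₀ : S ⧸ M) = QuotientGroup.mk 1 := by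
      rw [MulAction.Quotient.smul_mk, smul_eq_mul, H4.mul_self_of_orderOf_two hs₀]
    have hfix : ∀ x ∈ M, x • (QuotientGroup.mk 1 : S ⧸ M) = QuotientGroup.mk 1 := by
      intro x hx
      rw [H4.smul_mk_eq_iff]; simpa using hx
    obtain ⟨d, hd1, hd2, hd3⟩ := H4.semb_conj_in_two_point hSE hux huy hne
      (s := (I : S)) hI2 (hfix _ I.2) (t := ((m * I * m⁻¹ : M) : S))
      (by rw [orderOf_coe, H4.orderOf_conj]; exact hI) (hfix _ (m * I * m⁻¹).2)
    have hd := (H4.mem_inf_conj_iff M s₀ d).2 ⟨hd1, hd2⟩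
    obtain ⟨hdM, hdM'⟩ := mem_inf.1 hd
    refine ⟨⟨d, hdM⟩, hdM', ⟨d, hdM⟩⁻¹ * m, ?_, by group⟩
    rw [mem_centralizer_singleton_iff]
    have h7 : (⟨d, hdM⟩ : M) * I * ⟨d, hdM⟩⁻¹ = m * I * m⁻¹ := Subtype.ext hd3
    calc (⟨d, hdM⟩ : M)⁻¹ * m * I = (⟨d, hdM⟩ : M)⁻¹ * (m * I * m⁻¹) * m := by group
      _ = (⟨d, hdM⟩ : M)⁻¹ * ((⟨d, hdM⟩ : M) * I * ⟨d, hdM⟩⁻¹) * m := by rw [h7]
      _ = _ := by group

end Cfsg.Agent.S1905
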