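import Cfsg.Statements.S1907
import Cfsg.Agent.H14.CenB
import Cfsg.Agent.H1.SysNorm
import Cfsg.Agent.H1.Cores
import Cfsg.Agent.OOT.PLen1
import Cfsg.Agent.H10.PCons
import Cfsg.Agent.H2.FratArg

set_option autoImplicit false
open Cfsg

namespace Cfsg.Agent.S1907

open Cfsg.Agent.L Cfsg.Agent.H14.Cen

/-- elements of `p`-power order whose conjugate by a `p'`-element stays in the normalizer -/
theorem key {G : Type*} [Group G] [Finite G] {p : ℕ} [hp : Fact p.Prime] {H D : Subgroup G} [hDn : D.Normal]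
    (hH : IsPGroup p H) (hD : (Nat.card D).Coprime p) {y o : G} (hy : y ∈ nz H)
    (hyp : ∃ k : ℕ, orderOf y = p ^ k) (ho : o ∈ D) (hoy : o * y * o⁻¹ ∈ nz H) :
    ∃ b ∈ D ⊓ Subgroup.centralizer (H : Set G), ∃ c ∈ D, c * y = y * c ∧ o = b * c := by
  have hDp : ¬ p ∣ Nat.card D := (Nat.Prime.coprime_iff_not_dvd hp.out).1 hD.symm
  have hnD : ∀ K : Subgroup G, K ≤ nz D := by
    intro K
    have : nz D = ⊤ := Subgroup.normalizer_eq_top_iff.2 hDn
    rw [this]; exact le_top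
  have hyA : IsPGroup p (Subgroup.zpowers y) := by
    obtain ⟨k, hk⟩ := hyp
    exact IsPGroup.of_card (n := k) (by rw [Nat.card_zpowers, hk])
  have hyn : Subgroup.zpowers y ≤ nz H := by rw [Subgroup.zpowers_le]; exact hy
  obtain ⟨b, hb, c, hc, hcA, hbc⟩ := exists_fix (A := Subgroup.zpowers y) (O := D) (B := D ⊓ nz H) hyA hDp
    (hnD _) inf_le_left (by
      intro a ha
      rw [mem_nz_iff, cj_inf, mem_nz_iff.1 (hnD _ ha), cj_eq_self_of_mem (hyn ha)]) ho (by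
      intro a ha
      refine Subgroup.mem_inf.2 ⟨?_, ?_⟩
      · have : o * a * o⁻¹ * a⁻¹ = o * (a * o⁻¹ * a⁻¹) := by group
        rw [this]
        exact mul_mem ho (hDn.conj_mem _ (inv_mem ho) a)
      · refine mul_mem ?_ (inv_mem (hyn ha))
        obtain ⟨k, rfl⟩ := Subgroup.mem_zpowers_iff.1 ha
        rw [← conj_zpow]
        exact zpow_mem hoy k)
  refine ⟨b, Subgroup.mem_inf.2 ⟨hb.1, ?_⟩, c, hc, hcA y (Subgroup.mem_zpowers y), hbc⟩
  have h1 := comm_of_normalize hH hDp (hnD _) hb.1 hb.2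
  rw [Subgroup.mem_centralizer_iff]
  intro h hh
  exact (h1 h hh).symm

/-- Let P be a Sylow p-subgroup of a finite group G, H = P ∩ O_{p',p}(G), N = N_G(H) and D = O_{p'}(G). (a) If y is an element of p-power order of N and d ∈ D with d⁻¹ y d ∈ N, then d = d₁ d₂ with d₁ ∈ C_D(y) and d₂ ∈ C_D(H). (b) Two elements of P that are conjugate in G are conjugate in N. -/
theorem result {G : Type*} [Group G] [Finite G] {p : ℕ} [Fact p.Prime] (P : Sylow p G) :
    (∀ y ∈ Subgroup.normalizer (((P : Subgroup G) ⊓ Cfsg.pPrimePCore p G : Subgroup G) : Set G), (∃ k : ℕ, orderOf y = p ^ k) →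
      ∀ d ∈ Cfsg.pPrimeCore p G, d⁻¹ * y * d ∈ Subgroup.normalizer (((P : Subgroup G) ⊓ Cfsg.pPrimePCore p G : Subgroup G) : Set G) →
        ∃ d₁ ∈ Cfsg.pPrimeCore p G ⊓ Subgroup.centralizer ({y} : Set G),
          ∃ d₂ ∈ Cfsg.pPrimeCore p G ⊓ Subgroup.centralizer (((P : Subgroup G) ⊓ Cfsg.pPrimePCore p G : Subgroup G) : Set G), d = d₁ * d₂) ∧
    ∀ x y : G, x ∈ (P : Subgroup G) → y ∈ (P : Subgroup G) → IsConj x y →
      ∃ n ∈ Subgroup.normalizer (((P : Subgroup G) ⊓ Cfsg.pPrimePCore p G : Subgroup G) : Set G), n * x * n⁻¹ = y := by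
  obtain ⟨H, hH⟩ : ∃ H, H = (P : Subgroup G) ⊓ Cfsg.pPrimePCore p G := ⟨_, rfl⟩
  rw [← hH]
  haveI hDn := H1.pPrimeCore_normal p G
  haveI hRn := H10.pPrimePCore_normal p G
  have hD := H1.pPrimeCore_coprime p G
  have hHp : IsPGroup p H := by rw [hH]; exact P.2.to_le inf_le_left
  have hPn : (P : Subgroup G) ≤ nz H := by
    intro x hx
    rw [mem_nz_iff, hH, cj_inf, cj_eq_self_of_mem hx]
    congr 1
    apply mem_nz_iff.1
    have : nz (Cfsg.pPrimePCore p G) = ⊤ := Subgroup.normalizer_eq_top_iff.2 hRn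
    rw [this]; exact Subgroup.mem_top _
  constructor
  · intro y hy hyp d hd hdy
    obtain ⟨b, hb, c, hc, hcy, hbc⟩ := key hHp hD hy hyp (inv_mem hd) (by simpa using hdy)
    refine ⟨c⁻¹, Subgroup.mem_inf.2 ⟨inv_mem hc, ?_⟩, b⁻¹, inv_mem hb, ?_⟩
    · rw [Subgroup.mem_centralizer_singleton_iff]
      calc c⁻¹ * y = c⁻¹ * (y * c) * c⁻¹ := by group
        _ = c⁻¹ * (c * y) * c⁻¹ := by rw [hcy]
        _ = y * c⁻¹ := by group
    · rw [← mul_inv_rev, ← hbc, inv_inv]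
  · intro x y hx hy hxy
    obtain ⟨g, hg⟩ := isConj_iff.1 hxy
    obtain ⟨n, hn, r, hr, rfl⟩ := H2.exists_frattini' P (Cfsg.pPrimePCore p G) g
    rw [← hH] at hn
    have hR := H1.sup_sylow_inf_eq P hRn (H10.pPrimeCore_le_pPrimePCore p G)
      (OOT.relIndex_pPrimeCore_pPrimePCore p G)
    rw [← hH] at hR
    rw [← hR, sup_comm] at hr
    obtain ⟨h, hh, d, hd, rfl⟩ := Subgroup.mem_sup_of_normal_right.1 hr
    have h1 : d * x * d⁻¹ ∈ nz H := by
      have e : d * x * d⁻¹ = (n * h)⁻¹ * (n * (h * d) * x * (n * (h * d))⁻¹) * (n * h) := by group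
      rw [e, hg]
      have h2 : n * h ∈ nz H := mul_mem hn (le_nz H hh)
      exact mul_mem (mul_mem (inv_mem h2) (hPn hy)) h2
    have hxp : ∃ k : ℕ, orderOf x = p ^ k := by
      obtain ⟨k, hk⟩ := (IsPGroup.iff_orderOf.1 P.2) ⟨x, hx⟩
      exact ⟨k, by rw [← hk, Subgroup.orderOf_mk]⟩
    obtain ⟨b, hb, c, hc, hcx, hbc⟩ := key hHp hD (hPn hx) hxp hd h1
    refine ⟨n * h * b, mul_mem (mul_mem hn (le_nz H hh)) ?_, ?_⟩
    · exact cent_le_nz' H hb.2
    · rw [← hg, hbc]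
      calc n * h * b * x * (n * h * b)⁻¹ = n * h * b * (x * c) * c⁻¹ * (n * h * b)⁻¹ := by group
        _ = n * h * b * (c * x) * c⁻¹ * (n * h * b)⁻¹ := by rw [hcx]
        _ = _ := by group

end Cfsg.Agent.S1907
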