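import Cfsg.Statements.S1910
import Cfsg.Agent.H14.Conj
import Cfsg.Agent.H1.Basic
import Cfsg.Agent.H1.Coprime2
import Cfsg.Agent.H4.Basic
import Cfsg.Agent.H18.PRes
import Cfsg.Agent.H23.Coprime

set_option autoImplicit false
open Cfsg

namespace Cfsg.Agent.S1910

open Subgroup
open Cfsg.Agent.H14 (cj mem_cj conj_mem_cj cj_cj cj_mono IsSylIn)

theorem odd_bot {G : Type*} [Group G] [Finite G] {U K : Subgroup G} (hU : IsPGroup 2 U) (hUK : U ≤ K)
    (hK : Odd (Nat.card K)) : U = ⊥ := by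
  by_contra hne
  have h1 : ¬ Odd (Nat.card U) := by
    haveI : Nontrivial U := (nontrivial_iff_ne_bot U).2 hne
    obtain ⟨k, hk, hk'⟩ := IsPGroup.nontrivial_iff_card (p := 2) hU |>.1 inferInstance
    rw [hk', Nat.not_odd_iff_even]
    exact (Nat.even_pow.2 ⟨even_two, hk.ne'⟩)
  apply h1
  obtain ⟨m, hm⟩ := card_dvd_of_le hUK
  rw [hm] at hK
  exact (Nat.odd_mul.1 hK).1

/-- main embedding lemma -/
theorem emb {G : Type*} [Group G] [Finite G] (A B T R : Subgroup G)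
    (hAB : ∀ U : Subgroup G, IsPGroup 2 U → U ≤ A → U ≤ B → U = ⊥)
    (hB : ∀ w : G, w ∉ normalizer (B : Set G) → ∀ U : Subgroup G, IsPGroup 2 U → U ≤ B → U ≤ cj w B → U = ⊥)
    (hT : IsPGroup 2 T) (hR : IsPGroup 2 R) (hTB : T ≤ B) (hRA : R ≤ A) (hTR : T ≤ normalizer (R : Set G))
    (hne : ¬ R ≤ centralizer (T : Set G)) (C : Subgroup G) (hC : C = R ⊓ centralizer (T : Set G)) :
    ∃ f : T →* C, Function.Injective f := by
  have hCR : C ≤ R := by rw [hC]; exact inf_le_left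
  have hCT : ∀ c ∈ C, ∀ t ∈ T, c * t = t * c := by
    intro c hc t ht
    rw [hC] at hc
    exact (mem_centralizer_iff.1 (mem_inf.1 hc).2 t ht).symm
  have hRT0 : R ⊓ T = ⊥ := hAB _ (hR.to_le inf_le_left) (inf_le_left.trans hRA) (inf_le_right.trans hTB)
  have hRB0 : R ⊓ B = ⊥ := hAB _ (hR.to_le inf_le_left) (inf_le_left.trans hRA) inf_le_right
  have hRTp : IsPGroup 2 (R ⊔ T : Subgroup G) := H1.isPGroup_sup_of_le_normalizer hR hT hTR
  have hCTn : C ≤ normalizer (T : Set G) := by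
    apply H23.le_normalizer_of_conj_mem
    intro c hc t ht
    rw [hCT c hc t ht, mul_inv_cancel_right]; exact ht
  have hmem : ∀ x, x ∈ C ⊔ T ↔ ∃ c ∈ C, ∃ t ∈ T, c * t = x := fun x =>
    H18.mem_sup_iff_of_le_normalizer hCTn
  have hlt : C ⊔ T < R ⊔ T := by
    refine lt_of_le_of_ne (sup_le_sup_right hCR T) (fun h => hne ?_)
    intro r hr
    have h1 : r ∈ C ⊔ T := by rw [h]; exact (le_sup_left : R ≤ _) hr
    obtain ⟨c, hc, t, ht, rfl⟩ := (hmem _).1 h1
    have h2 : t ∈ R ⊓ T := by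
      refine mem_inf.2 ⟨?_, ht⟩
      have := mul_mem (inv_mem (hCR hc)) hr
      simpa using this
    rw [hRT0, mem_bot] at h2
    rw [h2, mul_one]
    rw [hC] at hc
    exact (mem_inf.1 hc).2
  obtain ⟨z, hz, hzn⟩ := SetLike.exists_of_lt (H14.lt_inf_normalizer_of_lt hRTp hlt)
  obtain ⟨hzRT, hzN⟩ := mem_inf.1 hz
  rw [H23.mem_sup_iff_of_le_normalizer hTR] at hzRT
  obtain ⟨w, hwR, t₀, ht₀, rfl⟩ := hzRT
  have hT_le : T ≤ C ⊔ T := le_sup_right
  have hwN : w ∈ normalizer ((C ⊔ T : Subgroup G) : Set G) := by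
    have h1 : w = (w * t₀) * t₀⁻¹ := by group
    rw [h1]
    exact mul_mem hzN (inv_mem (le_normalizer (hT_le ht₀)))
  have hwC : w ∉ C := by
    intro h
    exact hzn (mul_mem ((le_sup_left : C ≤ _) h) (hT_le ht₀))
  have hwB : w ∉ normalizer (B : Set G) := by
    intro h
    apply hwC
    rw [hC]
    refine mem_inf.2 ⟨hwR, ?_⟩
    rw [mem_centralizer_iff]
    intro t ht
    have h1 : w * t * w⁻¹ * t⁻¹ ∈ R ⊓ B := by
      refine mem_inf.2 ⟨?_, mul_mem ((mem_normalizer_iff.1 h t).1 (hTB ht)) (inv_mem (hTB ht))⟩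
      have : w * t * w⁻¹ * t⁻¹ = w * (t * w⁻¹ * t⁻¹) := by group
      rw [this]
      exact mul_mem hwR ((mem_normalizer_iff.1 (hTR ht) _).1 (inv_mem hwR))
    rw [hRB0, mem_bot, mul_inv_eq_one, mul_inv_eq_iff_eq_mul] at h1
    exact h1.symm
  have hTw : T ⊓ cj w T = ⊥ :=
    hB w hwB _ (hT.to_le inf_le_left) (inf_le_left.trans hTB) (inf_le_right.trans (cj_mono hTB))
  have hdec : ∀ t : T, ∃ c ∈ C, ∃ t' ∈ T, c * t' = w * t * w⁻¹ := by
    intro t
    exact (hmem _).1 ((mem_normalizer_iff.1 hwN _).1 (hT_le t.2))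
  choose c hc t' ht' hct using hdec
  have huniq : ∀ c₁ ∈ C, ∀ c₂ ∈ C, ∀ s₁ ∈ T, ∀ s₂ ∈ T, c₁ * s₁ = c₂ * s₂ → c₁ = c₂ := by
    intro c₁ h₁ c₂ h₂ s₁ k₁ s₂ k₂ h
    have h3 : c₂⁻¹ * c₁ = s₂ * s₁⁻¹ := by
      calc c₂⁻¹ * c₁ = c₂⁻¹ * (c₁ * s₁) * s₁⁻¹ := by group
        _ = c₂⁻¹ * (c₂ * s₂) * s₁⁻¹ := by rw [h]
        _ = _ := by group
    have h4 : c₂⁻¹ * c₁ ∈ R ⊓ T := by
      refine mem_inf.2 ⟨mul_mem (inv_mem (hCR h₂)) (hCR h₁), ?_⟩
      rw [h3]; exact mul_mem k₂ (inv_mem k₁)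
    rw [hRT0, mem_bot] at h4
    exact (inv_mul_eq_one.1 h4).symm
  refine ⟨MonoidHom.mk' (fun t => ⟨c t, hc t⟩) ?_, ?_⟩
  · intro a b
    apply Subtype.ext
    change c (a * b) = c a * c b
    refine huniq _ (hc _) _ (mul_mem (hc a) (hc b)) _ (ht' (a * b)) _ (mul_mem (ht' a) (ht' b)) ?_
    rw [hct]
    calc w * ((a * b : T) : G) * w⁻¹ = (w * a * w⁻¹) * (w * b * w⁻¹) := by push_cast; group
      _ = (c a * t' a) * (c b * t' b) := by rw [hct, hct]
      _ = c a * (t' a * c b) * t' b := by group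
      _ = c a * (c b * t' a) * t' b := by rw [hCT (c b) (hc b) (t' a) (ht' a)]
      _ = _ := by group
  · rw [injective_iff_map_eq_one]
    intro a ha
    have h1 : c a = 1 := congrArg Subtype.val ha
    have h2 : w * a * w⁻¹ = t' a := by rw [← hct, h1, one_mul]
    have h3 : w * (a : G) * w⁻¹ ∈ T ⊓ cj w T := by
      refine mem_inf.2 ⟨by rw [h2]; exact ht' a, conj_mem_cj.2 a.2⟩
    rw [hTw, mem_bot, mul_inv_eq_one] at h3
    have : (a : G) = 1 := by
      calc (a : G) = w⁻¹ * (w * a) := by group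
        _ = w⁻¹ * w := by rw [h3]
        _ = 1 := by group
    exact Subtype.ext this

/-- Let Q be a tightly embedded subgroup of a finite group G, g an element outside N_G(Q), T a nontrivial Sylow 2-subgroup of Q^g ∩ N_G(Q), and S a Sylow 2-subgroup of QT containing T. Then T ∩ Q = 1, and N_S(T) is the direct product of T and N_S(T) ∩ Q, with N_S(T) ∩ Q isomorphic to T. -/
theorem result {G : Type*} [Group G] [Finite G] (Q : Subgroup G) (hQ : Cfsg.IsTightlyEmbedded Q)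
    (g : G) (hg : g ∉ Subgroup.normalizer (Q : Set G))
    (T : Subgroup G) (hT1 : T ≠ ⊥) (hT : T ≤ Q.map (MulAut.conj g).toMonoidHom ⊓ Subgroup.normalizer (Q : Set G))
    (hTsyl : IsPGroup 2 T ∧ ¬ 2 ∣ T.relIndex (Q.map (MulAut.conj g).toMonoidHom ⊓ Subgroup.normalizer (Q : Set G)))
    (S : Subgroup G) (hTS : T ≤ S) (hS : S ≤ Q ⊔ T) (hSsyl : IsPGroup 2 S ∧ ¬ 2 ∣ S.relIndex (Q ⊔ T)) :
    T ⊓ Q = ⊥ ∧
      T ⊓ (S ⊓ Subgroup.normalizer (T : Set G) ⊓ Q) = ⊥ ∧
      ⁅T, S ⊓ Subgroup.normalizer (T : Set G) ⊓ Q⁆ = ⊥ ∧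
      T ⊔ (S ⊓ Subgroup.normalizer (T : Set G) ⊓ Q) = S ⊓ Subgroup.normalizer (T : Set G) ∧
      Nonempty (↥(S ⊓ Subgroup.normalizer (T : Set G) ⊓ Q) ≃* T) := by
  obtain ⟨B, hBd⟩ : ∃ B, B = Q.map (MulAut.conj g).toMonoidHom := ⟨_, rfl⟩
  have hBc : B = cj g Q := hBd
  rw [← hBd] at hT hTsyl
  have hQB : ∀ w : G, w ∉ normalizer (Q : Set G) → ∀ U : Subgroup G, IsPGroup 2 U → U ≤ Q → U ≤ cj w Q → U = ⊥ :=
    fun w hw U hU h1 h2 => odd_bot hU (le_inf h1 h2) (hQ.2 w hw)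
  have hQBg : ∀ U : Subgroup G, IsPGroup 2 U → U ≤ Q → U ≤ B → U = ⊥ := by
    intro U hU h1 h2
    exact hQB g hg U hU h1 (hBc ▸ h2)
  have hBB : ∀ w : G, w ∉ normalizer (B : Set G) → ∀ U : Subgroup G, IsPGroup 2 U → U ≤ B → U ≤ cj w B → U = ⊥ := by
    intro w hw U hU h1 h2
    rw [hBc] at h1 h2 hw
    have hw' : g⁻¹ * w * g ∉ normalizer (Q : Set G) := by
      intro h
      apply hw
      rw [H14.normalizer_cj, mem_cj]
      exact h
    have h3 := hQB (g⁻¹ * w * g) hw' (cj g⁻¹ U) (H14.isPGroup_cj.2 hU)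
      (by rw [H14.cj_le_iff, inv_inv]; exact h1)
      (by
        rw [H14.cj_le_iff, inv_inv, cj_cj]
        have : g * (g⁻¹ * w * g) = w * g := by group
        rw [this, ← cj_cj]; exact h2)
    exact H14.cj_eq_bot.1 h3
  have hTB : T ≤ B := hT.trans inf_le_left
  have hTN : T ≤ normalizer (Q : Set G) := hT.trans inf_le_right
  have hTp := hTsyl.1
  have hTQ : T ⊓ Q = ⊥ := hQBg _ (hTp.to_le inf_le_left) inf_le_right (inf_le_left.trans hTB)
  have hTi : IsSylIn 2 T (B ⊓ normalizer (Q : Set G)) := ⟨hT, hTp, hTsyl.2⟩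
  obtain ⟨R, hR⟩ : ∃ R, R = S ⊓ Q := ⟨_, rfl⟩
  have hRp : IsPGroup 2 R := by rw [hR]; exact hSsyl.1.to_le inf_le_left
  have hRQ : R ≤ Q := by rw [hR]; exact inf_le_right
  have hTR : T ≤ normalizer (R : Set G) := by
    apply H23.le_normalizer_of_conj_mem
    intro t ht r hr
    rw [hR] at hr ⊢
    exact mem_inf.2 ⟨mul_mem (mul_mem (hTS ht) (mem_inf.1 hr).1) (inv_mem (hTS ht)),
      (mem_normalizer_iff.1 (hTN ht) _).1 (mem_inf.1 hr).2⟩
  have hCeq : S ⊓ Subgroup.normalizer (T : Set G) ⊓ Q = R ⊓ centralizer (T : Set G) := by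
    apply le_antisymm
    · intro x hx
      obtain ⟨hx1, hxQ⟩ := mem_inf.1 hx
      obtain ⟨hxS, hxN⟩ := mem_inf.1 hx1
      rw [hR]
      refine mem_inf.2 ⟨mem_inf.2 ⟨hxS, hxQ⟩, ?_⟩
      rw [mem_centralizer_iff]
      intro t ht
      have h1 : x * t * x⁻¹ * t⁻¹ ∈ T ⊓ Q := by
        refine mem_inf.2 ⟨mul_mem ((mem_normalizer_iff.1 hxN t).1 ht) (inv_mem ht), ?_⟩
        have : x * t * x⁻¹ * t⁻¹ = x * (t * x⁻¹ * t⁻¹) := by group
        rw [this]
        exact mul_mem hxQ ((mem_normalizer_iff.1 (hTN ht) _).1 (inv_mem hxQ))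
      rw [hTQ, mem_bot, mul_inv_eq_one, mul_inv_eq_iff_eq_mul] at h1
      exact h1.symm
    · intro x hx
      rw [hR] at hx
      obtain ⟨hx1, hx2⟩ := mem_inf.1 hx
      refine mem_inf.2 ⟨mem_inf.2 ⟨(mem_inf.1 hx1).1, ?_⟩, (mem_inf.1 hx1).2⟩
      exact H14.mem_normalizer_cj.2 (H14.cj_eq_of_mem_centralizer hx2)
  refine ⟨hTQ, ?_, ?_, ?_, ?_⟩
  · rw [eq_bot_iff, ← hTQ]
    exact inf_le_inf_left _ inf_le_right
  · rw [hCeq, commutator_comm, commutator_eq_bot_iff_le_centralizer]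
    exact inf_le_right
  · apply le_antisymm
    · exact sup_le (le_inf hTS le_normalizer) inf_le_left
    · intro x hx
      obtain ⟨hxS, hxN⟩ := mem_inf.1 hx
      have h1 := hS hxS
      rw [H23.mem_sup_iff_of_le_normalizer hTN] at h1
      obtain ⟨q, hq, t, ht, rfl⟩ := h1
      have hq' : q = (q * t) * t⁻¹ := by group
      refine mul_mem ((le_sup_right : _ ≤ T ⊔ _) ?_) ((le_sup_left : T ≤ _) ht)
      refine mem_inf.2 ⟨mem_inf.2 ⟨?_, ?_⟩, hq⟩
      · rw [hq']; exact mul_mem hxS (inv_mem (hTS ht))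
      · rw [hq']; exact mul_mem hxN (inv_mem (le_normalizer ht))
  · rw [hCeq]
    -- Sylow facts
    have hSi : IsSylIn 2 S (Q ⊔ T) := ⟨hS, hSsyl.1, hSsyl.2⟩
    have hRi : IsSylIn 2 R Q := by
      rw [hR]
      exact hSi.inf_of_normalizes le_sup_left (sup_le le_normalizer hTN)
    have hgQ : IsSylIn 2 (cj g R) B := by rw [hBc]; exact hRi.cj g
    obtain ⟨C, hC⟩ : ∃ C, C = R ⊓ centralizer (T : Set G) := ⟨_, rfl⟩
    have hCR : C ≤ R := by rw [hC]; exact inf_le_left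
    have hCp : IsPGroup 2 C := hRp.to_le hCR
    -- centralizers of nontrivial 2-subgroups of B normalize B
    have hcentB : ∀ U : Subgroup G, IsPGroup 2 U → U ≠ ⊥ → U ≤ B → centralizer (U : Set G) ≤ normalizer (B : Set G) := by
      intro U hU hne hUB x hx
      by_contra h
      apply hne
      apply hBB x h U hU hUB
      rw [← H14.cj_eq_of_mem_centralizer hx]
      exact cj_mono hUB
    have hcentQ : ∀ U : Subgroup G, IsPGroup 2 U → U ≠ ⊥ → U ≤ Q → centralizer (U : Set G) ≤ normalizer (Q : Set G) := by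
      intro U hU hne hUB x hx
      by_contra h
      apply hne
      apply hQB x h U hU hUB
      rw [← H14.cj_eq_of_mem_centralizer hx]
      exact cj_mono hUB
    have hCN : C ≤ normalizer (B : Set G) := by
      rw [hC]; exact inf_le_right.trans (hcentB T hTp hT1 hTB)
    have hcardT : Nat.card T ≤ Nat.card R := by
      obtain ⟨x, hx, hle⟩ := hgQ.exists_cj_le hTB hTp
      calc Nat.card T = Nat.card (cj x T) := (H14.card_cj x T).symm
        _ ≤ Nat.card (cj g R) := card_le_of_le hle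
        _ = Nat.card R := H14.card_cj g R
    have hupper : Nat.card C ≤ Nat.card T := by
      by_cases hCb : C = ⊥
      · rw [hCb, card_bot]; exact Nat.card_pos
      -- a Sylow 2-subgroup R' of B containing T, normalized by C
      have hCT : C ≤ centralizer (T : Set G) := by rw [hC]; exact inf_le_right
      have hTC : T ≤ centralizer (C : Set G) := by rw [le_centralizer_iff]; exact hCT
      have hTCn : C ≤ normalizer (T : Set G) := by
        intro x hx
        exact H14.mem_normalizer_cj.2 (H14.cj_eq_of_mem_centralizer (hCT hx))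
      have hTCp : IsPGroup 2 (T ⊔ C : Subgroup G) := H1.isPGroup_sup_of_le_normalizer hTp hCp hTCn
      obtain ⟨U, hU, hle⟩ := H14.exists_isSylIn_ge (p := 2) (sup_le_sup_right hTB C : T ⊔ C ≤ B ⊔ C) hTCp
      have hR' : IsSylIn 2 (U ⊓ B) B := hU.inf_of_normalizes le_sup_left (sup_le le_normalizer hCN)
      obtain ⟨R', hR'd⟩ : ∃ R', R' = U ⊓ B := ⟨_, rfl⟩
      rw [← hR'd] at hR'
      have hTR' : T ≤ R' := by rw [hR'd]; exact le_inf (le_sup_left.trans hle) hTB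
      have hCR' : C ≤ normalizer (R' : Set G) := by
        rw [hR'd]
        have h1 : C ≤ U := le_sup_right.trans hle
        apply H23.le_normalizer_of_conj_mem
        intro x hx y hy
        exact mem_inf.2 ⟨mul_mem (mul_mem (h1 hx) (mem_inf.1 hy).1) (inv_mem (h1 hx)),
          (mem_normalizer_iff.1 (hCN hx) _).1 (mem_inf.1 hy).2⟩
      have hC' : R' ⊓ centralizer (C : Set G) = T := by
        apply hTi.eq_of_le (le_inf hTR' hTC)
        · exact le_inf (inf_le_left.trans hR'.le) (inf_le_right.trans (hcentQ C hCp hCb (hCR.trans hRQ)))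
        · exact hR'.pgroup.to_le inf_le_left
      by_cases hle2 : R' ≤ centralizer (C : Set G)
      · rw [inf_eq_left.2 hle2] at hC'
        calc Nat.card C ≤ Nat.card R := card_le_of_le hCR
          _ = Nat.card (cj g R) := (H14.card_cj g R).symm
          _ = Nat.card R' := hgQ.card_eq hR'
          _ = Nat.card T := by rw [hC']
      · obtain ⟨f, hf⟩ := emb B Q C R' (fun U hU h1 h2 => hQBg U hU h2 h1) hQB hCp hR'.pgroup
          (hCR.trans hRQ) hR'.le hCR' hle2 T hC'.symm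
        exact Nat.card_le_card_of_injective f hf
    by_cases hle : R ≤ centralizer (T : Set G)
    · have hCR2 : C = R := by rw [hC]; exact inf_eq_left.2 hle
      rw [← hC, hCR2]
      rw [hCR2] at hupper
      have hcard : Nat.card T = Nat.card R := le_antisymm hcardT hupper
      have hTi' : IsSylIn 2 T B := H14.isSylIn_of_card_le hgQ hTB hTp (by rw [H14.card_cj, hcard])
      obtain ⟨x, hx, hxe⟩ := hTi'.exists_cj_eq hgQ
      rw [cj_cj] at hxe
      rw [← hxe]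
      exact ⟨R.equivMapOfInjective _ (MulAut.conj (x * g)).injective⟩
    · obtain ⟨f, hf⟩ := emb Q B T R hQBg hBB hTp hRp hTB hRQ hTR hle C hC
      rw [← hC]
      have hbij : Function.Bijective f :=
        (Function.Injective.bijective_of_nat_card_le hf hupper)
      exact ⟨(MulEquiv.ofBijective f hbij).symm⟩

end Cfsg.Agent.S1910
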