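import Cfsg.Statements.S1921
import Cfsg.Agent.H10.Comp
import Cfsg.Agent.H14.Conj
import Cfsg.Agent.H18.PRes
import Cfsg.Agent.H23.Coprime

set_option autoImplicit false
open Cfsg

namespace Cfsg.Agent.S1921

open Subgroup

/-- Let a be an involution of a finite group H and L a component of H with a L a⁻¹ ≠ L; put M = ⟨L, aLa⁻¹⟩ and let J be the subgroup generated by the elements x · a x a⁻¹ with x ∈ L (the diagonal). Then every element of M outside J·Z(M) generates M together with J. -/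
theorem result {H : Type*} [Group H] [Finite H] (a : H) (ha : orderOf a = 2) (L : Subgroup H) (hL : Cfsg.IsComponent L)
    (hLa : L.map (MulAut.conj a).toMonoidHom ≠ L) (x : H) (hxM : x ∈ L ⊔ L.map (MulAut.conj a).toMonoidHom)
    (hxJ : x ∉ Subgroup.closure {y : H | ∃ l ∈ L, y = l * (a * l * a⁻¹)} ⊔
      ((L ⊔ L.map (MulAut.conj a).toMonoidHom) ⊓ Subgroup.centralizer ((L ⊔ L.map (MulAut.conj a).toMonoidHom : Subgroup H) : Set H))) :
    Subgroup.closure {y : H | ∃ l ∈ L, y = l * (a * l * a⁻¹)} ⊔ Subgroup.zpowers x = L ⊔ L.map (MulAut.conj a).toMonoidHom := by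
  obtain ⟨L', hL'⟩ : ∃ L', L' = L.map (MulAut.conj a).toMonoidHom := ⟨_, rfl⟩
  rw [← hL'] at hLa hxM hxJ ⊢
  have hLc' : Cfsg.IsComponent L' := by rw [hL']; exact H10.component_map_equiv (MulAut.conj a) hL
  have hcomm := H10.comp_commutes hL hLc' (Ne.symm hLa)
  have hcomm' : ∀ l ∈ L, ∀ m ∈ L', l * m = m * l := by
    intro l hl m hm
    have := (commutator_eq_bot_iff_le_centralizer.1 hcomm) hl
    exact (mem_centralizer_iff.1 this m hm).symm
  have hmem' : ∀ l ∈ L, a * l * a⁻¹ ∈ L' := by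
    intro l hl; rw [hL']; exact ⟨l, hl, rfl⟩
  obtain ⟨J, hJ⟩ : ∃ J, J = Subgroup.closure {y : H | ∃ l ∈ L, y = l * (a * l * a⁻¹)} := ⟨_, rfl⟩
  rw [← hJ] at hxJ ⊢
  have hjJ : ∀ l ∈ L, l * (a * l * a⁻¹) ∈ J := by
    intro l hl; rw [hJ]; exact subset_closure ⟨l, hl, rfl⟩
  obtain ⟨B, hB⟩ : ∃ B, B = J ⊔ zpowers x := ⟨_, rfl⟩
  rw [← hB]
  have hJB : J ≤ B := by rw [hB]; exact le_sup_left
  have hxB : x ∈ B := by rw [hB]; exact (le_sup_right : zpowers x ≤ _) (mem_zpowers x)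
  have hLN : L ≤ normalizer (L' : Set H) := by
    apply H23.le_normalizer_of_conj_mem
    intro l hl m hm
    rw [hcomm' l hl m hm, mul_inv_cancel_right]; exact hm
  have hx' := hxM
  rw [H18.mem_sup_iff_of_le_normalizer hLN] at hx'
  obtain ⟨l₁, hl₁, m, hm, hx₁⟩ := hx'
  obtain ⟨l₂, hl₂, rfl⟩ : ∃ l₂ ∈ L, a * l₂ * a⁻¹ = m := by
    rw [hL'] at hm
    obtain ⟨l₂, hl₂, h⟩ := hm
    exact ⟨l₂, hl₂, h⟩
  obtain ⟨y, hy⟩ : ∃ y, y = l₁ * l₂⁻¹ := ⟨_, rfl⟩
  have hyL : y ∈ L := by rw [hy]; exact mul_mem hl₁ (inv_mem hl₂)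
  have hxy : x = y * (l₂ * (a * l₂ * a⁻¹)) := by rw [hy, ← hx₁]; group
  have hyB : y ∈ B := by
    have : y = x * (l₂ * (a * l₂ * a⁻¹))⁻¹ := by rw [hxy]; group
    rw [this]
    exact mul_mem hxB (inv_mem (hJB (hjJ l₂ hl₂)))
  have hynot : ¬ ∀ l ∈ L, l * y = y * l := by
    intro hcen
    apply hxJ
    rw [hxy]
    refine mul_mem ((le_sup_right : _ ≤ J ⊔ _) (mem_inf.2 ⟨(le_sup_left : L ≤ _) hyL, ?_⟩))
      ((le_sup_left : J ≤ _) (hjJ l₂ hl₂))
    have h1 : L ⊔ L' ≤ centralizer ({y} : Set H) := by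
      refine sup_le ?_ ?_
      · intro l hl; rw [mem_centralizer_singleton_iff]; exact hcen l hl
      · intro l hl; rw [mem_centralizer_singleton_iff]; exact (hcomm' y hyL l hl).symm
    rw [mem_centralizer_iff]
    intro z hz
    exact mem_centralizer_singleton_iff.1 (h1 hz)
  have hNn : ((L ⊓ B).subgroupOf L).Normal := by
    constructor
    intro n hn l
    rw [mem_subgroupOf] at hn ⊢
    obtain ⟨hn1, hn2⟩ := mem_inf.1 hn
    refine mem_inf.2 ⟨SetLike.coe_mem _, ?_⟩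
    have h1 : ((l * n * l⁻¹ : L) : H) = (l * (a * l * a⁻¹)) * n * ((l : H) * (a * l * a⁻¹))⁻¹ := by
      have h2 := hcomm' n n.2 (a * l * a⁻¹) (hmem' l l.2)
      push_cast
      calc (l : H) * n * (l : H)⁻¹ = l * (n * (a * l * a⁻¹)) * ((a * l * a⁻¹)⁻¹ * (l : H)⁻¹) := by group
        _ = l * ((a * l * a⁻¹) * n) * ((a * l * a⁻¹)⁻¹ * (l : H)⁻¹) := by rw [h2]
        _ = _ := by group
    rw [h1]
    exact mul_mem (mul_mem (hJB (hjJ l l.2)) hn2) (inv_mem (hJB (hjJ l l.2)))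
  have hLB : L ≤ B := by
    rcases H10.qs_normal_eq_top_or_le_center hL.2 hNn with h | h
    · rw [subgroupOf_eq_top] at h
      exact h.trans inf_le_right
    · exfalso
      apply hynot
      intro l hl
      have h1 : (⟨y, hyL⟩ : L) ∈ center L := h (mem_inf.2 ⟨hyL, hyB⟩)
      exact congrArg Subtype.val (mem_center_iff.1 h1 ⟨l, hl⟩)
  apply le_antisymm
  · rw [hB]
    refine sup_le ?_ (by rwa [zpowers_le])
    rw [hJ, closure_le]
    rintro _ ⟨l, hl, rfl⟩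
    exact mul_mem ((le_sup_left : L ≤ _) hl) ((le_sup_right : L' ≤ _) (hmem' l hl))
  · refine sup_le hLB ?_
    rw [hL']
    rintro _ ⟨l, hl, rfl⟩
    have h1 : (MulAut.conj a).toMonoidHom l = l⁻¹ * (l * (a * l * a⁻¹)) := by
      simp [mul_assoc]
    rw [h1]
    exact mul_mem (inv_mem (hLB hl)) (hJB (hjJ l hl))

end Cfsg.Agent.S1921
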