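import Cfsg.Statements.S1922
import Cfsg.Agent.H25.ClassSize

set_option autoImplicit false
open Cfsg

namespace Cfsg.Agent.S1922

open scoped Pointwise

/-- membership in a conjugate -/
theorem mem_conj {G : Type*} [Group G] (H : Subgroup G) (g x : G) :
    x ∈ H.map (MulAut.conj g).toMonoidHom ↔ g⁻¹ * x * g ∈ H := by
  constructor
  · rintro ⟨y, hy, rfl⟩
    have : g⁻¹ * (MulAut.conj g).toMonoidHom y * g = y := by
      simp [MulAut.conj_apply]; group
    rw [this]; exact hy
  · intro h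
    refine ⟨g⁻¹ * x * g, h, ?_⟩
    simp [MulAut.conj_apply]; group

theorem odd_aux {α : Type*} [Finite α] (f : Function.End α) (hf : f * f = 1) (a : α)
    (ha : ∀ x, f x = x ↔ x = a) : Odd (Nat.card α) := by
  classical
  haveI := Fintype.ofFinite α
  have h1 := Equiv.Perm.card_fixedPoints_modEq (α := α) (f := f) (p := 2)
    (n := 1) (by rw [pow_one, pow_two]; exact hf)
  have h2 : Fintype.card (Function.fixedPoints f) = 1 := by
    rw [Fintype.card_eq_one_iff]
    refine ⟨⟨a, (ha a).mpr rfl⟩, ?_⟩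
    rintro ⟨y, hy⟩
    exact Subtype.ext ((ha y).mp hy)
  simp only [← Nat.card_eq_fintype_card] at h1 h2
  rw [h2] at h1
  rw [Nat.odd_iff]
  exact h1

/-- a permutation that squares to one with exactly one fixed point: odd number of points -/
theorem odd_of_unique_fixed {α : Type*} [Finite α] (f : α → α) (hf : ∀ x, f (f x) = x) (a : α)
    (ha : ∀ x, f x = x ↔ x = a) : Odd (Nat.card α) :=
  odd_aux f (by funext x; exact hf x) a ha

section
variable {G : Type*} [Group G]

/-- In a dihedral group, powers times a generator are conjugate to one of the generators. -/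
theorem conj_pow_mul {z d : G} (hz : z * z = 1) (hd : d * d = 1) (n : ℕ) :
    (IsConj d ((d * z) ^ n * d) ∨ IsConj z ((d * z) ^ n * d)) := by
  have hd' : d⁻¹ = d := inv_eq_of_mul_eq_one_left hd
  have hz' : z⁻¹ = z := inv_eq_of_mul_eq_one_left hz
  have key : ∀ k : ℕ, (d * z) ^ k * d = d * ((d * z) ^ k)⁻¹ := by
    intro k
    have h1 : d * (d * z) ^ k * d⁻¹ = ((d * z) ^ k)⁻¹ := by
      rw [← conj_pow, ← inv_pow]
      congr 1
      rw [mul_inv_rev, hd', hz']
      calc d * (d * z) * d = (d * d) * z * d := by group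
        _ = z * d := by rw [hd, one_mul]
    rw [← h1, hd']
    calc (d * z) ^ k * d = 1 * (d * z) ^ k * d := by group
      _ = (d * d) * (d * z) ^ k * d := by rw [hd]
      _ = _ := by group
  rcases Nat.even_or_odd' n with ⟨k, hk | hk⟩
  · left
    rw [isConj_iff]
    refine ⟨(d * z) ^ k, ?_⟩
    rw [hk, two_mul, pow_add, mul_assoc, mul_assoc, ← key k]
  · right
    rw [isConj_iff]
    refine ⟨(d * z) ^ k * d, ?_⟩
    have hc : (d * z) ^ k * (d * z) = (d * z) * (d * z) ^ k := by rw [← pow_succ, ← pow_succ']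
    have hk' := key k
    rw [hk, two_mul, pow_succ, pow_add]
    generalize (d * z) ^ k = y at hc hk'
    calc y * d * z * (y * d)⁻¹ = y * (d * z) * (d⁻¹ * y⁻¹) := by group
      _ = y * (d * z) * (d * y⁻¹) := by rw [hd']
      _ = y * (d * z) * (y * d) := by rw [hk']
      _ = y * ((d * z) * y) * d := by group
      _ = y * (y * (d * z)) * d := by rw [hc]
      _ = y * y * (d * z) * d := by group

end

section Abs
variable {G : Type*} [Group G] [Finite G] {Ω : Type*} [Finite Ω] [MulAction G Ω]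
  [MulAction.IsPretransitive G Ω] {z : G} (hz : z * z = 1)
  (fp : {d : G // IsConj z d} → Ω)
  (hfp : ∀ (d : {d : G // IsConj z d}) (x : Ω), d.1 • x = x ↔ x = fp d)
  (hB : ∀ (d e : {d : G // IsConj z d}), d ≠ e → d.1 * e.1 = e.1 * d.1 →
    ∀ x : Ω, (d.1 * e.1) • x = x ↔ x = fp d)

theorem isConj_conj {G : Type*} [Group G] {z : G} (g : G) {d : G} (hd : IsConj z d) :
    IsConj z (g * d * g⁻¹) :=
  hd.trans (isConj_iff.mpr ⟨g, rfl⟩)

/-- conjugation on the class -/
def cj {G : Type*} [Group G] {z : G} (g : G) (d : {d : G // IsConj z d}) : {d : G // IsConj z d} :=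
  ⟨g * d.1 * g⁻¹, isConj_conj g d.2⟩

theorem sq_one {G : Type*} [Group G] {z : G} (hz : z * z = 1) (d : {d : G // IsConj z d}) :
    d.1 * d.1 = 1 := by
  obtain ⟨d, hd⟩ := d
  obtain ⟨g, rfl⟩ := isConj_iff.mp hd
  calc g * z * g⁻¹ * (g * z * g⁻¹) = g * (z * z) * g⁻¹ := by group
    _ = 1 := by rw [hz]; group

include hfp in
theorem fp_cj (g : G) (d : {d : G // IsConj z d}) : fp (cj g d) = g • fp d := by
  symm
  rw [← hfp]
  have h1 : d.1 • fp d = fp d := (hfp d _).mpr rfl
  show (g * d.1 * g⁻¹) • g • fp d = g • fp d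
  rw [smul_smul, mul_assoc, inv_mul_cancel, mul_one, mul_smul, h1]

include hfp in
theorem fp_comm (d e : {d : G // IsConj z d}) (h : d.1 * e.1 = e.1 * d.1) : fp d = fp e := by
  rw [← hfp]
  have h1 : d.1 • fp d = fp d := (hfp d _).mpr rfl
  rw [← hfp d, smul_smul, h, mul_smul, h1]

include hz hfp hB in
/-- products of members with different fixed points have odd order -/
theorem odd_prod (e : {d : G // IsConj z d}) (he : fp e ≠ fp ⟨z, IsConj.refl z⟩) :
    Odd (orderOf (z * e.1)) := by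
  rw [← Nat.not_even_iff_odd]
  rintro ⟨m, hm⟩
  set c := z * e.1 with hc
  have hee := sq_one hz e
  have hz' : z⁻¹ = z := inv_eq_of_mul_eq_one_left hz
  have he' : e.1⁻¹ = e.1 := inv_eq_of_mul_eq_one_left hee
  have hpos := orderOf_pos c
  have hm0 : 0 < m := by omega
  have hu2 : c ^ m * c ^ m = 1 := by rw [← pow_add, ← hm, pow_orderOf_eq_one]
  have hu1 : c ^ m ≠ 1 := by
    intro h
    have := orderOf_le_of_pow_eq_one hm0 h
    omega
  have hui : (c ^ m)⁻¹ = c ^ m := inv_eq_of_mul_eq_one_left hu2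
  have hzc : z * c ^ m * z⁻¹ = c ^ m := by
    rw [← conj_pow]
    have : z * c * z⁻¹ = c⁻¹ := by
      rw [hc, mul_inv_rev, he', hz', ← mul_assoc z z, hz, one_mul]
    rw [this, inv_pow, hui]
  have hzc' : z * c ^ m = c ^ m * z := by
    nth_rewrite 2 [← hzc]; group
  have hec : c ^ m * e.1 = e.1 * c ^ m := by
    have h1 : e.1 = z * c := by rw [hc, ← mul_assoc, hz, one_mul]
    have h2 : c ^ m * c = c * c ^ m := by rw [← pow_succ, ← pow_succ']
    calc c ^ m * e.1 = (c ^ m * z) * c := by rw [mul_assoc, ← h1]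
      _ = (z * c ^ m) * c := by rw [hzc']
      _ = z * (c ^ m * c) := by group
      _ = z * (c * c ^ m) := by rw [h2]
      _ = (z * c) * c ^ m := by group
      _ = e.1 * c ^ m := by rw [← h1]
  have hD : IsConj z (c ^ m * z) := by
    rcases conj_pow_mul (z := e.1) (d := z) hee hz m with h | h
    · exact h
    · exact e.2.trans h
  have h1 := hB ⟨z, IsConj.refl z⟩ ⟨c ^ m * z, hD⟩
    (by
      intro h
      have h2 : z = c ^ m * z := congrArg Subtype.val h
      exact hu1 (by simpa using h2.symm))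
    (by
      show z * (c ^ m * z) = c ^ m * z * z
      rw [← mul_assoc, hzc'])
  have h3 : z * (c ^ m * z) = c ^ m := by
    rw [← mul_assoc, hzc', mul_assoc, hz, mul_one]
  have h4 : (c ^ m) • fp e = fp e := by
    rw [← hfp, smul_smul, ← hec, mul_smul, (hfp e _).mpr rfl]
  have h5 := (h1 (fp e)).mp (by
    show (z * (c ^ m * z)) • fp e = fp e
    rw [h3, h4])
  exact he h5

include hz hfp hB in
theorem surj_aux (e : {d : G // IsConj z d}) (he : fp e ≠ fp ⟨z, IsConj.refl z⟩) :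
    ∃ d : {d : G // IsConj z d}, cj d.1 ⟨z, IsConj.refl z⟩ = e := by
  obtain ⟨j, hj⟩ := odd_prod hz fp hfp hB e he
  have hee := sq_one hz e
  have hz' : z⁻¹ = z := inv_eq_of_mul_eq_one_left hz
  have he' : e.1⁻¹ = e.1 := inv_eq_of_mul_eq_one_left hee
  set c := z * e.1 with hc
  have hD : IsConj z (c ^ j * z) := by
    rcases conj_pow_mul (z := e.1) (d := z) hee hz j with h | h
    · exact h
    · exact e.2.trans h
  refine ⟨⟨c ^ j * z, hD⟩, Subtype.ext ?_⟩
  show c ^ j * z * z * (c ^ j * z)⁻¹ = e.1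
  have h1 : z * c ^ j * z⁻¹ = (c ^ j)⁻¹ := by
    rw [← conj_pow, ← inv_pow]
    congr 1
    rw [hc, mul_inv_rev, he', hz', ← mul_assoc z z, hz, one_mul]
  have h2 : c ^ (2 * j + 1) = 1 := by rw [← hj, pow_orderOf_eq_one]
  have h3 : c ^ j * c ^ j = c⁻¹ := by
    rw [← pow_add, ← two_mul]
    exact (eq_inv_of_mul_eq_one_left (by rw [← pow_succ, h2]))
  have h4 : z⁻¹ * (c ^ j)⁻¹ = c ^ j * z⁻¹ := by
    rw [← h1]; group
  calc c ^ j * z * z * (c ^ j * z)⁻¹ = c ^ j * (z * z) * (z⁻¹ * (c ^ j)⁻¹) := by group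
    _ = c ^ j * c ^ j * z⁻¹ := by rw [hz, h4]; group
    _ = e.1⁻¹ * (z * z)⁻¹ := by rw [h3, hc]; group
    _ = e.1 := by rw [hz, inv_one, mul_one, he']

/-- the map `d ↦ d z d⁻¹` on the members moving the base point -/
def fX (d : {d : {d : G // IsConj z d} // fp d ≠ fp ⟨z, IsConj.refl z⟩}) :
    {d : {d : G // IsConj z d} // fp d ≠ fp ⟨z, IsConj.refl z⟩} :=
  ⟨cj d.1.1 ⟨z, IsConj.refl z⟩, by
    rw [fp_cj fp hfp]
    intro h
    have h1 := (hfp d.1 _).mp h
    exact d.2 h1.symm⟩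

include hz hfp hB in
theorem fX_bij : Function.Bijective (fX fp hfp) := by
  have hs : Function.Surjective (fX fp hfp) := by
    rintro ⟨e, he⟩
    obtain ⟨d, hd⟩ := surj_aux hz fp hfp hB e he
    refine ⟨⟨d, ?_⟩, Subtype.ext hd⟩
    intro h
    apply he
    rw [← hd, fp_cj fp hfp, (hfp d _).mpr h.symm]
  exact ⟨Finite.injective_iff_surjective.mpr hs, hs⟩

include hz hfp hB in
theorem card_eq (β : Ω) (hβ : β ≠ fp ⟨z, IsConj.refl z⟩) :
    Nat.card {d : {d : G // IsConj z d} // d.1 • fp ⟨z, IsConj.refl z⟩ = β} =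
      Nat.card {d : {d : G // IsConj z d} // fp d = β} := by
  have hb := fX_bij hz fp hfp hB
  refine Nat.card_congr (Equiv.ofBijective
    (fun d => ⟨cj d.1.1 ⟨z, IsConj.refl z⟩, by rw [fp_cj fp hfp]; exact d.2⟩) ⟨?_, ?_⟩)
  · rintro ⟨d, hd⟩ ⟨e, he⟩ hde
    have h1 : cj d.1 ⟨z, IsConj.refl z⟩ = cj e.1 ⟨z, IsConj.refl z⟩ := congrArg Subtype.val hde
    have hd' : fp d ≠ fp ⟨z, IsConj.refl z⟩ := by
      intro h; apply hβ; rw [← hd, (hfp d _).mpr h.symm]
    have he' : fp e ≠ fp ⟨z, IsConj.refl z⟩ := by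
      intro h; apply hβ; rw [← he, (hfp e _).mpr h.symm]
    have h2 := @hb.1 ⟨d, hd'⟩ ⟨e, he'⟩ (Subtype.ext h1)
    exact Subtype.ext (congrArg (fun x => x.1) h2)
  · rintro ⟨e, he⟩
    have he' : fp e ≠ fp ⟨z, IsConj.refl z⟩ := by rw [he]; exact hβ
    obtain ⟨d, hd⟩ := surj_aux hz fp hfp hB e he'
    refine ⟨⟨d, ?_⟩, Subtype.ext hd⟩
    rw [← he, ← hd, fp_cj fp hfp]

include hz hfp hB in
theorem odd_fiber_ne (β : Ω) (hβ : β ≠ fp ⟨z, IsConj.refl z⟩) :
    Odd (Nat.card {d : {d : G // IsConj z d} // fp d = β}) := by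
  rw [← card_eq hz fp hfp hB β hβ]
  obtain ⟨g, hg⟩ := MulAction.exists_smul_eq G (fp ⟨z, IsConj.refl z⟩) β
  obtain ⟨d₀, hd₀⟩ := surj_aux hz fp hfp hB (cj g ⟨z, IsConj.refl z⟩)
    (by rw [fp_cj fp hfp, hg]; exact hβ)
  have h0 : d₀.1 • fp ⟨z, IsConj.refl z⟩ = β := by
    rw [← hg, ← fp_cj fp hfp g, ← hd₀, fp_cj fp hfp]
  have hdd := sq_one hz d₀
  have hinv : ∀ d : {d : G // IsConj z d}, d.1 • fp ⟨z, IsConj.refl z⟩ = β →
      d.1 • β = fp ⟨z, IsConj.refl z⟩ := by
    intro d hd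
    rw [← hd, smul_smul, sq_one hz d, one_smul]
  refine odd_of_unique_fixed
    (fun d => ⟨cj d₀.1 d.1, by
      show (d₀.1 * d.1.1 * d₀.1⁻¹) • _ = β
      rw [inv_eq_of_mul_eq_one_left hdd, mul_smul, mul_smul, h0, hinv d.1 d.2, h0]⟩)
    ?_ ⟨d₀, h0⟩ ?_
  · rintro ⟨d, hd⟩
    apply Subtype.ext
    apply Subtype.ext
    show d₀.1 * (d₀.1 * d.1 * d₀.1⁻¹) * d₀.1⁻¹ = d.1
    calc d₀.1 * (d₀.1 * d.1 * d₀.1⁻¹) * d₀.1⁻¹ = (d₀.1 * d₀.1) * d.1 * (d₀.1 * d₀.1)⁻¹ := by group
      _ = d.1 := by rw [hdd]; group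
  · rintro ⟨d, hd⟩
    constructor
    · intro h
      have h1 : d₀.1 * d.1 * d₀.1⁻¹ = d.1 := congrArg (fun x => x.1.1) h
      have h2 : d₀.1 * d.1 = d.1 * d₀.1 := by
        nth_rewrite 2 [← h1]; group
      by_contra hne
      have hne' : d₀ ≠ d := fun h3 => hne (Subtype.ext h3.symm)
      have h3 := (hB d₀ d hne' h2 (fp ⟨z, IsConj.refl z⟩)).mp (by
        rw [mul_smul, hd, hinv d₀ h0])
      apply hβ
      rw [← h0, (hfp d₀ _).mpr h3]
    · intro h
      have h1 : d = d₀ := congrArg Subtype.val h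
      subst h1
      apply Subtype.ext
      apply Subtype.ext
      show d.1 * d.1 * d.1⁻¹ = d.1
      group

include hz hfp hB in
theorem odd_fiber (hne : ∃ β : Ω, β ≠ fp ⟨z, IsConj.refl z⟩) (β : Ω) :
    Odd (Nat.card {d : {d : G // IsConj z d} // fp d = β}) := by
  by_cases hβ : β = fp ⟨z, IsConj.refl z⟩
  · obtain ⟨γ, hγ⟩ := hne
    have h1 := odd_fiber_ne hz fp hfp hB γ hγ
    obtain ⟨g, hg⟩ := MulAction.exists_smul_eq G β γ
    have h2 : Nat.card {d : {d : G // IsConj z d} // fp d = β} =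
        Nat.card {d : {d : G // IsConj z d} // fp d = γ} := by
      refine Nat.card_congr ⟨fun d => ⟨cj g d.1, by rw [fp_cj fp hfp, d.2, hg]⟩,
        fun d => ⟨cj g⁻¹ d.1, by rw [fp_cj fp hfp, d.2, ← hg, inv_smul_smul]⟩, ?_, ?_⟩
      · rintro ⟨d, hd⟩
        apply Subtype.ext
        apply Subtype.ext
        show g⁻¹ * (g * d.1 * g⁻¹) * g⁻¹⁻¹ = d.1
        group
      · rintro ⟨d, hd⟩
        apply Subtype.ext
        apply Subtype.ext
        show g * (g⁻¹ * d.1 * g⁻¹⁻¹) * g⁻¹ = d.1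
        group
    rw [h2]; exact h1
  · exact odd_fiber_ne hz fp hfp hB β hβ

include hz hfp hB in
theorem odd_class (hne : ∃ β : Ω, β ≠ fp ⟨z, IsConj.refl z⟩) :
    Odd (Nat.card {d : G // IsConj z d}) := by
  classical
  haveI := Fintype.ofFinite Ω
  rw [Nat.card_congr (Equiv.sigmaFiberEquiv fp).symm, Nat.card_sigma,
    Finset.odd_sum_iff_odd_card_odd]
  have h1 : Finset.filter (fun x => Odd (Nat.card {d : {d : G // IsConj z d} // fp d = x}))
      Finset.univ = Finset.univ := by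
    ext x
    simp only [Finset.mem_filter, Finset.mem_univ, true_and, iff_true]
    exact odd_fiber hz fp hfp hB hne x
  rw [h1, Finset.card_univ, ← Nat.card_eq_fintype_card]
  refine odd_of_unique_fixed (fun x : Ω => z • x) (fun x => ?_) (fp ⟨z, IsConj.refl z⟩)
    (fun x => hfp ⟨z, IsConj.refl z⟩ x)
  show z • z • x = x
  rw [smul_smul, hz, one_smul]

end Abs

section Main
variable {G : Type*} [Group G] {z : G} {H : Subgroup G}
    (h0 : ∀ g : G, g⁻¹ * z * g ∈ H ↔ g ∈ H)

include h0 in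
theorem z_mem : z ∈ H := by
  have := (h0 1).mpr H.one_mem
  simpa using this

include h0 in
theorem cent_le : ∀ c : G, c * z = z * c → c ∈ H := by
  intro c hc
  apply (h0 c).mp
  have : c⁻¹ * z * c = z := by rw [mul_assoc, ← hc]; group
  rw [this]; exact z_mem h0

theorem smul_eq_iff (H : Subgroup G) (d x : G) :
    d • (x : G ⧸ H) = x ↔ x⁻¹ * d * x ∈ H := by
  rw [eq_comm, MulAction.Quotient.smul_coe, QuotientGroup.eq, smul_eq_mul, mul_assoc]

include h0 in
/-- the conjugate `g z g⁻¹` fixes exactly the point `gH` -/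
theorem fix_iff (g : G) (x : G ⧸ H) : (g * z * g⁻¹) • x = x ↔ x = (g : G ⧸ H) := by
  obtain ⟨x, rfl⟩ := QuotientGroup.mk_surjective x
  rw [smul_eq_iff, eq_comm, QuotientGroup.eq, ← h0 (g⁻¹ * x)]
  have : (g⁻¹ * x)⁻¹ * z * (g⁻¹ * x) = x⁻¹ * (g * z * g⁻¹) * x := by group
  rw [this]

/-- odd class size gives centrality in a Sylow subgroup -/
theorem central_of_odd [Finite G] (hz : orderOf z = 2) (hodd : Odd (Nat.card {d : G // IsConj z d})) :
    ∃ P : Sylow 2 G, z ∈ (Subgroup.center ↥(P : Subgroup G)).map (P : Subgroup G).subtype := by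
  set C := Subgroup.centralizer ({z} : Set G) with hC
  have hodd' : Odd C.index := by rw [← Cfsg.Agent.H25.card_conj_eq_index]; exact hodd
  have hzC : z ∈ C := by rw [hC, Subgroup.mem_centralizer_singleton_iff]
  have hp : IsPGroup 2 (Subgroup.zpowers (⟨z, hzC⟩ : C)) := by
    apply IsPGroup.of_card (n := 1)
    rw [Nat.card_zpowers, pow_one, ← hz, Subgroup.orderOf_mk]
  obtain ⟨R, hR⟩ := hp.exists_le_sylow
  have hRp : IsPGroup 2 ((R : Subgroup C).map C.subtype) := R.isPGroup'.map _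
  have hRi : ¬ 2 ∣ ((R : Subgroup C).map C.subtype).index := by
    rw [Subgroup.index_map_subtype]
    intro h
    rcases (Nat.Prime.dvd_mul Nat.prime_two).mp h with h | h
    · exact R.not_dvd_index h
    · exact (Nat.not_even_iff_odd.mpr hodd') (even_iff_two_dvd.mpr h)
  refine ⟨hRp.toSylow hRi, ?_⟩
  have hzR : z ∈ (R : Subgroup C).map C.subtype :=
    ⟨⟨z, hzC⟩, hR (Subgroup.mem_zpowers _), rfl⟩
  refine ⟨⟨z, hzR⟩, ?_, rfl⟩
  rw [SetLike.mem_coe, Subgroup.mem_center_iff]
  rintro ⟨q, ⟨c, hc, hcq⟩⟩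
  apply Subtype.ext
  show q * z = z * q
  rw [← hcq]
  exact Subgroup.mem_centralizer_singleton_iff.mp c.2

end Main

/-- Let z be an involution of a finite group G and H a proper subgroup such that z lies in gHg⁻¹ exactly when g ∈ H. Then the following are equivalent: (1) for every conjugate t ≠ z of z commuting with z, the product zt lies in gHg⁻¹ exactly when g ∈ H; (2) z lies in the centre of some Sylow 2-subgroup of G, and for every conjugate t ≠ z of z commuting with z, the centralizer of zt is contained in H. -/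
theorem result {G : Type*} [Group G] [Finite G] (z : G) (hz : orderOf z = 2) (H : Subgroup G) (hH : H ≠ ⊤)
    (h0 : ∀ g : G, z ∈ H.map (MulAut.conj g).toMonoidHom ↔ g ∈ H) :
    (∀ t : G, IsConj z t → t ≠ z → t * z = z * t → ∀ g : G, z * t ∈ H.map (MulAut.conj g).toMonoidHom ↔ g ∈ H) ↔
      ((∃ P : Sylow 2 G, z ∈ (Subgroup.center ↥(P : Subgroup G)).map (P : Subgroup G).subtype) ∧
        ∀ t : G, IsConj z t → t ≠ z → t * z = z * t → Subgroup.centralizer ({z * t} : Set G) ≤ H) := by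
  have hzz : z * z = 1 := by rw [← pow_two, ← hz, pow_orderOf_eq_one]
  have hz' : z⁻¹ = z := inv_eq_of_mul_eq_one_left hzz
  simp only [mem_conj] at h0 ⊢
  constructor
  · intro h1
    refine ⟨?_, ?_⟩
    · apply central_of_odd hz
      have hfp : ∀ d : {d : G // IsConj z d}, ∃ ω : G ⧸ H, ∀ x : G ⧸ H, d.1 • x = x ↔ x = ω := by
        rintro ⟨d, hd⟩
        obtain ⟨g, rfl⟩ := isConj_iff.mp hd
        exact ⟨(g : G ⧸ H), fun x => fix_iff h0 g x⟩
      choose fp hfp using hfp
      refine odd_class hzz fp hfp ?_ ?_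
      · rintro ⟨d, hd⟩ e hne hde x
        obtain ⟨g, rfl⟩ := isConj_iff.mp hd
        have h2 : fp ⟨g * z * g⁻¹, hd⟩ = (g : G ⧸ H) :=
          (fix_iff h0 g _).mp ((hfp ⟨g * z * g⁻¹, hd⟩ _).mpr rfl)
        rw [h2]
        obtain ⟨x, rfl⟩ := QuotientGroup.mk_surjective x
        have h3 := h1 (g⁻¹ * e.1 * g)
          (e.2.trans (isConj_iff.mpr ⟨g⁻¹, by group⟩))
          (by
            intro h
            apply hne
            apply Subtype.ext
            show g * z * g⁻¹ = e.1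
            calc g * z * g⁻¹ = g * (g⁻¹ * e.1 * g) * g⁻¹ :=
                  congrArg (fun y => g * y * g⁻¹) h.symm
              _ = e.1 := by group)
          (by
            have h4 : g * z * g⁻¹ * e.1 = e.1 * (g * z * g⁻¹) := hde
            calc g⁻¹ * e.1 * g * z = g⁻¹ * (e.1 * (g * z * g⁻¹)) * g := by group
              _ = g⁻¹ * (g * z * g⁻¹ * e.1) * g := by rw [h4]
              _ = _ := by group)
          (g⁻¹ * x)
        show (g * z * g⁻¹ * e.1) • (x : G ⧸ H) = x ↔ _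
        rw [smul_eq_iff, eq_comm (a := (x : G ⧸ H)), QuotientGroup.eq, ← h3]
        have h5 : (g⁻¹ * x)⁻¹ * (z * (g⁻¹ * e.1 * g)) * (g⁻¹ * x) =
            x⁻¹ * (g * z * g⁻¹ * e.1) * x := by group
        rw [h5]
      · by_contra hcon
        push_neg at hcon
        apply hH
        rw [eq_top_iff]
        intro g _
        have h2 := (hcon ((1 : G) : G ⧸ H)).trans (hcon (g : G ⧸ H)).symm
        rw [QuotientGroup.eq] at h2
        simpa using h2
    · intro t ht htz htc c hc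
      rw [Subgroup.mem_centralizer_singleton_iff] at hc
      have h2 := h1 t ht htz htc
      apply (h2 c).mp
      have h3 : c⁻¹ * (z * t) * c = z * t := by rw [mul_assoc, ← hc]; group
      rw [h3]
      have h4 := (h2 1).mpr H.one_mem
      simpa using h4
  · rintro ⟨⟨P, hP⟩, h2⟩ t ht htz htc g
    have hzt : (z * t) * (z * t) = 1 := by
      have htt := sq_one hzz ⟨t, ht⟩
      calc (z * t) * (z * t) = z * (t * z) * t := by group
        _ = (z * z) * (t * t) := by rw [htc]; group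
        _ = 1 := by rw [hzz, htt, one_mul]
    constructor
    · intro hw
      obtain ⟨z', hz'c, hz'z⟩ := hP
      have hcomm : ∀ q ∈ (P : Subgroup G), q * z = z * q := by
        intro q hq
        have h3 := Subgroup.mem_center_iff.mp hz'c ⟨q, hq⟩
        have h4 := congrArg Subtype.val h3
        rw [← hz'z]
        exact h4
      have hPH : (P : Subgroup G) ≤ H := fun q hq => cent_le h0 q (hcomm q hq)
      set w : H := ⟨g⁻¹ * (z * t) * g, hw⟩ with hwdef
      have hww : w ^ 2 = 1 := by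
        apply Subtype.ext
        show (g⁻¹ * (z * t) * g) ^ 2 = 1
        rw [pow_two]
        calc g⁻¹ * (z * t) * g * (g⁻¹ * (z * t) * g) = g⁻¹ * ((z * t) * (z * t)) * g := by group
          _ = 1 := by rw [hzt]; group
      have hwp : IsPGroup 2 (Subgroup.zpowers w) := by
        rw [IsPGroup.iff_orderOf]
        rintro ⟨v, hv⟩
        obtain ⟨k, rfl⟩ := Subgroup.mem_zpowers_iff.mp hv
        have h3 : orderOf (⟨w ^ k, hv⟩ : Subgroup.zpowers w) ∣ 2 ^ 1 := by
          rw [Subgroup.orderOf_mk]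
          apply orderOf_dvd_of_pow_eq_one
          rw [pow_one, ← zpow_natCast, ← zpow_mul, mul_comm, zpow_mul, zpow_natCast, hww,
            one_zpow]
        obtain ⟨m, -, hm⟩ := (Nat.dvd_prime_pow Nat.prime_two).mp h3
        exact ⟨m, hm⟩
      obtain ⟨Q, hQ⟩ := hwp.exists_le_sylow
      obtain ⟨h, hh⟩ := MulAction.exists_smul_eq H (P.subtype hPH) Q
      have hwQ : w ∈ (Q : Subgroup H) := hQ (Subgroup.mem_zpowers w)
      rw [← hh] at hwQ
      have h5 : h⁻¹ * w * h ∈ (P.subtype hPH : Subgroup H) := by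
        rw [Sylow.coe_subgroup_smul, Subgroup.mem_pointwise_smul_iff_inv_smul_mem] at hwQ
        simpa [MulAut.smul_def, ← map_inv, MulAut.conj_apply] using hwQ
      have h6 : (h : G)⁻¹ * (g⁻¹ * (z * t) * g) * h ∈ (P : Subgroup G) := h5
      have h7 := hcomm _ h6
      have h8 : (g * h) * z * (g * h)⁻¹ ∈ Subgroup.centralizer ({z * t} : Set G) := by
        rw [Subgroup.mem_centralizer_singleton_iff]
        have e1 : g * (h : G) * z * (g * h)⁻¹ * (z * t) =
            (g * h) * (z * ((h : G)⁻¹ * (g⁻¹ * (z * t) * g) * h)) * (g * h)⁻¹ := by group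
        have e2 : z * t * (g * (h : G) * z * (g * h)⁻¹) =
            (g * h) * (((h : G)⁻¹ * (g⁻¹ * (z * t) * g) * h) * z) * (g * h)⁻¹ := by group
        rw [e1, e2, h7]
      have h9 := h2 t ht htz htc h8
      have h10 := (h0 (g * (h : G))⁻¹).mp (by simpa using h9)
      have h11 : g = (g * h) * (h : G)⁻¹ := by group
      rw [h11]
      exact H.mul_mem (by simpa using H.inv_mem h10) (H.inv_mem h.2)
    · intro hg
      have h3 : z * t ∈ H := H.mul_mem (z_mem h0) (cent_le h0 t htc)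
      exact H.mul_mem (H.mul_mem (H.inv_mem hg) h3) hg

end Cfsg.Agent.S1922
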