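import Cfsg.Statements.S1944
import Cfsg.Agent.S1907

set_option autoImplicit false
open Cfsg

namespace Cfsg.Agent.S1944

open Cfsg.Agent.L

theorem trace_split {G : Type*} [Group G] [Finite G] {A N S : Subgroup G}
    (hA : ∀ a ∈ A, ∀ b ∈ A, a * b = b * a) (hNA : N ≤ nz A) (hSN : S ≤ N)
    (hcop : (Nat.card A).Coprime (S.relIndex N)) :
    ∃ K : Subgroup G, K ≤ A ⊓ Subgroup.centralizer (S : Set G) ∧
      (A ⊓ Subgroup.centralizer (N : Set G)) ⊓ K = ⊥ ∧
      (A ⊓ Subgroup.centralizer (N : Set G)) ⊔ K = A ⊓ Subgroup.centralizer (S : Set G) := by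
  classical
  letI : CommGroup A := { (inferInstance : Group A) with
    mul_comm := fun a b => Subtype.ext (hA a a.2 b b.2) }
  haveI : Fintype (N ⧸ S.subgroupOf N) := Fintype.ofFinite _
  obtain ⟨c, hc⟩ : ∃ c : N → (A →* A), ∀ n a, ((c n a : A) : G) = n * a * (n : G)⁻¹ := by
    refine ⟨fun n =>
      { toFun := fun a => ⟨n * a * (n : G)⁻¹, (Subgroup.mem_normalizer_iff.1 (hNA n.2) a).1 a.2⟩
        map_one' := by apply Subtype.ext; simp
        map_mul' := fun a b => by
          apply Subtype.ext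
          show (n : G) * ((a : G) * b) * (n : G)⁻¹ = (n * a * (n : G)⁻¹) * (n * b * (n : G)⁻¹)
          group }, fun n a => rfl⟩
  have hcc : ∀ n m a, c n (c m a) = c (n * m) a := by
    intro n m a
    apply Subtype.ext
    rw [hc, hc, hc, Subgroup.coe_mul]; group
  obtain ⟨φ, hφ⟩ : ∃ φ : A →* A, φ = ∏ q : N ⧸ S.subgroupOf N, c q.out := ⟨_, rfl⟩
  have hφa : ∀ a, φ a = ∏ q : N ⧸ S.subgroupOf N, c q.out a := by
    intro a; rw [hφ, MonoidHom.finsetProd_apply]
  have hcos : ∀ (a : A), (a : G) ∈ Subgroup.centralizer (S : Set G) → ∀ g g' : N,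
      (g : N ⧸ S.subgroupOf N) = g' → c g a = c g' a := by
    intro a ha g g' h
    rw [QuotientGroup.eq, Subgroup.mem_subgroupOf] at h
    have h1 := Subgroup.mem_centralizer_iff.1 ha _ h
    apply Subtype.ext
    rw [hc, hc]
    have h2 : (g' : G) = g * ((g⁻¹ * g' : N) : G) := by
      rw [Subgroup.coe_mul, Subgroup.coe_inv]; group
    rw [h2]
    generalize ((g⁻¹ * g' : N) : G) = s at h1
    calc (g : G) * a * (g : G)⁻¹ = g * (a * s) * s⁻¹ * (g : G)⁻¹ := by group
      _ = g * (s * a) * s⁻¹ * (g : G)⁻¹ := by rw [h1]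
      _ = g * s * a * (g * s)⁻¹ := by group
  have hinv : ∀ (a : A), (a : G) ∈ Subgroup.centralizer (S : Set G) →
      ((φ a : A) : G) ∈ Subgroup.centralizer (N : Set G) := by
    intro a ha
    rw [Subgroup.mem_centralizer_iff]
    intro n hn
    have h1 : c ⟨n, hn⟩ (φ a) = φ a := by
      rw [hφa, map_prod]
      refine Fintype.prod_equiv (MulAction.toPerm (⟨n, hn⟩ : N)) _ _ (fun q => ?_)
      rw [hcc]
      apply hcos a ha
      rw [MulAction.toPerm_apply, QuotientGroup.out_eq', ← smul_eq_mul, ← MulAction.Quotient.smul_coe,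
        QuotientGroup.out_eq']
    have h2 := congrArg Subtype.val h1
    rw [hc] at h2
    have h3 : n * (φ a : A) * n⁻¹ = ((φ a : A) : G) := h2
    calc n * ((φ a : A) : G) = (n * (φ a : A) * n⁻¹) * n := by group
      _ = _ := by rw [h3]
  have hpow : ∀ (a : A), (a : G) ∈ Subgroup.centralizer (N : Set G) → φ a = a ^ S.relIndex N := by
    intro a ha
    have h1 : ∀ n : N, c n a = a := by
      intro n
      apply Subtype.ext
      rw [hc, Subgroup.mem_centralizer_iff.1 ha n n.2]; group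
    rw [hφa]
    simp only [h1, Finset.prod_const, Finset.card_univ]
    rw [← Nat.card_eq_fintype_card]; rfl
  obtain ⟨W, hW⟩ : ∃ W, W = A ⊓ Subgroup.centralizer (N : Set G) := ⟨_, rfl⟩
  have hWle : W ≤ A ⊓ Subgroup.centralizer (S : Set G) := by
    rw [hW]; exact inf_le_inf_left _ (Subgroup.centralizer_le hSN)
  rw [← hW]
  refine ⟨φ.ker.map A.subtype ⊓ Subgroup.centralizer (S : Set G), ?_, ?_, ?_⟩
  · exact inf_le_inf_right _ (Subgroup.map_subtype_le _)
  · rw [eq_bot_iff]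
    intro x hx
    obtain ⟨hx1, hx2⟩ := Subgroup.mem_inf.1 hx
    obtain ⟨hx3, -⟩ := Subgroup.mem_inf.1 hx2
    obtain ⟨a, ha, rfl⟩ := hx3
    rw [hW] at hx1
    have h1 := hpow a (Subgroup.mem_inf.1 hx1).2
    rw [SetLike.mem_coe, MonoidHom.mem_ker] at ha
    rw [ha] at h1
    have h2 : a = 1 := by
      rw [← orderOf_eq_one_iff]
      exact Nat.eq_one_of_dvd_coprimes hcop (orderOf_dvd_natCard a) (orderOf_dvd_of_pow_eq_one h1.symm)
    rw [h2]; exact one_mem _
  · apply le_antisymm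
    · refine sup_le hWle ?_
      exact inf_le_inf_right _ (Subgroup.map_subtype_le _)
    · intro x hx
      obtain ⟨hxA, hxS⟩ := Subgroup.mem_inf.1 hx
      have hWcop : (Nat.card W).Coprime (S.relIndex N) :=
        Nat.Coprime.coprime_dvd_left (Subgroup.card_dvd_of_le (by rw [hW]; exact inf_le_left)) hcop
      have hφW : ((φ ⟨x, hxA⟩ : A) : G) ∈ W := by
        rw [hW]
        exact Subgroup.mem_inf.2 ⟨(φ ⟨x, hxA⟩ : A).2, hinv ⟨x, hxA⟩ hxS⟩
      obtain ⟨w, hw⟩ := (powCoprime hWcop).surjective ⟨_, hφW⟩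
      have hw' : ((w : W) : G) ^ S.relIndex N = ((φ ⟨x, hxA⟩ : A) : G) := by
        have := congrArg Subtype.val hw
        simpa [powCoprime] using this
      have hwA : (w : G) ∈ A ⊓ Subgroup.centralizer (N : Set G) := by rw [← hW]; exact w.2
      have h1 : φ ⟨w, (Subgroup.mem_inf.1 hwA).1⟩ = φ ⟨x, hxA⟩ := by
        rw [hpow _ (Subgroup.mem_inf.1 hwA).2]
        exact Subtype.ext hw'
      have h2 : x = w * ((w : G)⁻¹ * x) := by group
      rw [h2]
      refine mul_mem (Subgroup.mem_sup_left w.2) (Subgroup.mem_sup_right (Subgroup.mem_inf.2 ⟨?_, ?_⟩))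
      · refine ⟨(⟨w, (Subgroup.mem_inf.1 hwA).1⟩ : A)⁻¹ * ⟨x, hxA⟩, ?_, rfl⟩
        rw [SetLike.mem_coe, MonoidHom.mem_ker, map_mul, map_inv, h1, inv_mul_cancel]
      · exact mul_mem (inv_mem (Subgroup.mem_inf.1 (hWle w.2)).2) hxS

/-- Let S be a Sylow p-subgroup of the finite group G and suppose that the centre Z(S) lies in O_{p',p}(G). The elements of S each of which is its only G-conjugate in S form a subgroup W of Z(S); W is then a direct factor of Z(S): there is a subgroup K of Z(S) with W ∩ K = 1 and WK = Z(S). -/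
theorem result {G : Type*} [Group G] [Finite G] {p : ℕ} [Fact p.Prime] (S : Sylow p G)
    (hZ : ((S : Subgroup G) ⊓ Subgroup.centralizer ((S : Subgroup G) : Set G)) ≤ Cfsg.pPrimePCore p G) :
    ∃ W K : Subgroup G, (∀ x : G, x ∈ W ↔ (x ∈ (S : Subgroup G) ∧ ∀ g : G, g * x * g⁻¹ ∈ (S : Subgroup G) → g * x * g⁻¹ = x)) ∧
      K ≤ ((S : Subgroup G) ⊓ Subgroup.centralizer ((S : Subgroup G) : Set G)) ∧ W ⊓ K = ⊥ ∧ W ⊔ K = ((S : Subgroup G) ⊓ Subgroup.centralizer ((S : Subgroup G) : Set G)) := by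
  obtain ⟨H, hH⟩ : ∃ H, H = (S : Subgroup G) ⊓ Cfsg.pPrimePCore p G := ⟨_, rfl⟩
  obtain ⟨N, hN⟩ : ∃ N, N = Subgroup.normalizer (H : Set G) := ⟨_, rfl⟩
  have hN' : nz H = N := hN.symm
  have hfus := (S1907.result S).2
  rw [← hH, ← hN] at hfus
  obtain ⟨A, hA⟩ : ∃ A, A = H ⊓ Subgroup.centralizer (H : Set G) := ⟨_, rfl⟩
  haveI hRn := H10.pPrimePCore_normal p G
  have hHS : H ≤ (S : Subgroup G) := by rw [hH]; exact inf_le_left
  have hSN : (S : Subgroup G) ≤ N := by
    intro x hx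
    rw [← hN', mem_nz_iff, hH, cj_inf, cj_eq_self_of_mem hx]
    congr 1
    apply mem_nz_iff.1
    have : nz (Cfsg.pPrimePCore p G) = ⊤ := Subgroup.normalizer_eq_top_iff.2 hRn
    rw [this]; exact Subgroup.mem_top _
  have hNA : N ≤ nz A := by
    intro n hn
    rw [← hN'] at hn
    rw [mem_nz_iff, hA, cj_inf, mem_nz_iff.1 hn, mem_nz_iff.1 (nz_le_nz_cent H hn)]
  have hZA : (S : Subgroup G) ⊓ Subgroup.centralizer ((S : Subgroup G) : Set G) =
      A ⊓ Subgroup.centralizer ((S : Subgroup G) : Set G) := by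
    apply le_antisymm
    · refine le_inf ?_ inf_le_right
      rw [hA]
      refine le_inf ?_ (inf_le_right.trans (Subgroup.centralizer_le hHS))
      rw [hH]
      exact le_inf inf_le_left hZ
    · refine inf_le_inf_right _ ?_
      rw [hA]; exact inf_le_left.trans hHS
  have hAS : A ≤ (S : Subgroup G) := by rw [hA]; exact inf_le_left.trans hHS
  have hSs : SylIn p (S : Subgroup G) N := (sylIn_top S).of_le hSN le_top
  obtain ⟨K, hK1, hK2, hK3⟩ := trace_split (A := A) (N := N) (S := (S : Subgroup G)) (by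
      intro a ha b hb
      rw [hA] at ha hb
      exact Subgroup.mem_centralizer_iff.1 hb.2 a ha.1) hNA hSN (by
      obtain ⟨n, hn⟩ := IsPGroup.iff_card.1 (S.2.to_le hAS)
      rw [hn]
      exact ((Nat.Prime.coprime_iff_not_dvd (Fact.out : p.Prime)).2 hSs.not_dvd).pow_left n)
  rw [hZA]
  refine ⟨A ⊓ Subgroup.centralizer (N : Set G), K, ?_, hK1, hK2, hK3⟩
  intro x
  constructor
  · intro hx
    obtain ⟨hxA, hxN⟩ := Subgroup.mem_inf.1 hx
    refine ⟨hAS hxA, fun g hg => ?_⟩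
    obtain ⟨n, hn, hng⟩ := hfus x (g * x * g⁻¹) (hAS hxA) hg (isConj_iff.2 ⟨g, rfl⟩)
    rw [← hng, Subgroup.mem_centralizer_iff.1 hxN n hn]; group
  · rintro ⟨hxS, hx⟩
    have hxC : x ∈ Subgroup.centralizer ((S : Subgroup G) : Set G) := by
      rw [Subgroup.mem_centralizer_iff]
      intro s hs
      have h1 := hx s (mul_mem (mul_mem hs hxS) (inv_mem hs))
      calc s * x = (s * x * s⁻¹) * s := by group
        _ = x * s := by rw [h1]
    have hxA : x ∈ A := by
      have : x ∈ A ⊓ Subgroup.centralizer ((S : Subgroup G) : Set G) := by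
        rw [← hZA]; exact Subgroup.mem_inf.2 ⟨hxS, hxC⟩
      exact this.1
    refine Subgroup.mem_inf.2 ⟨hxA, ?_⟩
    rw [Subgroup.mem_centralizer_iff]
    intro n hn
    have h1 := hx n (hAS ((Subgroup.mem_normalizer_iff.1 (hNA hn) x).1 hxA))
    calc n * x = (n * x * n⁻¹) * n := by group
      _ = x * n := by rw [h1]

end Cfsg.Agent.S1944
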