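import Cfsg.Statements.S1945
import Cfsg.Agent.S5295
import Cfsg.Agent.S1944
import Cfsg.Agent.H28.FusGroup
import Cfsg.Agent.H23.PSolvable
import Cfsg.Agent.H1.Coprime2

set_option autoImplicit false
open Cfsg

namespace Cfsg.Agent.S1945

open Cfsg.Agent.H28 in
theorem odd_case {G : Type*} [Group G] [Finite G] {p : ℕ} [Fact p.Prime] (S : Sylow p G) (h : p ≠ 2) :
    ∃ W K : Subgroup G, (∀ x : G, x ∈ W ↔ (x ∈ (S : Subgroup G) ∧ ∀ g : G, g * x * g⁻¹ ∈ (S : Subgroup G) → g * x * g⁻¹ = x)) ∧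
      K ≤ ((S : Subgroup G) ⊓ Subgroup.centralizer ((S : Subgroup G) : Set G)) ∧ W ⊓ K = ⊥ ∧ W ⊔ K = ((S : Subgroup G) ⊓ Subgroup.centralizer ((S : Subgroup G) : Set G)) := by
  have hF := group_saturated S
  obtain ⟨K, h1, h2, h3⟩ := S5295.result p h S.2 _ hF
  refine ⟨_, K, ?_, h1, h2, h3⟩
  intro x
  constructor
  · intro hx
    have hxS : x ∈ (S : Subgroup G) := center_le' hx
    refine ⟨hxS, fun g hg => ?_⟩
    have hm : Mor (Cfsg.groupFusionSystem (S : Subgroup G)) (Subgroup.zpowers x)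
        (fun y => g * y * g⁻¹) := by
      refine ⟨(MulAut.conj g).toMonoidHom.comp (Subgroup.zpowers x).subtype, ⟨?_, ?_, g, fun y => rfl⟩,
        fun y => rfl⟩
      · rw [Subgroup.zpowers_le]; exact hxS
      · rintro ⟨_, n, rfl⟩
        show g * x ^ n * g⁻¹ ∈ (S : Subgroup G)
        rw [← conj_zpow]
        exact zpow_mem hg n
    exact central_fix' hx hm (Subgroup.mem_zpowers x)
  · rintro ⟨hxS, hx⟩
    refine mem_center_of_rsat S.2 hF hxS ?_ ?_
    · intro s hs
      have h4 := hx s (mul_mem (mul_mem hs hxS) (inv_mem hs))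
      calc s * x = (s * x * s⁻¹) * s := by group
        _ = x * s := by rw [h4]
    · rintro P f ⟨φ, ⟨hPS, hφS, g, hg⟩, hφ⟩ y hy
      have h5 : f y = g * y * g⁻¹ := by rw [← hφ ⟨y, hy⟩, hg ⟨y, hy⟩]
      have h6 : f y ∈ (S : Subgroup G) := by rw [← hφ ⟨y, hy⟩]; exact hφS ⟨y, hy⟩
      show y = x ↔ f y = x
      constructor
      · rintro rfl
        rw [h5] at h6 ⊢
        exact hx g h6
      · intro h7
        rw [h5] at h7
        have h8 : y = g⁻¹ * x * g⁻¹⁻¹ := by rw [← h7]; group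
        rw [h8]
        apply hx
        rw [← h8]
        exact hPS hy

open scoped Pointwise in
theorem solv_case {G : Type*} [Group G] [Finite G] {p : ℕ} [Fact p.Prime] (S : Sylow p G) (h : Group.IsSolvable G) :
    ((S : Subgroup G) ⊓ Subgroup.centralizer ((S : Subgroup G) : Set G)) ≤ Cfsg.pPrimePCore p G := by
  have hc := H23.isPConstrained_of_isPSolvable (p := p) (H23.isPSolvable_of_isSolvable h)
  obtain ⟨P⟩ : Nonempty (Sylow p ↥(Cfsg.pPrimePCore p G)) := inferInstance
  have h1 := hc P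
  have h2 : IsPGroup p ((P : Subgroup ↥(Cfsg.pPrimePCore p G)).map (Cfsg.pPrimePCore p G).subtype) :=
    P.2.map _
  obtain ⟨S', hS'⟩ := h2.exists_le_sylow
  obtain ⟨g, hg⟩ := MulAction.exists_smul_eq G S' S
  have h3 : MulAut.conj g • ((P : Subgroup ↥(Cfsg.pPrimePCore p G)).map (Cfsg.pPrimePCore p G).subtype) ≤
      (S : Subgroup G) := by
    rw [← hg]
    exact Subgroup.pointwise_smul_le_pointwise_smul_iff.2 hS'
  have hn : (Cfsg.pPrimePCore p G).Normal := by
    unfold Cfsg.pPrimePCore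
    exact Subgroup.Normal.comap inferInstance _
  rintro x ⟨-, hx⟩
  have h4 : x ∈ MulAut.conj g • Subgroup.centralizer
      (((P : Subgroup ↥(Cfsg.pPrimePCore p G)).map (Cfsg.pPrimePCore p G).subtype : Subgroup G) : Set G) := by
    rw [H1.conj_smul_centralizer]
    exact Subgroup.centralizer_le (fun y hy => h3 hy) hx
  have h5 : x ∈ MulAut.conj g • (Cfsg.pPrimePCore p G) :=
    (Subgroup.pointwise_smul_le_pointwise_smul_iff.2 h1) h4
  rwa [H1.mem_normalizer_iff_conj_smul.1 (by
    rw [Subgroup.normalizer_eq_top_iff.2 hn]; exact Subgroup.mem_top g)] at h5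

/-- Let S be a Sylow p-subgroup of the finite group G, and assume that p is odd or that G is solvable. The elements of S each of which is its only G-conjugate in S form a subgroup W of Z(S); W is then a direct factor of Z(S): there is a subgroup K of Z(S) with W ∩ K = 1 and WK = Z(S). (For p = 2 and G not solvable this can fail.) -/
theorem result {G : Type*} [Group G] [Finite G] {p : ℕ} [Fact p.Prime] (S : Sylow p G) (h : p ≠ 2 ∨ Group.IsSolvable G) :
    ∃ W K : Subgroup G, (∀ x : G, x ∈ W ↔ (x ∈ (S : Subgroup G) ∧ ∀ g : G, g * x * g⁻¹ ∈ (S : Subgroup G) → g * x * g⁻¹ = x)) ∧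
      K ≤ ((S : Subgroup G) ⊓ Subgroup.centralizer ((S : Subgroup G) : Set G)) ∧ W ⊓ K = ⊥ ∧ W ⊔ K = ((S : Subgroup G) ⊓ Subgroup.centralizer ((S : Subgroup G) : Set G)) := by
  by_cases hp : p ≠ 2
  · exact odd_case S hp
  · exact S1944.result S (solv_case S (h.resolve_left hp))

end Cfsg.Agent.S1945
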