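import Cfsg.Statements.S1954
import Cfsg.Agent.H14.CenE

set_option autoImplicit false
open Cfsg

namespace Cfsg.Agent.S1954

open Cfsg.Agent.L Cfsg.Agent.H19 Cfsg.Agent.H14.Cen

/-- fusion maps of `N` in `S₀` are induced by elements of `N ∩ N(U)` -/
def Ext {G : Type*} [Group G] (S₀ N U : Subgroup G) : Prop :=
  ∀ B : Subgroup G, B ≤ S₀ → ∀ n ∈ N, cj n B ≤ S₀ → ∃ h ∈ N, h ∈ nz U ∧ ∀ b ∈ B, h * b * h⁻¹ = n * b * n⁻¹

theorem Ext.conj {G : Type*} [Group G] {S₀ N U : Subgroup G} [hN : N.Normal] (h : Ext S₀ N U) {x : G}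
    (hx : x ∈ nz S₀) : Ext S₀ N (cj x U) := by
  intro B hB n hn hnB
  have hxS : cj x⁻¹ S₀ = S₀ := mem_nz_iff.1 (inv_mem hx)
  obtain ⟨k, hk, hkU, hkB⟩ := h (cj x⁻¹ B) (by rw [← hxS]; exact cj_mono hB) (x⁻¹ * n * x) (by
      have := hN.conj_mem n hn x⁻¹
      simpa using this) (by
      rw [cj_cj]
      have e : x⁻¹ * n * x * x⁻¹ = x⁻¹ * n := by group
      rw [e, ← cj_cj, ← hxS]
      exact cj_mono hnB)
  refine ⟨x * k * x⁻¹, hN.conj_mem k hk x, ?_, fun b hb => ?_⟩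
  · rw [nz_cj]; exact conj_mem_cj hkU
  · have h1 := hkB (x⁻¹ * b * x⁻¹⁻¹) (conj_mem_cj hb)
    calc x * k * x⁻¹ * b * (x * k * x⁻¹)⁻¹ = x * (k * (x⁻¹ * b * x⁻¹⁻¹) * k⁻¹) * x⁻¹ := by group
      _ = x * (x⁻¹ * n * x * (x⁻¹ * b * x⁻¹⁻¹) * (x⁻¹ * n * x)⁻¹) * x⁻¹ := by rw [h1]
      _ = n * b * n⁻¹ := by group

theorem Ext.sup {G : Type*} [Group G] {S₀ N U V : Subgroup G} (hU : Ext S₀ N U) (hV : Ext S₀ N V)
    (hUS : U ≤ S₀) : Ext S₀ N (U ⊔ V) := by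
  intro B hB n hn hnB
  obtain ⟨h₁, h₁N, h₁U, h₁B⟩ := hU B hB n hn hnB
  obtain ⟨h₂, h₂N, h₂V, h₂B⟩ := hV (B ⊔ U) (sup_le hB hUS) h₁ h₁N (by
    rw [cj_sup, Mt.cj_eq h₁B, mem_nz_iff.1 h₁U]
    exact sup_le hnB hUS)
  refine ⟨h₂, h₂N, ?_, fun b hb => ?_⟩
  · have h1 : cj h₂ U = cj h₁ U := Mt.cj_eq (fun b hb => h₂B b (Subgroup.mem_sup_right hb))
    rw [mem_nz_iff, cj_sup, h1, mem_nz_iff.1 h₁U, mem_nz_iff.1 h₂V]
  · rw [h₂B b (Subgroup.mem_sup_left hb), h₁B b hb]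

theorem Ext.sSup {G : Type*} [Group G] [Finite G] {S₀ N : Subgroup G} (s : Set (Subgroup G))
    (hs : ∀ U ∈ s, Ext S₀ N U ∧ U ≤ S₀) : Ext S₀ N (sSup s) ∧ sSup s ≤ S₀ := by
  have hfin : s.Finite := Set.toFinite s
  induction s, hfin using Set.Finite.induction_on with
  | empty =>
    rw [sSup_empty]
    refine ⟨fun B hB n hn hnB => ⟨n, hn, ?_, fun _ _ => rfl⟩, bot_le⟩
    rw [mem_nz_iff, cj_bot]
  | @insert a s _ _ ih =>
    obtain ⟨h1, h2⟩ := ih (fun U hU => hs U (Set.mem_insert_of_mem _ hU))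
    obtain ⟨h3, h4⟩ := hs a (Set.mem_insert _ _)
    rw [sSup_insert]
    exact ⟨h3.sup h1 h4, sup_le h4 h2⟩

/-- Let N be a normal subgroup of the finite group G, P a Sylow p-subgroup of G, and V a subgroup of P ∩ N normal in P ∩ N such that N_N(V) controls strong fusion in P ∩ N with respect to N (whenever a subgroup A of P ∩ N has n A n⁻¹ ≤ P ∩ N for some n in N, then n = h c with h in N_N(V) and c in C_N(A)). Let W be the subgroup generated by the conjugates of V under N_G(P ∩ N). Then N_G(W) controls strong fusion in P with respect to G. -/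
theorem result {G : Type*} [Group G] [Finite G] {p : ℕ} [Fact p.Prime] (N : Subgroup G) [N.Normal] (P : Sylow p G) (V : Subgroup G)
    (hV : V ≤ (P : Subgroup G) ⊓ N) (hVn : ∀ x ∈ (P : Subgroup G) ⊓ N, V.map (MulAut.conj x).toMonoidHom = V)
    (hctrl : ∀ A : Subgroup G, A ≤ (P : Subgroup G) ⊓ N → ∀ n ∈ N, A.map (MulAut.conj n).toMonoidHom ≤ (P : Subgroup G) ⊓ N →
      ∃ h ∈ N ⊓ Subgroup.normalizer (V : Set G), ∃ c ∈ N ⊓ Subgroup.centralizer (A : Set G), n = h * c)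
    (W : Subgroup G) (hW : W = Subgroup.closure (⋃ x ∈ Subgroup.normalizer (((P : Subgroup G) ⊓ N : Subgroup G) : Set G),
      ((V.map (MulAut.conj x).toMonoidHom : Subgroup G) : Set G))) :
    ∀ A : Subgroup G, A ≤ (P : Subgroup G) → ∀ g : G, A.map (MulAut.conj g).toMonoidHom ≤ (P : Subgroup G) →
        ∃ h ∈ Subgroup.normalizer (W : Set G), ∃ c ∈ Subgroup.centralizer (A : Set G), g = h * c := by
  obtain ⟨S₀, hS₀⟩ : ∃ S₀, S₀ = (P : Subgroup G) ⊓ N := ⟨_, rfl⟩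
  rw [← hS₀] at hV hVn hctrl hW
  have hVext : Ext S₀ N V := by
    intro B hB n hn hnB
    obtain ⟨h, hh, c, hc, hnc⟩ := hctrl B hB n hn hnB
    refine ⟨h, (Subgroup.mem_inf.1 hh).1, (Subgroup.mem_inf.1 hh).2, fun b hb => ?_⟩
    have h1 := Subgroup.mem_centralizer_iff.1 (Subgroup.mem_inf.1 hc).2 b hb
    rw [hnc]
    calc h * b * h⁻¹ = h * (b * c) * c⁻¹ * h⁻¹ := by group
      _ = h * (c * b) * c⁻¹ * h⁻¹ := by rw [h1]
      _ = _ := by group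
  have hWsup : W = sSup {U | ∃ x ∈ nz S₀, U = cj x V} := by
    rw [hW]
    apply le_antisymm
    · rw [Subgroup.closure_le]
      intro y hy
      simp only [Set.mem_iUnion] at hy
      obtain ⟨x, hx, hy⟩ := hy
      exact (le_sSup (show cj x V ∈ {U | ∃ x ∈ nz S₀, U = cj x V} from ⟨x, hx, rfl⟩)) hy
    · refine sSup_le ?_
      rintro _ ⟨x, hx, rfl⟩
      intro y hy
      apply Subgroup.subset_closure
      simp only [Set.mem_iUnion]
      exact ⟨x, hx, hy⟩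
  obtain ⟨hWext, hWS⟩ : Ext S₀ N W ∧ W ≤ S₀ := by
    rw [hWsup]
    apply Ext.sSup
    rintro _ ⟨x, hx, rfl⟩
    refine ⟨hVext.conj hx, ?_⟩
    rw [← mem_nz_iff.1 hx]
    exact cj_mono hV
  have hnW : nz S₀ ≤ nz W := by
    intro n hn
    have key : ∀ n ∈ nz S₀, cj n W ≤ W := by
      intro n hn
      rw [cj_le_iff, hWsup]
      refine sSup_le ?_
      rintro _ ⟨x, hx, rfl⟩
      rw [← cj_le_iff, cj_cj]
      exact le_sSup ⟨n * x, mul_mem hn hx, rfl⟩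
    exact mem_nz_iff.2 (eq_of_le_of_card_le (key n hn) (by rw [card_cj]))
  have hPS : nz (P : Subgroup G) ≤ nz S₀ := by
    intro n hn
    rw [mem_nz_iff, hS₀, cj_inf, mem_nz_iff.1 hn]
    congr 1
    apply mem_nz_iff.1
    have : nz N = ⊤ := Subgroup.normalizer_eq_top_iff.2 inferInstance
    rw [this]; exact Subgroup.mem_top _
  have hct : MtAll (nz W) S₀ := by
    intro B y hB hyB
    obtain ⟨k, hk, n, hn, rfl⟩ := H2.exists_frattini' P N y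
    rw [← hS₀] at hk
    obtain ⟨h, hh, hhW, hhB⟩ := hWext B hB n hn (by
      rw [← cj_cj, cj_le_iff, mem_nz_iff.1 (inv_mem hk)] at hyB
      exact hyB)
    refine ⟨k * h, mul_mem (hnW hk) hhW, fun b hb => ?_⟩
    calc k * h * b * (k * h)⁻¹ = k * (h * b * h⁻¹) * k⁻¹ := by group
      _ = k * (n * b * n⁻¹) * k⁻¹ := by rw [hhB b hb]
      _ = _ := by group
  intro A hA g hg
  exact ctrl_of_normal P (hS₀ ▸ hWS) (hPS.trans hnW) (hS₀ ▸ hct) A hA g hg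

end Cfsg.Agent.S1954
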