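import Cfsg.Statements.S2060
import Cfsg.Agent.H15.Out11

set_option autoImplicit false
open Cfsg

namespace Cfsg.Agent.S2060



/-- The outer automorphism group of the Mathieu group M₁₁ (the stabiliser of a dodecad and one of its points in the automorphism group of the length-24 binary code) is trivial: every automorphism is inner. -/
theorem result : Nat.card (Cfsg.Out ↥Cfsg.Spor.M11) = 1 := by
  exact Cfsg.Agent.H15.Out11.out11

end Cfsg.Agent.S2060
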