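import Cfsg.Statements.S2272
import Cfsg.Agent.H15.PCg

set_option autoImplicit false
open Cfsg
open scoped LinearAlgebra.Projectivization

namespace Cfsg.Agent.S2272

/-- Let F be a finite field and d ≥ 3, and let a, b be non-identity elements of PSL_d(F). Then the product of the conjugacy classes of a and b is not a single conjugacy class: there are conjugates a′ of a and b′ of b such that a′b′ is not conjugate to ab. -/
theorem result {F : Type*} [Field F] [Fintype F] (d : ℕ) (hd : 3 ≤ d)
    (a b : Matrix.ProjectiveSpecialLinearGroup (Fin d) F) (ha : a ≠ 1) (hb : b ≠ 1) :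
    ∃ g h : Matrix.ProjectiveSpecialLinearGroup (Fin d) F, ¬ IsConj (a * b) (g * a * g⁻¹ * (h * b * h⁻¹)) := by
  classical
  by_contra hcon
  push Not at hcon
  obtain ⟨A, rfl⟩ := QuotientGroup.mk_surjective a
  obtain ⟨B, rfl⟩ := QuotientGroup.mk_surjective b
  have hA : A ∉ Subgroup.center (Matrix.SpecialLinearGroup (Fin d) F) := fun h =>
    ha ((QuotientGroup.eq_one_iff A).mpr h)
  have hB : B ∉ Subgroup.center (Matrix.SpecialLinearGroup (Fin d) F) := fun h =>
    hb ((QuotientGroup.eq_one_iff B).mpr h)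
  have hconjfix : ∀ x y : Matrix.ProjectiveSpecialLinearGroup (Fin d) F, IsConj x y →
      Nat.card {p : ℙ F (Fin d → F) // x • p = p} = Nat.card {p : ℙ F (Fin d → F) // y • p = p} := by
    intro x y hxy
    obtain ⟨c, hc⟩ := isConj_iff.mp hxy
    apply Nat.card_congr
    refine (MulAction.toPerm c).subtypeEquiv ?_
    intro p
    simp only [MulAction.toPerm_apply]
    rw [← hc, mul_smul, mul_smul, inv_smul_smul]
    exact (smul_left_cancel_iff c).symm
  have hfx : ∀ M : Matrix.SpecialLinearGroup (Fin d) F,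
      Nat.card {p : ℙ F (Fin d → F) // (M : Matrix.ProjectiveSpecialLinearGroup (Fin d) F) • p = p} =
        H15.PC.fx M := fun M => rfl
  set f := H15.PC.fx (A * B) with hfd
  have hf : ∀ X, H15.PC.fx (A * (X * B * X⁻¹)) = f := by
    intro X
    have h1 := hconjfix _ _ (hcon 1 (X : Matrix.ProjectiveSpecialLinearGroup (Fin d) F))
    rw [one_mul, inv_one, mul_one] at h1
    rw [← hfx, hfd, ← hfx]
    exact h1.symm
  have hdpos : 0 < d := by omega
  have h2t : ∀ {x y x' y' : ℙ F (Fin d → F)}, x ≠ y → x' ≠ y' →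
      ∃ g : Matrix.SpecialLinearGroup (Fin d) F, g • x = x' ∧ g • y = y' :=
    (MulAction.is_two_pretransitive_iff (G := Matrix.SpecialLinearGroup (Fin d) F)
    (α := ℙ F (Fin d → F))).mp inferInstance
  have hid := H15.PC.count_id (G := Matrix.ProjectiveSpecialLinearGroup (Fin d) F)
    (Ω := ℙ F (Fin d → F)) ?_ ?_ ?_ (A : Matrix.ProjectiveSpecialLinearGroup (Fin d) F)
    (B : Matrix.ProjectiveSpecialLinearGroup (Fin d) F) f ?_
  · exact H15.PC.core hd A B hA hB f hf _ rfl hid
  · intro x y x' y' hxy hxy'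
    obtain ⟨g, hg, hg'⟩ := h2t hxy hxy'
    exact ⟨(g : Matrix.ProjectiveSpecialLinearGroup (Fin d) F), hg, hg'⟩
  · intro x x'
    by_cases hxx : x = x'
    · exact ⟨1, by rw [one_smul]; exact hxx⟩
    · obtain ⟨g, hg, _⟩ := h2t hxx (Ne.symm hxx)
      exact ⟨(g : Matrix.ProjectiveSpecialLinearGroup (Fin d) F), hg⟩
  · by_contra hN
    push Not at hN
    have hsub : Subsingleton (ℙ F (Fin d → F)) := by
      rw [← Finite.card_le_one_iff_subsingleton]; omega
    obtain ⟨u, hu⟩ := H15.PC.exists_indep A hA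
    have hu0 : u ≠ 0 := by simpa using hu.ne_zero 0
    have h3 := (H15.PC.fixed_iff A u hu0).mp (Subsingleton.elim _ _)
    obtain ⟨_, μ, hμ⟩ := h3
    rw [LinearIndependent.pair_iff] at hu
    have := hu (-μ) 1 (by rw [hμ]; module)
    exact one_ne_zero this.2
  · intro g
    obtain ⟨X, rfl⟩ := QuotientGroup.mk_surjective g
    exact hf X

end Cfsg.Agent.S2272
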