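import Cfsg.Statements.S2475
import Cfsg.Agent.H16.Trace

set_option autoImplicit false
open Cfsg

namespace Cfsg.Agent.S2475

open Matrix H16

section
variable {F : Type*} [Field F] [Fintype F]

local notation "SL₂" => Matrix.SpecialLinearGroup (Fin 2) F
local notation "M₂" => Matrix (Fin 2) (Fin 2) F
local notation "PL₂" => Matrix.ProjectiveSpecialLinearGroup (Fin 2) F

lemma dvd_half {n k : ℕ} (h : n ∣ 2 * k) : n / Nat.gcd 2 n ∣ k := by
  rcases Nat.even_or_odd n with hn | hn
  · obtain ⟨m, hm⟩ := hn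
    have : Nat.gcd 2 n = 2 := Nat.gcd_eq_left (by omega)
    rw [this]
    have e : n / 2 = m := by omega
    rw [e]
    obtain ⟨j, hj⟩ := h
    refine ⟨j, ?_⟩
    have : 2 * k = 2 * (m * j) := by rw [hj, hm]; ring
    omega
  · have : Nat.gcd 2 n = 1 := by
      rw [Nat.gcd_comm]; exact Nat.Coprime.symm (Nat.coprime_two_left.2 hn)
    rw [this, Nat.div_one]
    exact (Nat.Coprime.dvd_of_dvd_mul_left (Nat.Coprime.symm (Nat.coprime_two_left.2 hn)) h)

lemma scal_of_pow {A : SL₂} {n : ℕ} (hn : n = Fintype.card F - 1 ∨ n = Fintype.card F + 1) (h : A ^ n = 1) :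
    IsScal ((A ^ (n / Nat.gcd 2 n) : SL₂) : M₂) := by
  have hq : 1 < Fintype.card F := Fintype.one_lt_card
  rcases Nat.even_or_odd n with he | he
  · obtain ⟨m, hm⟩ := he
    have : Nat.gcd 2 n = 2 := Nat.gcd_eq_left (by omega)
    rw [this]
    have e : n / 2 = m := by omega
    rw [e]
    have hodd : Odd (Fintype.card F) := by
      rw [Nat.odd_iff]; omega
    have h1 : A ^ m * A ^ m = 1 := by rw [← pow_add, ← hm, h]
    rw [isScal_sl_iff]
    rcases pm_one (two_ne hodd) h1 with h2 | h2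
    · left; rw [h2]; simp
    · right; rw [h2]; simp
  · have : Nat.gcd 2 n = 1 := by
      rw [Nat.gcd_comm]; exact Nat.Coprime.symm (Nat.coprime_two_left.2 he)
    rw [this, Nat.div_one, h, isScal_sl_iff]
    left; simp

lemma order_mk {A : SL₂} {n : ℕ} (hn : n = Fintype.card F - 1 ∨ n = Fintype.card F + 1) (h : orderOf A = n) :
    orderOf (QuotientGroup.mk A : PL₂) = n / Nat.gcd 2 n := by
  apply Nat.dvd_antisymm
  · apply orderOf_dvd_of_pow_eq_one
    rw [psl_pow_mk, psl_mk_one_iff]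
    exact scal_of_pow hn (by rw [← h]; exact pow_orderOf_eq_one A)
  · apply dvd_half
    rw [← h]
    apply orderOf_dvd_of_pow_eq_one
    have h1 := pow_orderOf_eq_one (QuotientGroup.mk A : PL₂)
    rw [psl_pow_mk, psl_mk_one_iff, isScal_sl_iff] at h1
    rw [mul_comm, pow_mul]
    apply sl_ext
    rw [Matrix.SpecialLinearGroup.coe_pow]
    rcases h1 with h1 | h1 <;> rw [h1] <;> simp

lemma gcd_eq (hq : 1 < Fintype.card F) : Nat.gcd 2 (Fintype.card F + 1) = Nat.gcd 2 (Fintype.card F - 1) := by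
  have : Fintype.card F + 1 = (Fintype.card F - 1) + 2 := by omega
  rw [this]
  simp

lemma exists_order_of_cyclic {A : SL₂} {n : ℕ} (hn : n = Fintype.card F - 1 ∨ n = Fintype.card F + 1)
    (h1 : IsCyclic (Subgroup.centralizer ({A} : Set SL₂))) (h2 : Nat.card (Subgroup.centralizer ({A} : Set SL₂)) = n) {m : ℕ} (hm : m ∣ n / Nat.gcd 2 n) :
    ∃ g : PL₂, orderOf g = m := by
  obtain ⟨c, hc⟩ := IsCyclic.exists_generator (α := Subgroup.centralizer ({A} : Set SL₂))
  have ho : orderOf (c : SL₂) = n := by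
    rw [Subgroup.orderOf_coe, orderOf_eq_card_of_forall_mem_zpowers hc, h2]
  have h3 := order_mk hn ho
  have hn0 : n ≠ 0 := by rw [← h2]; exact Nat.card_pos.ne'
  have hpos : 0 < n / Nat.gcd 2 n := Nat.div_pos (Nat.le_of_dvd (Nat.pos_of_ne_zero hn0) (Nat.gcd_dvd_right 2 n)) (Nat.gcd_pos_of_pos_left _ (by norm_num))
  obtain ⟨k, hk⟩ := hm
  have hk0 : k ≠ 0 := by
    rintro rfl; rw [mul_zero] at hk; omega
  refine ⟨(QuotientGroup.mk (c : SL₂) : PL₂) ^ k, ?_⟩
  rw [orderOf_pow_of_dvd hk0 (by rw [h3, hk]; exact Dvd.intro_left m rfl), h3, hk]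
  exact Nat.mul_div_cancel _ (Nat.pos_of_ne_zero hk0)

end

/-- The set of element orders of PSL(2,q): let F be a finite field of characteristic p with q ≥ 4 elements and d = gcd(2, q − 1). The orders of elements of PSL(2,F) are exactly the divisors of p, of (q − 1)/d and of (q + 1)/d. -/
theorem result {F : Type*} [Field F] [Fintype F] (p : ℕ) [Fact p.Prime] [CharP F p] (h4 : 4 ≤ Fintype.card F) :
    Set.range (orderOf : Matrix.ProjectiveSpecialLinearGroup (Fin 2) F → ℕ) =
      {m : ℕ | m ∣ p ∨ m ∣ (Fintype.card F - 1) / Nat.gcd 2 (Fintype.card F - 1) ∨ m ∣ (Fintype.card F + 1) / Nat.gcd 2 (Fintype.card F - 1)} := by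
  classical
  have hq : 1 < Fintype.card F := Fintype.one_lt_card
  ext m
  constructor
  · rintro ⟨g, rfl⟩
    obtain ⟨A, rfl⟩ := QuotientGroup.mk_surjective g
    rcases H16.nonscal_cases (A : Matrix (Fin 2) (Fin 2) F).trace with h | ⟨l, hl, hll, h⟩ | ⟨e, he, h⟩
    · right; right
      apply orderOf_dvd_of_pow_eq_one
      rw [H16.psl_pow_mk, H16.psl_mk_one_iff, ← gcd_eq hq]
      apply scal_of_pow (Or.inr rfl)
      rw [← H16.card_cent_sl2_ell A h]
      exact orderOf_dvd_iff_pow_eq_one.1 (H16.orderOf_dvd_card_cent A)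
    · right; left
      apply orderOf_dvd_of_pow_eq_one
      rw [H16.psl_pow_mk, H16.psl_mk_one_iff]
      apply scal_of_pow (Or.inl rfl)
      rw [← H16.card_cent_sl2_split A hl hll h]
      exact orderOf_dvd_iff_pow_eq_one.1 (H16.orderOf_dvd_card_cent A)
    · left
      apply orderOf_dvd_of_pow_eq_one
      rw [H16.psl_pow_mk, H16.psl_mk_one_iff]
      exact H16.par_pow p he h
  · rintro (h | h | h)
    · rcases (Nat.dvd_prime (Fact.out : p.Prime)).1 h with h1 | h1
      · exact ⟨1, by rw [orderOf_one, h1]⟩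
      · have hd : (!![(1 : F), 1; 0, 1]).det = 1 := by rw [Matrix.det_fin_two_of]; ring
        obtain ⟨A, hA⟩ : ∃ A : Matrix.SpecialLinearGroup (Fin 2) F, (A : Matrix (Fin 2) (Fin 2) F) = !![(1 : F), 1; 0, 1] := ⟨⟨_, hd⟩, rfl⟩
        refine ⟨QuotientGroup.mk A, ?_⟩
        rw [h1]
        apply orderOf_eq_prime
        · rw [H16.psl_pow_mk, H16.psl_mk_one_iff]
          exact H16.par_pow p (one_mul 1) (by rw [hA, Matrix.trace_fin_two_of])
        · rw [Ne, H16.psl_mk_one_iff, hA]
          rintro ⟨h2, _, _⟩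
          simp at h2
    · -- split torus
      obtain ⟨l, hl0, hl⟩ : ∃ l : F, l ≠ 0 ∧ l * l ≠ 1 := by
        by_contra hcon
        push Not at hcon
        have h5 : (Finset.univ : Finset F).card ≤ ({0, 1, -1} : Finset F).card := Finset.card_le_card (fun x _ => by
          rw [Finset.mem_insert, Finset.mem_insert, Finset.mem_singleton]
          by_cases hx : x = 0
          · exact Or.inl hx
          · exact Or.inr (mul_self_eq_one_iff.1 (hcon x hx)))
        have h6 : ({0, 1, -1} : Finset F).card ≤ 3 := Finset.card_le_three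
        rw [Finset.card_univ] at h5
        omega
      have ht : (H16.dg l hl0 : Matrix (Fin 2) (Fin 2) F).trace = l + l⁻¹ := by rw [H16.dg_coe, Matrix.trace_fin_two_of]
      have hns : ¬ H16.IsScal (H16.dg l hl0 : Matrix (Fin 2) (Fin 2) F) := by
        rw [H16.dg_coe]
        rintro ⟨_, _, h⟩
        simp at h
        apply hl
        nth_rewrite 2 [h]
        exact mul_inv_cancel₀ hl0
      exact exists_order_of_cyclic (Or.inl rfl) (H16.split_cyclic hns hl0 hl ht) (H16.card_cent_sl2_split _ hl0 hl ht) h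
    · obtain ⟨t, ht⟩ := H16.exists_elliptic F
      have hct := H16.cform_trace t 1 one_ne_zero
      rw [← hct] at ht
      rw [← gcd_eq hq] at h
      exact exists_order_of_cyclic (Or.inr rfl) (H16.cent_cyclic_ell ht) (H16.card_cent_sl2_ell _ ht) h

end Cfsg.Agent.S2475
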