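import Cfsg.Statements.S2471
import Cfsg.Agent.S2475

set_option autoImplicit false
open Cfsg

namespace Cfsg.Agent.S2471

/-- In PSL(2,q) with q odd, the characteristic p is isolated from 2 in the prime graph: for F a finite field of odd characteristic p with at least 5 elements, PSL(2,F) has no element of order 2p. -/
theorem result {F : Type*} [Field F] [Fintype F] (p : ℕ) [Fact p.Prime] [CharP F p] (hp : p ≠ 2) (h5 : 5 ≤ Fintype.card F) (g : Matrix.ProjectiveSpecialLinearGroup (Fin 2) F) :
    orderOf g ≠ 2 * p := by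
  intro ho
  have hmem : orderOf g ∈ Set.range (orderOf : Matrix.ProjectiveSpecialLinearGroup (Fin 2) F → ℕ) := ⟨g, rfl⟩
  rw [Cfsg.Agent.S2475.result p (by omega), ho] at hmem
  have hpp : p.Prime := Fact.out
  have hp2 := hpp.two_le
  obtain ⟨n, _, hn⟩ := FiniteField.card F p
  have hpq : p ∣ Fintype.card F := by rw [hn]; exact dvd_pow_self p n.ne_zero
  have key : ∀ N : ℕ, (N = Fintype.card F - 1 ∨ N = Fintype.card F + 1) → p ∣ N → False := by
    intro N hN hd
    have h1 : p ∣ 1 := by
      rcases hN with h | h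
      · have := Nat.dvd_sub hpq hd
        have e : Fintype.card F - N = 1 := by omega
        rwa [e] at this
      · have := Nat.dvd_sub hd hpq
        have e : N - Fintype.card F = 1 := by omega
        rwa [e] at this
    exact hpp.one_lt.ne' (Nat.dvd_one.1 h1)
  rcases hmem with h | h | h
  · have := Nat.le_of_dvd hpp.pos h
    omega
  · exact key _ (Or.inl rfl) (((Dvd.intro_left 2 rfl).trans h).trans (Nat.div_dvd_of_dvd (Nat.gcd_dvd_right 2 _)))
  · refine key _ (Or.inr rfl) (((Dvd.intro_left 2 rfl).trans h).trans (Nat.div_dvd_of_dvd ?_))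
    have e : Fintype.card F + 1 = (Fintype.card F - 1) + 2 := by omega
    rw [e]
    exact dvd_add (Nat.gcd_dvd_right 2 _) (Nat.gcd_dvd_left 2 _)

end Cfsg.Agent.S2471
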