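import Cfsg.Statements.S2477
import Cfsg.Agent.H16.AltOrders

set_option autoImplicit false
open Cfsg

namespace Cfsg.Agent.S2477

open Cfsg.Agent.H16

lemma check : ∀ m ∈ partsUpTo 10 10, Even (m.sum + Multiset.card m) →
    m.lcm ∈ ({1, 2, 3, 4, 5, 6, 7, 8, 9, 10, 12, 15, 21} : Finset ℕ) := by
  decide +kernel

/-- The set of element orders of the alternating group of degree 10 is {1, 2, 3, 4, 5, 6, 7, 8, 9, 10, 12, 15, 21}. -/
theorem result : Set.range (orderOf : alternatingGroup (Fin 10) → ℕ) = {1, 2, 3, 4, 5, 6, 7, 8, 9, 10, 12, 15, 21} := by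
  ext k
  rw [mem_range_orderOf_alternating_iff]
  constructor
  · rintro ⟨m, hsum, h2, hev, rfl⟩
    have := check m (mem_partsUpTo' 10 m h2 hsum) hev
    simpa using this
  · intro hk
    have w : ∀ k ∈ ({1, 2, 3, 4, 5, 6, 7, 8, 9, 10, 12, 15, 21} : Finset ℕ),
        ∃ m ∈ partsUpTo 10 10, m.sum ≤ 10 ∧ (∀ a ∈ m, 2 ≤ a) ∧ Even (m.sum + Multiset.card m) ∧ m.lcm = k := by
      decide +kernel
    obtain ⟨m, -, hm⟩ := w k (by simpa using hk)
    exact ⟨m, hm⟩

end Cfsg.Agent.S2477
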