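import Cfsg.Statements.S2518
import Cfsg.Agent.H15.CTor8
import Cfsg.Agent.S1059
import Cfsg.Agent.S2475

set_option autoImplicit false
open Cfsg

namespace Cfsg.Agent.S2518

open Cfsg.Agent.H6 Cfsg.Lie Cfsg.Agent.H15.CTor

/-- elements of order 7 and 13 in `G₂(3)` generate their centralizers -/
theorem cent_card {F : Type*} [Field F] [Fintype F] (hF : Fintype.card F = 3) {r : ℕ} (hr : r = 7 ∨ r = 13)
    (x : ↥(chevG2.group F)) (hx : orderOf x = r) : Nat.card (Subgroup.centralizer ({x} : Set ↥(chevG2.group F))) = r := by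
  haveI hfr : Fact r.Prime := by
    rcases hr with rfl | rfl <;> exact ⟨by norm_num⟩
  obtain ⟨d, hd1, hd, hl, hM, hrd, hsq⟩ : ∃ d : ℕ, 1 < d ∧ 0 < d ∧ Nat.totient d = chevG2.rank ∧
      (Polynomial.cyclotomic d ℤ).eval ((3 : ℕ) : ℤ) = (r : ℤ) ∧ ¬ r ∣ d ∧ (∀ p : ℕ, p.Prime → p ∣ r → p ∣ d → ¬ p ^ 2 ∣ r) := by
    rcases hr with rfl | rfl
    · refine ⟨6, by norm_num, by norm_num, by decide, ?_, by norm_num, ?_⟩
      · rw [Polynomial.cyclotomic_six]; norm_num
      · intro p hp h1 h2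
        have h3 : p = 7 := (Nat.prime_dvd_prime_iff_eq hp (by norm_num)).1 h1
        rw [h3] at h2
        omega
    · refine ⟨3, by norm_num, by norm_num, by decide, ?_, by norm_num, ?_⟩
      · rw [Polynomial.cyclotomic_three]; norm_num
      · intro p hp h1 h2
        have h3 : p = 13 := (Nat.prime_dvd_prime_iff_eq hp (by norm_num)).1 h1
        rw [h3] at h2
        omega
  have hprim := prim_of_dvd hM dvd_rfl hrd
  refine (centralizer_cyclic TG2.good TG2.ext hF (fun K _ => PhiH_inj_G2) hd hl hprim ?_ hM (by rcases hr with rfl | rfl <;> norm_num) hsq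
    (hdet_of (n := 2) TG2.good rfl bG2 324 8100 (by norm_num) bG2_det bG2_bd ?_) x hx).2
  · rw [Cfsg.Agent.H22.cardG2]
    rcases hr with rfl | rfl <;> norm_num
  · rcases hr with rfl | rfl <;> norm_num

theorem not_order {F : Type*} [Field F] [Fintype F] (hF : Fintype.card F = 3) {r s : ℕ} (hr : r = 7 ∨ r = 13) (hs : s.Prime)
    (hrs : r ≠ s) (x : ↥(chevG2.group F)) (hx : orderOf x = r * s) : False := by
  have hrp : r.Prime := by rcases hr with rfl | rfl <;> norm_num
  have hs0 : 0 < s := hs.pos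
  have h1 : orderOf (x ^ s) = r := by
    rw [orderOf_pow, hx, Nat.gcd_eq_right (Dvd.intro_left r rfl), Nat.mul_div_cancel _ hs0]
  have h2 := cent_card hF hr (x ^ s) h1
  have hmem : x ∈ Subgroup.centralizer ({x ^ s} : Set ↥(chevG2.group F)) := by
    rw [Subgroup.mem_centralizer_singleton_iff]
    exact (Commute.refl x).pow_right s
  have h3 : orderOf (⟨x, hmem⟩ : Subgroup.centralizer ({x ^ s} : Set ↥(chevG2.group F))) ∣ r := by
    rw [← h2]; exact orderOf_dvd_natCard _
  rw [Subgroup.orderOf_mk, hx] at h3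
  have h4 := Nat.le_of_dvd hrp.pos h3
  have := hs.two_le
  nlinarith [hrp.pos]

/-- an element of order 6 -/
theorem exists_six {F : Type*} [Field F] [Fintype F] (hF : Fintype.card F = 3) : ∃ x : ↥(chevG2.group F), orderOf x = 6 := by
  haveI : Fact (Nat.Prime 3) := ⟨by norm_num⟩
  haveI : CharP F 3 := by
    obtain ⟨p, hp⟩ := CharP.exists F
    obtain ⟨n, hp', hn⟩ := FiniteField.card F p
    rw [hF] at hn
    have h1 : p ∣ 3 := by rw [hn]; exact dvd_pow_self p n.ne_zero
    have h2 : p = 3 := (Nat.prime_dvd_prime_iff_eq hp' (by norm_num)).1 h1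
    rw [← h2]; exact hp
  have h3 : (3 : F) = 0 := by
    have := CharP.cast_eq_zero F 3
    exact_mod_cast this
  have h7 : 7 < chevG2.nroots := by decide +kernel
  have h11 : 11 < chevG2.nroots := by decide +kernel
  have h9 : 9 < chevG2.nroots := by decide +kernel
  have p11 : chevG2.pairing 7 11 = 0 := by decide +kernel
  have p9 : chevG2.pairing 7 9 = 1 := by decide +kernel
  have hG := TG2.good
  obtain ⟨t, ht⟩ : ∃ t : GL chevG2.Idx F, t = hgr chevG2 F 7 ((-1 : Fˣ) : F) := ⟨_, rfl⟩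
  obtain ⟨u, hu⟩ : ∃ u : GL chevG2.Idx F, u = xg chevG2 F 11 1 := ⟨_, rfl⟩
  have htu : t * u = u * t := by
    have h1 := hG.tor_conj_xg (F := F) (hG.isChr_pairing 7 (-1 : Fˣ)) h11 1
    rw [← hG.hgr_eq_tor 7 h7, p11, zpow_zero, Units.val_one, one_mul, ← ht, ← hu] at h1
    exact mul_inv_eq_iff_eq_mul.1 h1
  have ht2 : t ^ 2 = 1 := by
    rw [pow_two, ht, hG.hgr_mul h7]
    have : ((-1 : Fˣ) * (-1 : Fˣ)) = 1 := by norm_num
    rw [this, hG.hgr_eq_tor 7 h7, ← tor_one, tor_eq_iff]
    intro r _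
    rw [one_zpow]; rfl
  have ht1 : t ≠ 1 := by
    intro h
    rw [ht, hG.hgr_eq_tor 7 h7, ← tor_one, tor_eq_iff] at h
    have h1 := h 9 h9
    rw [p9, zpow_one] at h1
    have h2 := congrArg (fun z : Fˣ => (z : F)) h1
    have h4 : (-1 : F) = 1 := by
      have h5 : ((-1 : Fˣ) : F) = ((1 : ℕ → Fˣ) 9 : F) := h2
      rw [Pi.one_apply, Units.val_one] at h5
      push_cast at h5
      exact h5
    have h5 : (1 : F) = 0 := by linear_combination h3 + h4
    exact one_ne_zero h5
  have hu3 : u ^ 3 = 1 := by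
    rw [hu, pow_succ, pow_two, ← hG.xg_add, ← hG.xg_add]
    have : (1 + 1 + 1 : F) = 0 := by rw [← h3]; norm_num
    rw [this, hG.xg_zero]
  have hu1 : u ≠ 1 := by rw [hu]; exact hG.xg_ne_one TG2.ext h11 one_ne_zero
  have htG : t ∈ chevG2.group F := by
    rw [ht]
    exact mul_mem (mul_mem (mul_mem (hG.xg_mem_group _ _) (hG.xg_mem_group _ _)) (hG.xg_mem_group _ _))
      (mul_mem (mul_mem (hG.xg_mem_group _ _) (hG.xg_mem_group _ _)) (hG.xg_mem_group _ _))
  have huG : u ∈ chevG2.group F := by rw [hu]; exact hG.xg_mem_group _ _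
  refine ⟨⟨t * u, mul_mem htG huG⟩, ?_⟩
  rw [Subgroup.orderOf_mk]
  have o1 : orderOf t = 2 := orderOf_eq_prime ht2 ht1
  have o2 : orderOf u = 3 := orderOf_eq_prime hu3 hu1
  have h := Commute.orderOf_mul_eq_mul_orderOf_of_coprime (show Commute t u from htu) (by rw [o1, o2]; norm_num)
  rw [h, o1, o2]

theorem prime_iff {r : ℕ} (hr : r.Prime) (n a b : ℕ) (ha : a ≠ 0) (hb : b ≠ 0) (hn : n = 2 ^ a * (3 ^ b * (7 * 13))) :
    r ∣ n ↔ r = 2 ∨ r = 3 ∨ r = 7 ∨ r = 13 := by
  rw [hn]
  constructor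
  · intro h
    rcases (hr.dvd_mul).1 h with h | h
    · exact Or.inl ((Nat.prime_dvd_prime_iff_eq hr (by norm_num)).1 (hr.dvd_of_dvd_pow h))
    rcases (hr.dvd_mul).1 h with h | h
    · exact Or.inr (Or.inl ((Nat.prime_dvd_prime_iff_eq hr (by norm_num)).1 (hr.dvd_of_dvd_pow h)))
    rcases (hr.dvd_mul).1 h with h | h
    · exact Or.inr (Or.inr (Or.inl ((Nat.prime_dvd_prime_iff_eq hr (by norm_num)).1 h)))
    · exact Or.inr (Or.inr (Or.inr ((Nat.prime_dvd_prime_iff_eq hr (by norm_num)).1 h)))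
  · rintro (rfl | rfl | rfl | rfl)
    · exact (dvd_pow_self 2 ha).mul_right _
    · exact ((dvd_pow_self 3 hb).mul_right _).mul_left _
    · exact ((Dvd.intro _ rfl : (7 : ℕ) ∣ 7 * 13).mul_left _).mul_left _
    · exact ((Dvd.intro_left _ rfl : (13 : ℕ) ∣ 7 * 13).mul_left _).mul_left _

/-- Let F₃ be the field with 3 elements and F₁₃ the field with 13 elements. The Chevalley group G₂(F₃) and PSL(2, F₁₃) have the same prime graph: the same prime divisors of their orders, and for distinct primes r, s an element of order rs in one iff in the other. -/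
theorem result {F : Type*} [Field F] [Fintype F] (hF : Fintype.card F = 3) {E : Type*} [Field E] [Fintype E] (hE : Fintype.card E = 13) :
    ((∀ r : ℕ, r.Prime → (r ∣ Nat.card ↥(Cfsg.Lie.chevG2.group F) ↔ r ∣ Nat.card (Matrix.ProjectiveSpecialLinearGroup (Fin 2) E))) ∧
      (∀ r s : ℕ, r.Prime → s.Prime → r ≠ s → ((∃ x : ↥(Cfsg.Lie.chevG2.group F), orderOf x = r * s) ↔ (∃ y : (Matrix.ProjectiveSpecialLinearGroup (Fin 2) E), orderOf y = r * s)))) := by
  have c1 : Nat.card ↥(Cfsg.Lie.chevG2.group F) = 2 ^ 6 * (3 ^ 6 * (7 * 13)) := by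
    rw [Cfsg.Agent.S1059.result hF]; norm_num
  have c2 : Nat.card (Matrix.ProjectiveSpecialLinearGroup (Fin 2) E) = 2 ^ 2 * (3 ^ 1 * (7 * 13)) := by
    have h := Cfsg.Agent.H5.card_PSL2 hE
    norm_num at h
    omega
  haveI : Fact (Nat.Prime 13) := ⟨by norm_num⟩
  haveI : CharP E 13 := by
    obtain ⟨p, hp⟩ := CharP.exists E
    obtain ⟨n, hp', hn⟩ := FiniteField.card E p
    rw [hE] at hn
    have h1 : p ∣ 13 := by rw [hn]; exact dvd_pow_self p n.ne_zero
    have h2 : p = 13 := (Nat.prime_dvd_prime_iff_eq hp' (by norm_num)).1 h1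
    rw [← h2]; exact hp
  have hspec := Cfsg.Agent.S2475.result (F := E) 13 (by rw [hE]; norm_num)
  rw [hE] at hspec
  have hmem : ∀ m : ℕ, (∃ y : (Matrix.ProjectiveSpecialLinearGroup (Fin 2) E), orderOf y = m) ↔ m ∣ 13 ∨ m ∣ 6 ∨ m ∣ 7 := by
    intro m
    have h1 : m ∈ Set.range (orderOf : Matrix.ProjectiveSpecialLinearGroup (Fin 2) E → ℕ) ↔
        m ∈ {m : ℕ | m ∣ 13 ∨ m ∣ (13 - 1) / Nat.gcd 2 (13 - 1) ∨ m ∣ (13 + 1) / Nat.gcd 2 (13 - 1)} := by rw [hspec]
    exact h1
  refine ⟨fun r hr => ?_, fun r s hr hs hrs => ?_⟩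
  · rw [prime_iff hr _ 6 6 (by norm_num) (by norm_num) c1, prime_iff hr _ 2 1 (by norm_num) (by norm_num) c2]
  rw [hmem]
  constructor
  · rintro ⟨x, hx⟩
    have hd : r * s ∣ Nat.card ↥(Cfsg.Lie.chevG2.group F) := by rw [← hx]; exact orderOf_dvd_natCard x
    have hr' := (prime_iff hr _ 6 6 (by norm_num) (by norm_num) c1).1 ((Dvd.intro _ rfl).trans hd)
    have hs' := (prime_iff hs _ 6 6 (by norm_num) (by norm_num) c1).1 ((Dvd.intro_left _ rfl).trans hd)
    have n1 : ¬ (r = 7 ∨ r = 13) := fun h => not_order hF h hs hrs x hx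
    have n2 : ¬ (s = 7 ∨ s = 13) := fun h => not_order hF h hr hrs.symm x (by rw [hx, mul_comm])
    have : r * s = 6 := by
      rcases hr' with rfl | rfl | rfl | rfl
      · rcases hs' with rfl | rfl | rfl | rfl
        · exact absurd rfl hrs
        · rfl
        · exact absurd (Or.inl rfl) n2
        · exact absurd (Or.inr rfl) n2
      · rcases hs' with rfl | rfl | rfl | rfl
        · rfl
        · exact absurd rfl hrs
        · exact absurd (Or.inl rfl) n2
        · exact absurd (Or.inr rfl) n2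
      · exact absurd (Or.inl rfl) n1
      · exact absurd (Or.inr rfl) n1
    right; left
    rw [this]
  · intro h
    have h4 : r * s = 6 := by
      have r2 := hr.two_le
      have s2 := hs.two_le
      have hne7 : ∀ p : ℕ, p.Prime → r * s ∣ p → False := by
        intro p hp h
        rcases (Nat.dvd_prime hp).1 h with h1 | h1
        · nlinarith
        · have h2 : r ∣ p := h1 ▸ Dvd.intro _ rfl
          have h3 : s ∣ p := h1 ▸ Dvd.intro_left _ rfl
          rw [Nat.prime_dvd_prime_iff_eq hr hp] at h2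
          rw [Nat.prime_dvd_prime_iff_eq hs hp] at h3
          exact hrs (h2.trans h3.symm)
      rcases h with h | h | h
      · exact (hne7 13 (by norm_num) h).elim
      · have h5 := Nat.le_of_dvd (by norm_num) h
        have h6 : r ≤ 3 := by nlinarith
        have h7 : s ≤ 3 := by nlinarith
        interval_cases r <;> interval_cases s <;> simp_all
      · exact (hne7 7 (by norm_num) h).elim
    rw [h4]
    exact exists_six hF

end Cfsg.Agent.S2518
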