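import Cfsg.Statements.S2810
import Cfsg.Agent.H18.Basics

set_option autoImplicit false
open Cfsg
open scoped commutatorElement

namespace Cfsg.Agent.S2810

/-- Let H be a finite group of characteristic p and L a subgroup of H centralizing every factor of some H-invariant chain 1 = A₀ ≤ A₁ ≤ … ≤ Aₙ = O_p(H) of normal subgroups (that is, [A_{i+1}, L] ≤ Aᵢ for each i). Then L ≤ O_p(H). -/
theorem result {H : Type*} [Group H] [Finite H] {p : ℕ} [Fact p.Prime] (hchar : Subgroup.centralizer (Cfsg.pCore p H : Set H) ≤ Cfsg.pCore p H) (L : Subgroup H) (n : ℕ) (A : Fin (n + 1) → Subgroup H) (h0 : A 0 = ⊥) (hn : A (Fin.last n) = Cfsg.pCore p H) (hmono : Monotone A) (hnorm : ∀ i, (A i).Normal) (hcent : ∀ i : Fin n, ⁅A i.succ, L⁆ ≤ A i.castSucc) : L ≤ Cfsg.pCore p H := by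
  set N := Subgroup.normalClosure (L : Set H) with hN
  have hLN : L ≤ N := Subgroup.subset_normalClosure
  have key : ∀ i : Fin n, ⁅A i.succ, N⁆ ≤ A i.castSucc := by
    intro i
    have h1 := hnorm i.castSucc
    have h2 := hnorm i.succ
    have hs : N = Subgroup.closure (Group.conjugatesOfSet (L : Set H)) := rfl
    rw [hs]
    refine H18.commutator_le_of_closure (hmono (Fin.castSucc_lt_succ).le)
      (fun a _ => H18.le_normalizer_of_normal (Subgroup.mem_top a)) ?_
    intro a ha u hu
    rw [Group.mem_conjugatesOfSet_iff] at ha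
    obtain ⟨l, hl, hal⟩ := ha
    rw [isConj_iff] at hal
    obtain ⟨g, rfl⟩ := hal
    have e : ⁅u, g * l * g⁻¹⁆ = g * ⁅g⁻¹ * u * g, l⁆ * g⁻¹ := by
      simp only [commutatorElement_def]; group
    rw [e]
    refine h1.conj_mem _ (hcent i ?_) g
    refine Subgroup.commutator_mem_commutator ?_ hl
    have := h2.conj_mem u hu g⁻¹
    simpa using this
  have key2 : ∀ k : ℕ, ∀ hk : k ≤ n, Cfsg.iterCommutator (Cfsg.pCore p H) N k ≤
      A ⟨n - k, by omega⟩ := by
    intro k
    induction k with
    | zero =>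
      intro _
      have : (⟨n - 0, by omega⟩ : Fin (n + 1)) = Fin.last n := by ext; simp
      rw [this, hn]; exact le_rfl
    | succ k ih =>
      intro hk
      have h1 := ih (by omega)
      have h2 := key ⟨n - (k + 1), by omega⟩
      have e1 : (⟨n - k, by omega⟩ : Fin (n + 1)) = (⟨n - (k + 1), by omega⟩ : Fin n).succ := by
        ext; simp; omega
      rw [e1] at h1
      exact (Subgroup.commutator_mono h1 le_rfl).trans h2
  have h3 : Cfsg.iterCommutator (Cfsg.pCore p H) N n = ⊥ := by
    rw [eq_bot_iff]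
    refine (key2 n le_rfl).trans ?_
    have : (⟨n - n, by omega⟩ : Fin (n + 1)) = 0 := by ext; simp
    rw [this, h0]
  refine hLN.trans (H18.le_pCore Subgroup.normalClosure_normal ?_)
  refine H18.isPGroup_of_coprime_eq_one fun x hx hxp => ?_
  exact H18.eq_one_of_mem_isPGroup hxp (H18.isPGroup_pCore p H)
    (hchar (H18.iterCommutator_centralize (H18.isPGroup_pCore p H) H18.le_normalizer_of_normal h3 hx hxp))

end Cfsg.Agent.S2810
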