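import Cfsg.Statements.S2813
import Cfsg.Agent.H18.Basics

set_option autoImplicit false
open Cfsg
open scoped commutatorElement

namespace Cfsg.Agent.S2813

/-- Let K be a subgroup of the finite group H with O_p(K) = 1 and Y a p-subgroup of N_H(K) with [K, Y, Y] = 1. Then [K, Y] = 1. -/
theorem result {H : Type*} [Group H] [Finite H] {p : ℕ} [Fact p.Prime] (K : Subgroup H) (hO : Cfsg.pCore p ↥K = ⊥) (Y : Subgroup H) (hY : IsPGroup p ↥Y) (hYK : Y ≤ Subgroup.normalizer (K : Set H)) (hq : ⁅⁅K, Y⁆, Y⁆ = ⊥) : ⁅K, Y⁆ = ⊥ := by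
  set N := ⁅K, Y⁆ with hN
  have hNK : N ≤ K := Subgroup.le_normalizer_iff_commutator_le_left.1 hYK
  have hKN : K ≤ Subgroup.normalizer (N : Set H) := Subgroup.normalizer_commutator_ge_left K Y
  have hYN : Y ≤ Subgroup.normalizer (N : Set H) := Subgroup.normalizer_commutator_ge_right K Y
  have hNc : N ≤ Subgroup.centralizer (Y : Set H) := Subgroup.commutator_eq_bot_iff_le_centralizer.1 hq
  have hNY : N ≤ Subgroup.normalizer (Y : Set H) := by
    refine H18.le_normalizer_of_conj_mem fun x hx y hy => ?_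
    have := H18.le_centralizer_iff_forall.1 hNc x hx y hy
    rw [this]; simpa using hy
  set S := Y ⊔ N with hS
  have hKS : K ≤ Subgroup.normalizer (S : Set H) := by
    refine H18.le_normalizer_of_conj_mem fun k hk x hx => ?_
    rw [H18.mem_sup_iff_of_le_normalizer hYN] at hx
    obtain ⟨y, hy, n, hn, rfl⟩ := hx
    have e : k * (y * n) * k⁻¹ = ⁅k, y⁆ * y * (k * n * k⁻¹) := by
      simp only [commutatorElement_def]; group
    rw [e]
    refine mul_mem (mul_mem ?_ ?_) ?_
    · exact Subgroup.mem_sup_right (Subgroup.commutator_mem_commutator hk hy)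
    · exact Subgroup.mem_sup_left hy
    · exact Subgroup.mem_sup_right (H18.conj_mem_of_mem_normalizer (hKN hk) hn)
  have hYS : Y ≤ Cfsg.pCoreOf p S :=
    H18.le_pCoreOf le_sup_left (sup_le Subgroup.le_normalizer hNY) hY
  have h1 : N ≤ Cfsg.pCoreOf p S := by
    refine (Subgroup.commutator_mono le_rfl hYS).trans ?_
    exact Subgroup.le_normalizer_iff_commutator_le_right.1
      (hKS.trans (H18.normalizer_le_normalizer_pCoreOf S))
  have h2 : N ≤ Cfsg.pCoreOf p K :=
    H18.le_pCoreOf hNK hKN ((H18.isPGroup_pCoreOf S).to_le h1)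
  rw [H18.pCoreOf_eq_bot_iff.2 hO] at h2
  exact le_bot_iff.1 h2

end Cfsg.Agent.S2813
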