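import Cfsg.Statements.S2815
import Cfsg.Agent.H18.QS
import Cfsg.Agent.H18.PIrr
import Cfsg.Agent.H10.Comp
import Cfsg.Agent.H23.Nilp
import Cfsg.Agent.H13.FaithV
import Cfsg.Agent.H18.CN1

set_option autoImplicit false
open Cfsg
open Cfsg.Agent.H18
open scoped commutatorElement

namespace Cfsg.Agent.S2815

/-- Let H be a finite group and p a prime dividing its order with O_p(H) = 1, and suppose K = O^p(H) (generated by the elements of order prime to p) is quasisimple. Then K = F*(H); for every nontrivial p-subgroup Y of H, K = [K, Y] and K lies in the subgroup generated by the K-conjugates of Y; every normal subgroup of H not containing K has order prime to p; and H is p-irreducible. -/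
theorem result {H : Type*} [Group H] [Finite H] {p : ℕ} [Fact p.Prime] (hp : p ∣ Nat.card H) (hO : Cfsg.pCore p H = ⊥) (hq : Cfsg.IsQuasisimple ↥(Cfsg.pResidual p H)) : Cfsg.pResidual p H = Cfsg.generalizedFittingSubgroup H ∧ (∀ Y : Subgroup H, IsPGroup p ↥Y → Y ≠ ⊥ → ⁅Cfsg.pResidual p H, Y⁆ = Cfsg.pResidual p H ∧ Cfsg.pResidual p H ≤ ⨆ k : ↥(Cfsg.pResidual p H), Y.map (MulAut.conj (k : H)).toMonoidHom) ∧ (∀ C : Subgroup H, C.Normal → ¬ Cfsg.pResidual p H ≤ C → (Nat.card ↥C).Coprime p) ∧ Cfsg.IsPIrreducible p H := by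
  haveI hKn : (Cfsg.pResidual p H).Normal := by rw [← pRes_top (p := p)]; exact pRes_normal _
  set K := Cfsg.pResidual p H with hK
  have hKcomp : IsComponent K := ⟨hKn.isSubnormal, hq⟩
  have key : ∀ Y : Subgroup H, IsPGroup p Y → Y ≠ ⊥ → ⁅K, Y⁆ = K :=
    fun Y hY hY1 => commutator_pResidual_of_qs hO hq hY hY1
  have hcop : ∀ C : Subgroup H, C.Normal → ¬ K ≤ C → (Nat.card ↥C).Coprime p := by
    intro C hC hKC
    by_contra hne
    have hpd : p ∣ Nat.card C := by
      by_contra h
      exact hne ((Nat.Prime.coprime_iff_not_dvd Fact.out).2 h).symm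
    obtain ⟨y, hy⟩ := exists_prime_orderOf_dvd_card' (G := C) p hpd
    have hy' : orderOf (y : H) = p := by rw [Subgroup.orderOf_coe]; exact hy
    have h1 : IsPGroup p (Subgroup.zpowers (y : H)) := by
      apply IsPGroup.of_card (n := 1)
      rw [Nat.card_zpowers, hy', pow_one]
    have h2 : Subgroup.zpowers (y : H) ≠ ⊥ := by
      rw [Ne, Subgroup.zpowers_eq_bot]
      intro h
      rw [h, orderOf_one] at hy'
      exact (Fact.out : p.Prime).one_lt.ne hy'
    apply hKC
    rw [← key _ h1 h2]
    exact (Subgroup.commutator_mono le_rfl (Subgroup.zpowers_le.2 y.2)).trans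
      (Subgroup.commutator_le_right K C)
  refine ⟨?_, ?_, hcop, ?_⟩
  · apply le_antisymm
    · exact (H10.le_layer hKcomp).trans (H10.layer_le_genFitting H)
    · refine sup_le ?_ ?_
      · refine sSup_le fun C hC => ?_
        rw [← H13.pRes_eq_self_of_perfect (p := p) (H10.comp_commutator_self hC)]
        exact pRes_le_pResidual C
      · apply le_of_prime_power
        intro r hr x hx hxr
        by_cases hrp : r = p
        · subst hrp
          have h1 := H23.mem_pCore_of_mem_fitting hx hxr
          rw [hO, Subgroup.mem_bot] at h1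
          rw [h1]; exact one_mem _
        · apply Subgroup.subset_closure
          obtain ⟨n, hn⟩ := IsPGroup.iff_card.1 hxr
          rw [Nat.card_zpowers] at hn
          show (orderOf x).Coprime p
          rw [hn]
          exact Nat.Coprime.pow_left n ((Nat.coprime_primes hr.out Fact.out).2 hrp)
  · intro Y hY hY1
    refine ⟨key Y hY hY1, ?_⟩
    conv_lhs => rw [← key Y hY hY1]
    rw [Subgroup.commutator_le]
    intro k hk y hy
    rw [commutatorElement_def]
    refine mul_mem ?_ (inv_mem ?_)
    · exact Subgroup.mem_iSup_of_mem (⟨k, hk⟩ : K) ⟨y, hy, rfl⟩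
    · exact Subgroup.mem_iSup_of_mem (1 : K) ⟨y, hy, by simp⟩
  · refine ⟨?_, ?_⟩
    · obtain ⟨T, hT⟩ := L.exists_sylIn (p := p) (⊤ : Subgroup H)
      rw [isPClosed_top_iff hT, hO, le_bot_iff]
      intro h
      have h1 := hT.not_dvd
      rw [h, Subgroup.relIndex_bot_left, Subgroup.card_top] at h1
      exact h1 hp
    · intro N hN hNc
      by_contra hKN
      apply hNc
      have h1 := hcop N hN hKN
      rw [isPClosed_iff]
      intro P
      have h2 : (P : Subgroup N) = ⊥ := by
        rw [← Subgroup.card_eq_one]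
        obtain ⟨n, hn⟩ := IsPGroup.iff_card.1 P.isPGroup'
        have h3 : Nat.card (P : Subgroup N) ∣ Nat.card N := Subgroup.card_subgroup_dvd_card _
        have h4 : (Nat.card (P : Subgroup N)).Coprime (Nat.card N) := by
          rw [hn]; exact Nat.Coprime.pow_left n h1.symm
        exact Nat.Coprime.eq_one_of_dvd h4 h3
      rw [h2]; exact bot_le

end Cfsg.Agent.S2815
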