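import Cfsg.Statements.S2817
import Cfsg.Agent.H18.FStarY3

set_option autoImplicit false
open Cfsg
open Cfsg.Agent.H18

namespace Cfsg.Agent.S2817

/-- Let H be a finite group and p a prime with O_p(H) = 1, Q a p-subgroup of H, L = [F*(H), Q], and F the largest normal subgroup of F*(H) centralized by Q (a normal subgroup of F*(H) centralized by Q and containing every such). Then F = C_{F*(H)}(LQ); L = [L, Q]; L ∩ F ≤ Φ(L); every p-subgroup B of N_H(Q) with [L, B] ≤ F satisfies [L, B] = 1; and C_H(FL) has order prime to p. -/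
theorem result {H : Type*} [Group H] [Finite H] {p : ℕ} [Fact p.Prime] (hO : Cfsg.pCore p H = ⊥) (Q : Subgroup H) (hQ : IsPGroup p ↥Q) (L : Subgroup H) (hL : L = ⁅Cfsg.generalizedFittingSubgroup H, Q⁆) (F : Subgroup H) (hF : F ≤ Cfsg.generalizedFittingSubgroup H ∧ Cfsg.generalizedFittingSubgroup H ≤ Subgroup.normalizer (F : Set H) ∧ Q ≤ Subgroup.centralizer (F : Set H) ∧ ∀ N : Subgroup H, N ≤ Cfsg.generalizedFittingSubgroup H → Cfsg.generalizedFittingSubgroup H ≤ Subgroup.normalizer (N : Set H) → Q ≤ Subgroup.centralizer (N : Set H) → N ≤ F) : F = Cfsg.generalizedFittingSubgroup H ⊓ Subgroup.centralizer ((L ⊔ Q : Subgroup H) : Set H) ∧ ⁅L, Q⁆ = L ∧ L ⊓ F ≤ (frattini ↥L).map L.subtype ∧ (∀ B : Subgroup H, IsPGroup p ↥B → B ≤ Subgroup.normalizer (Q : Set H) → ⁅L, B⁆ ≤ F → ⁅L, B⁆ = ⊥) ∧ (Nat.card ↥(Subgroup.centralizer ((F ⊔ L : Subgroup H) : Set H))).Coprime p := by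
  subst hL
  obtain ⟨hF1, hF2, hF3, hF4⟩ := hF
  have h1 := fq_eq hO hQ hF1 hF2 hF3 hF4
  have hFL : F ≤ Subgroup.centralizer
      ((⁅Cfsg.generalizedFittingSubgroup H, Q⁆ ⊔ Q : Subgroup H) : Set H) := by
    rw [h1]; exact inf_le_right
  refine ⟨h1, (fstar_split hO hQ).2.symm, ?_, fun B hB hBQ hBF =>
    lq_commutator_eq_bot hO hQ hF1 hFL hB hBQ hBF, lq_centralizer_coprime hO hQ hF1 hF2 hF3 hF4⟩
  have h2 := lq_inf_le_commutator hO hQ hF3
  rintro x ⟨hxL, hxF⟩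
  have h3 := h2 ⟨hxL, hxF⟩
  rw [← Subgroup.map_subtype_commutator] at h3
  obtain ⟨y, hy, hyx⟩ := h3
  refine ⟨y, ?_, hyx⟩
  apply center_inf_commutator_le_frattini
  refine Subgroup.mem_inf.2 ⟨?_, hy⟩
  rw [Subgroup.mem_center_iff]
  intro g
  apply Subtype.ext
  have h4 : (y : H) ∈ Subgroup.centralizer ((⁅Cfsg.generalizedFittingSubgroup H, Q⁆ ⊔ Q :
      Subgroup H) : Set H) := by
    have : (y : H) = x := hyx
    rw [this]; exact hFL hxF
  exact Subgroup.mem_centralizer_iff.1 h4 g (Subgroup.mem_sup_left g.2)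

end Cfsg.Agent.S2817
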