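import Cfsg.Statements.S2820
import Cfsg.Agent.H18.Basics

set_option autoImplicit false
open Cfsg

namespace Cfsg.Agent.S2820

/-- Let A and B be subnormal subgroups of the finite group H with A a p-group and B = O^p(B) (B generated by its elements of order prime to p). Then A normalizes B and B = O^p(AB), the subgroup of ⟨A, B⟩ generated by its elements of order prime to p. -/
theorem result {H : Type*} [Group H] [Finite H] {p : ℕ} [Fact p.Prime] (A B : Subgroup H) (hA : A.IsSubnormal) (hB : B.IsSubnormal) (hAp : IsPGroup p ↥A) (hBres : (Cfsg.pResidual p ↥B).map B.subtype = B) : A ≤ Subgroup.normalizer (B : Set H) ∧ (Cfsg.pResidual p ↥(A ⊔ B)).map (A ⊔ B).subtype = B := by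
  have hAO : A ≤ Cfsg.pCore p H := H18.le_pCore_of_isSubnormal hA hAp
  have h1 := H18.pRes_sup_eq_of_isSubnormal (P := Cfsg.pCore p H) (H18.isPGroup_pCore p H) hB
  rw [hBres] at h1
  have h2 : A ≤ Subgroup.normalizer (B : Set H) := by
    have h3 := H18.le_normalizer_pRes (p := p) (B ⊔ Cfsg.pCore p H)
    rw [h1] at h3
    exact (hAO.trans le_sup_right).trans h3
  refine ⟨h2, ?_⟩
  rw [sup_comm, H18.pRes_sup_eq hAp h2, hBres]

end Cfsg.Agent.S2820
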