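import Cfsg.Statements.S2823
import Cfsg.Agent.H18.LargeY

set_option autoImplicit false
open Cfsg
open scoped commutatorElement
open Cfsg.Agent.H18

namespace Cfsg.Agent.S2823

/-- Let H be a finite group, p a prime, T a Sylow p-subgroup and L a subgroup of characteristic p containing T; let Z_L be the subgroup generated by the Ω₁(Z(S)) over the Sylow p-subgroups S of L and O^p(L) the subgroup generated by the elements of L of order prime to p. Then Z_L = Ω₁(Z(L))·[Z_L, O^p(L)] and [Z_L, L] = [Z_L, O^p(L)]. -/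
theorem result {H : Type*} [Group H] [Finite H] {p : ℕ} [Fact p.Prime] (T : Sylow p H) (L : Subgroup H) (hTL : (T : Subgroup H) ≤ L) (hL : Subgroup.centralizer (Cfsg.pCore p ↥L : Set ↥L) ≤ Cfsg.pCore p ↥L) : Cfsg.sylowCenterClosure p L = (Cfsg.omegaOne p (L ⊓ Subgroup.centralizer ((L : Subgroup H) : Set H))) ⊔ ⁅Cfsg.sylowCenterClosure p L, (Cfsg.pResidual p ↥L).map L.subtype⁆ ∧ ⁅Cfsg.sylowCenterClosure p L, L⁆ = ⁅Cfsg.sylowCenterClosure p L, (Cfsg.pResidual p ↥L).map L.subtype⁆ := by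
  classical
  set Z := Cfsg.sylowCenterClosure p L with hZ
  set X := (Cfsg.pResidual p ↥L).map L.subtype with hX
  have hXL : X ≤ L := pRes_le L
  have hLZ : L ≤ Subgroup.normalizer (Z : Set H) := le_normalizer_sylowCenterClosure
  have hZY : Z ≤ largestPReducedOf p L := sylowCenterClosure_le_of_pRed hL
  have hZel : IsElementaryAbelian p Z := isElementaryAbelian_mono (pRed_largest L).elem hZY
  have hZL : Z ≤ L := sylowCenterClosure_le L
  have hCZ : Cfsg.omegaOne p (L ⊓ Subgroup.centralizer (L : Set H)) ≤ Z := by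
    have h1 : Cfsg.omegaOne p (L ⊓ Subgroup.centralizer (L : Set H)) ≤
        omegaZ p ((T.subtype hTL : Subgroup L).map L.subtype) := by
      apply omegaOne_mono
      have h2 : L ⊓ Subgroup.centralizer (L : Set H) ≤ pCoreOf p L :=
        le_trans (inf_le_inf_left _ (Subgroup.centralizer_le
          (SetLike.coe_subset_coe.2 (pCoreOf_le L)))) (charP_iff_pCoreOf.1 hL)
      have h3 : pCoreOf p L ≤ (T.subtype hTL : Subgroup L).map L.subtype :=
        pCoreOf_le_sylIn (Cfsg.Agent.L.sylIn_of_sylow _)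
      refine le_inf (h2.trans h3) (inf_le_right.trans (Subgroup.centralizer_le ?_))
      exact SetLike.coe_subset_coe.2 (Subgroup.map_subtype_le _)
    exact h1.trans (omegaZ_le_sylowCenterClosure _)
  have hZX : ⁅Z, X⁆ ≤ Z := Subgroup.le_normalizer_iff_commutator_le_left.1 (hXL.trans hLZ)
  have hab : ∀ x ∈ Z, ∀ y ∈ Z, x * y = y * x := (isElementaryAbelian_iff.1 hZel).1
  have h1 : Z = (Cfsg.omegaOne p (L ⊓ Subgroup.centralizer (L : Set H))) ⊔ ⁅Z, X⁆ := by
    refine le_antisymm ?_ (sup_le hCZ hZX)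
    rw [hZ, sylowCenterClosure_le_iff]
    intro S v hv
    have hvZ : v ∈ Z := omegaZ_le_sylowCenterClosure S hv
    obtain ⟨w, hw, u, hu, e⟩ := exists_fixed_mul_commutator (p := p) (V := Z) (L := L)
      (IsElementaryAbelian.isPGroup' hZel) hab hLZ (Cfsg.Agent.L.sylIn_of_sylow S) hvZ (omegaZ_le_centralizer _ hv)
    rw [e]
    refine mul_mem (Subgroup.mem_sup_left ?_) (Subgroup.mem_sup_right hu.1)
    exact mem_omegaOne (Subgroup.mem_inf.2 ⟨hZL hw.1, hw.2⟩) ((isElementaryAbelian_iff.1 hZel).2 w hw.1)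
  refine ⟨h1, le_antisymm ?_ (Subgroup.commutator_mono le_rfl hXL)⟩
  have h2 : L ≤ Subgroup.normalizer ((⁅Z, X⁆ : Subgroup H) : Set H) :=
    le_normalizer_commutator hLZ (le_normalizer_pRes L)
  rw [Subgroup.commutator_le]
  intro z hz l hl
  have hn : ⁅Z, X⁆ ≤ Subgroup.normalizer ((Cfsg.omegaOne p (L ⊓ Subgroup.centralizer (L : Set H)) : Subgroup H) : Set H) := by
    refine le_normalizer_of_conj_mem fun b hb a ha => ?_
    have : b * a * b⁻¹ = a := by rw [hab b (hZX hb) a (hCZ ha), mul_inv_cancel_right]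
    rw [this]; exact ha
  rw [h1, sup_comm, mem_sup_iff_of_le_normalizer' hn] at hz
  obtain ⟨a, ha, b, hb, rfl⟩ := hz
  have hal : ⁅a, l⁆ = 1 := by
    have := (omegaOne_le _ ha).2
    rw [commutatorElement_eq_one_iff_mul_comm]
    exact (Subgroup.mem_centralizer_iff.1 this l hl).symm
  have : ⁅a * b, l⁆ = a * ⁅b, l⁆ * a⁻¹ * ⁅a, l⁆ := by simp only [commutatorElement_def]; group
  rw [this, hal, mul_one]
  refine conj_mem_of_mem_normalizer (h2 (hZL (hCZ ha))) ?_
  have := Subgroup.le_normalizer_iff_commutator_le_left.1 h2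
  exact this (Subgroup.commutator_mem_commutator hb hl)

end Cfsg.Agent.S2823
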