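import Cfsg.Statements.S2825
import Cfsg.Agent.H18.PRedSub

set_option autoImplicit false
open Cfsg
open scoped commutatorElement
open Cfsg.Agent.H18

namespace Cfsg.Agent.S2825

theorem largest_sub {H : Type*} [Group H] [Finite H] {p : ℕ} [Fact p.Prime] {L : Subgroup H}
    (hL : L.IsSubnormal) : L ⊓ Subgroup.centralizer (Cfsg.largestPReduced p H : Set H) ≤
      Subgroup.centralizer ((largestPReducedOf p L : Subgroup H) : Set H) := by
  induction hL with
  | top =>
    refine inf_le_right.trans (Subgroup.centralizer_le (SetLike.coe_subset_coe.2 ?_))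
    exact le_largestPReduced (pRed_top_iff.1 (pRed_largest _))
  | step H K h_le hSubn hN ih =>
    have h1 := centralizer_largest_normal (p := p) h_le ((normal_subgroupOf_iff h_le).1 hN)
    refine le_trans (le_inf inf_le_left ?_) h1
    exact (inf_le_inf_right _ h_le).trans ih

/-- Let L be a subnormal subgroup of the finite group H, p a prime, Y_H and Y_L the largest p-reduced normal subgroups. Then Y_H ∩ L = Y_H ∩ Y_L and this subgroup is a p-reduced normal subgroup of L; C_L(Y_L) = C_L(Y_H) = C_L(Y_H ∩ L); and if O^p(H) ≤ L, then [Y_L, L] = 1 if and only if [Y_H, H] = 1. -/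
theorem result {H : Type*} [Group H] [Finite H] {p : ℕ} [Fact p.Prime] (L : Subgroup H) (hL : L.IsSubnormal) : Cfsg.largestPReduced p H ⊓ L = Cfsg.largestPReduced p H ⊓ (Cfsg.largestPReducedOf p L) ∧ Cfsg.IsPReducedNormal p ((Cfsg.largestPReduced p H ⊓ L).subgroupOf L) ∧ L ⊓ Subgroup.centralizer ((Cfsg.largestPReducedOf p L : Subgroup H) : Set H) = L ⊓ Subgroup.centralizer (Cfsg.largestPReduced p H : Set H) ∧ L ⊓ Subgroup.centralizer (Cfsg.largestPReduced p H : Set H) = L ⊓ Subgroup.centralizer ((Cfsg.largestPReduced p H ⊓ L : Subgroup H) : Set H) ∧ (Cfsg.pResidual p H ≤ L → (⁅(Cfsg.largestPReducedOf p L), L⁆ = ⊥ ↔ ⁅Cfsg.largestPReduced p H, (⊤ : Subgroup H)⁆ = ⊥)) := by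
  classical
  set V := Cfsg.largestPReduced p H with hVdef
  have hV : IsPReducedNormal p V := isPReducedNormal_largestPReduced p H
  have hVn : V.Normal := hV.1
  have hVp : IsPGroup p V := IsElementaryAbelian.isPGroup' hV.2.1
  have hYL : largestPReducedOf p L ≤ L := (pRed_largest L).le
  -- (d)
  have hd : L ⊓ Subgroup.centralizer ((V ⊓ L : Subgroup H) : Set H) ≤
      Subgroup.centralizer (V : Set H) := by
    set C := L ⊓ Subgroup.centralizer ((V ⊓ L : Subgroup H) : Set H) with hC
    have hCs : C.IsSubnormal := by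
      refine isSubnormal_of_le_normalizer inf_le_left hL ?_
      exact le_normalizer_inf Subgroup.le_normalizer (le_normalizer_centralizer
        (le_normalizer_inf le_normalizer_of_normal Subgroup.le_normalizer))
    set X := Subgroup.map (Subgroup.subtype C) (Cfsg.pResidual p ↥C) with hX
    have h1 : V ≤ Subgroup.normalizer (X : Set H) := le_normalizer_pRes_of_isSubnormal hVp hCs
    have h2 : ⁅V, X⁆ ≤ V ⊓ L := by
      refine le_inf (Subgroup.le_normalizer_iff_commutator_le_left.1 le_normalizer_of_normal) ?_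
      exact (Subgroup.le_normalizer_iff_commutator_le_right.1 h1).trans ((pRes_le C).trans inf_le_left)
    have h3 : ⁅⁅V, X⁆, X⁆ = ⊥ := by
      rw [Subgroup.commutator_eq_bot_iff_le_centralizer, Subgroup.le_centralizer_iff]
      exact ((pRes_le C).trans inf_le_right).trans
        (Subgroup.centralizer_le (SetLike.coe_subset_coe.2 h2))
    refine IsPReducedNormal.red_subnormal hV hCs fun x hx => ?_
    obtain ⟨k, hk⟩ := exists_pow_coprime (p := p) x
    exact ⟨k, centralize_of_commutator_commutator hVp (A := X) le_normalizer_of_normal h3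
      (mem_pRes (pow_mem hx _) hk) hk⟩
  have hc1 : PRed p (V ⊓ L) L := by
    refine ⟨inf_le_right, le_normalizer_inf le_normalizer_of_normal Subgroup.le_normalizer,
      isElementaryAbelian_mono hV.2.1 inf_le_left, fun D hDL hn hD => ?_⟩
    refine le_trans (IsPReducedNormal.red_subnormal hV (isSubnormal_of_le_normalizer hDL hL hn) fun x hx => ?_)
      (Subgroup.centralizer_le (SetLike.coe_subset_coe.2 inf_le_left))
    obtain ⟨k, hk⟩ := hD x hx
    exact ⟨k, hd (Subgroup.mem_inf.2 ⟨pow_mem (hDL hx) _, hk⟩)⟩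
  have hVLY : V ⊓ L ≤ largestPReducedOf p L := hc1.le_largest
  have hc : L ⊓ Subgroup.centralizer ((Cfsg.largestPReducedOf p L : Subgroup H) : Set H) =
      L ⊓ Subgroup.centralizer (V : Set H) := by
    refine le_antisymm (le_inf inf_le_left ?_) (le_inf inf_le_left (largest_sub hL))
    refine le_trans (inf_le_inf_left _ (Subgroup.centralizer_le
      (SetLike.coe_subset_coe.2 hVLY))) hd
  refine ⟨le_antisymm (le_inf inf_le_left hVLY) (le_inf inf_le_left (inf_le_right.trans hYL)),
    (pRed_iff inf_le_right).2 hc1, hc, ?_, ?_⟩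
  · refine le_antisymm (inf_le_inf_left _ (Subgroup.centralizer_le
      (SetLike.coe_subset_coe.2 inf_le_left))) (le_inf inf_le_left hd)
  · intro hO
    constructor
    · intro h
      have h1 : L ≤ Subgroup.centralizer ((Cfsg.largestPReducedOf p L : Subgroup H) : Set H) := by
        rw [Subgroup.le_centralizer_iff]
        exact Subgroup.commutator_eq_bot_iff_le_centralizer.1 h
      have h2 : L ≤ L ⊓ Subgroup.centralizer (V : Set H) := hc ▸ le_inf le_rfl h1
      have h3 : (⊤ : Subgroup H) ≤ Subgroup.centralizer (V : Set H) := by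
        refine (pRed_top_iff.2 hV).red ⊤ le_rfl (by rw [Subgroup.normalizer_eq_top]) fun x _ => ?_
        obtain ⟨k, hk⟩ := exists_pow_coprime (p := p) x
        exact ⟨k, (h2 (hO (mem_pResidual hk))).2⟩
      rw [Subgroup.commutator_eq_bot_iff_le_centralizer, Subgroup.le_centralizer_iff]
      exact h3
    · intro h
      rw [Subgroup.commutator_eq_bot_iff_le_centralizer, Subgroup.le_centralizer_iff] at h ⊢
      exact (le_inf le_rfl (le_top.trans h)).trans (largest_sub hL)

end Cfsg.Agent.S2825
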