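import Cfsg.Statements.S2826
import Cfsg.Agent.H18.LargeY

set_option autoImplicit false
open Cfsg
open scoped commutatorElement
open Cfsg.Agent.H18

namespace Cfsg.Agent.S2826

/-- Let H be a finite group of characteristic p, T a Sylow p-subgroup, and V a normal elementary abelian p-subgroup of H containing Ω₁(Z(T)). Then C_H(Ω₁(Z(T))) = C_H([V, O^p(H)] ∩ Ω₁(Z(T))), O^p(H) being generated by the elements of order prime to p. -/
theorem result {H : Type*} [Group H] [Finite H] {p : ℕ} [Fact p.Prime] (hH : Subgroup.centralizer (Cfsg.pCore p H : Set H) ≤ Cfsg.pCore p H) (T : Sylow p H) (V : Subgroup H) [V.Normal] (hV : Cfsg.IsElementaryAbelian p V) (hZV : (Cfsg.omegaOne p ((T : Subgroup H) ⊓ Subgroup.centralizer (((T : Subgroup H) : Subgroup H) : Set H))) ≤ V) : Subgroup.centralizer ((Cfsg.omegaOne p ((T : Subgroup H) ⊓ Subgroup.centralizer (((T : Subgroup H) : Subgroup H) : Set H))) : Set H) = Subgroup.centralizer (((⁅V, Cfsg.pResidual p H⁆ ⊓ (Cfsg.omegaOne p ((T : Subgroup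 H) ⊓ Subgroup.centralizer (((T : Subgroup H) : Subgroup H) : Set H)))) : Subgroup H) : Set H) := by
  classical
  set Z := Cfsg.omegaOne p ((T : Subgroup H) ⊓ Subgroup.centralizer ((T : Subgroup H) : Set H)) with hZ
  refine le_antisymm (Subgroup.centralizer_le (SetLike.coe_subset_coe.2 inf_le_right)) ?_
  have hTs := Cfsg.Agent.L.sylIn_top T
  have hab := (isElementaryAbelian_iff.1 hV).1
  have hVp := IsElementaryAbelian.isPGroup' hV
  have hnV : (⊤ : Subgroup H) ≤ Subgroup.normalizer (V : Set H) := le_normalizer_of_normal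
  have hVT : V ≤ (T : Subgroup H) := (le_pCore inferInstance hVp).trans (pCore_le_sylow T)
  have hWV : ⁅V, Cfsg.pResidual p H⁆ ≤ V :=
    Subgroup.le_normalizer_iff_commutator_le_left.1 (le_top.trans hnV)
  intro g hg
  rw [Subgroup.mem_centralizer_iff] at hg ⊢
  intro v hv
  have hvZ : v ∈ Z := hv
  obtain ⟨w, hw, u, hu, e⟩ := exists_fixed_mul_commutator (p := p) (V := V) (L := ⊤)
    hVp hab hnV hTs (hZV hvZ) ((omegaOne_le _ hvZ).2)
  rw [pRes_top] at hu
  have huV : u ∈ V := hWV hu.1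
  have huZ : u ∈ Z :=
    mem_omegaOne (Subgroup.mem_inf.2 ⟨hVT huV, hu.2⟩) ((isElementaryAbelian_iff.1 hV).2 u huV)
  have h1 : u * g = g * u := hg u (Subgroup.mem_inf.2 ⟨hu.1, huZ⟩)
  have h2 : w * g = g * w := (Subgroup.mem_centralizer_iff.1 hw.2 g trivial).symm
  rw [e]
  calc w * u * g = w * (u * g) := mul_assoc _ _ _
    _ = w * g * u := by rw [h1, mul_assoc]
    _ = g * (w * u) := by rw [h2, mul_assoc]

end Cfsg.Agent.S2826
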