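import Cfsg.Statements.S2830
import Cfsg.Agent.H18.PIrr

set_option autoImplicit false
open Cfsg
open scoped commutatorElement
open Cfsg.Agent.H18

local notation "𝕆(" p ", " H ")" => Subgroup.map (Subgroup.subtype H) (Cfsg.pResidual p ↥H)

namespace Cfsg.Agent.S2830

/-- Let H act by conjugation on the elementary abelian p-subgroup V of a finite group G (H ≤ N(V)), with H p-irreducible and O^p(H) not centralizing V. Then C_H(V) is p-closed and C_T(V) ≤ O_p(H) for every p-subgroup T of H. If in addition O_p(H) centralizes V, then C_T(V) = T ∩ O_p(H) for every p-subgroup T of H, and V is p-reduced for H: O_p(H/C_H(V)) = 1. -/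
theorem result {G : Type*} [Group G] [Finite G] {p : ℕ} [Fact p.Prime] (V H : Subgroup G) (hV : Cfsg.IsElementaryAbelian p V) (hHV : H ≤ Subgroup.normalizer (V : Set G)) (hH : Cfsg.IsPIrreducible p ↥H) (hnc : ¬ (Cfsg.pResidual p ↥H).map H.subtype ≤ Subgroup.centralizer (V : Set G)) [hn : ((Subgroup.centralizer (V : Set G)).subgroupOf H).Normal] : Cfsg.IsPClosed p ↥(H ⊓ Subgroup.centralizer (V : Set G)) ∧ (∀ T : Subgroup G, T ≤ H → IsPGroup p ↥T → T ⊓ Subgroup.centralizer (V : Set G) ≤ Cfsg.pCoreOf p H) ∧ (Cfsg.pCoreOf p H ≤ Subgroup.centralizer (V : Set G) → (∀ T : Subgroup G, T ≤ H → IsPGroup p ↥T → T ⊓ Subgroup.centralizer (V : Set G) = T ⊓ Cfsg.pCoreOf p H) ∧ Cfsg.pCore p (↥H ⧸ (Subgroup.centralizer (V : Set G)).subgroupOf H) = ⊥) := by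
  classical
  set C := Subgroup.centralizer (V : Set G) with hC
  have hHC : H ≤ Subgroup.normalizer (C : Set G) := le_normalizer_centralizer hHV
  have hHN : H ≤ Subgroup.normalizer ((H ⊓ C : Subgroup G) : Set G) :=
    le_normalizer_inf Subgroup.le_normalizer hHC
  have hclosed : ∀ N : Subgroup G, N ≤ H → H ≤ Subgroup.normalizer (N : Set G) →
      (¬ (Cfsg.pResidual p ↥H).map H.subtype ≤ N) → N ⊓ H ≤ H → 
      ∀ T : Subgroup G, T ≤ N → IsPGroup p ↥T → T ≤ Cfsg.pCoreOf p H := by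
    intro N hNH hHN hres _ T hTN hT
    have hNn : (N.subgroupOf H).Normal := (normal_subgroupOf_iff hNH).2 hHN
    have h1 : IsPClosed p ↥(N.subgroupOf H) := by
      by_contra h
      apply hres
      have h2 := Subgroup.map_mono (f := H.subtype) (hH.2 _ hNn h)
      rwa [Subgroup.map_subgroupOf_eq_of_le hNH] at h2
    obtain ⟨S, hS⟩ := Cfsg.Agent.L.exists_sylIn (p := p) (⊤ : Subgroup H)
    rw [isPClosed_normal_iff hS] at h1
    have hTp : IsPGroup p (T.subgroupOf H) := isPGroup_subgroupOf hT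
    obtain ⟨x, hx, hxS⟩ := hS.exists_conj_le hTp le_top
    have hT2 : Cfsg.Agent.L.cj x (T.subgroupOf H) ≤ pCore p H := by
      refine le_trans (le_inf hxS ?_) h1
      rintro _ ⟨y, hy, rfl⟩
      exact hNn.conj_mem y (hTN hy) x
    intro t ht
    have h3 : x * (⟨t, hNH (hTN ht)⟩ : H) * x⁻¹ ∈ pCore p H :=
      hT2 (Cfsg.Agent.L.conj_mem_cj (show (⟨t, hNH (hTN ht)⟩ : H) ∈ T.subgroupOf H from ht))
    have h4 := (pCore_normal p H).conj_mem _ h3 x⁻¹
    have h5 : x⁻¹ * (x * (⟨t, hNH (hTN ht)⟩ : H) * x⁻¹) * x⁻¹⁻¹ = ⟨t, hNH (hTN ht)⟩ := by group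
    rw [h5] at h4
    exact ⟨_, h4, rfl⟩
  have hC1 := hclosed (H ⊓ C) inf_le_left hHN (fun h => hnc (h.trans inf_le_right)) inf_le_right
  have h2 : ∀ T : Subgroup G, T ≤ H → IsPGroup p ↥T → T ⊓ C ≤ Cfsg.pCoreOf p H := by
    intro T hT hTp
    exact hC1 (T ⊓ C) (inf_le_inf_right _ hT) (hTp.to_le inf_le_left)
  refine ⟨?_, h2, fun hO => ⟨fun T hT hTp => ?_, ?_⟩⟩
  · intro P
    have h4 : (P : Subgroup ↥(H ⊓ C)) ≤ (pCoreOf p H).subgroupOf (H ⊓ C) := by
      intro x hx
      exact hC1 ((P : Subgroup ↥(H ⊓ C)).map (H ⊓ C).subtype) (Subgroup.map_subtype_le _)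
        (P.isPGroup'.map _) ⟨x, hx, rfl⟩
    have h3 : (pCoreOf p H).subgroupOf (H ⊓ C) = (P : Subgroup ↥(H ⊓ C)) :=
      P.is_maximal' (isPGroup_subgroupOf (isPGroup_pCoreOf H)) h4
    rw [← h3]
    refine ⟨fun x hx g => ?_⟩
    exact conj_mem_of_mem_normalizer (H := pCoreOf p H) (g := (g : G)) (x := (x : G))
      (le_normalizer_pCoreOf H g.2.1) hx
  · exact le_antisymm (le_inf inf_le_left (h2 T hT hTp)) (le_inf inf_le_left
      (inf_le_right.trans hO))
  · rw [pCore_quotient_eq_bot_iff]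
    intro D hDn hD
    have hres : 𝕆(p, (D.map H.subtype)) ≤ C := by
      refine pRes_le_of_pow ?_
      rintro _ ⟨x, hx, rfl⟩
      obtain ⟨k, hk⟩ := hD x hx
      exact ⟨k, hk⟩
    have hDH : H ≤ Subgroup.normalizer ((D.map H.subtype : Subgroup G) : Set G) := by
      rw [← normal_subgroupOf_iff (Subgroup.map_subtype_le _), Subgroup.subgroupOf,
        Subgroup.comap_map_eq_self_of_injective H.subtype_injective]
      exact hDn
    have h5 := hclosed (D.map H.subtype) (Subgroup.map_subtype_le _) hDH (fun h => hnc ?_)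
      inf_le_right
    · obtain ⟨R, hR⟩ := Cfsg.Agent.L.exists_sylIn (p := p) (D.map H.subtype)
      have h6 : D.map H.subtype ≤ C := by
        rw [← sylIn_sup_pRes hR]
        exact sup_le ((h5 R hR.le hR.isPGroup).trans hO) hres
      intro x hx
      exact h6 ⟨x, hx, rfl⟩
    · have h7 := pRes_mono (p := p) h
      rw [pRes_pRes] at h7
      exact h7.trans hres

end Cfsg.Agent.S2830
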