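import Cfsg.Statements.S2832
import Cfsg.Agent.H18.MinOver

set_option autoImplicit false
open Cfsg

namespace Cfsg.Agent.S2832

/-- Let H be a finite group with Sylow p-subgroup T such that H is T-minimal (generated by the conjugates of T, with T in exactly one maximal subgroup), and let N be a normal subgroup of H. Then either H/N is a p-group or H/N is minimal over the image of T in the same sense. -/
theorem result {H : Type*} [Group H] [Finite H] {p : ℕ} [Fact p.Prime] (T : Sylow p H) (hmin : Cfsg.IsMinimalOver (T : Subgroup H)) (N : Subgroup H) [N.Normal] : IsPGroup p (H ⧸ N) ∨ Cfsg.IsMinimalOver ((T : Subgroup H).map (QuotientGroup.mk' N)) := by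
  by_cases h : (T : Subgroup H) ⊔ N = ⊤
  · left
    intro q
    obtain ⟨g, rfl⟩ := QuotientGroup.mk_surjective q
    have hg : g ∈ (T : Subgroup H) ⊔ N := h ▸ Subgroup.mem_top g
    rw [Subgroup.mem_sup_of_normal_right] at hg
    obtain ⟨t, ht, n, hn, rfl⟩ := hg
    obtain ⟨k, hk⟩ := H18.isPGroup_of_mem T.isPGroup' ht
    refine ⟨k, ?_⟩
    have h3 : ((t * n : H) : H ⧸ N) = (t : H ⧸ N) := by
      rw [QuotientGroup.mk_mul, (QuotientGroup.eq_one_iff n).2 hn, mul_one]
    rw [h3, ← QuotientGroup.mk_pow, hk, QuotientGroup.mk_one]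
  · right
    exact H18.IsMinimalOver.quotient hmin N h

end Cfsg.Agent.S2832
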