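import Cfsg.Statements.S2836
import Cfsg.Agent.H18.MinOver2

set_option autoImplicit false
open Cfsg
open Cfsg.Agent.H18

namespace Cfsg.Agent.S2836

/-- Let L be a finite group, L₀ a maximal subgroup, T a Sylow p-subgroup of L₀, Y ≤ T, and suppose L is Y-minimal. Let D be the intersection of the conjugates of L₀ (the core of L₀). Then D contains O_p(L) and D/O_p(L) is the Frattini subgroup of L/O_p(L), so D is p-closed; and every normal subgroup N of L contained in L₀ is p-closed with N/O_p(N) a nilpotent group of order prime to p. -/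
theorem result {L : Type*} [Group L] [Finite L] {p : ℕ} [Fact p.Prime] (L₀ : Subgroup L) (hL₀ : IsCoatom L₀) (T : Sylow p ↥L₀) (Y : Subgroup L) (hYT : Y ≤ (T : Subgroup ↥L₀).map L₀.subtype) (hmin : Cfsg.IsMinimalOver Y) : (Cfsg.pCore p L ≤ L₀.normalCore ∧ (L₀.normalCore).map (QuotientGroup.mk' (Cfsg.pCore p L)) = frattini (L ⧸ Cfsg.pCore p L) ∧ Cfsg.IsPClosed p ↥(L₀.normalCore)) ∧ ∀ (N : Subgroup L) [N.Normal], N ≤ L₀ → Cfsg.IsPClosed p ↥N ∧ Group.IsNilpotent (↥N ⧸ Cfsg.pCore p ↥N) ∧ (Nat.card (↥N ⧸ Cfsg.pCore p ↥N)).Coprime p := by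
  classical
  obtain ⟨h1, h2, h3, h4, h5, h6⟩ :=
    H18.IsMinimalOver.facts (p := p) hL₀ (Cfsg.Agent.L.sylIn_of_sylow T) hYT hmin
  set R := (T : Subgroup ↥L₀).map L₀.subtype with hR
  have hRL : R ≤ L₀ := Subgroup.map_subtype_le _
  have hcl : ∀ (N : Subgroup L) [N.Normal], N ≤ L₀ → Cfsg.IsPClosed p ↥N := by
    intro N _ hN
    rw [isPClosed_normal_iff h3]
    exact IsMinimalOver.inf_le_pCore hL₀ h3 hRL hYT hmin hN
  have hfr := IsMinimalOver.core_le_frattini hL₀ h3 hRL hYT hmin h2 rfl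
  refine ⟨⟨Subgroup.normal_le_normalCore.2 h2, hfr, hcl _ (Subgroup.normalCore_le L₀)⟩, ?_⟩
  intro N hNn hN
  refine ⟨hcl N hN, ?_, ?_⟩
  · set f : N →* L ⧸ Cfsg.pCore p L := (QuotientGroup.mk' (Cfsg.pCore p L)).comp N.subtype with hf
    have hker : f.ker = Cfsg.pCore p N := by
      rw [← pCoreOf_subgroupOf, pCoreOf_eq_inf_of_isSubnormal hNn.isSubnormal]
      ext x
      rw [MonoidHom.mem_ker, Subgroup.mem_subgroupOf, Subgroup.mem_inf]
      simp only [hf, MonoidHom.comp_apply, QuotientGroup.mk'_apply, Subgroup.coe_subtype,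
        QuotientGroup.eq_one_iff, x.2]
      tauto
    have hrange : f.range ≤ frattini (L ⧸ Cfsg.pCore p L) := by
      rw [← hfr]
      rintro _ ⟨x, rfl⟩
      refine ⟨x, ?_, rfl⟩
      exact (Subgroup.normal_le_normalCore.2 hN) x.2
    have hnil : Group.IsNilpotent (frattini (L ⧸ Cfsg.pCore p L)) := frattini_nilpotent
    have h7 : Group.IsNilpotent f.range := by
      have h8 : Group.IsNilpotent (f.range.subgroupOf (frattini (L ⧸ Cfsg.pCore p L))) :=
        inferInstance
      exact Group.nilpotent_of_mulEquiv (Subgroup.subgroupOfEquivOfLe hrange)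
    have h9 : Group.IsNilpotent (N ⧸ f.ker) :=
      Group.nilpotent_of_mulEquiv (QuotientGroup.quotientKerEquivRange f).symm
    exact Group.nilpotent_of_mulEquiv (QuotientGroup.quotientMulEquivOfEq hker)
  · have h7 : R ⊓ N ≤ Cfsg.pCore p L := IsMinimalOver.inf_le_pCore hL₀ h3 hRL hYT hmin hN
    have h8 := sylIn_inf_of_normalizes h3 (N := N) le_top le_normalizer_of_normal
    have h9 : R ⊓ N ≤ pCoreOf p N := by
      rw [pCoreOf_eq_inf_of_isSubnormal hNn.isSubnormal]
      exact le_inf inf_le_right h7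
    rw [Nat.coprime_comm, Nat.Prime.coprime_iff_not_dvd Fact.out]
    intro hd
    apply h8.not_dvd
    refine hd.trans ?_
    have : Nat.card (↥N ⧸ Cfsg.pCore p ↥N) = (pCoreOf p N).relIndex N := by
      rw [Subgroup.relIndex, pCoreOf_subgroupOf]; rfl
    rw [this]
    exact Subgroup.relIndex_dvd_of_le_left N h9

end Cfsg.Agent.S2836
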