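import Cfsg.Statements.S2837
import Cfsg.Agent.H18.MinOver2
import Cfsg.Agent.H18.FrattiniP
import Cfsg.Agent.H18.Quad

set_option autoImplicit false
open Cfsg
open scoped commutatorElement
open Cfsg.Agent.H18

namespace Cfsg.Agent.S2837

/-- Let L be a finite group of characteristic p, L₀ a maximal subgroup, Y an elementary abelian p-subgroup of L₀ with L Y-minimal and O_p(L) ≤ N_L(Y). Put A = the normal closure of O_p(L) ∩ Y in L. Then for every g ∈ L outside L₀: Φ(A) = A' = [A ∩ Y, A] = [A ∩ Y, A ∩ gYg⁻¹] ≤ C_Y(L), and Y ∩ gYg⁻¹ = (A ∩ Y) ∩ (A ∩ gYg⁻¹) = C_Y(L) = C_A(L). -/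
theorem result {L : Type*} [Group L] [Finite L] {p : ℕ} [Fact p.Prime] (hchar : Subgroup.centralizer (Cfsg.pCore p L : Set L) ≤ Cfsg.pCore p L) (L₀ : Subgroup L) (hL₀ : IsCoatom L₀) (Y : Subgroup L) (hYL₀ : Y ≤ L₀) (hYel : Cfsg.IsElementaryAbelian p Y) (hmin : Cfsg.IsMinimalOver Y) (hOY : Cfsg.pCore p L ≤ Subgroup.normalizer (Y : Set L)) (A : Subgroup L) (hA : A = Subgroup.normalClosure (((Cfsg.pCore p L ⊓ Y : Subgroup L)) : Set L)) (g : L) (hg : g ∉ L₀) : (frattini ↥A).map A.subtype = ⁅A, A⁆ ∧ ⁅A, A⁆ = ⁅A ⊓ Y, A⁆ ∧ ⁅A ⊓ Y, A⁆ = ⁅A ⊓ Y, A ⊓ Y.map (MulAut.conj g).toMonoidHom⁆ ∧ ⁅A ⊓ Y, A⁆ ≤ Y ⊓ Subgroup.center L ∧ Y ⊓ Y.map (MulAut.conj g).toMonoidHom = Y ⊓ Subgroup.center L ∧ (A ⊓ Y) ⊓ (A ⊓ Y.map (MulAut.conj g).toMonoidHom) = Y ⊓ Subgroup.center L ∧ A ⊓ Subgroup.center L = Y ⊓ Subgroup.center L := by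
  classical
  set O := Cfsg.pCore p L with hO
  have hYp : IsPGroup p Y := IsElementaryAbelian.isPGroup' hYel
  obtain ⟨T, hT, hYT⟩ := Cfsg.Agent.L.exists_sylIn_ge hYp hYL₀
  obtain ⟨h1, h2, h3, h4, h5, h6⟩ := H18.IsMinimalOver.facts (p := p) hL₀ hT hYT hmin
  have hgen : Y ⊔ Cfsg.Agent.L.cj g Y = ⊤ := h5 g hg
  have h7 : Y ⊓ Cfsg.Agent.L.cj g Y = Y ⊓ Subgroup.center L := h6 hYel.1 g hg
  set Yg := Cfsg.Agent.L.cj g Y with hYg
  have hYab := (isElementaryAbelian_iff.1 hYel).1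
  have hYgel : Cfsg.IsElementaryAbelian p Yg := isElementaryAbelian_map _ hYel
  have hYgab := (isElementaryAbelian_iff.1 hYgel).1
  have hOn : O.Normal := pCore_normal p L
  have hAO : A ≤ O := by
    rw [hA]
    exact Subgroup.normalClosure_le_normal (SetLike.coe_subset_coe.2 inf_le_left)
  have hAn : A.Normal := by rw [hA]; infer_instance
  have hB : A ⊓ Y = O ⊓ Y := by
    refine le_antisymm (inf_le_inf_right _ hAO) (le_inf ?_ inf_le_right)
    rw [hA]; exact Subgroup.le_normalClosure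
  have hcO : Cfsg.Agent.L.cj g O = O := mem_normalizer_iff_map.1 (le_normalizer_of_normal (Subgroup.mem_top g))
  have hcA : Cfsg.Agent.L.cj g A = A := mem_normalizer_iff_map.1 (le_normalizer_of_normal (Subgroup.mem_top g))
  have hBg : A ⊓ Yg = O ⊓ Yg := by
    have := congrArg (Cfsg.Agent.L.cj g) hB
    rwa [Cfsg.Agent.L.cj_inf, Cfsg.Agent.L.cj_inf, hcO, hcA] at this
  have hOYg : O ≤ Subgroup.normalizer (Yg : Set L) := by
    have := Cfsg.Agent.L.cj_mono (g := g) hOY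
    rw [hcO] at this
    refine this.trans ?_
    exact (Cfsg.Agent.L.nz_cj g Y).ge
  -- A = B ⊔ Bg
  have hBn : ((A ⊓ Y) ⊔ (A ⊓ Yg)).Normal := by
    rw [← Subgroup.normalizer_eq_top_iff, eq_top_iff, ← hgen]
    have key : ∀ U V : Subgroup L, (∀ x ∈ U, ∀ y ∈ U, x * y = y * x) →
        O ≤ Subgroup.normalizer (U : Set L) → A ⊓ U = O ⊓ U →
        U ≤ Subgroup.normalizer (((A ⊓ U) ⊔ (A ⊓ V) : Subgroup L) : Set L) := by
      intro U V hab hOU hAU
      refine le_normalizer_of_conj_mem fun y hy x hx => ?_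
      have hBU : ∀ b ∈ A ⊓ U, y * b * y⁻¹ = b := fun b hb => by
        rw [hab y hy b hb.2, mul_inv_cancel_right]
      have hgen' : ∀ z ∈ A, y * z * y⁻¹ * z⁻¹ ∈ A ⊓ U := by
        intro z hz
        refine Subgroup.mem_inf.2 ⟨mul_mem (hAn.conj_mem z hz y) (inv_mem hz), ?_⟩
        have : y * z * y⁻¹ * z⁻¹ = y * (z * y⁻¹ * z⁻¹) := by group
        rw [this]
        exact mul_mem hy (conj_mem_of_mem_normalizer (hOU (hAO hz)) (inv_mem hy))
      have hxA : x ∈ A := (sup_le inf_le_left inf_le_left : (A ⊓ U) ⊔ (A ⊓ V) ≤ A) hx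
      have : y * x * y⁻¹ = (y * x * y⁻¹ * x⁻¹) * x := by group
      rw [this]
      exact mul_mem (Subgroup.mem_sup_left (hgen' x hxA)) hx
    refine sup_le (key Y Yg hYab hOY hB) ?_
    rw [sup_comm (A ⊓ Y)]
    exact key Yg Y hYgab hOYg hBg
  have hAeq : A = (A ⊓ Y) ⊔ (A ⊓ Yg) := by
    refine le_antisymm ?_ (sup_le inf_le_left inf_le_left)
    conv_lhs => rw [hA]
    refine Subgroup.normalClosure_le_normal (SetLike.coe_subset_coe.2 ?_)
    rw [← hB]; exact le_sup_left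
  -- [B, Bg] central
  have hBBg : ⁅A ⊓ Y, A ⊓ Yg⁆ ≤ Y ⊓ Subgroup.center L := by
    rw [← h7]
    refine le_inf ?_ ?_
    · rw [Subgroup.commutator_comm]
      refine le_trans (Subgroup.commutator_mono (inf_le_left.trans hAO) inf_le_right) ?_
      exact Subgroup.le_normalizer_iff_commutator_le_right.1 hOY
    · refine le_trans (Subgroup.commutator_mono (inf_le_left.trans hAO) inf_le_right) ?_
      exact Subgroup.le_normalizer_iff_commutator_le_right.1 hOYg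
  have hcenter : ∀ x ∈ Subgroup.center L, ∀ y : L, x * y = y * x := fun x hx y =>
    (Subgroup.mem_center_iff.1 hx y).symm
  set K := ⁅A ⊓ Y, A ⊓ Yg⁆ with hK
  have hKc : K ≤ Subgroup.center L := hBBg.trans inf_le_right
  have hKn : K.Normal := ⟨fun x hx y => by
    rw [← hcenter x (hKc hx) y, mul_inv_cancel_right]; exact hx⟩
  have hBK : ∀ U : Subgroup L, (∀ x ∈ U, ∀ y ∈ U, x * y = y * x) → ⁅U, U⁆ = ⊥ := by
    intro U hU
    rw [Subgroup.commutator_eq_bot_iff_le_centralizer]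
    exact le_centralizer_iff_forall.2 hU
  have hBA : ⁅A ⊓ Y, A⁆ = K := by
    have hn1 : A ⊓ Y ≤ Subgroup.normalizer ((A ⊓ Y : Subgroup L) : Set L) := Subgroup.le_normalizer
    have hn2 : A ⊓ Yg ≤ Subgroup.normalizer ((A ⊓ Y : Subgroup L) : Set L) :=
      le_normalizer_inf (inf_le_left.trans Subgroup.le_normalizer)
        ((inf_le_left.trans hAO).trans hOY)
    have h8 : ⁅A ⊓ Y, (A ⊓ Y) ⊔ (A ⊓ Yg)⁆ = ⁅A ⊓ Y, A ⊓ Y⁆ ⊔ ⁅A ⊓ Y, A ⊓ Yg⁆ :=
      commutator_sup_eq hn1 hn2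
    rw [← hAeq, hBK (A ⊓ Y) (fun x hx y hy => hYab x hx.2 y hy.2), bot_sup_eq] at h8
    exact h8
  have hBgA : ⁅A ⊓ Yg, A⁆ = K := by
    have hn1 : A ⊓ Yg ≤ Subgroup.normalizer ((A ⊓ Yg : Subgroup L) : Set L) := Subgroup.le_normalizer
    have hn2 : A ⊓ Y ≤ Subgroup.normalizer ((A ⊓ Yg : Subgroup L) : Set L) :=
      le_normalizer_inf (inf_le_left.trans Subgroup.le_normalizer)
        ((inf_le_left.trans hAO).trans hOYg)
    have h8 : ⁅A ⊓ Yg, (A ⊓ Y) ⊔ (A ⊓ Yg)⁆ = ⁅A ⊓ Yg, A ⊓ Y⁆ ⊔ ⁅A ⊓ Yg, A ⊓ Yg⁆ :=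
      commutator_sup_eq hn2 hn1
    rw [← hAeq, hBK (A ⊓ Yg) (fun x hx y hy => hYgab x hx.2 y hy.2), sup_bot_eq,
      Subgroup.commutator_comm (A ⊓ Yg) (A ⊓ Y)] at h8
    exact h8
  have hAA : ⁅A, A⁆ = K := by
    refine le_antisymm ?_ (Subgroup.commutator_mono inf_le_left inf_le_left)
    have h9 : ⁅(A ⊓ Y) ⊔ (A ⊓ Yg), A⁆ ≤ K := by
      have h10 : ∀ U : Subgroup L, ⁅U, A⁆ ≤ K ↔ U ≤ (Subgroup.centralizer
        ((A.map (QuotientGroup.mk' K) : Subgroup (L ⧸ K)) : Set (L ⧸ K))).comap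
          (QuotientGroup.mk' K) := by
        intro U
        rw [← Subgroup.map_le_iff_le_comap, ← Subgroup.commutator_eq_bot_iff_le_centralizer,
          ← Subgroup.map_commutator, Subgroup.map_eq_bot_iff, QuotientGroup.ker_mk']
      rw [h10]
      exact sup_le ((h10 _).1 hBA.le) ((h10 _).1 hBgA.le)
    rwa [← hAeq] at h9
  have hAp : IsPGroup p A := (isPGroup_pCore p L).to_le hAO
  have hYZ : Y ⊓ Subgroup.center L ≤ O := by
    refine le_pCore ⟨fun x hx y => ?_⟩ (hYp.to_le inf_le_left)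
    rw [← hcenter x hx.2 y, mul_inv_cancel_right]; exact hx
  have hYZA : Y ⊓ Subgroup.center L ≤ A := by
    have : Y ⊓ Subgroup.center L ≤ A ⊓ Y := by
      rw [hB]; exact le_inf hYZ inf_le_left
    exact this.trans inf_le_left
  have hpow : ∀ x ∈ A, x ^ p ∈ K := by
    intro x hx
    have hnn : A ⊓ Y ≤ Subgroup.normalizer ((A ⊓ Yg : Subgroup L) : Set L) :=
      le_normalizer_inf (inf_le_left.trans Subgroup.le_normalizer)
        ((inf_le_left.trans hAO).trans hOYg)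
    rw [hAeq, mem_sup_iff_of_le_normalizer hnn] at hx
    obtain ⟨b, hb, c, hc, rfl⟩ := hx
    have hbc : (QuotientGroup.mk' K) b * (QuotientGroup.mk' K) c =
        (QuotientGroup.mk' K) c * (QuotientGroup.mk' K) b := by
      rw [← commutatorElement_eq_one_iff_mul_comm, ← map_commutatorElement]
      exact (QuotientGroup.eq_one_iff _).2 (Subgroup.commutator_mem_commutator hb hc)
    rw [← QuotientGroup.eq_one_iff]
    have : (((b * c) ^ p : L) : L ⧸ K) = ((QuotientGroup.mk' K) b * (QuotientGroup.mk' K) c) ^ p := by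
      rfl
    rw [this, Commute.mul_pow hbc, ← map_pow, ← map_pow,
      (isElementaryAbelian_iff.1 hYel).2 b hb.2, (isElementaryAbelian_iff.1 hYgel).2 c hc.2,
      map_one, mul_one]
  refine ⟨?_, ?_, ?_, ?_, h7, ?_, ?_⟩
  · refine le_antisymm ?_ (commutator_le_frat hAp)
    refine frat_le_of_elementary (p := p) le_rfl fun x hx => ?_
    rw [hAA]; exact hpow x hx
  · rw [hAA, hBA]
  · exact hBA
  · rw [hBA]; exact hBBg
  · have : (A ⊓ Y) ⊓ (A ⊓ Yg) = A ⊓ (Y ⊓ Yg) := by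
      ext x; simp only [Subgroup.mem_inf]; tauto
    rw [show (A ⊓ Y) ⊓ (A ⊓ Y.map (MulAut.conj g).toMonoidHom) = A ⊓ (Y ⊓ Yg) from this, h7]
    exact inf_eq_right.2 hYZA
  · refine le_antisymm (le_inf ?_ inf_le_right) (le_inf hYZA inf_le_right)
    rintro x ⟨hxA, hxZ⟩
    have hxA' : x ∈ A := hxA
    have hnn : A ⊓ Y ≤ Subgroup.normalizer ((A ⊓ Yg : Subgroup L) : Set L) :=
      le_normalizer_inf (inf_le_left.trans Subgroup.le_normalizer)
        ((inf_le_left.trans hAO).trans hOYg)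
    rw [hAeq, mem_sup_iff_of_le_normalizer hnn] at hxA'
    obtain ⟨b, hb, c, hc, e⟩ := hxA'
    have hcZ : c ∈ Subgroup.center L := by
      have h11 : (⊤ : Subgroup L) ≤ Subgroup.centralizer ({c} : Set L) := by
        rw [← hgen]
        refine sup_le ?_ ?_
        · intro y hy
          rw [commute_iff_mem_centralizer_singleton]
          have e2 : c = b⁻¹ * x := by rw [← e]; group
          rw [e2, mul_assoc, hcenter x hxZ y, ← mul_assoc, hYab b⁻¹ (inv_mem hb.2) y hy, mul_assoc]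
        · intro y hy
          rw [commute_iff_mem_centralizer_singleton]
          exact hYgab c hc.2 y hy
      rw [Subgroup.mem_center_iff]
      intro y
      exact (commute_iff_mem_centralizer_singleton.1 (h11 (Subgroup.mem_top y))).symm
    have hcY : c ∈ Y := by
      obtain ⟨y, hy, hyc⟩ := hc.2
      have h12 : y = g⁻¹ * c * g := by
        rw [← hyc]; simp only [MulAut.conj_apply, MulEquiv.coe_toMonoidHom]; group
      rw [mul_assoc, hcenter c hcZ g, ← mul_assoc, inv_mul_cancel, one_mul] at h12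
      rw [← h12]; exact hy
    rw [← e]
    exact mul_mem hb.2 hcY

end Cfsg.Agent.S2837
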