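import Cfsg.Statements.S2839
import Cfsg.Agent.H18.WC

set_option autoImplicit false
open Cfsg
open Cfsg.Agent.H18

namespace Cfsg.Agent.S2839

/-- Let Q be a nontrivial p-subgroup of the finite group H that is a weakly closed subgroup, K a subgroup containing Q and N a normal subgroup of H. Then Q is a weakly closed subgroup of K; every H-conjugate of Q contained in K is a K-conjugate of Q; N_K(Q) contains a Sylow p-subgroup of K; N = N_N(Q)·O^p(N); and QN/N is a weakly closed subgroup of H/N. -/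
theorem result {H : Type*} [Group H] [Finite H] {p : ℕ} [Fact p.Prime] (Q : Subgroup H) (hQp : IsPGroup p ↥Q) (hQ1 : Q ≠ ⊥) (hwc : Cfsg.IsWeaklyClosedSubgroup p Q) (K : Subgroup H) (hQK : Q ≤ K) (N' : Subgroup H) [N'.Normal] : Cfsg.IsWeaklyClosedSubgroup p (Q.subgroupOf K) ∧ (∀ g : H, ((Q : Subgroup H).map (MulAut.conj (g : H)).toMonoidHom) ≤ K → ∃ k ∈ K, ((Q : Subgroup H).map (MulAut.conj (g : H)).toMonoidHom) = ((Q : Subgroup H).map (MulAut.conj (k : H)).toMonoidHom)) ∧ Cfsg.IsParabolic p ((Subgroup.normalizer ((Q : Subgroup H) : Set H)).subgroupOf K) ∧ (N' ⊓ Subgroup.normalizer ((Q : Subgroup H) : Set H)) ⊔ (Cfsg.pResidual p ↥N').map N'.subtype = N' ∧ Cfsg.IsWeaklyClosedSubgroup p (Q.map (QuotientGroup.mk' N')) := by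
  classical
  have h3 : WC3 p Q := wc3_of_wcs hwc
  obtain ⟨T, hT, hQT, hTN⟩ := h3.exists_sylIn hQp hQK
  obtain ⟨S, hS, hQS, hSN⟩ := h3.exists_sylIn hQp (le_top : Q ≤ ⊤)
  refine ⟨wcs_of_wc3 (isPGroup_subgroupOf hQp) (h3.subgroupOf hQK), fun g hg =>
    h3.exists_conj hQp hQK hg, ⟨hT.toSylow, ?_⟩, ?_, ?_⟩
  · rw [Cfsg.Agent.L.SylIn.toSylow_coe]
    exact Subgroup.comap_mono hTN
  · refine le_antisymm (sup_le inf_le_left (pRes_le N')) ?_
    have h4 : Cfsg.Agent.L.SylIn p (S ⊓ N') N' :=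
      sylIn_inf_of_normalizes hS le_top le_normalizer_of_normal
    conv_lhs => rw [← sylIn_sup_pRes h4]
    exact sup_le_sup_right (le_inf inf_le_right (inf_le_left.trans hSN)) _
  · refine ⟨(sylInTop hS).mapSurjective (QuotientGroup.mk'_surjective N'), Subgroup.map_mono hQS,
      ?_⟩
    intro gb hgb
    obtain ⟨g, rfl⟩ := QuotientGroup.mk'_surjective N' gb
    have e1 : ∀ x : H, (Q.map (QuotientGroup.mk' N')).map
        (MulAut.conj ((QuotientGroup.mk' N') x)).toMonoidHom =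
        (Cfsg.Agent.L.cj x Q).map (QuotientGroup.mk' N') := by
      intro x
      rw [Cfsg.Agent.L.cj, Subgroup.map_map, Subgroup.map_map]
      congr 1
    rw [e1] at hgb ⊢
    have h5 : Cfsg.Agent.L.cj g Q ≤ N' ⊔ S := by
      have h6 := Subgroup.map_le_iff_le_comap.1 hgb
      have h7 : (((sylInTop hS).mapSurjective (QuotientGroup.mk'_surjective N') :
        Sylow p (H ⧸ N')) : Subgroup (H ⧸ N')) = S.map (QuotientGroup.mk' N') := rfl
      rw [h7, Subgroup.comap_map_eq, QuotientGroup.ker_mk', sup_comm] at h6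
      exact h6
    obtain ⟨k, hk, e⟩ := h3.exists_conj hQp (hQS.trans le_sup_right) h5
    rw [Subgroup.mem_sup_of_normal_left] at hk
    obtain ⟨n, hn, t, ht, rfl⟩ := hk
    rw [e, ← Cfsg.Agent.L.cj_cj, show Cfsg.Agent.L.cj t Q = Q from
      mem_normalizer_iff_map.1 (hSN ht), ← e1]
    have h8 : (QuotientGroup.mk' N') n = 1 := (QuotientGroup.eq_one_iff n).2 hn
    rw [h8, map_one]
    exact Subgroup.map_id _

end Cfsg.Agent.S2839
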