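import Cfsg.Statements.S2840
import Cfsg.Agent.H18.WC

set_option autoImplicit false
open Cfsg
open Cfsg.Agent.H18

namespace Cfsg.Agent.S2840

/-- Let Q be a nontrivial p-subgroup of the finite group H that is a weakly closed subgroup and K a subgroup containing Q; let K° be the weak closure of Q in K (generated by the H-conjugates of Q inside K). Then K° is generated by the K-conjugates of Q, and K° is the subnormal closure of Q in K. -/
theorem result {H : Type*} [Group H] [Finite H] {p : ℕ} [Fact p.Prime] (Q : Subgroup H) (hQp : IsPGroup p ↥Q) (hQ1 : Q ≠ ⊥) (hwc : Cfsg.IsWeaklyClosedSubgroup p Q) (K : Subgroup H) (hQK : Q ≤ K) (Kc : Subgroup H) (hKc : Kc = Cfsg.weakClosure Q K) : Kc = ⨆ k : ↥K, ((Q : Subgroup H).map (MulAut.conj ((k : H) : H)).toMonoidHom) ∧ Kc = (Cfsg.subnormalClosure (Q.subgroupOf K)).map K.subtype := by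
  classical
  subst hKc
  have h3 : WC3 p Q := wc3_of_wcs hwc
  have h1 : Cfsg.weakClosure Q K =
      ⨆ k : ↥K, ((Q : Subgroup H).map (MulAut.conj ((k : H) : H)).toMonoidHom) := by
    refine le_antisymm ?_ ?_
    · rw [weakClosure_le_iff]
      intro g hg
      obtain ⟨k, hk, e⟩ := h3.exists_conj hQp hQK hg
      rw [e]
      exact le_iSup (fun k : ↥K => (Q : Subgroup H).map (MulAut.conj ((k : H) : H)).toMonoidHom)
        ⟨k, hk⟩
    · rw [iSup_le_iff]
      intro k
      refine cj_le_weakClosure ?_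
      rw [Cfsg.Agent.L.cj_le_iff, Cfsg.Agent.L.cj_eq_self_of_mem (inv_mem k.2)]
      exact hQK
  refine ⟨h1, ?_⟩
  have hQ' : IsPGroup p (Q.subgroupOf K) := isPGroup_subgroupOf hQp
  have h3' : WC3 p (Q.subgroupOf K) := h3.subgroupOf hQK
  have h4 : Cfsg.subnormalClosure (Q.subgroupOf K) = Cfsg.weakClosure (Q.subgroupOf K) ⊤ := by
    refine le_antisymm (sInf_le ⟨le_weakClosure le_top, ?_⟩) (le_sInf ?_)
    · have : (Cfsg.weakClosure (Q.subgroupOf K) ⊤).Normal := by
        rw [← Subgroup.normalizer_eq_top_iff, eq_top_iff]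
        refine le_trans ?_ (normalizer_le_normalizer_weakClosure _ _)
        rw [Subgroup.normalizer_eq_top]
      exact this.isSubnormal
    · rintro X ⟨hX1, hX2⟩
      exact h3'.weakClosure_top_le hQ' hX2 hX1
  rw [h4]
  refine le_antisymm ?_ ?_
  · rw [h1, iSup_le_iff]
    intro k
    have h5 : Cfsg.Agent.L.cj k (Q.subgroupOf K) ≤ Cfsg.weakClosure (Q.subgroupOf K) ⊤ :=
      cj_le_weakClosure le_top
    have h6 := Subgroup.map_mono (f := K.subtype) h5
    refine le_trans ?_ h6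
    rintro _ ⟨q, hq, rfl⟩
    exact ⟨k * ⟨q, hQK hq⟩ * k⁻¹, Cfsg.Agent.L.conj_mem_cj (by exact hq), rfl⟩
  · rw [Subgroup.map_le_iff_le_comap, weakClosure_le_iff]
    rintro k -
    rw [← Subgroup.map_le_iff_le_comap]
    have h7 : (Cfsg.Agent.L.cj k (Q.subgroupOf K)).map K.subtype = Cfsg.Agent.L.cj (k : H) Q := by
      refine le_antisymm ?_ ?_
      · rintro _ ⟨_, ⟨q, hq, rfl⟩, rfl⟩
        exact ⟨q, hq, rfl⟩
      · rintro _ ⟨q, hq, rfl⟩
        exact ⟨k * ⟨q, hQK hq⟩ * k⁻¹, Cfsg.Agent.L.conj_mem_cj (by exact hq), rfl⟩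
    rw [h7]
    refine cj_le_weakClosure ?_
    rw [Cfsg.Agent.L.cj_le_iff, Cfsg.Agent.L.cj_eq_self_of_mem (inv_mem k.2)]
    exact hQK

end Cfsg.Agent.S2840
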