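import Cfsg.Statements.S2844
import Cfsg.Agent.H18.Large

set_option autoImplicit false
open Cfsg
open Cfsg.Agent.H18

namespace Cfsg.Agent.S2844

/-- Let Q be a nontrivial large p-subgroup of the finite group H and Q• = O_p(N_H(Q)). Then for every g ∈ H outside N_H(Q): C_H(Q) ∩ C_H(gQg⁻¹) = 1, C_H(Q•) ∩ C_H(gQ•g⁻¹) = 1, Z(Q) ∩ Z(gQg⁻¹) = 1 and Z(Q•) ∩ Z(gQ•g⁻¹) = 1; moreover N_H(Q) = N_H(Q•) and Q• is large in H. -/
theorem result {H : Type*} [Group H] [Finite H] {p : ℕ} [Fact p.Prime] (Q : Subgroup H) (hQp : IsPGroup p ↥Q) (hQ1 : Q ≠ ⊥) (hL : Cfsg.IsLarge Q) (Qb : Subgroup H) (hQb : Qb = Cfsg.largeBullet p Q) : (∀ g : H, g ∉ Subgroup.normalizer ((Q : Subgroup H) : Set H) → Subgroup.centralizer ((Q : Subgroup H) : Set H) ⊓ Subgroup.centralizer ((((Q : Subgroup H).map (MulAut.conj (g : H)).toMonoidHom) : Subgroup H) : Set H) = ⊥ ∧ Subgroup.centralizer ((Qb : Subgroup H) : Set H) ⊓ Subgroup.centralizer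 ((((Qb : Subgroup H).map (MulAut.conj (g : H)).toMonoidHom) : Subgroup H) : Set H) = ⊥ ∧ (Q ⊓ Subgroup.centralizer ((Q : Subgroup H) : Set H)) ⊓ (((Q : Subgroup H).map (MulAut.conj (g : H)).toMonoidHom) ⊓ Subgroup.centralizer ((((Q : Subgroup H).map (MulAut.conj (g : H)).toMonoidHom) : Subgroup H) : Set H)) = ⊥ ∧ (Qb ⊓ Subgroup.centralizer ((Qb : Subgroup H) : Set H)) ⊓ (((Qb : Subgroup H).map (MulAut.conj (g : H)).toMonoidHom) ⊓ Subgroup.centralizer ((((Qb : Subgroup H).map (MulAut.conj (g : H)).toMonoidHom) : Subgroup H) : Set H)) = ⊥) ∧ Subgroup.normalizer ((Q : Subgroup H) : Set H) = Subgroup.normalizer ((Qb : Subgroup H) : Set H) ∧ Cfsg.IsLarge Qb := by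
  subst hQb
  obtain ⟨h1, h2, h3⟩ := IsLarge.bullet hQp hQ1 hL
  refine ⟨fun g hg => ?_, h2, h3⟩
  have h4 := IsLarge.inf_centralizer hQp hQ1 hL hg
  refine ⟨h4, ?_, ?_, ?_⟩
  · rw [eq_bot_iff, ← h4]
    exact inf_le_inf (Subgroup.centralizer_le (SetLike.coe_subset_coe.2 h1))
      (Subgroup.centralizer_le (SetLike.coe_subset_coe.2 (Subgroup.map_mono h1)))
  · rw [eq_bot_iff, ← h4]
    exact inf_le_inf inf_le_right inf_le_right
  · rw [eq_bot_iff, ← h4]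
    exact inf_le_inf (inf_le_right.trans (Subgroup.centralizer_le (SetLike.coe_subset_coe.2 h1)))
      (inf_le_right.trans
        (Subgroup.centralizer_le (SetLike.coe_subset_coe.2 (Subgroup.map_mono h1))))

end Cfsg.Agent.S2844
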