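import Cfsg.Statements.S2845
import Cfsg.Agent.H18.Large

set_option autoImplicit false
open Cfsg
open Cfsg.Agent.H18

namespace Cfsg.Agent.S2845

/-- Let Q be a nontrivial large p-subgroup of the finite group H. Then for every subgroup L ≥ Q with O_p(L) ≠ 1, C_H(O_p(L)) is a p-group and L has characteristic p, and either the weak closure L° of Q in L equals Q or C_H(L°) = 1; for every subgroup R of H containing a Sylow p-subgroup of H with O_p(R) ≠ 1, C_H(O_p(R)) ≤ O_p(R); and H has parabolic characteristic p. -/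
theorem result {H : Type*} [Group H] [Finite H] {p : ℕ} [Fact p.Prime] (Q : Subgroup H) (hQp : IsPGroup p ↥Q) (hQ1 : Q ≠ ⊥) (hL : Cfsg.IsLarge Q) : (∀ L : Subgroup H, Q ≤ L → Cfsg.pCore p ↥L ≠ ⊥ → IsPGroup p ↥(Subgroup.centralizer (((Cfsg.pCoreOf p L) : Subgroup H) : Set H)) ∧ Subgroup.centralizer (Cfsg.pCore p ↥L : Set ↥L) ≤ Cfsg.pCore p ↥L ∧ (Cfsg.weakClosure Q L = Q ∨ Subgroup.centralizer (((Cfsg.weakClosure Q L) : Subgroup H) : Set H) = ⊥)) ∧ (∀ R : Subgroup H, Cfsg.IsParabolic p R → Cfsg.pCore p ↥R ≠ ⊥ → Subgroup.centralizer (((Cfsg.pCoreOf p R) : Subgroup H) : Set H) ≤ (Cfsg.pCoreOf p R)) ∧ Cfsg.IsOfParabolicCharacteristic p H := by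
  refine ⟨fun L hQL hO => ?_, fun R hR hO => ?_, fun R hR hR1 hpar => ?_⟩
  · obtain ⟨h1, h2⟩ := IsLarge.charP hQp hQ1 hL hQL (by rwa [Ne, pCoreOf_eq_bot_iff])
    refine ⟨h1, charP_iff_pCoreOf.2 h2, ?_⟩
    by_cases h : Cfsg.weakClosure Q L = Q
    · exact Or.inl h
    · right
      have h3 : ∃ g : H, Cfsg.Agent.L.cj g Q ≤ L ∧ g ∉ Subgroup.normalizer (Q : Set H) := by
        by_contra hc
        push Not at hc
        apply h
        refine le_antisymm ?_ (le_weakClosure hQL)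
        rw [weakClosure_le_iff]
        intro g hg
        rw [show Cfsg.Agent.L.cj g Q = Q from mem_normalizer_iff_map.1 (hc g hg)]
      obtain ⟨g, hg, hgN⟩ := h3
      rw [eq_bot_iff, ← IsLarge.inf_centralizer hQp hQ1 hL hgN]
      exact le_inf (Subgroup.centralizer_le (SetLike.coe_subset_coe.2 (le_weakClosure hQL)))
        (Subgroup.centralizer_le (SetLike.coe_subset_coe.2 (cj_le_weakClosure hg)))
  · obtain ⟨T, hT⟩ := hR
    exact IsLarge.centralizer_le_of_sylow hQp hQ1 hL (Cfsg.Agent.L.sylIn_top T) hT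
      (by rwa [Ne, pCoreOf_eq_bot_iff])
  · obtain ⟨T, hT⟩ := hpar
    have h1 : R ≤ pCoreOf p (Subgroup.normalizer (R : Set H)) :=
      le_pCoreOf Subgroup.le_normalizer le_rfl hR
    have h2 : pCoreOf p (Subgroup.normalizer (R : Set H)) ≠ ⊥ := fun h2 =>
      hR1 (by rw [eq_bot_iff, ← h2]; exact h1)
    rw [charP_iff_pCoreOf]
    exact inf_le_right.trans
      (IsLarge.centralizer_le_of_sylow hQp hQ1 hL (Cfsg.Agent.L.sylIn_top T) hT h2)

end Cfsg.Agent.S2845
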