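import Cfsg.Statements.S2846
import Cfsg.Agent.H18.FrakM
import Cfsg.Agent.S2845

set_option autoImplicit false
open Cfsg
open Cfsg.Agent.H18

namespace Cfsg.Agent.S2846

/-- Let Q be a nontrivial large p-subgroup of the finite group H, S a Sylow p-subgroup containing Q, and L a subgroup containing S with O_p(L) ≠ 1 and C_H(O_p(L)) ≤ O_p(L). Then there are a subgroup M containing S having the basic property (M ∈ 𝔐_H, writing Y_X for the largest p-reduced normal subgroup of X and 𝓛_H for the set of subgroups X with O_p(X) ≠ 1 and C_H(O_p(X)) ≤ O_p(X): M ∈ 𝓛_H, M·C_H(Y_M) is the only maximal member of 𝓛_H containing M and its largest p-reduced normal subgroup is again Y_M, C_M(Y_M) is p-closed, and the image of C_M(Y_M) in M/O_p(M) lies in the Frattini subgroup of M/O_p(M)) and a subgroup L* with S ≤ L* ≤ M, O_p(L*) ≠ 1, C_H(O_p(L*)) ≤ O_p(L*), such that L·C_H(Y_L) = L*·C_H(Y_L), the weak closures of Q in L and in L* agree and lie in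 that of M, and Y_L = Y_{L*} ≤ Y_M. If moreover Q is not normal in L, then Q is normal in neither L* nor M. -/
theorem result {H : Type*} [Group H] [Finite H] {p : ℕ} [Fact p.Prime] (Q : Subgroup H) (hQp : IsPGroup p ↥Q) (hQ1 : Q ≠ ⊥) (hLg : Cfsg.IsLarge Q) (S : Sylow p H) (hQS : Q ≤ (S : Subgroup H)) (L : Subgroup H) (hSL : (S : Subgroup H) ≤ L) (hL : L ∈ Cfsg.charPSubgroups p H) : ∃ M Ls : Subgroup H, (S : Subgroup H) ≤ M ∧ Cfsg.IsInFrakM p M ∧ (S : Subgroup H) ≤ Ls ∧ Ls ≤ M ∧ Ls ∈ Cfsg.charPSubgroups p H ∧ L ⊔ Subgroup.centralizer (((Cfsg.largestPReducedOf p L) : Subgroup H) : Set H) = Ls ⊔ Subgroup.centralizer (((Cfsg.largestPReducedOf p L) : Subgroup H) : Set H) ∧ Cfsg.weakClosure Q L = Cfsg.weakClosure Q Ls ∧ Cfsg.weakClosure Q Ls ≤ Cfsg.weakClosure Q M ∧ (Cfsg.largestPReducedOf p L) = (Cfsg.largestPReducedOf p Ls) ∧ (Cfsg.largestPReducedOf p Ls) ≤ (Cfsg.largestPReducedOf p M) ∧ (¬ L ≤ Subgroup.normalizer ((Q : Subgroup H) :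 Set H) → ¬ Ls ≤ Subgroup.normalizer ((Q : Subgroup H) : Set H) ∧ ¬ M ≤ Subgroup.normalizer ((Q : Subgroup H) : Set H)) := by
  have hG : Cfsg.IsOfParabolicCharacteristic p H := (Cfsg.Agent.S2845.result Q hQp hQ1 hLg).2.2
  obtain ⟨M, Ls, h1, h2, h3, h4, h5, h6, h7, h8⟩ :=
    exists_frakM hG (Cfsg.Agent.L.sylIn_top S) hSL hL
  have hSLc := charP_of_mem_charPSubgroups hL
  have hY : PRed p (largestPReducedOf p L) L := pRed_largest L
  have hYs : PRed p (largestPReducedOf p Ls) Ls := pRed_largest Ls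
  have hS1 : (S : Subgroup H) ≠ ⊥ := fun h => hQ1 (by rw [eq_bot_iff, ← h]; exact hQS)
  have hY1 : largestPReducedOf p L ≠ ⊥ := by
    obtain ⟨-, -, -, h4, h5, -⟩ := large_facts S (L := L) hSL hSLc rfl
    intro h
    apply omegaZ_ne_bot S.isPGroup' hS1
    rw [eq_bot_iff, ← h]
    exact h4.trans h5
  have hwc : WC3 p Q := IsLarge.wc3 hQ1 hLg
  have e1 : Cfsg.weakClosure Q L = Cfsg.weakClosure Q Ls := by
    rw [(IsLarge.weakClosure_facts hQp hQ1 hLg (hQS.trans hSL) hY.isPGroup hY1 hY.norm).1, h8, h6,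
      ← (IsLarge.weakClosure_facts hQp hQ1 hLg (hQS.trans h3) hYs.isPGroup (h6 ▸ hY1) hYs.norm).1]
  have hLs : ¬ L ≤ Subgroup.normalizer ((Q : Subgroup H) : Set H) →
      ¬ Ls ≤ Subgroup.normalizer ((Q : Subgroup H) : Set H) := by
    intro hn hn2
    apply hn
    have e2 : Cfsg.weakClosure Q Ls = Q := by
      refine le_antisymm ?_ (le_weakClosure (hQS.trans h3))
      rw [weakClosure_le_iff]
      intro g hg
      obtain ⟨k, hk, e⟩ := hwc.exists_conj hQp (hQS.trans h3) hg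
      rw [e, show Cfsg.Agent.L.cj k Q = Q from mem_normalizer_iff_map.1 (hn2 hk)]
    have h9 : L ≤ Subgroup.normalizer ((Cfsg.weakClosure Q L : Subgroup H) : Set H) :=
      Subgroup.le_normalizer.trans (normalizer_le_normalizer_weakClosure Q L)
    rwa [e1, e2] at h9
  exact ⟨M, Ls, h1, h2, h3, h4, h5, h8, e1, weakClosure_mono h4, h6, h6 ▸ h7,
    fun hn => ⟨hLs hn, fun hM => hLs hn (h4.trans hM)⟩⟩

end Cfsg.Agent.S2846
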