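import Cfsg.Statements.S2849
import Cfsg.Agent.H18.Asym2
import Cfsg.Agent.S2845

set_option autoImplicit false
open Cfsg
open Cfsg.Agent.H18
open scoped commutatorElement

namespace Cfsg.Agent.S2849

/-- Standing hypotheses: G a finite group, S a Sylow p-subgroup, Q a nontrivial large p-subgroup of G contained in S (C_G(Q) ≤ Q and N_G(U) ≤ N_G(Q) for all nontrivial U ≤ C_G(Q)), and M a subgroup containing S with the basic property (M ∈ 𝔐_G(S)); Y_M denotes the largest p-reduced normal subgroup of M and M† = M·C_G(Y_M). Suppose Y_M is asymmetric in G. Then for every subgroup R with Y_M ≤ R ≤ M†, the normal closure of Y_M in N_G(R) is elementary abelian. -/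
theorem result {G : Type*} [Group G] [Finite G] {p : ℕ} [Fact p.Prime] (S : Sylow p G) (Q : Subgroup G) (hQp : IsPGroup p ↥Q) (hQ1 : Q ≠ ⊥) (hQS : Q ≤ (S : Subgroup G)) (hQ : Cfsg.IsLarge Q) (M : Subgroup G) (hSM : (S : Subgroup G) ≤ M) (hM : Cfsg.IsInFrakM p M) (hasym : ¬ Cfsg.IsSymmetricIn (Cfsg.largestPReducedOf p M)) (R : Subgroup G) (hYR : (Cfsg.largestPReducedOf p M) ≤ R) (hRM : R ≤ (M ⊔ Subgroup.centralizer (((Cfsg.largestPReducedOf p M) : Subgroup G) : Set G))) : Cfsg.IsElementaryAbelian p ((Subgroup.normalClosure ((((Cfsg.largestPReducedOf p M)).subgroupOf (Subgroup.normalizer ((R : Subgroup G) : Set G)) : Subgroup ↥(Subgroup.normalizer ((R : Subgroup G) : Set G))) : Set ↥(Subgroup.normalizer ((R : Subgroup G) : Set G)))).map (Subgroup.normalizer ((R : Subgroup G) : Set G)).subtype) := by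
  have h : FM p (S : Subgroup G) M :=
    ⟨(Cfsg.Agent.S2845.result Q hQp hQ1 hQ).2.2, Cfsg.Agent.L.sylIn_top S, hSM, hM⟩
  set Y := largestPReducedOf p M with hY
  set N := Subgroup.normalizer (R : Set G) with hN
  have hYN : Y ≤ N := hYR.trans Subgroup.le_normalizer
  have hel := isElementaryAbelian_iff.1 h.pRed.elem
  have hRY : R ≤ Subgroup.normalizer (Y : Set G) := hRM.trans h.dag_le
  rw [normalClosure_subgroupOf_map hYN]
  have hcomm : ∀ n ∈ N, ∀ m ∈ N, ∀ x ∈ Y, ∀ y ∈ Y,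
      (n * x * n⁻¹) * (m * y * m⁻¹) = (m * y * m⁻¹) * (n * x * n⁻¹) := by
    intro n hn m hm x hx y hy
    have h1 : Cfsg.Agent.L.cj (n⁻¹ * m) R = R :=
      mem_normalizer_iff_map.1 (mul_mem (inv_mem hn) hm)
    have h2 : Cfsg.Agent.L.cj (n⁻¹ * m) Y ≤ R := by
      rw [← h1]; exact Cfsg.Agent.L.cj_mono hYR
    have h3 : R ≤ Subgroup.normalizer ((Cfsg.Agent.L.cj (n⁻¹ * m) Y : Subgroup G) : Set G) := by
      have := Cfsg.Agent.L.cj_mono (g := n⁻¹ * m) hRY
      rw [h1] at this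
      exact this.trans (Cfsg.Agent.L.nz_cj _ Y).ge
    have h4 := asym_iff.1 hasym (n⁻¹ * m) (le_inf
      (Subgroup.le_normalizer_iff_commutator_le_left.1 (h2.trans hRY))
      (Subgroup.le_normalizer_iff_commutator_le_right.1 (hYR.trans h3)))
    have h5 : ⁅x, (n⁻¹ * m) * y * (n⁻¹ * m)⁻¹⁆ = 1 := by
      have := Subgroup.commutator_mem_commutator hx
        (Cfsg.Agent.L.conj_mem_cj (g := n⁻¹ * m) hy)
      rwa [h4, Subgroup.mem_bot] at this
    rw [commutatorElement_eq_one_iff_mul_comm] at h5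
    calc (n * x * n⁻¹) * (m * y * m⁻¹) = n * (x * ((n⁻¹ * m) * y * (n⁻¹ * m)⁻¹)) * n⁻¹ := by group
      _ = n * (((n⁻¹ * m) * y * (n⁻¹ * m)⁻¹) * x) * n⁻¹ := by rw [h5]
      _ = (m * y * m⁻¹) * (n * x * n⁻¹) := by group
  rw [isElementaryAbelian_iff]
  have hab : ∀ u ∈ Subgroup.closure {z : G | ∃ h ∈ N, ∃ y ∈ Y, z = h * y * h⁻¹},
      ∀ v ∈ Subgroup.closure {z : G | ∃ h ∈ N, ∃ y ∈ Y, z = h * y * h⁻¹}, u * v = v * u := by
    have h6 : IsMulCommutative (Subgroup.closure {z : G | ∃ h ∈ N, ∃ y ∈ Y, z = h * y * h⁻¹}) := by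
      refine Subgroup.isMulCommutative_closure ?_
      rintro _ ⟨n, hn, x, hx, rfl⟩ _ ⟨m, hm, y, hy, rfl⟩
      exact hcomm n hn m hm x hx y hy
    intro u hu v hv
    exact congrArg Subtype.val (h6.is_comm.comm ⟨u, hu⟩ ⟨v, hv⟩)
  refine ⟨hab, fun u hu => ?_⟩
  induction hu using Subgroup.closure_induction with
  | mem x hx =>
    obtain ⟨n, hn, y, hy, rfl⟩ := hx
    rw [conj_pow, hel.2 y hy, mul_one, mul_inv_cancel]
  | one => exact one_pow _
  | mul x y hx hy ihx ihy => rw [(show Commute x y from hab x hx y hy).mul_pow, ihx, ihy, one_mul]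
  | inv x hx ih => rw [inv_pow, ih, inv_one]

end Cfsg.Agent.S2849
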