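import Cfsg.Statements.S2859
import Cfsg.Agent.H18.WCProd

set_option autoImplicit false
open Cfsg
open Cfsg.Agent.H18
open scoped commutatorElement

namespace Cfsg.Agent.S2859

/-- Let Q be a nontrivial p-subgroup of the finite group H that is a weakly closed subgroup, H° the weak closure of Q in H (generated by the conjugates of Q) and H_∘ = O^p(H°). Suppose H₁, H₂ are normal subgroups of H° with H° = H₁H₂ and [H₁, H₂] ≤ N_H(Q), and put Kᵢ = O^p of the weak closure of Q in HᵢQ. Then for i = 1, 2: Kᵢ = [Kᵢ, Q] = [Kᵢ, Hᵢ] ≤ Hᵢ′ and Kᵢ is normal in H°; H_∘ = K₁K₂; and [K₁, K₂] ≤ O_p(H°). -/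
theorem result {G : Type*} [Group G] [Finite G] {p : ℕ} [Fact p.Prime] (Q : Subgroup G) (hQp : IsPGroup p ↥Q) (hQ1 : Q ≠ ⊥) (hwc : Cfsg.IsWeaklyClosedSubgroup p Q) (Hc : Subgroup G) (hHc : Hc = Cfsg.weakClosure Q ⊤) (H₁ H₂ : Subgroup G) (hn₁ : H₁ ≤ Hc ∧ Hc ≤ Subgroup.normalizer ((H₁ : Subgroup G) : Set G)) (hn₂ : H₂ ≤ Hc ∧ Hc ≤ Subgroup.normalizer ((H₂ : Subgroup G) : Set G)) (hprod : H₁ ⊔ H₂ = Hc) (hcomm : ⁅H₁, H₂⁆ ≤ Subgroup.normalizer ((Q : Subgroup G) : Set G)) (K₁ K₂ : Subgroup G) (hK₁ : K₁ = ((Cfsg.pResidual p ↥(Cfsg.weakClosure Q (H₁ ⊔ Q))).map ((Cfsg.weakClosure Q (H₁ ⊔ Q))).subtype)) (hK₂ : K₂ = ((Cfsg.pResidual p ↥(Cfsg.weakClosure Q (H₂ ⊔ Q))).map ((Cfsg.weakClosure Q (H₂ ⊔ Q))).subtype)) : (⁅K₁, Q⁆ = K₁ ∧ ⁅K₁, H₁⁆ = K₁ ∧ K₁ ≤ ⁅H₁, H₁⁆ ∧ Hc ≤ Subgroup.normalizer ((K₁ : Subgroup G) : Set G)) ∧ (⁅K₂, Q⁆ = K₂ ∧ ⁅K₂, H₂⁆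 = K₂ ∧ K₂ ≤ ⁅H₂, H₂⁆ ∧ Hc ≤ Subgroup.normalizer ((K₂ : Subgroup G) : Set G)) ∧ K₁ ⊔ K₂ = ((Cfsg.pResidual p ↥Hc).map (Hc).subtype) ∧ ⁅K₁, K₂⁆ ≤ (Cfsg.pCoreOf p Hc) := by
  have h : WC3 p Q := wc3_of_wcs hwc
  obtain ⟨a1, a2, a3, a4, a5, a6⟩ := wcProd_side hQp h hHc hn₁.1 hn₁.2 hn₂.1 hn₂.2 hprod hcomm hK₁
  obtain ⟨b1, b2, b3, b4, b5, b6⟩ := wcProd_side hQp h hHc hn₂.1 hn₂.2 hn₁.1 hn₁.2
    (by rw [sup_comm]; exact hprod) (by rw [Subgroup.commutator_comm]; exact hcomm) hK₂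
  have hQL : Q ≤ Hc := by rw [hHc]; exact le_weakClosure le_top
  have hK1L : K₁ ≤ Hc := by
    rw [hK₁, hHc]; exact (pRes_le _).trans (weakClosure_mono le_top)
  have hK2L : K₂ ≤ Hc := by
    rw [hK₂, hHc]; exact (pRes_le _).trans (weakClosure_mono le_top)
  refine ⟨⟨a1, a2, a3, a4⟩, ⟨b1, b2, b3, b4⟩, ?_, ?_⟩
  · apply le_antisymm
    · rw [hK₁, hK₂, hHc]
      exact sup_le (pRes_mono (weakClosure_mono le_top)) (pRes_mono (weakClosure_mono le_top))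
    · have h1 : Hc ≤ (K₁ ⊔ K₂) ⊔ Q := by
        conv_lhs => rw [hHc]
        rw [weakClosure_le_iff]
        intro g _
        have hgL : Cfsg.Agent.L.cj g Q ≤ Hc := by rw [hHc]; exact cj_le_weakClosure le_top
        obtain ⟨l, hl, e⟩ := h.exists_conj hQp hQL hgL
        rw [← hprod, mem_sup_iff_of_le_normalizer (hn₁.1.trans hn₂.2)] at hl
        obtain ⟨x, hx, y, hy, rfl⟩ := hl
        obtain ⟨k₁, hk₁, e1⟩ := a6 x hx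
        obtain ⟨k₂, hk₂, e2⟩ := b6 y hy
        have e3 : x * y = (k₁ * ((k₁⁻¹ * x) * k₂ * (k₁⁻¹ * x)⁻¹)) *
            ((k₁⁻¹ * x) * (k₂⁻¹ * y)) := by group
        have h2 : (k₁⁻¹ * x) * (k₂⁻¹ * y) ∈ Subgroup.normalizer (Q : Set G) := mul_mem e1 e2
        have h3 : k₁ * ((k₁⁻¹ * x) * k₂ * (k₁⁻¹ * x)⁻¹) ∈ (K₁ ⊔ K₂) ⊔ Q := by
          refine Subgroup.mem_sup_left (mul_mem (Subgroup.mem_sup_left hk₁)
            (Subgroup.mem_sup_right ?_))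
          exact conj_mem_of_mem_normalizer (b4 (mul_mem (inv_mem (hK1L hk₁)) (hn₁.1 hx))) hk₂
        rw [e, e3, ← Cfsg.Agent.L.cj_cj]
        rw [show Cfsg.Agent.L.cj ((k₁⁻¹ * x) * (k₂⁻¹ * y)) Q = Q from mem_normalizer_iff_map.1 h2]
        exact cj_le_of_le_normalizer le_sup_right Subgroup.le_normalizer h3
      have h2 := pRes_mono (p := p) h1
      rw [pRes_sup_eq hQp (hQL.trans (le_normalizer_sup a4 b4))] at h2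
      exact h2.trans (pRes_le _)
  · refine (Subgroup.commutator_mono le_rfl ?_).trans a5
    exact b3.trans (Subgroup.commutator_le_self H₂)

end Cfsg.Agent.S2859
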