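import Cfsg.Statements.S2860
import Cfsg.Agent.H18.QS
import Cfsg.Agent.H18.Large

set_option autoImplicit false
open Cfsg
open Cfsg.Agent.H18
open scoped commutatorElement

namespace Cfsg.Agent.S2860

local notation "𝕆(" p ", " H ")" => Subgroup.map (Subgroup.subtype H) (Cfsg.pResidual p ↥H)

/-- Let Q be a nontrivial large p-subgroup of the finite group H, U a nontrivial elementary abelian p-subgroup of H, and Q ≤ E ≤ N_H(U) with Q not normal in E. Suppose O_p(E/C_E(U)) = 1 and O^p(E)·C_E(U)/C_E(U) is quasisimple. Let E° be the weak closure of Q in E (generated by the conjugates of Q inside E) and E_∘ = O^p(E°). Then O^p(E)·C_E(U) = E_∘·C_E(U); E_∘ is perfect and equals O^p(E_∘); E_∘/C_{E_∘}(U) and E_∘/O_p(E_∘) are quasisimple; and E_∘ = [E_∘, Y] for every p-subgroup Y of E not centralizing U. -/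
theorem result {G : Type*} [Group G] [Finite G] {p : ℕ} [Fact p.Prime] (Q : Subgroup G) (hQp : IsPGroup p ↥Q) (hQ1 : Q ≠ ⊥) (hQ : Cfsg.IsLarge Q) (U : Subgroup G) (hU : Cfsg.IsElementaryAbelian p U) (hU1 : U ≠ ⊥) (E : Subgroup G) (hQE : Q ≤ E) (hEU : E ≤ Subgroup.normalizer ((U : Subgroup G) : Set G)) (hQn : ¬ E ≤ Subgroup.normalizer ((Q : Subgroup G) : Set G)) [hn : ((Subgroup.centralizer ((U : Subgroup G) : Set G)).subgroupOf E).Normal] (hred : Cfsg.pCore p (↥E ⧸ (Subgroup.centralizer ((U : Subgroup G) : Set G)).subgroupOf E) = ⊥) (hqs : Cfsg.IsQuasisimple ↥(((Cfsg.pResidual p ↥E) ⊔ (Subgroup.centralizer ((U : Subgroup G) : Set G)).subgroupOf E).map (QuotientGroup.mk' ((Subgroup.centralizer ((U : Subgroup G) : Set G)).subgroupOf E)))) (Er : Subgroup G) (hEr : Er = ((Cfsg.pResidual p ↥(Cfsg.weakClosure Q E)).map ((Cfsg.weakClosure Q E)).subtype)) [hn2 : ((Subgroup.centralizer ((U : Subgroup G) : Set G)).subgroupOf Er).Normal] : ((Cfsg.pResidual p ↥E).map (E).subtype) ⊔ (E ⊓ Subgroup.centralizer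 ((U : Subgroup G) : Set G)) = Er ⊔ (E ⊓ Subgroup.centralizer ((U : Subgroup G) : Set G)) ∧ ⁅Er, Er⁆ = Er ∧ ((Cfsg.pResidual p ↥Er).map (Er).subtype) = Er ∧ Cfsg.IsQuasisimple (↥Er ⧸ (Subgroup.centralizer ((U : Subgroup G) : Set G)).subgroupOf Er) ∧ Cfsg.IsQuasisimple (↥Er ⧸ Cfsg.pCore p ↥Er) ∧ ∀ Y : Subgroup G, Y ≤ E → IsPGroup p ↥Y → ¬ Y ≤ Subgroup.centralizer ((U : Subgroup G) : Set G) → ⁅Er, Y⁆ = Er := by
  set Z : Subgroup G := Subgroup.centralizer (U : Set G) with hZ
  have hwc : WC3 p Q := IsLarge.wc3 hQ1 hQ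
  obtain ⟨f1, f2⟩ := le_commutator_sup_of_qs hn hred hqs
  set W := Cfsg.weakClosure Q E with hW
  set K : Subgroup G := 𝕆(p, E) with hK
  set C : Subgroup G := Z ⊓ E with hC
  have hEC : E ≤ Subgroup.normalizer (C : Set G) :=
    le_normalizer_inf (le_normalizer_centralizer hEU) Subgroup.le_normalizer
  have hEK : E ≤ Subgroup.normalizer (K : Set G) := le_normalizer_pRes E
  have hEW : E ≤ Subgroup.normalizer (W : Set G) :=
    Subgroup.le_normalizer.trans (normalizer_le_normalizer_weakClosure Q E)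
  have hWE : W ≤ E := Cfsg.Agent.H18.weakClosure_le Q E
  have hKE : K ≤ E := pRes_le E
  have hCE : C ≤ E := inf_le_right
  have hQW : Q ≤ W := le_weakClosure hQE
  have hErW : Er ≤ W := by rw [hEr]; exact pRes_le W
  have hEEr : E ≤ Subgroup.normalizer (Er : Set G) := by
    rw [hEr]; exact hEW.trans (normalizer_le_normalizer_pRes _)
  have hErE : Er ≤ E := hErW.trans hWE
  have hErr : 𝕆(p, Er) = Er := by rw [hEr, pRes_pRes]
  have hErK : Er ≤ K := by rw [hEr]; exact pRes_mono hWE
  -- U is a p-group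
  have hUp : IsPGroup p U := Cfsg.Agent.H18.IsElementaryAbelian.isPGroup' hU
  obtain ⟨-, g2, g3⟩ := IsLarge.weakClosure_facts hQp hQ1 hQ hQE hUp hU1 hEU
  set P := pCoreOf p W with hP
  have hPp : IsPGroup p P := isPGroup_pCoreOf W
  have hEP : E ≤ Subgroup.normalizer (P : Set G) :=
    hEW.trans (normalizer_le_normalizer_pCoreOf W)
  have hPW : P ≤ W := pCoreOf_le W
  have hWC : ⁅W, C⁆ ≤ P := (Subgroup.commutator_mono le_rfl inf_le_left).trans g2
  have hCW : ⁅C, W⁆ ≤ P := by rw [Subgroup.commutator_comm]; exact hWC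
  -- Q does not centralize U
  have hQC : ¬ Q ≤ Z := by
    intro hle
    apply hQn
    have h1 : U ≤ Subgroup.centralizer (Q : Set G) := by
      rw [Subgroup.le_centralizer_iff]; exact hle
    exact hEU.trans (IsLarge.norm_le hQ h1 hU1)
  -- normal p-subgroups of E centralize U
  have hpc : ∀ R : Subgroup G, R ≤ E → E ≤ Subgroup.normalizer (R : Set G) → IsPGroup p R →
      R ≤ Z := by
    intro R hRE hRn hRp
    have h1 : (R.subgroupOf E).Normal := (normal_subgroupOf_iff hRE).2 hRn
    have h2 : ((R.subgroupOf E).map (QuotientGroup.mk' (Z.subgroupOf E))).Normal :=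
      h1.map _ (QuotientGroup.mk'_surjective _)
    have h3 := le_pCore (p := p) h2 ((isPGroup_subgroupOf hRp).map _)
    rw [hred, le_bot_iff, Subgroup.map_eq_bot_iff, QuotientGroup.ker_mk'] at h3
    have h4 := Subgroup.map_mono (f := E.subtype) h3
    rw [Subgroup.map_subgroupOf_eq_of_le hRE, Subgroup.subgroupOf_map_subtype] at h4
    exact h4.trans inf_le_left
  -- (ii)
  have hKW : K ≤ W ⊔ C := by
    refine (f1 Q hQE hQp hQC).trans (sup_le_sup_right ?_ _)
    refine (Subgroup.commutator_mono le_rfl hQW).trans ?_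
    exact Subgroup.le_normalizer_iff_commutator_le_right.1 (hKE.trans hEW)
  have hKEr : K ≤ Er ⊔ C := by
    have h1 : K ≤ 𝕆(p, (W ⊔ C)) := by
      have : 𝕆(p, K) = K := by rw [hK, pRes_pRes]
      conv_lhs => rw [← this]
      exact pRes_mono hKW
    rw [pRes_sup_le (hCE.trans hEW) (hWE.trans hEC)] at h1
    refine h1.trans (sup_le_sup ?_ (pRes_le C))
    rw [hEr]
  have c1 : K ⊔ (E ⊓ Z) = Er ⊔ (E ⊓ Z) := by
    rw [inf_comm E Z]
    exact le_antisymm (sup_le hKEr le_sup_right) (sup_le_sup_right hErK _)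
  -- splitting off
  have split : ∀ N : Subgroup G, N ≤ Er → Er ≤ N ⊔ C → Er ≤ N ⊔ (C ⊓ Er) := by
    intro N hN hle x hx
    have h1 := hle hx
    rw [mem_sup_iff_of_le_normalizer ((hN.trans hErE).trans hEC)] at h1
    obtain ⟨n, hn', c, hc, rfl⟩ := h1
    refine mul_mem (Subgroup.mem_sup_left hn') (Subgroup.mem_sup_right
      (Subgroup.mem_inf.2 ⟨hc, ?_⟩))
    have := mul_mem (inv_mem (hN hn')) hx
    simpa using this
  have hErQ : ⁅Er, Q⁆ = Er := by rw [hEr]; exact (hwc.pRes_weakClosure hQp hQE).2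
  -- perfect
  have hperf : ⁅Er, Er⁆ = Er := by
    set N := ⁅Er, Er⁆ with hN
    have hNE : N ≤ Er := Subgroup.commutator_le_self Er
    have hEN : E ≤ Subgroup.normalizer (N : Set G) := le_normalizer_commutator hEEr hEEr
    have h1 : Er ≤ N ⊔ C := by
      refine hErK.trans (f2.trans (sup_le ?_ le_sup_right))
      refine (Subgroup.commutator_mono hKEr hKEr).trans ?_
      have hn1 : Er ≤ Subgroup.normalizer ((N ⊔ C : Subgroup G) : Set G) :=
        le_normalizer_sup (hErE.trans hEN) (hErE.trans hEC)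
      have hn2 : C ≤ Subgroup.normalizer ((N ⊔ C : Subgroup G) : Set G) :=
        le_sup_right.trans Subgroup.le_normalizer
      have hcc : ∀ A : Subgroup G, A ≤ E → ⁅C, A⁆ ≤ N ⊔ C := fun A hA =>
        (Subgroup.le_normalizer_iff_commutator_le_left.1 (hA.trans hEC)).trans le_sup_right
      refine sup_commutator_le hn1 hn2 ?_ (hcc _ (sup_le hErE hCE))
      rw [Subgroup.commutator_comm]
      exact sup_commutator_le hn1 hn2 le_sup_left (hcc _ hErE)
    have h2 := split N hNE h1
    have h3 : Er ≤ N ⊔ P := by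
      conv_lhs => rw [← hErQ]
      refine (Subgroup.commutator_mono h2 le_rfl).trans ?_
      refine sup_commutator_le (le_sup_left.trans Subgroup.le_normalizer)
        (le_normalizer_sup ((inf_le_left.trans hCE).trans hEN) ((inf_le_left.trans hCE).trans hEP))
        ?_ ?_
      · exact (Subgroup.le_normalizer_iff_commutator_le_left.1 (hQE.trans hEN)).trans le_sup_left
      · exact ((Subgroup.commutator_mono inf_le_left hQW).trans hCW).trans le_sup_right
    refine le_antisymm hNE ?_
    have h4 := pRes_mono (p := p) h3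
    rw [hErr, pRes_sup_eq hPp ((hPW.trans hWE).trans hEN)] at h4
    exact h4.trans (pRes_le _)
  have hCErP : ⁅C ⊓ Er, Er⁆ ≤ P ⊓ Er := by
    refine le_inf ((Subgroup.commutator_mono inf_le_left hErW).trans hCW) ?_
    exact (Subgroup.commutator_mono inf_le_right le_rfl).trans (Subgroup.commutator_le_self _)
  have hlast : ∀ Y : Subgroup G, Y ≤ E → IsPGroup p ↥Y → ¬ Y ≤ Z → ⁅Er, Y⁆ = Er := by
    intro Y hYE hYp hYZ
    set N := ⁅Er, Y⁆ with hN
    have hNE : N ≤ Er := Subgroup.le_normalizer_iff_commutator_le_left.1 (hYE.trans hEEr)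
    have hErN : Er ≤ Subgroup.normalizer (N : Set G) :=
      Subgroup.normalizer_commutator_ge_left Er Y
    have h1 : Er ≤ N ⊔ C := by
      refine hErK.trans ((f1 Y hYE hYp hYZ).trans (sup_le ?_ le_sup_right))
      refine (Subgroup.commutator_mono hKEr le_rfl).trans ?_
      refine sup_commutator_le (le_normalizer_sup hErN (hErE.trans hEC))
        (le_sup_right.trans Subgroup.le_normalizer) le_sup_left ?_
      exact (Subgroup.le_normalizer_iff_commutator_le_left.1 (hYE.trans hEC)).trans le_sup_right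
    have h2 := split N hNE h1
    have h3 : Er ≤ N ⊔ (P ⊓ Er) := by
      conv_lhs => rw [← hperf]
      refine (Subgroup.commutator_mono h2 le_rfl).trans ?_
      refine sup_commutator_le (le_sup_left.trans Subgroup.le_normalizer)
        (le_normalizer_sup (inf_le_right.trans hErN)
          (le_normalizer_inf ((inf_le_left.trans hCE).trans hEP)
            (inf_le_right.trans Subgroup.le_normalizer))) ?_ ?_
      · exact (Subgroup.le_normalizer_iff_commutator_le_left.1 hErN).trans le_sup_left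
      · exact hCErP.trans le_sup_right
    refine le_antisymm hNE ?_
    have h4 := pRes_mono (p := p) h3
    rw [hErr, pRes_sup_eq (hPp.to_le inf_le_left) (inf_le_right.trans hErN)] at h4
    exact h4.trans (pRes_le _)
  -- quasisimplicity
  have hq1 : Cfsg.IsQuasisimple (↥Er ⧸ Z.subgroupOf Er) := by
    let ψ : ↥Er →* (↥E ⧸ Z.subgroupOf E) :=
      (QuotientGroup.mk' (Z.subgroupOf E)).comp (Subgroup.inclusion hErE)
    have hker : ψ.ker = Z.subgroupOf Er := by
      ext x
      rw [MonoidHom.mem_ker, MonoidHom.comp_apply, QuotientGroup.mk'_apply,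
        QuotientGroup.eq_one_iff, Subgroup.mem_subgroupOf, Subgroup.mem_subgroupOf]
      rfl
    have hrange : ψ.range = ((Cfsg.pResidual p ↥E) ⊔ Z.subgroupOf E).map
        (QuotientGroup.mk' (Z.subgroupOf E)) := by
      have e1 : ψ.range = (Er.subgroupOf E).map (QuotientGroup.mk' (Z.subgroupOf E)) := by
        rw [MonoidHom.range_eq_map, ← Subgroup.map_map, ← MonoidHom.range_eq_map,
          Subgroup.inclusion_range]
      have e2 : ∀ A B : Subgroup ↥E, A.map E.subtype ≤ B.map E.subtype ⊔ C →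
          A.map (QuotientGroup.mk' (Z.subgroupOf E)) ≤
            B.map (QuotientGroup.mk' (Z.subgroupOf E)) := by
        intro A B hAB
        rw [Subgroup.map_le_iff_le_comap, Subgroup.comap_map_eq, QuotientGroup.ker_mk']
        rw [hC, ← Subgroup.subgroupOf_map_subtype, ← Subgroup.map_sup] at hAB
        exact (Subgroup.map_le_map_iff_of_injective E.subtype_injective).1 hAB
      rw [e1]
      apply le_antisymm
      · apply e2
        rw [Subgroup.map_subgroupOf_eq_of_le hErE, Subgroup.map_sup]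
        exact (hErK.trans le_sup_left).trans le_sup_left
      · apply e2
        rw [Subgroup.map_subgroupOf_eq_of_le hErE, Subgroup.map_sup,
          Subgroup.subgroupOf_map_subtype]
        exact sup_le hKEr le_sup_right
    rw [← hrange] at hqs
    have e3 := QuotientGroup.quotientKerEquivRange ψ
    have e4 : (↥Er ⧸ Z.subgroupOf Er) ≃* (↥Er ⧸ ψ.ker) :=
      QuotientGroup.quotientMulEquivOfEq hker.symm
    exact Cfsg.Agent.H10.qs_of_mulEquiv (e4.trans e3).symm hqs
  have hErcore : (Cfsg.pCore p ↥Er).map Er.subtype ≤ Z := by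
    refine hpc _ ((Subgroup.map_subtype_le _).trans hErE) ?_ (isPGroup_pCoreOf Er)
    exact hEEr.trans (normalizer_le_normalizer_pCoreOf Er)
  have hcoreZ : Cfsg.pCore p ↥Er ≤ Z.subgroupOf Er := by
    intro x hx
    exact hErcore ⟨x, hx, rfl⟩
  have hPEr : P ⊓ Er ≤ (Cfsg.pCore p ↥Er).map Er.subtype := by
    refine le_pCoreOf inf_le_right ?_ (hPp.to_le inf_le_left)
    exact le_normalizer_inf (hErE.trans hEP) Subgroup.le_normalizer
  have hcomEr : commutator ↥Er = ⊤ := by
    rw [commutator_def]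
    apply Subgroup.map_injective Er.subtype_injective
    rw [Subgroup.map_commutator, ← MonoidHom.range_eq_map, Subgroup.range_subtype, hperf]
  have hq2 : Cfsg.IsQuasisimple (↥Er ⧸ Cfsg.pCore p ↥Er) := by
    let θ : (↥Er ⧸ Cfsg.pCore p ↥Er) →* (↥Er ⧸ Z.subgroupOf Er) :=
      QuotientGroup.map _ _ (MonoidHom.id ↥Er) hcoreZ
    have hθs : Function.Surjective θ := by
      intro y
      obtain ⟨x, rfl⟩ := QuotientGroup.mk_surjective y
      exact ⟨QuotientGroup.mk x, rfl⟩
    refine qs_of_central_ext θ hθs ?_ hq1 ?_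
    · intro y hy
      obtain ⟨x, rfl⟩ := QuotientGroup.mk_surjective y
      have hx : x ∈ Z.subgroupOf Er := by
        rw [MonoidHom.mem_ker] at hy
        exact (QuotientGroup.eq_one_iff x).1 hy
      rw [Subgroup.mem_center_iff]
      intro g
      obtain ⟨w, rfl⟩ := QuotientGroup.mk_surjective g
      rw [← QuotientGroup.mk_mul, ← QuotientGroup.mk_mul, QuotientGroup.eq]
      have h1 : ⁅(x : G)⁻¹, (w : G)⁻¹⁆ ∈ P ⊓ Er := by
        apply hCErP
        exact Subgroup.commutator_mem_commutator (Subgroup.mem_inf.2 ⟨Subgroup.mem_inf.2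
          ⟨inv_mem hx, hErE (inv_mem x.2)⟩, inv_mem x.2⟩) (inv_mem w.2)
      obtain ⟨z, hz, hz'⟩ := hPEr h1
      have h2 : (w * x)⁻¹ * (x * w) = z := by
        apply Subtype.ext
        have hz'' : (z : G) = ⁅(x : G)⁻¹, (w : G)⁻¹⁆ := hz'
        rw [hz'', commutatorElement_def]
        simp [mul_assoc]
      rw [h2]; exact hz
    · rw [commutator_def, ← Subgroup.map_top_of_surjective (QuotientGroup.mk' (Cfsg.pCore p ↥Er))
        (QuotientGroup.mk'_surjective _), ← Subgroup.map_commutator, ← commutator_def, hcomEr]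
  exact ⟨c1, hperf, hErr, hq1, hq2, hlast⟩

end Cfsg.Agent.S2860
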