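import Cfsg.Statements.S2872
import Cfsg.Agent.H20.ExtTransfer
import Cfsg.Agent.H1.Struct1
import Cfsg.Agent.H2.Residual
import Cfsg.Agent.H19.Repl2
import Cfsg.Agent.H2.Frat

set_option autoImplicit false
open Cfsg
open Cfsg.Agent

namespace Cfsg.Agent.S2872

/-- Let S be a Sylow 2-subgroup of the finite group G. Then G has a proper normal subgroup of 2-power index (O²(G) ≠ G), or Ω₁(Z(S)) is contained in the Frattini subgroup of S, or N_G(S) acts nontrivially on Ω₁(Z(S)) by conjugation. -/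
theorem result {G : Type*} [Group G] [Finite G] (S : Sylow 2 G) : Cfsg.pResidual 2 G ≠ ⊤ ∨ Cfsg.omegaOne 2 ((S : Subgroup G) ⊓ Subgroup.centralizer ((S : Subgroup G) : Set G)) ≤ (frattini ↥(S : Subgroup G)).map (S : Subgroup G).subtype ∨ ∃ g ∈ Subgroup.normalizer ((S : Subgroup G) : Set G), ∃ z ∈ Cfsg.omegaOne 2 ((S : Subgroup G) ⊓ Subgroup.centralizer ((S : Subgroup G) : Set G)), g * z * g⁻¹ ≠ z := by
  classical
  by_contra hcon
  push Not at hcon
  obtain ⟨h1, h2, h3⟩ := hcon
  set Z := (S : Subgroup G) ⊓ Subgroup.centralizer ((S : Subgroup G) : Set G) with hZ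
  have hZab : ∀ x ∈ Z, ∀ y ∈ Z, x * y = y * x := by
    intro x hx y hy
    exact Subgroup.mem_centralizer_iff.1 hy.2 x hx.1
  -- an element `z` outside the Frattini subgroup
  obtain ⟨z, hz, hzΦ⟩ := Set.not_subset.1 h2
  have hzZ : z ∈ Z ∧ z ^ 2 = 1 := (H19.mem_omegaOne_comm hZab).1 hz
  have hzS : z ∈ (S : Subgroup G) := hzZ.1.1
  have h4 : ¬ (⟨z, hzS⟩ : (S : Subgroup G)) ∈ frattini (S : Subgroup G) := by
    intro h
    exact hzΦ ⟨_, h, rfl⟩
  obtain ⟨M, hM, hzM⟩ : ∃ M : Subgroup (S : Subgroup G), IsCoatom M ∧ (⟨z, hzS⟩ : (S : Subgroup G)) ∉ M := by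
    by_contra hc
    push Not at hc
    apply h4
    have := H1.le_frattini_of_forall (G := (S : Subgroup G)) (N := Subgroup.zpowers ⟨z, hzS⟩)
      (fun M hM => (Subgroup.zpowers_le).2 (hc M hM))
    exact this (Subgroup.mem_zpowers _)
  have hMi : M.index = 2 := by
    have hf : Fact (Nat.Prime 2) := ⟨Nat.prime_two⟩
    exact (H2.index_eq_of_isCoatom S.isPGroup' hM).1
  have hxn : z ^ (2 ^ 1) = 1 := by rw [pow_one]; exact hzZ.2
  have hMz : z ∉ M.map (S : Subgroup G).subtype := by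
    rintro ⟨y, hy, hyz⟩
    have : y = ⟨z, hzS⟩ := Subtype.ext hyz
    exact hzM (this ▸ hy)
  rcases H20.extremal_transfer S (M.map (S : Subgroup G).subtype) (Subgroup.map_subtype_le _)
    (by rw [Subgroup.relIndex, Subgroup.subgroupOf,
          Subgroup.comap_map_eq_self_of_injective (Subgroup.subtype_injective _)]; exact hMi)
    z 1 hxn (by
      intro g k hk _
      have : z ^ 2 ^ k = 1 := by
        obtain ⟨j, rfl⟩ := Nat.exists_eq_add_of_le hk
        rw [pow_add, pow_one, pow_mul, hzZ.2, one_pow]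
      rw [this, mul_one, inv_mul_cancel]
      exact Subgroup.one_mem _)
    (S : Subgroup G) S.isPGroup' (fun t ht => Subgroup.mem_centralizer_iff.1 hzZ.1.2 t ht) with h | h
  · obtain ⟨a, ha1, ha2⟩ := h
    have haN : a⁻¹ ∈ Subgroup.normalizer ((S : Subgroup G) : Set G) := by
      rw [Subgroup.mem_normalizer_iff_map_conj_eq]
      apply Subgroup.eq_of_le_of_card_ge
      · rintro _ ⟨t, ht, rfl⟩
        have := ha2 t ht
        simpa using this
      · rw [Subgroup.card_map_of_injective (MulAut.conj a⁻¹).injective]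
    have h5 := h3 a⁻¹ haN z hz
    rw [inv_inv] at h5
    rw [h5] at ha1
    exact hMz ha1
  · obtain ⟨N, hN, -⟩ := h
    have hNn : N.Normal := Subgroup.normal_of_index_eq_two hN
    have hf : Fact (Nat.Prime 2) := ⟨Nat.prime_two⟩
    have h6 : pResidual 2 G ≤ N := H2.pResidual_le_of_index (k := 1) (by rw [hN, pow_one])
    rw [h1, top_le_iff] at h6
    rw [h6, Subgroup.index_top] at hN
    exact absurd hN (by norm_num)

end Cfsg.Agent.S2872
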