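import Cfsg.Statements.S2874
import Cfsg.Agent.H18.A4GL2

set_option autoImplicit false
open Cfsg

namespace Cfsg.Agent.S2874

/-- For k ≥ 2, any two subgroups of GL₂(ℤ/2ᵏℤ) (the automorphism group of the homocyclic group ℤ/2ᵏ × ℤ/2ᵏ) that are isomorphic to the alternating group of degree 4 are conjugate. -/
theorem result (k : ℕ) (hk : 2 ≤ k) (H₁ H₂ : Subgroup (GL (Fin 2) (ZMod (2 ^ k)))) (h₁ : Nonempty (↥H₁ ≃* ↥(alternatingGroup (Fin 4)))) (h₂ : Nonempty (↥H₂ ≃* ↥(alternatingGroup (Fin 4)))) : ∃ g : GL (Fin 2) (ZMod (2 ^ k)), H₂ = H₁.map (MulAut.conj g).toMonoidHom := by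
  obtain ⟨c, w, h⟩ := Cfsg.Agent.H18.A4GL.exists_conj_std hk
  obtain ⟨g₁, hg₁⟩ := h H₁ h₁
  obtain ⟨g₂, hg₂⟩ := h H₂ h₂
  refine ⟨g₂⁻¹ * g₁, ?_⟩
  have e1 : (MulAut.conj (g₂⁻¹ * g₁)).toMonoidHom =
      (MulAut.conj g₂⁻¹).toMonoidHom.comp (MulAut.conj g₁).toMonoidHom := by
    ext x
    simp [mul_assoc]
  rw [e1, ← Subgroup.map_map, hg₁, ← hg₂, Subgroup.map_map]
  have e2 : (MulAut.conj g₂⁻¹).toMonoidHom.comp (MulAut.conj g₂).toMonoidHom = MonoidHom.id _ := by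
    ext x
    simp [mul_assoc]
  rw [e2, Subgroup.map_id]

end Cfsg.Agent.S2874
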