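import Cfsg.Statements.S2911
import Cfsg.Agent.S2872
import Cfsg.Agent.H2.Residual
import Cfsg.Agent.H2.Frat
import Cfsg.Agent.H1.Struct1
import Cfsg.Agent.H19.Repl2

set_option autoImplicit false
open Cfsg
open Cfsg.Agent
open scoped commutatorElement

namespace Cfsg.Agent.S2911

/-- the model -/
abbrev Md := Multiplicative (ZMod 2) × DihedralGroup 4

/-- computation in the model -/
theorem cent_model (x : Md) (h : ∀ y, y * x = x * y) : x.2 = 1 ∨ x.2 = DihedralGroup.r 2 := by
  obtain ⟨a, b⟩ := x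
  have h1 := congrArg Prod.snd (h (1, DihedralGroup.sr 0))
  have h2 := congrArg Prod.snd (h (1, DihedralGroup.r 1))
  simp only [Prod.snd_mul] at h1 h2
  show b = 1 ∨ b = DihedralGroup.r 2
  clear h
  revert h1 h2
  revert b
  decide

theorem comm_model (x y : Md) : ⁅x, y⁆ = 1 ∨ ⁅x, y⁆ = (1, DihedralGroup.r 2) := by
  obtain ⟨a, b⟩ := x
  obtain ⟨c, d⟩ := y
  have h1 : ⁅b, d⁆ = 1 ∨ ⁅b, d⁆ = DihedralGroup.r 2 := by
    revert b d; decide
  have h2 : ⁅((a, b) : Md), (c, d)⁆ = (⁅a, c⁆, ⁅b, d⁆) := rfl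
  have h3 : ⁅a, c⁆ = 1 := by
    rw [commutatorElement_eq_one_iff_mul_comm]; exact mul_comm a c
  rw [h2, h3]
  rcases h1 with h | h
  · left; rw [h]; rfl
  · right; rw [h]

theorem mul2 (a : Multiplicative (ZMod 2)) : a = 1 ∨ a = Multiplicative.ofAdd 1 := by
  revert a; decide

/-- central elements of the model -/
theorem cent_cases (x : Md) (h : ∀ y, y * x = x * y) :
    x = 1 ∨ x = (Multiplicative.ofAdd 1, 1) ∨ x = (1, DihedralGroup.r 2) ∨
      x = (Multiplicative.ofAdd 1, 1) * (1, DihedralGroup.r 2) := by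
  have h1 := cent_model x h
  obtain ⟨a, b⟩ := x
  rcases mul2 a with rfl | rfl <;> rcases h1 with h1 | h1 <;> simp only at h1 <;> subst h1
  · left; rfl
  · right; right; left; rfl
  · right; left; rfl
  · right; right; right; rfl

theorem fst_central (y : Md) : y * (Multiplicative.ofAdd 1, 1) = (Multiplicative.ofAdd 1, 1) * y := by
  obtain ⟨a, b⟩ := y
  apply Prod.ext
  · exact mul_comm _ _
  · show b * 1 = 1 * b
    rw [mul_one, one_mul]
theorem m1 : ((Multiplicative.ofAdd 1, 1) : Md) ^ 2 = 1 := by decide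
theorem m2 : ((1, DihedralGroup.r 2) : Md) * (1, DihedralGroup.r 2) = 1 := by decide
theorem m3 : ((1, DihedralGroup.r 2) : Md) ≠ 1 := by decide
theorem m4 : Multiplicative.ofAdd (1 : ZMod 2) ≠ 1 := by decide
theorem m5 : ⁅((1, DihedralGroup.r 1) : Md), ((1, DihedralGroup.sr 0) : Md)⁆ =
    (1, DihedralGroup.r 2) := by
  decide
theorem m6 : ((Multiplicative.ofAdd 1, 1) : Md) ≠ (1, DihedralGroup.r 2) := by decide

/-- A finite group whose Sylow 2-subgroups are isomorphic to the direct product of a group of order 2 and a dihedral group of order 8 has a subgroup of index two. -/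
theorem result {G : Type*} [Group G] [Finite G] (S : Sylow 2 G) (hS : Nonempty (↥(S : Subgroup G) ≃* Multiplicative (ZMod 2) × DihedralGroup 4)) : ∃ H : Subgroup G, H.index = 2 := by
  have hf : Fact (Nat.Prime 2) := ⟨Nat.prime_two⟩
  obtain ⟨e⟩ := hS
  set Z := (S : Subgroup G) ⊓ Subgroup.centralizer ((S : Subgroup G) : Set G) with hZ
  have hZab : ∀ x ∈ Z, ∀ y ∈ Z, x * y = y * x := by
    intro x hx y hy
    exact Subgroup.mem_centralizer_iff.1 hy.2 x hx.1
  set t₀ : (S : Subgroup G) := e.symm (Multiplicative.ofAdd 1, 1) with ht₀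
  set w₀ : (S : Subgroup G) := e.symm (1, DihedralGroup.r 2) with hw₀
  have ht₀c : ∀ y : (S : Subgroup G), y * t₀ = t₀ * y := by
    intro y
    apply e.injective
    rw [map_mul, map_mul, ht₀, MulEquiv.apply_symm_apply]
    exact fst_central _
  have ht₀2 : t₀ ^ 2 = 1 := by
    apply e.injective
    rw [map_pow, ht₀, MulEquiv.apply_symm_apply, map_one e]
    exact m1
  have hw₀2 : w₀ * w₀ = 1 := by
    apply e.injective
    rw [map_mul, hw₀, MulEquiv.apply_symm_apply, map_one e]
    exact m2
  have hw₀1 : w₀ ≠ 1 := by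
    intro h
    have := congrArg e h
    rw [hw₀, MulEquiv.apply_symm_apply, map_one e] at this
    exact m3 this
  rcases Cfsg.Agent.S2872.result S with h | h | h
  · have hn : (pResidual 2 G).Normal := H2.pResidual_normal
    have hpg : IsPGroup 2 (G ⧸ pResidual 2 G) := H2.isPGroup_quotient_pResidual
    have hne : (⊥ : Subgroup (G ⧸ pResidual 2 G)) ≠ ⊤ := by
      intro h1
      apply h
      have h2 := congrArg (Subgroup.comap (QuotientGroup.mk' (pResidual 2 G))) h1
      rw [MonoidHom.comap_bot, QuotientGroup.ker_mk', Subgroup.comap_top] at h2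
      exact h2
    obtain ⟨M, -, hM, -⟩ := H2.exists_le_index_eq hpg hne
    refine ⟨M.comap (QuotientGroup.mk' (pResidual 2 G)), ?_⟩
    rw [Subgroup.index_comap_of_surjective _ (QuotientGroup.mk'_surjective _)]
    exact hM
  · exfalso
    have h1 : (t₀ : G) ∈ omegaOne 2 Z := by
      apply Subgroup.subset_closure
      refine ⟨⟨t₀.2, ?_⟩, ?_⟩
      · apply Subgroup.mem_centralizer_iff.2
        intro y hy
        exact congrArg Subtype.val (ht₀c ⟨y, hy⟩)
      · exact congrArg Subtype.val ht₀2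
    obtain ⟨y, hy, hyt⟩ := h h1
    have hyt' : y = t₀ := Subtype.ext hyt
    subst hyt'
    set M : Subgroup (S : Subgroup G) := ((MonoidHom.fst (Multiplicative (ZMod 2))
      (DihedralGroup 4)).comp e.toMonoidHom).ker with hM
    have hMi : M.index = 2 := by
      rw [hM, Subgroup.index_ker]
      have hs : ((MonoidHom.fst (Multiplicative (ZMod 2))
          (DihedralGroup 4)).comp e.toMonoidHom).range = ⊤ := by
        rw [MonoidHom.range_eq_top]
        intro a
        exact ⟨e.symm (a, 1), by simp⟩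
      rw [hs, Subgroup.card_top]
      simp
    have h2 := H2.frattini_le_of_index_prime hMi hy
    rw [hM, MonoidHom.mem_ker] at h2
    have h3 : ((MonoidHom.fst (Multiplicative (ZMod 2)) (DihedralGroup 4)).comp e.toMonoidHom) t₀ =
        Multiplicative.ofAdd 1 := by
      simp [ht₀]
    rw [h3] at h2
    exact m4 h2
  · exfalso
    obtain ⟨g, hg, z, hz, hgz⟩ := h
    have hgS : ∀ x : (S : Subgroup G), g * x * g⁻¹ ∈ (S : Subgroup G) := fun x =>
      (Subgroup.mem_normalizer_iff.1 hg x).1 x.2
    -- `g` fixes `w₀`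
    have hgw : g * (w₀ : G) * g⁻¹ = w₀ := by
      obtain ⟨x, y, hxy⟩ : ∃ x y : (S : Subgroup G), ⁅x, y⁆ = w₀ := by
        refine ⟨e.symm (1, DihedralGroup.r 1), e.symm (1, DihedralGroup.sr 0), ?_⟩
        apply e.injective
        rw [map_commutatorElement, MulEquiv.apply_symm_apply, MulEquiv.apply_symm_apply, hw₀,
          MulEquiv.apply_symm_apply]
        exact m5
      set x' : (S : Subgroup G) := ⟨g * x * g⁻¹, hgS x⟩ with hx'
      set y' : (S : Subgroup G) := ⟨g * y * g⁻¹, hgS y⟩ with hy'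
      have h1 : ((⁅x', y'⁆ : (S : Subgroup G)) : G) = g * (w₀ : G) * g⁻¹ := by
        rw [← hxy]
        simp [hx', hy', commutatorElement_def, mul_assoc]
      have h2 : ⁅x', y'⁆ = 1 ∨ ⁅x', y'⁆ = w₀ := by
        rcases comm_model (e x') (e y') with h3 | h3
        · left
          apply e.injective
          rw [map_commutatorElement, h3, map_one]
        · right
          apply e.injective
          rw [map_commutatorElement, h3, hw₀, MulEquiv.apply_symm_apply]
      rcases h2 with h2 | h2
      · exfalso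
        rw [h2] at h1
        apply hw₀1
        apply Subtype.ext
        have : (w₀ : G) = g⁻¹ * (g * w₀ * g⁻¹) * g := by group
        rw [this, ← h1]
        simp
      · rw [← h1, h2]
    -- central elements
    have hcases : ∀ x : (S : Subgroup G), (∀ y : (S : Subgroup G), y * x = x * y) →
        x = 1 ∨ x = t₀ ∨ x = w₀ ∨ x = t₀ * w₀ := by
      intro x hx
      have h1 : ∀ y, y * e x = e x * y := by
        intro y
        have := congrArg e (hx (e.symm y))
        rwa [map_mul, map_mul, MulEquiv.apply_symm_apply] at this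
      rcases cent_cases (e x) h1 with h2 | h2 | h2 | h2
      · left; apply e.injective; rw [h2, map_one]
      · right; left; apply e.injective; rw [h2, ht₀, MulEquiv.apply_symm_apply]
      · right; right; left; apply e.injective; rw [h2, hw₀, MulEquiv.apply_symm_apply]
      · right; right; right; apply e.injective
        rw [h2, map_mul, ht₀, hw₀, MulEquiv.apply_symm_apply, MulEquiv.apply_symm_apply]
    have hgt : g * (t₀ : G) * g⁻¹ ≠ t₀ := by
      intro hgt
      have hzZ : z ∈ Z := ((H19.mem_omegaOne_comm hZab).1 hz).1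
      apply hgz
      rcases hcases ⟨z, hzZ.1⟩ (fun y => Subtype.ext
        (Subgroup.mem_centralizer_iff.1 hzZ.2 y y.2)) with h1 | h1 | h1 | h1
      · have h2 : z = 1 := congrArg Subtype.val h1
        rw [h2]; group
      · have h2 : z = t₀ := congrArg Subtype.val h1
        rw [h2]; exact hgt
      · have h2 : z = w₀ := congrArg Subtype.val h1
        rw [h2]; exact hgw
      · have h2 : z = t₀ * w₀ := congrArg Subtype.val h1
        rw [h2]
        calc g * ((t₀ : G) * w₀) * g⁻¹ = (g * t₀ * g⁻¹) * (g * w₀ * g⁻¹) := by group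
          _ = t₀ * w₀ := by rw [hgt, hgw]
    have hgt2 : g * (t₀ : G) * g⁻¹ = t₀ * w₀ := by
      have h1 : ∀ y : (S : Subgroup G), y * ⟨g * t₀ * g⁻¹, hgS t₀⟩ = ⟨g * t₀ * g⁻¹, hgS t₀⟩ * y := by
        intro y
        have hy : g⁻¹ * y * g ∈ (S : Subgroup G) := by
          have := (Subgroup.mem_normalizer_iff.1 (Subgroup.inv_mem _ hg) y).1 y.2
          simpa using this
        have h2 : (g⁻¹ * y * g) * (t₀ : G) = t₀ * (g⁻¹ * y * g) :=
          congrArg Subtype.val (ht₀c ⟨_, hy⟩)
        apply Subtype.ext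
        show (y : G) * (g * t₀ * g⁻¹) = g * t₀ * g⁻¹ * y
        calc (y : G) * (g * t₀ * g⁻¹) = g * ((g⁻¹ * y * g) * t₀) * g⁻¹ := by group
          _ = g * (t₀ * (g⁻¹ * y * g)) * g⁻¹ := by rw [h2]
          _ = g * t₀ * g⁻¹ * y := by group
      rcases hcases ⟨g * t₀ * g⁻¹, hgS t₀⟩ h1 with h2 | h2 | h2 | h2
      · exfalso
        have h3 : g * (t₀ : G) * g⁻¹ = 1 := congrArg Subtype.val h2
        apply hgt
        have : (t₀ : G) = 1 := by
          rw [mul_inv_eq_one] at h3
          exact mul_left_cancel (h3.trans (mul_one g).symm)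
        rw [this]; group
      · exact absurd (congrArg Subtype.val h2) hgt
      · exfalso
        have h3 : g * (t₀ : G) * g⁻¹ = w₀ := congrArg Subtype.val h2
        rw [← hgw] at h3
        have h4 : t₀ = w₀ := Subtype.ext (mul_left_cancel (mul_right_cancel h3))
        have h5 := congrArg e h4
        rw [ht₀, hw₀, MulEquiv.apply_symm_apply, MulEquiv.apply_symm_apply] at h5
        exact m6 h5
      · exact congrArg Subtype.val h2
    -- an odd power of `g` is in `S`
    obtain ⟨m, hmo, hm⟩ : ∃ m : ℕ, ¬ 2 ∣ m ∧ g ^ m ∈ (S : Subgroup G) := by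
      refine ⟨(S : Subgroup G).relIndex (Subgroup.normalizer ((S : Subgroup G) : Set G)), ?_, ?_⟩
      · exact fun hd => S.not_dvd_index (hd.trans
          (Subgroup.relIndex_dvd_index_of_le Subgroup.le_normalizer))
      · have hnn : ((S : Subgroup G).subgroupOf
            (Subgroup.normalizer ((S : Subgroup G) : Set G))).Normal := Subgroup.normal_in_normalizer
        have := ((S : Subgroup G).subgroupOf
            (Subgroup.normalizer ((S : Subgroup G) : Set G))).pow_index_mem ⟨g, hg⟩
        exact this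
    obtain ⟨j, hj⟩ : ∃ j, m = 2 * j + 1 := ⟨m / 2, by omega⟩
    have hsq : ∀ j : ℕ, g ^ (2 * j) * (t₀ : G) * (g ^ (2 * j))⁻¹ = t₀ := by
      intro j
      induction j with
      | zero => simp
      | succ j ih =>
        have e1 : g ^ (2 * (j + 1)) = g * (g * g ^ (2 * j)) := by
          rw [← pow_succ', ← pow_succ']; congr 1
        rw [e1]
        have hww : (w₀ : G) * w₀ = 1 := congrArg Subtype.val hw₀2
        calc g * (g * g ^ (2 * j)) * (t₀ : G) * (g * (g * g ^ (2 * j)))⁻¹
            = g * (g * (g ^ (2 * j) * t₀ * (g ^ (2 * j))⁻¹) * g⁻¹) * g⁻¹ := by group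
          _ = g * (t₀ * w₀) * g⁻¹ := by rw [ih, hgt2]
          _ = (g * t₀ * g⁻¹) * (g * w₀ * g⁻¹) := by group
          _ = t₀ * (w₀ * w₀) := by rw [hgt2, hgw, mul_assoc]
          _ = t₀ := by rw [hww, mul_one]
    have h1 : g ^ m * (t₀ : G) * (g ^ m)⁻¹ = t₀ := by
      have h2 : g ^ m * (t₀ : G) = t₀ * g ^ m := congrArg Subtype.val (ht₀c ⟨g ^ m, hm⟩)
      rw [h2, mul_inv_cancel_right]
    rw [hj, pow_succ'] at h1
    apply hgt
    calc g * (t₀ : G) * g⁻¹ = g * (g ^ (2 * j) * t₀ * (g ^ (2 * j))⁻¹) * g⁻¹ := by rw [hsq]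
      _ = g * g ^ (2 * j) * t₀ * (g * g ^ (2 * j))⁻¹ := by group
      _ = t₀ := h1

end Cfsg.Agent.S2911
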