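import Cfsg.Statements.S2968
import Cfsg.Agent.H19.CharP

set_option autoImplicit false
set_option linter.style.haveILetI false
open Cfsg

namespace Cfsg.Agent.S2968


/-- an isolated `p`-element of a Sylow `p`-subgroup is central in it -/
theorem isolated_commute {G : Type*} [Group G] [Finite G] {p : ℕ} [Fact p.Prime] (P : Sylow p G) (x : G)
    (hxP : x ∈ (P : Subgroup G)) (hiso : Cfsg.IsIsolated x) : ∀ y ∈ (P : Subgroup G), Commute x y := by
  set C : Subgroup G := (P : Subgroup G) ⊓ Subgroup.centralizer {x} with hC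
  by_cases h : C < (P : Subgroup G)
  · exfalso
    obtain ⟨g, hg, hgC⟩ := SetLike.exists_of_lt (Cfsg.Agent.H19.lt_inf_normalizer_of_lt P.isPGroup' h)
    obtain ⟨hgP, hgN⟩ := Subgroup.mem_inf.mp hg
    have hxC : x ∈ C := Subgroup.mem_inf.mpr ⟨hxP, Subgroup.mem_centralizer_singleton_iff.mpr rfl⟩
    have h1 : g * x * g⁻¹ ∈ C := (Subgroup.mem_normalizer_iff.mp hgN x).mp hxC
    have h2 : Commute x (g * x * g⁻¹) :=
      (Subgroup.mem_centralizer_singleton_iff.mp (Subgroup.mem_inf.mp h1).2).symm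
    have h3 := hiso g h2
    apply hgC
    refine Subgroup.mem_inf.mpr ⟨hgP, Subgroup.mem_centralizer_singleton_iff.mpr ?_⟩
    have h4 : g * x = x * g := by
      calc g * x = (g * x * g⁻¹) * g := by group
        _ = x * g := by rw [h3]
    exact h4
  · intro y hy
    have hle : (P : Subgroup G) ≤ C := by
      rcases lt_or_eq_of_le (inf_le_left : C ≤ P) with h' | h'
      · exact absurd h' h
      · exact h'.ge
    have := (Subgroup.mem_inf.mp (hle hy)).2
    exact (Subgroup.mem_centralizer_singleton_iff.mp this).symm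

theorem isolated_pow {G : Type*} [Group G] [Finite G] {p : ℕ} [Fact p.Prime] (x : G)
    (hx : ∃ k : ℕ, orderOf x = p ^ k) (hiso : Cfsg.IsIsolated x) (n : ℤ) (g : G)
    (h : Commute x (g * x ^ n * g⁻¹)) : g * x ^ n * g⁻¹ = x ^ n := by
  obtain ⟨k, hk⟩ := hx
  set u := g * x ^ n * g⁻¹ with hu
  set H : Subgroup G := Subgroup.centralizer {u} with hH
  have hxH : x ∈ H := Subgroup.mem_centralizer_singleton_iff.mpr h
  have hx'H : g * x * g⁻¹ ∈ H := by
    refine Subgroup.mem_centralizer_singleton_iff.mpr ?_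
    show g * x * g⁻¹ * u = u * (g * x * g⁻¹)
    rw [hu]
    have h1 : x * x ^ n = x ^ n * x := ((Commute.refl x).zpow_right n).eq
    calc g * x * g⁻¹ * (g * x ^ n * g⁻¹) = g * (x * x ^ n) * g⁻¹ := by group
      _ = g * (x ^ n * x) * g⁻¹ := by rw [h1]
      _ = _ := by group
  have hp1 : IsPGroup p (Subgroup.zpowers (⟨x, hxH⟩ : H)) := by
    refine IsPGroup.of_card (n := k) ?_
    rw [Nat.card_zpowers, Subgroup.orderOf_mk, hk]
  have hp2 : IsPGroup p (Subgroup.zpowers (⟨g * x * g⁻¹, hx'H⟩ : H)) := by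
    refine IsPGroup.of_card (n := k) ?_
    rw [Nat.card_zpowers, Subgroup.orderOf_mk]
    rw [show g * x * g⁻¹ = (MulAut.conj g) x from rfl, MulEquiv.orderOf_eq, hk]
  obtain ⟨Q1, hQ1⟩ := hp1.exists_le_sylow
  obtain ⟨Q2, hQ2⟩ := hp2.exists_le_sylow
  obtain ⟨c, hc⟩ := MulAction.exists_smul_eq H Q2 Q1
  have hisoH : Cfsg.IsIsolated (⟨x, hxH⟩ : H) := by
    intro a ha
    apply Subtype.ext
    refine hiso a ?_
    have := congrArg Subtype.val ha.eq
    exact this
  have hmem1 : (⟨x, hxH⟩ : H) ∈ (Q1 : Subgroup H) := hQ1 (Subgroup.mem_zpowers _)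
  have hmem2 : (⟨g * x * g⁻¹, hx'H⟩ : H) ∈ (Q2 : Subgroup H) := hQ2 (Subgroup.mem_zpowers _)
  have hmem3 : c * (⟨g * x * g⁻¹, hx'H⟩ : H) * c⁻¹ ∈ (Q1 : Subgroup H) := by
    rw [← hc]
    exact Subgroup.smul_mem_pointwise_smul _ (MulAut.conj c) _ hmem2
  have h1 := isolated_commute Q1 _ hmem1 hisoH _ hmem3
  have h2 : Commute x ((c : G) * g * x * ((c : G) * g)⁻¹) := by
    have h3 := congrArg Subtype.val h1.eq
    simp only [Subgroup.coe_mul, Subgroup.coe_inv] at h3
    show x * ((c : G) * g * x * ((c : G) * g)⁻¹) = ((c : G) * g * x * ((c : G) * g)⁻¹) * x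
    calc x * ((c : G) * g * x * ((c : G) * g)⁻¹) = x * (↑c * (g * x * g⁻¹) * (↑c)⁻¹) := by group
      _ = ↑c * (g * x * g⁻¹) * (↑c)⁻¹ * x := h3
      _ = _ := by group
  have h4 := hiso _ h2
  have h5 : (c : G) * u * (c : G)⁻¹ = x ^ n := by
    have h7 : ((c : G) * g) * x ^ n * ((c : G) * g)⁻¹ = x ^ n := by
      rw [← conj_zpow, h4]
    calc (c : G) * u * (c : G)⁻¹ = ((c : G) * g) * x ^ n * ((c : G) * g)⁻¹ := by rw [hu]; group
      _ = x ^ n := h7
  have h6 : (c : G) * u = u * c := (Subgroup.mem_centralizer_singleton_iff.mp c.2)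
  rw [← h5, h6]
  group

/-- Let G be a finite group, p a prime, P a Sylow p-subgroup of G and x ∈ P an element of p-power order which is isolated in G (the only conjugate of x commuting with x is x itself). Then x lies in the centre of P, and the subgroup generated by x is both strongly closed and weakly closed in P with respect to G. -/
theorem result {G : Type*} [Group G] [Finite G] {p : ℕ} [Fact p.Prime] (P : Sylow p G) (x : G) (hxP : x ∈ (P : Subgroup G)) (hx : ∃ k : ℕ, orderOf x = p ^ k) (hiso : Cfsg.IsIsolated x) : x ∈ (P : Subgroup G) ⊓ Subgroup.centralizer ((P : Subgroup G) : Set G) ∧ Cfsg.IsStronglyClosed (Subgroup.zpowers x) (P : Subgroup G) ∧ Cfsg.IsWeaklyClosed (Subgroup.zpowers x) (P : Subgroup G) := by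

  have hcomm := isolated_commute P x hxP hiso
  refine ⟨Subgroup.mem_inf.mpr ⟨hxP, Subgroup.mem_centralizer_iff.mpr fun y hy => (hcomm y hy).eq.symm⟩, ⟨?_, ?_⟩, ?_, ?_⟩
  · exact (Subgroup.zpowers_le).mpr hxP
  · rintro y ⟨n, rfl⟩ g hg
    have h1 := isolated_pow x hx hiso n g (hcomm _ hg)
    show g * x ^ n * g⁻¹ ∈ _
    rw [h1]
    exact ⟨n, rfl⟩
  · exact (Subgroup.zpowers_le).mpr hxP
  · intro g hg
    have h1 : g * x * g⁻¹ ∈ (P : Subgroup G) := hg ⟨x, Subgroup.mem_zpowers x, rfl⟩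
    have h2 := hiso g (hcomm _ h1)
    rw [MonoidHom.map_zpowers]
    have h3 : (MulAut.conj g).toMonoidHom x = x := h2
    rw [h3]


end Cfsg.Agent.S2968
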