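import Cfsg.Statements.S2975
import Cfsg.Agent.H19.ZpStar2
import Cfsg.Agent.H2.Basic

set_option autoImplicit false
set_option linter.style.haveILetI false
open Cfsg

namespace Cfsg.Agent.S2975


open scoped Pointwise
/-- Let G be a finite group, p a prime and x ∈ G an isolated element of order p (the only conjugate of x commuting with x is x) which is not central modulo the largest normal subgroup of order prime to p, while x is central modulo the largest normal subgroup of order prime to p in every proper subgroup containing x, and the image of x is so in every quotient of G by a nontrivial normal subgroup (a minimal counterexample to the Z*_p statement). Then for every prime q, every q-subgroup of G that is normalized by x and maximal among the q-subgroups normalized by x is either trivial or a Sylow q-subgroup of G; and C_G(x) permutes the x-invariant Sylow q-subgroups of G transitively by conjugation. -/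
theorem result {G : Type*} [Group G] [Finite G] {p : ℕ} [Fact p.Prime] (x : G) (hx : orderOf x = p) (hiso : Cfsg.IsIsolated x) (hnz : ¬ Cfsg.InZStar p x) (hmin : ∀ (H : Subgroup G) (hxH : x ∈ H), H ≠ ⊤ → Cfsg.InZStar p (⟨x, hxH⟩ : ↥H)) (hquot : ∀ (N : Subgroup G) [N.Normal], N ≠ ⊥ → Cfsg.InZStar p (QuotientGroup.mk x : G ⧸ N)) (q : ℕ) [Fact q.Prime] : (∀ Q : Subgroup G, IsPGroup q ↥Q → x ∈ Subgroup.normalizer (Q : Set G) → (∀ R : Subgroup G, IsPGroup q ↥R → x ∈ Subgroup.normalizer (R : Set G) → Q ≤ R → R = Q) → Q = ⊥ ∨ ∃ S : Sylow q G, (S : Subgroup G) = Q) ∧ (∀ S₁ S₂ : Sylow q G, x ∈ Subgroup.normalizer ((S₁ : Subgroup G) : Set G) → x ∈ Subgroup.normalizer ((S₂ : Subgroup G) : Set G) → ∃ c ∈ Subgroup.centralizer ({x} : Set G), (S₁ : Subgroup G).map (MulAut.conj c).toMonoidHom = (S₂ : Subgroup G)) := by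

  obtain ⟨hp', hpc⟩ := Cfsg.Agent.H19.zpStar_min_cores x hx hiso hnz hmin hquot
  refine ⟨?_, ?_⟩
  · intro Q hQ hxQ hmax
    by_cases hQ1 : Q = ⊥
    · exact Or.inl hQ1
    right
    have hN : Subgroup.normalizer (Q : Set G) ≠ ⊤ := by
      intro h
      have h1 : Q.Normal := Subgroup.normalizer_eq_top_iff.mp h
      exact hQ1 (Cfsg.Agent.H19.eq_bot_of_solvable_normal hpc hp' h1 (Cfsg.Agent.H23.isSolvable_of_isPGroup hQ))
    have h1 := Cfsg.Agent.H19.maximal_invariant_sylow hx hQ hxQ hmax (hmin _ hxQ hN)
    have h2 := h1.not_dvd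
    rw [Subgroup.relIndex_top_right] at h2
    exact Cfsg.Agent.H2.exists_sylow_eq_of_isPGroup_of_not_dvd_index hQ h2
  · intro S₁ S₂ h1 h2
    obtain ⟨g, hg⟩ := MulAction.exists_smul_eq G S₁ S₂
    have hg' : MulAut.conj g • (S₁ : Subgroup G) = (S₂ : Subgroup G) := congrArg (fun S : Sylow q G => (S : Subgroup G)) hg
    rw [← hg'] at h2 ⊢
    exact Cfsg.Agent.H19.isolated_transitive (p := p) ⟨1, by rw [pow_one]; exact hx⟩ hiso h1 h2


end Cfsg.Agent.S2975
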