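import Cfsg.Statements.S3044
import Cfsg.Agent.H19.IsoMin5

set_option autoImplicit false
set_option linter.style.haveILetI false
open Cfsg

namespace Cfsg.Agent.S3044


section

variable {G : Type*} [Group G] [Finite G] {p : ℕ} [hp : Fact p.Prime]

/-- the subgroup of `Ḡ` corresponding to a subgroup of `Y/O_p(Y)` -/
theorem mem_iff (Y : Subgroup G) [hY : Y.Normal] (K : Subgroup (↥Y ⧸ Cfsg.pCore p ↥Y)) (x : G) :
    x ∈ (K.comap (QuotientGroup.mk' (Cfsg.pCore p ↥Y))).map Y.subtype ↔
      x ∈ Y ∧ QuotientGroup.mk' (Cfsg.pCore p G) x ∈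
        (K.map (H19.quotMapEquiv (p := p) Y).toMonoidHom).map
          (Y.map (QuotientGroup.mk' (Cfsg.pCore p G))).subtype := by
  constructor
  · rintro ⟨y, hy, rfl⟩
    refine ⟨y.2, _, ⟨_, hy, rfl⟩, ?_⟩
    exact H19.quotMapEquiv_mk Y y
  · rintro ⟨hx, ⟨_, ⟨k, hk, rfl⟩, h2⟩⟩
    refine ⟨⟨x, hx⟩, ?_, rfl⟩
    have h3 : H19.quotMapEquiv (p := p) Y k = H19.quotMapEquiv (p := p) Y (QuotientGroup.mk' (Cfsg.pCore p ↥Y) ⟨x, hx⟩) := by
      apply Subtype.ext
      rw [H19.quotMapEquiv_mk]
      exact h2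
    have h4 := (H19.quotMapEquiv (p := p) Y).injective h3
    show QuotientGroup.mk' (Cfsg.pCore p ↥Y) ⟨x, hx⟩ ∈ K
    rw [← h4]; exact hk

end

/-- Let G be a finite group, p a prime, S a Sylow p-subgroup of G and P a p-minimal subgroup of G containing S (S is not normal in P and lies in exactly one maximal subgroup of P). Let L be the subgroup generated by N_G(S) and all p-minimal subgroups of G containing S other than P, and suppose P is isolated: O_p(L) is not contained in O_p(P). Put Y for the normal closure of O^p(P) in G. Then G = YL; P is again isolated in the subgroup YS (the subgroup L₀ generated by N_{YS}(S) and the p-minimal subgroups of YS containing S other than P has O_p(L₀) not contained in O_p(P)); and either Y = O^p(P), or p divides |Y/O_p(Y)|, Y/O_p(Y) is generated by its components (a central product of quasisimple groups), and S permutes these components transitively by conjugation. -/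
theorem result {G : Type*} [Group G] [Finite G] {p : ℕ} [Fact p.Prime] (S : Sylow p G) (P : Subgroup G) (hSP : (S : Subgroup G) ≤ P) (hPmin : Cfsg.IsPMinimal p ↥P)
    (L Y : Subgroup G)
    (hL : L = Subgroup.normalizer ((S : Subgroup G) : Set G) ⊔ ⨆ P' : {P' : Subgroup G // (S : Subgroup G) ≤ P' ∧ Cfsg.IsPMinimal p ↥P' ∧ P' ≠ P}, (P' : Subgroup G))
    (hiso : ¬ (Cfsg.pCore p ↥L).map L.subtype ≤ (Cfsg.pCore p ↥P).map P.subtype)
    (hY : Y = Subgroup.normalClosure (((Cfsg.pResidual p ↥P).map P.subtype : Subgroup G) : Set G)) :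
    Y ⊔ L = ⊤ ∧
    ¬ (Cfsg.pCore p ↥((Subgroup.normalizer ((S : Subgroup G) : Set G) ⊓ (Y ⊔ (S : Subgroup G))) ⊔
          ⨆ P' : {P' : Subgroup G // (S : Subgroup G) ≤ P' ∧ P' ≤ Y ⊔ (S : Subgroup G) ∧ Cfsg.IsPMinimal p ↥P' ∧ P' ≠ P}, (P' : Subgroup G))).map
        (Subgroup.subtype _) ≤ (Cfsg.pCore p ↥P).map P.subtype ∧
    ((Cfsg.pResidual p ↥P).map P.subtype = Y ∨
     ∃ _ : (Cfsg.pCore p ↥Y).Normal,
       p ∣ Nat.card (↥Y ⧸ Cfsg.pCore p ↥Y) ∧ Cfsg.layer (↥Y ⧸ Cfsg.pCore p ↥Y) = ⊤ ∧
       ∀ K₁ K₂ : Subgroup (↥Y ⧸ Cfsg.pCore p ↥Y), Cfsg.IsComponent K₁ → Cfsg.IsComponent K₂ →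
         ∃ s ∈ (S : Subgroup G), ((K₂.comap (QuotientGroup.mk' (Cfsg.pCore p ↥Y))).map Y.subtype) = (((K₁.comap (QuotientGroup.mk' (Cfsg.pCore p ↥Y))).map Y.subtype)).map (MulAut.conj s).toMonoidHom) := by

  have h : H19.IsoMin (S := S) (P := P) (L := L) (Y := Y) := by
    refine ⟨hSP, hPmin, ?_, ?_, hiso, hY⟩
    · rw [hL]; exact le_sup_left
    · intro P' h1 h2 h3
      rw [hL]
      exact le_trans (le_iSup (fun P' : {P' : Subgroup G // (S : Subgroup G) ≤ P' ∧ Cfsg.IsPMinimal p ↥P' ∧ P' ≠ P} =>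
        (P' : Subgroup G)) ⟨P', h1, h2, h3⟩) le_sup_right
  have hYn := h.Yn
  refine ⟨h.PYL, ?_, ?_⟩
  · intro hc
    apply h.iso
    refine le_trans ?_ hc
    refine H18.le_pCoreOf ?_ ?_ (H18.isPGroup_pCoreOf L)
    · refine h.QS.trans (le_trans ?_ le_sup_left)
      exact le_inf Subgroup.le_normalizer le_sup_right
    · refine le_trans ?_ h.LQ
      refine sup_le (inf_le_left.trans h.NL) (iSup_le fun P' => ?_)
      exact h.PL _ P'.2.1 P'.2.2.2.1 P'.2.2.2.2
  · by_cases hP : Y.map (QuotientGroup.mk' (Cfsg.pCore p G)) ≤ ⁅Y.map (QuotientGroup.mk' (Cfsg.pCore p G)),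
        Y.map (QuotientGroup.mk' (Cfsg.pCore p G))⁆
    · right
      refine ⟨inferInstance, ?_, ?_, ?_⟩
      · rw [Nat.card_congr (H19.quotMapEquiv (p := p) Y).toEquiv]
        exact h.p_dvd hP
      · -- layer
        have h1 : (⊤ : Subgroup (Y.map (QuotientGroup.mk' (Cfsg.pCore p G)))) ≤
            Cfsg.layer (Y.map (QuotientGroup.mk' (Cfsg.pCore p G))) := by
          have h2 : Y.map (QuotientGroup.mk' (Cfsg.pCore p G)) ≤
              (Cfsg.layer (Y.map (QuotientGroup.mk' (Cfsg.pCore p G)))).map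
                (Y.map (QuotientGroup.mk' (Cfsg.pCore p G))).subtype := by
            refine (h.Yb_le_comps hP).trans (sSup_le fun K hK => ?_)
            have h3 := H10.le_layer (H10.component_subgroupOf hK.1 hK.2)
            have h4 := Subgroup.map_mono (f := (Y.map (QuotientGroup.mk' (Cfsg.pCore p G))).subtype) h3
            rwa [Subgroup.map_subgroupOf_eq_of_le hK.2] at h4
          intro x _
          obtain ⟨y, hy, hyx⟩ := h2 x.2
          have : y = x := Subtype.ext hyx
          rwa [← this]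
        rw [eq_top_iff]
        intro x _
        have h2 : H19.quotMapEquiv (p := p) Y x ∈ Cfsg.layer (Y.map (QuotientGroup.mk' (Cfsg.pCore p G))) := h1 trivial
        have h3 : (Cfsg.layer (Y.map (QuotientGroup.mk' (Cfsg.pCore p G)))) ≤
            (Cfsg.layer (↥Y ⧸ Cfsg.pCore p ↥Y)).map (H19.quotMapEquiv (p := p) Y).toMonoidHom := by
          refine sSup_le fun K hK => ?_
          have h4 := H10.le_layer (H10.component_map_equiv (H19.quotMapEquiv (p := p) Y).symm hK)
          have h5 := Subgroup.map_mono (f := (H19.quotMapEquiv (p := p) Y).toMonoidHom) h4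
          refine le_trans ?_ h5
          rw [Subgroup.map_map]
          intro k hk
          exact ⟨k, hk, by simp⟩
        obtain ⟨y, hy, hyx⟩ := h3 h2
        rwa [← (H19.quotMapEquiv (p := p) Y).injective hyx]
      · intro K₁ K₂ hK₁ hK₂
        have key : ∀ K : Subgroup (↥Y ⧸ Cfsg.pCore p ↥Y), Cfsg.IsComponent K →
            (K.map (H19.quotMapEquiv (p := p) Y).toMonoidHom).map
              (Y.map (QuotientGroup.mk' (Cfsg.pCore p G))).subtype ∈
              H19.compsIn (Y.map (QuotientGroup.mk' (Cfsg.pCore p G))) := by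
          intro K hK
          refine ⟨H10.component_map_subtype h.Ybn.isSubnormal (H10.component_map_equiv _ hK), ?_⟩
          exact Subgroup.map_subtype_le _
        obtain ⟨s, hs, he⟩ := h.trans hP (key K₁ hK₁) (key K₂ hK₂)
        refine ⟨s, hs, ?_⟩
        ext x
        rw [mem_iff, he]
        constructor
        · rintro ⟨hx, k, hk, hkx⟩
          refine ⟨s⁻¹ * x * s, ?_, ?_⟩
          · rw [SetLike.mem_coe, mem_iff]
            refine ⟨?_, ?_⟩
            · have := hYn.conj_mem x hx s⁻¹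
              rwa [inv_inv] at this
            · have e1 : QuotientGroup.mk' (Cfsg.pCore p G) (s⁻¹ * x * s) = k := by
                have hkx' : QuotientGroup.mk' (Cfsg.pCore p G) s * k * (QuotientGroup.mk' (Cfsg.pCore p G) s)⁻¹ =
                  QuotientGroup.mk' (Cfsg.pCore p G) x := hkx
                rw [map_mul, map_mul, map_inv, ← hkx']
                group
              rw [e1]
              exact hk
          · show s * (s⁻¹ * x * s) * s⁻¹ = x
            group
        · rintro ⟨y, hy, rfl⟩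
          rw [SetLike.mem_coe, mem_iff] at hy
          refine ⟨hYn.conj_mem y hy.1 s, _, hy.2, ?_⟩
          show QuotientGroup.mk' (Cfsg.pCore p G) s * QuotientGroup.mk' (Cfsg.pCore p G) y *
            (QuotientGroup.mk' (Cfsg.pCore p G) s)⁻¹ = QuotientGroup.mk' (Cfsg.pCore p G) (s * y * s⁻¹)
          rw [map_mul, map_mul, map_inv]
    · left
      have hn := h.Ybn
      have hd := h.dich (N := ⁅Y.map (QuotientGroup.mk' (Cfsg.pCore p G)),
        Y.map (QuotientGroup.mk' (Cfsg.pCore p G))⁆) inferInstance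
      have hc1 := (hd.resolve_left hP).2.2
      obtain ⟨hN, -⟩ := h.nilp hc1
      have hs : Group.IsSolvable ↥Y := by
        rw [Group.isSolvable_iff_subgroup_quotient (Cfsg.pCore p ↥Y)]
        refine ⟨H23.isSolvable_of_isPGroup (H18.isPGroup_pCore p ↥Y), ?_⟩
        have hN2 : Group.IsSolvable (Y.map (QuotientGroup.mk' (Cfsg.pCore p G))) := inferInstance
        exact Group.isSolvable_of_surjective (f := (H19.quotMapEquiv (p := p) Y).symm.toMonoidHom)
          (H19.quotMapEquiv (p := p) Y).symm.surjective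
      obtain ⟨t, ht, htp, hYt⟩ := h.exists_prime hN
      exact h.O_eq_Y (h.Yb_le_V hs ht htp hYt)

end Cfsg.Agent.S3044
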