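import Cfsg.Statements.S3045
import Cfsg.Agent.H19.IsoMin4

set_option autoImplicit false
set_option linter.style.haveILetI false
open Cfsg

namespace Cfsg.Agent.S3045

/-- Let G be a finite group, p a prime, S a Sylow p-subgroup of G and P a p-minimal subgroup of G containing S. Let L be the subgroup generated by N_G(S) and all p-minimal subgroups of G containing S other than P, and suppose O_p(L) is not contained in O_p(P). Put Y for the normal closure of O^p(P) in G. Then O^p(P) is contained in the preimage in G of F*(G/O_p(G)); and if Y is solvable, then Y = O^p(P) and Y/O_p(Y) is a t-group of nilpotency class at most 2 for some prime t ≠ p. -/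
theorem result {G : Type*} [Group G] [Finite G] {p : ℕ} [Fact p.Prime] (S : Sylow p G) (P : Subgroup G) (hSP : (S : Subgroup G) ≤ P) (hPmin : Cfsg.IsPMinimal p ↥P)
    (L Y : Subgroup G)
    (hL : L = Subgroup.normalizer ((S : Subgroup G) : Set G) ⊔ ⨆ P' : {P' : Subgroup G // (S : Subgroup G) ≤ P' ∧ Cfsg.IsPMinimal p ↥P' ∧ P' ≠ P}, (P' : Subgroup G))
    (hiso : ¬ (Cfsg.pCore p ↥L).map L.subtype ≤ (Cfsg.pCore p ↥P).map P.subtype)
    (hY : Y = Subgroup.normalClosure (((Cfsg.pResidual p ↥P).map P.subtype : Subgroup G) : Set G)) [hn : (Cfsg.pCore p G).Normal] :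
    (Cfsg.pResidual p ↥P).map P.subtype ≤ (Cfsg.generalizedFittingSubgroup (G ⧸ Cfsg.pCore p G)).comap (QuotientGroup.mk' (Cfsg.pCore p G)) ∧
    (Group.IsSolvable ↥Y → (Cfsg.pResidual p ↥P).map P.subtype = Y ∧
       ∃ _ : (Cfsg.pCore p ↥Y).Normal, ∃ t : ℕ, t.Prime ∧ t ≠ p ∧ IsPGroup t (↥Y ⧸ Cfsg.pCore p ↥Y) ∧
         ∃ _ : Group.IsNilpotent (↥Y ⧸ Cfsg.pCore p ↥Y), Group.nilpotencyClass (↥Y ⧸ Cfsg.pCore p ↥Y) ≤ 2) := by

  have h : H19.IsoMin (S := S) (P := P) (L := L) (Y := Y) := by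
    refine ⟨hSP, hPmin, ?_, ?_, hiso, hY⟩
    · rw [hL]; exact le_sup_left
    · intro P' h1 h2 h3
      rw [hL]
      exact le_trans (le_iSup (fun P' : {P' : Subgroup G // (S : Subgroup G) ≤ P' ∧ Cfsg.IsPMinimal p ↥P' ∧ P' ≠ P} =>
        (P' : Subgroup G)) ⟨P', h1, h2, h3⟩) le_sup_right
  have hYn := h.Yn
  refine ⟨?_, ?_⟩
  · have hF := H10.genFitting_normal (G ⧸ Cfsg.pCore p G)
    have h1 : Y.map (QuotientGroup.mk' (Cfsg.pCore p G)) ≤
        Cfsg.generalizedFittingSubgroup (G ⧸ Cfsg.pCore p G) := by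
      rcases h.dich hF with h1 | h1
      · exact h1
      · have h2 := h1.2.2
        rw [Subgroup.commutator_eq_bot_iff_le_centralizer] at h2
        exact h2.trans H10.centralizer_genFitting_le
    rw [← Subgroup.map_le_iff_le_comap]
    exact h.Ob_Yb.trans h1
  · intro hs
    obtain ⟨c1, c2⟩ := h.class_two hs
    obtain ⟨hN, hN2⟩ := h.nilp c1
    obtain ⟨t, ht, htp, hYt⟩ := h.exists_prime hN
    refine ⟨h.O_eq_Y (h.Yb_le_V hs ht htp hYt), inferInstance, t, ht, htp, ?_, ?_⟩
    · exact hYt.of_equiv (H19.quotMapEquiv Y).symm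
    · have hN3 : Group.IsNilpotent (↥Y ⧸ Cfsg.pCore p ↥Y) := Group.nilpotent_of_mulEquiv (H19.quotMapEquiv Y).symm
      refine ⟨hN3, ?_⟩
      rw [← Subgroup.lowerCentralSeries_eq_bot_iff_nilpotencyClass_le]
      have e1 : (Subgroup.lowerCentralSeries (⊤ : Subgroup (↥Y ⧸ Cfsg.pCore p ↥Y)) 2).map
          (H19.quotMapEquiv Y).toMonoidHom = ⊥ := by
        rw [Subgroup.map_lowerCentralSeries, Subgroup.map_top_of_surjective _ (H19.quotMapEquiv Y).surjective]
        have e2 := Subgroup.top_subtype_lowerCentralSeries (Y.map (QuotientGroup.mk' (Cfsg.pCore p G))) 2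
        rw [hN2] at e2
        exact (Subgroup.map_eq_bot_iff_of_injective _ (Subgroup.subtype_injective _)).1 e2
      exact (Subgroup.map_eq_bot_iff_of_injective _ (H19.quotMapEquiv Y).injective).1 e1

end Cfsg.Agent.S3045
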