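import Cfsg.Statements.S3215
import Mathlib
import Cfsg.Agent.S0086
import Cfsg.Agent.H1.Chief
import Cfsg.Agent.H1.Coprime
import Cfsg.Agent.H23.Coprime2
import Cfsg.Agent.H23.Coprime4
import Cfsg.Agent.H23.RankOne
import Cfsg.Agent.H18.FStarY3
import Cfsg.Agent.H29.XS2
import Cfsg.Agent.H10.PCons
import Cfsg.Prelude.Def_CaseTheorems

set_option autoImplicit false
set_option linter.all false
open Cfsg

namespace Cfsg.Agent.S3215

open scoped commutatorElement

section
variable {H : Type*} [Group H] [Finite H]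

theorem pe_one {x : H} (h2 : ∃ k, orderOf x = 2 ^ k) (h : Odd (orderOf x)) : x = 1 := by
  obtain ⟨k, hk⟩ := h2
  rw [← orderOf_eq_one_iff, hk]
  rcases Nat.eq_zero_or_pos k with h0 | h0
  · rw [h0, pow_zero]
  · rw [hk] at h
    exact absurd h (by rw [Nat.not_odd_iff_even]; exact (Nat.even_pow.2 ⟨even_two, h0.ne'⟩))

theorem ord_of_isPGroup {Y : Subgroup H} (hY : IsPGroup 2 Y) {y : H} (hy : y ∈ Y) : ∃ k, orderOf y = 2 ^ k := by
  haveI : Fact (Nat.Prime 2) := ⟨Nat.prime_two⟩
  obtain ⟨k, hk⟩ := IsPGroup.iff_orderOf.1 hY ⟨y, hy⟩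
  exact ⟨k, by rw [← hk, Subgroup.orderOf_mk]⟩

theorem exists_invol {s : H} (h : ∃ k, orderOf s = 2 ^ k) (hs : s ≠ 1) :
    ∃ n : ℕ, orderOf (s ^ n) = 2 := by
  obtain ⟨k, hk⟩ := h
  rcases Nat.eq_zero_or_pos k with h0 | h0
  · rw [h0, pow_zero, orderOf_eq_one_iff] at hk
    exact absurd hk hs
  · obtain ⟨j, rfl⟩ := Nat.exists_eq_succ_of_ne_zero h0.ne'
    refine ⟨2 ^ j, ?_⟩
    rw [orderOf_pow_of_dvd (by positivity) (by rw [hk]; exact pow_dvd_pow 2 (Nat.le_succ j)), hk,
      pow_succ, Nat.mul_div_cancel_left _ (by positivity)]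

theorem star (hsol : Group.IsSolvable H) (hO : Cfsg.oddCore H = ⊥)
    (hI : ∀ t : H, orderOf t = 2 → Cfsg.HasNormalPComplement 2 ↥(Subgroup.centralizer ({t} : Set H)))
    (x t : H) (hx : Odd (orderOf x)) (ht : orderOf t = 2) (hxt : x * t = t * x) : x = 1 := by
  haveI : Fact (Nat.Prime 2) := ⟨Nat.prime_two⟩
  have hF : Cfsg.fittingSubgroup H = Cfsg.pCore 2 H := Cfsg.Agent.H10.fitting_eq_pCore hO
  have hC := Cfsg.Agent.H1.centralizer_fitting_le hsol
  rw [hF] at hC
  have hYp := Cfsg.Agent.H1.pCore_isPGroup 2 H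
  have hYn := Cfsg.Agent.H1.pCore_normal 2 H
  have hIt := hI t ht
  set C := Subgroup.centralizer ({t} : Set H) with hCdef
  obtain ⟨P, N, hN, hc⟩ := hIt
  have hxC : x ∈ C := by rw [hCdef, Subgroup.mem_centralizer_singleton_iff]; exact hxt
  have hxN : (⟨x, hxC⟩ : C) ∈ N := by
    rw [Cfsg.Agent.S0086.result P N hc, Subgroup.orderOf_mk]
    exact Nat.coprime_two_right.2 hx
  have h1 : Cfsg.pCore 2 H ≤ Subgroup.centralizer ((Subgroup.zpowers x : Subgroup H) : Set H) := by
    apply Cfsg.Agent.H23.thompson_AxB (A := Subgroup.zpowers x) (B := Subgroup.zpowers t) hYp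
    · rw [Nat.card_zpowers]; exact Nat.coprime_two_right.2 hx
    · apply IsPGroup.of_card (n := 1); rw [Nat.card_zpowers, ht, pow_one]
    · rw [Subgroup.normalizer_eq_top]; exact le_top
    · rw [Subgroup.normalizer_eq_top]; exact le_top
    · rw [Subgroup.zpowers_le, Subgroup.mem_centralizer_iff]
      rintro _ ⟨k, rfl⟩
      exact ((show Commute x t from hxt).zpow_left k).eq
    · intro y hy
      obtain ⟨hyY, hyt⟩ := Subgroup.mem_inf.1 hy
      have hyC : y ∈ C := by
        rw [hCdef, Subgroup.mem_centralizer_singleton_iff]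
        exact (Subgroup.mem_centralizer_iff.1 hyt t (Subgroup.mem_zpowers t)).symm
      have h2 : ⁅(⟨x, hxC⟩ : C), (⟨y, hyC⟩ : C)⁆ ∈ N := by
        rw [commutatorElement_def, mul_assoc, mul_assoc, ← mul_assoc (⟨y, hyC⟩ : C)]
        exact mul_mem hxN (hN.conj_mem _ (inv_mem hxN) _)
      rw [Cfsg.Agent.S0086.result P N hc] at h2
      have h3 : orderOf ⁅(⟨x, hxC⟩ : C), (⟨y, hyC⟩ : C)⁆ = orderOf ⁅x, y⁆ := by
        rw [← Subgroup.orderOf_coe]; rfl
      rw [h3] at h2
      have h4 : ⁅x, y⁆ ∈ Cfsg.pCore 2 H := by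
        rw [commutatorElement_def]
        exact mul_mem (hYn.conj_mem y hyY x) (inv_mem hyY)
      have h5 := pe_one (ord_of_isPGroup hYp h4) (Nat.coprime_two_right.1 h2)
      rw [Subgroup.mem_centralizer_iff]
      rintro _ ⟨k, rfl⟩
      exact ((show Commute x y from commutatorElement_eq_one_iff_mul_comm.1 h5).zpow_left k).eq
  have h2 : x ∈ Cfsg.pCore 2 H := by
    apply hC
    rw [Subgroup.mem_centralizer_iff]
    intro y hy
    exact (Subgroup.mem_centralizer_iff.1 (h1 hy) x (Subgroup.mem_zpowers x)).symm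
  exact pe_one (ord_of_isPGroup hYp h2) hx

end


/-- Let H be a finite solvable group with no nontrivial normal subgroup of odd order in which the centralizer of every involution has a normal 2-complement. Let X be a Hall 2'-subgroup of H (odd order, index a power of 2) and Y = O₂(H). Then no non-identity element of X commutes with a non-identity element of Y (so for X ≠ 1 the group XY is a Frobenius group with kernel Y), every Sylow subgroup of X is cyclic, XY is normal in H, and H/XY is a cyclic 2-group. -/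
theorem result {H : Type*} [Group H] [Finite H] (hsol : Group.IsSolvable H)
    (hO : Cfsg.oddCore H = ⊥)
    (hI : ∀ t : H, orderOf t = 2 → Cfsg.HasNormalPComplement 2 ↥(Subgroup.centralizer ({t} : Set H)))
    (X : Subgroup H) (hXodd : Odd (Nat.card X)) (hXidx : ∃ k : ℕ, X.index = 2 ^ k) :
    (∀ x ∈ X, x ≠ 1 → ∀ y ∈ Cfsg.pCore 2 H, y ≠ 1 → x * y ≠ y * x) ∧
      (∀ (p : ℕ) [Fact p.Prime] (P : Sylow p ↥X), IsCyclic ↥(P : Subgroup ↥X)) ∧
      (X ⊔ Cfsg.pCore 2 H).Normal ∧
      ∀ hN : (X ⊔ Cfsg.pCore 2 H).Normal, IsCyclic (H ⧸ (X ⊔ Cfsg.pCore 2 H)) ∧ IsPGroup 2 (H ⧸ (X ⊔ Cfsg.pCore 2 H)) := by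
  haveI : Fact (Nat.Prime 2) := ⟨Nat.prime_two⟩
  have hstar := star hsol hO hI
  have hF : Cfsg.fittingSubgroup H = Cfsg.pCore 2 H := Cfsg.Agent.H10.fitting_eq_pCore hO
  have hC := Cfsg.Agent.H1.centralizer_fitting_le hsol
  rw [hF] at hC
  have hYp := Cfsg.Agent.H1.pCore_isPGroup 2 H
  have hYn := Cfsg.Agent.H1.pCore_normal 2 H
  set Y := Cfsg.pCore 2 H with hY
  have hXo : ∀ x ∈ X, Odd (orderOf x) := fun x hx => by
    have := Subgroup.orderOf_dvd_natCard X hx
    exact Odd.of_dvd_nat hXodd this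
  have h1 : ∀ x ∈ X, x ≠ 1 → ∀ y ∈ Y, y ≠ 1 → x * y ≠ y * x := by
    intro x hx hx1 y hy hy1 hxy
    obtain ⟨n, hn⟩ := exists_invol (ord_of_isPGroup hYp hy) hy1
    exact hx1 (hstar x (y ^ n) (hXo x hx) hn ((show Commute x y from hxy).pow_right n).eq)
  have hYX : X ⊓ Y = ⊥ := by
    rw [eq_bot_iff]
    intro x hx
    exact pe_one (ord_of_isPGroup hYp (Subgroup.mem_inf.1 hx).2) (hXo x (Subgroup.mem_inf.1 hx).1)
  have h2 : ∀ (p : ℕ) [Fact p.Prime] (P : Sylow p ↥X), IsCyclic ↥(P : Subgroup ↥X) := by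
    intro p hp P
    by_cases hp2 : p = 2
    · subst hp2
      have : (P : Subgroup X) = ⊥ := by
        rw [eq_bot_iff]
        intro x hx
        obtain ⟨k, hk⟩ := IsPGroup.iff_orderOf.1 P.isPGroup' ⟨x, hx⟩
        rw [Subgroup.orderOf_mk] at hk
        rw [Subgroup.mem_bot]
        apply Subtype.ext
        exact pe_one ⟨k, by rw [Subgroup.orderOf_coe]; exact hk⟩ (hXo x x.2)
      rw [this]; infer_instance
    by_contra hnc
    obtain ⟨E, hEn, hEc, hEp⟩ := Cfsg.Agent.H23.exists_normal_sq_of_odd P.isPGroup' hp2 hnc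
    set E' : Subgroup H := (E.map (P : Subgroup X).subtype).map X.subtype with hE'
    have hE'X : E' ≤ X := Subgroup.map_subtype_le _
    have hE'c : Nat.card E' = p ^ 2 := by
      rw [hE', Subgroup.card_map_of_injective X.subtype_injective,
        Subgroup.card_map_of_injective (P : Subgroup X).subtype_injective, hEc]
    have hE'p : ∀ a ∈ E', a ^ p = 1 := by
      rintro _ ⟨_, ⟨a, ha, rfl⟩, rfl⟩
      rw [← map_pow, ← map_pow, hEp a ha]; rfl
    haveI hE'comm : IsMulCommutative E' := by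
      have := IsPGroup.isMulCommutative_of_card_eq_prime_sq (G := E') hE'c
      exact this
    have hE'nc : ¬ IsCyclic E' := by
      intro hcyc
      have h3 : Monoid.exponent E' = p ^ 2 := by rw [hcyc.exponent_eq_card, hE'c]
      have h4 : Monoid.exponent E' ∣ p := Monoid.exponent_dvd_of_forall_pow_eq_one (fun a => Subtype.ext (hE'p a a.2))
      rw [h3] at h4
      have h5 := Nat.le_of_dvd hp.out.pos h4
      have h6 := hp.out.one_lt
      nlinarith
    have h3 := Cfsg.Agent.H23.iSup_centralizer_of_not_isCyclic (X := H) (A := E') (G := Y) hE'comm hE'nc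
      (by rw [Subgroup.normalizer_eq_top]; exact le_top) (by
        obtain ⟨k, hk⟩ := IsPGroup.iff_card.1 hYp
        rw [hE'c, hk]
        exact Nat.Coprime.pow _ _ ((Nat.coprime_primes hp.out Nat.prime_two).2 hp2))
    have hYbot : Y = ⊥ := by
      rw [← h3, eq_bot_iff]
      refine iSup_le ?_
      rintro ⟨a, haE, ha1⟩ y hy
      obtain ⟨hyY, hya⟩ := Subgroup.mem_inf.1 hy
      rw [Subgroup.mem_centralizer_singleton_iff] at hya
      rw [Subgroup.mem_bot]
      by_contra hy1
      exact h1 a (hE'X haE) ha1 y hyY hy1 hya.symm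
    have htop : (⊤ : Subgroup H) = ⊥ := by
      rw [hYbot] at hC
      rw [eq_bot_iff]
      refine le_trans ?_ hC
      intro x _
      rw [Subgroup.mem_centralizer_iff]
      intro y hy
      rw [SetLike.mem_coe, Subgroup.mem_bot] at hy
      rw [hy]; simp
    have h4 : E' = ⊥ := by rw [eq_bot_iff, ← htop]; exact le_top
    rw [h4, Subgroup.card_bot] at hE'c
    exact (Nat.one_lt_pow (by norm_num) hp.out.one_lt).ne hE'c
  haveI hXZ : IsZGroup X := ⟨fun p hp P => by haveI : Fact p.Prime := ⟨hp⟩; exact h2 p P⟩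
  -- the quotient
  set π := QuotientGroup.mk' Y with hπ
  have hπs : Function.Surjective π := QuotientGroup.mk'_surjective Y
  have hπk : ∀ h, π h = 1 ↔ h ∈ Y := fun h => by
    rw [← MonoidHom.mem_ker, hπ, QuotientGroup.ker_mk']
  have hsolq : Group.IsSolvable (H ⧸ Y) := inferInstance
  have hOq : Cfsg.pCore 2 (H ⧸ Y) = ⊥ := Cfsg.Agent.H1.pCore_quotient_eq_bot 2
  have hCq := Cfsg.Agent.H1.centralizer_fitting_le hsolq
  have hFodd := Cfsg.Agent.H18.fitting_coprime hOq
  have hFn : (Cfsg.fittingSubgroup (H ⧸ Y)).Normal := Cfsg.Agent.H10.fitting_normal _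
  have hFnil : Group.IsNilpotent (Cfsg.fittingSubgroup (H ⧸ Y)) := Cfsg.Agent.H10.fitting_isNilpotent _
  set F := Cfsg.fittingSubgroup (H ⧸ Y) with hFdef
  set X' := X.map π with hX'
  obtain ⟨k, hk⟩ := hXidx
  have hFX : F ≤ X' := by
    have h5 : X'.index ∣ 2 ^ k := by
      rw [← hk]
      have := Subgroup.index_map_dvd X hπs
      exact this
    have h3 : Odd (Nat.card (F ⊔ X' : Subgroup (H ⧸ Y))) := by
      apply Odd.of_dvd_nat _ (Cfsg.Agent.H10.card_sup_dvd F X')
      refine Odd.mul ?_ (Odd.of_dvd_nat hXodd (Subgroup.card_map_dvd _ _))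
      rw [← Nat.not_even_iff_odd, even_iff_two_dvd]; exact hFodd
    have h4 : X'.relIndex (F ⊔ X') ∣ X'.index := Subgroup.relIndex_dvd_index_of_le le_sup_right
    have h4' : X'.relIndex (F ⊔ X') ∣ Nat.card (F ⊔ X' : Subgroup (H ⧸ Y)) := Subgroup.relIndex_dvd_card _ _
    have h6 : X'.relIndex (F ⊔ X') = 1 := by
      obtain ⟨j, -, hj⟩ := (Nat.dvd_prime_pow Nat.prime_two).1 (h4.trans h5)
      rcases Nat.eq_zero_or_pos j with h0 | h0
      · rw [hj, h0, pow_zero]
      · exfalso
        have h7 : 2 ∣ Nat.card (F ⊔ X' : Subgroup (H ⧸ Y)) := by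
          refine dvd_trans ?_ h4'
          rw [hj]; exact dvd_pow_self 2 h0.ne'
        rw [← Nat.not_even_iff_odd, even_iff_two_dvd] at h3
        exact h3 h7
    exact le_sup_left.trans (Subgroup.relIndex_eq_one.1 h6)
  haveI hX'Z : IsZGroup X' := by
    let f : X →* X' := (π.comp X.subtype).codRestrict X' (fun x => ⟨x, x.2, rfl⟩)
    apply IsZGroup.of_surjective (f := f)
    rintro ⟨_, ⟨x, hx, rfl⟩⟩
    exact ⟨⟨x, hx⟩, rfl⟩
  haveI hFZ : IsZGroup F := IsZGroup.of_injective (f := Subgroup.inclusion hFX) (Subgroup.inclusion_injective hFX)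
  haveI hFc : IsCyclic F := inferInstance
  have hcomq : commutator (H ⧸ Y) ≤ X' := by
    refine le_trans ?_ (hCq.trans hFX)
    have h3 : commutator (H ⧸ Y) ≤ (MulAut.conjNormal (H := F)).ker := by
      rw [commutator_def, Subgroup.commutator_le]
      intro a _ b _
      rw [MonoidHom.mem_ker, map_commutatorElement]
      have h4 : ∀ u v : MulAut F, u * v = v * u := by
        intro u v
        apply (IsCyclic.mulAutMulEquiv F).injective
        rw [map_mul, map_mul, mul_comm]
      rw [commutatorElement_eq_one_iff_mul_comm]; exact h4 _ _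
    intro x hx
    have h4 := h3 hx
    rw [MonoidHom.mem_ker] at h4
    rw [Subgroup.mem_centralizer_iff]
    intro y hy
    have h5 := congrArg Subtype.val (DFunLike.congr_fun h4 ⟨y, hy⟩)
    rw [MulAut.conjNormal_apply] at h5
    simp only [MulAut.one_apply] at h5
    rw [mul_inv_eq_iff_eq_mul] at h5
    exact h5.symm
  have hWcomap : X ⊔ Y = X'.comap π := by
    rw [hX', Subgroup.comap_map_eq, hπ, QuotientGroup.ker_mk']
  have hcomW : commutator H ≤ X ⊔ Y := by
    rw [hWcomap, ← Subgroup.map_le_iff_le_comap]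
    refine le_trans ?_ hcomq
    rw [commutator_def, Subgroup.map_commutator]
    exact Subgroup.commutator_mono le_top le_top
  have hWn : (X ⊔ Y).Normal := Subgroup.Normal.of_commutator_le (G := H) (H := X ⊔ Y) hcomW
  refine ⟨h1, h2, hWn, ?_⟩
  intro hN
  set W := X ⊔ Y with hW
  have hWi : ∃ j, Nat.card (H ⧸ W) = 2 ^ j := by
    have : W.index ∣ X.index := Subgroup.index_dvd_of_le le_sup_left
    rw [hk] at this
    obtain ⟨j, -, hj⟩ := (Nat.dvd_prime_pow Nat.prime_two).1 this
    exact ⟨j, hj⟩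
  obtain ⟨j, hj⟩ := hWi
  have hWp : IsPGroup 2 (H ⧸ W) := IsPGroup.of_card hj
  refine ⟨?_, hWp⟩
  have hcommq : ∀ a b : H ⧸ W, a * b = b * a := by
    haveI : IsMulCommutative (H ⧸ W) := Subgroup.Normal.quotient_commutative_iff_commutator_le.2 hcomW
    intro a b
    exact this.is_comm.comm a b
  by_contra hnc
  obtain ⟨a, b, ha, hb, hab⟩ := Cfsg.Agent.H23.exists_two_of_comm hcommq hWp hnc
  have hWπ : ∀ h, h ∈ W ↔ π h ∈ X' := fun h => by rw [hWcomap]; rfl
  have hX'odd : ∀ x ∈ X', Odd (orderOf x) := by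
    rintro _ ⟨x, hx, rfl⟩
    exact Odd.of_dvd_nat (hXo x hx) (orderOf_map_dvd π x)
  -- involutions of H/W invert F
  have key : ∀ a : H ⧸ W, orderOf a = 2 → ∃ u : H, QuotientGroup.mk' W u = a ∧
      ∀ f ∈ F, π u * f * (π u)⁻¹ = f⁻¹ := by
    intro a ha
    obtain ⟨g, rfl⟩ := QuotientGroup.mk'_surjective W a
    obtain ⟨e, m, hm, hgm⟩ := Nat.exists_eq_two_pow_mul_odd (orderOf_pos g).ne'
    have hu2 : orderOf (g ^ m) = 2 ^ e := by
      have hm0 : 0 < m := hm.pos
      rw [orderOf_pow_of_dvd hm0.ne' (by rw [hgm]; exact Dvd.intro_left _ rfl), hgm, Nat.mul_div_cancel _ hm0]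
    have huW : QuotientGroup.mk' W (g ^ m) = QuotientGroup.mk' W g := by
      rw [map_pow]
      obtain ⟨l, hl⟩ := hm
      rw [hl, pow_succ, pow_mul, ← ha, pow_orderOf_eq_one, one_pow, one_mul]
    have huu : π (g ^ m) * π (g ^ m) = 1 := by
      rw [← map_mul]
      have h3 : g ^ m * g ^ m ∈ W := by
        rw [← QuotientGroup.ker_mk' W, MonoidHom.mem_ker, map_mul, huW, ← pow_two, ← ha, pow_orderOf_eq_one]
      rw [hWπ] at h3
      apply pe_one _ (hX'odd _ h3)
      have h4 : orderOf (π (g ^ m * g ^ m)) ∣ 2 ^ e := by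
        refine (orderOf_map_dvd π _).trans ?_
        rw [← pow_two, ← hu2]; exact orderOf_pow_dvd 2
      obtain ⟨i, -, hi⟩ := (Nat.dvd_prime_pow Nat.prime_two).1 h4
      exact ⟨i, hi⟩
    refine ⟨g ^ m, huW, ?_⟩
    apply Cfsg.Agent.H29.inv_of_fpf huu
    · intro f hf; exact hFn.conj_mem f hf _
    · intro f hf hfu
      obtain ⟨x, hx, rfl⟩ := hFX hf
      -- x in X, u := g^m
      set u := g ^ m with hu
      obtain ⟨c, hc, hcY⟩ := Cfsg.Agent.H1.exists_fixed_in_coset (Subgroup.zpowers x) Y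
        (by rw [Subgroup.normalizer_eq_top]; exact le_top) (by
          obtain ⟨i, hi⟩ := IsPGroup.iff_card.1 hYp
          rw [Nat.card_zpowers, hi]
          exact Nat.Coprime.pow_right _ (Nat.coprime_two_right.2 (hXo x hx))) (Or.inl inferInstance) u (by
          rintro _ ⟨i, rfl⟩
          rw [← hπk]
          simp only [map_mul, map_inv, map_zpow]
          have h3 : Commute (π x ^ i) (π u) := (show Commute (π x) (π u) from hfu).zpow_left i
          rw [h3.eq]; group)
      have hcne : c ≠ 1 := by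
        rintro rfl
        rw [mul_one] at hcY
        have h3 : u ∈ W := (le_sup_right : Y ≤ W) (by simpa using inv_mem hcY)
        rw [← QuotientGroup.ker_mk' W, MonoidHom.mem_ker, huW] at h3
        rw [h3, orderOf_one] at ha
        exact absurd ha (by norm_num)
      have hc2 : ∃ k, orderOf c = 2 ^ k := by
        have h3 : IsPGroup 2 (Y ⊔ Subgroup.zpowers u : Subgroup H) := by
          apply hYp.to_sup_of_normal_left'
          · exact IsPGroup.of_card (n := e) (by rw [Nat.card_zpowers, hu2])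
          · rw [Subgroup.normalizer_eq_top]; exact le_top
        refine ord_of_isPGroup h3 ?_
        have h4 : c = u * (u⁻¹ * c) := by group
        rw [h4]
        exact mul_mem ((le_sup_right : Subgroup.zpowers u ≤ Y ⊔ Subgroup.zpowers u) (Subgroup.mem_zpowers u))
          ((le_sup_left : Y ≤ Y ⊔ Subgroup.zpowers u) hcY)
      obtain ⟨i, hi⟩ := exists_invol hc2 hcne
      have h5 := hstar x (c ^ i) (hXo x hx) hi
        ((show Commute x c from Subgroup.mem_centralizer_iff.1 hc x (Subgroup.mem_zpowers x)).pow_right i).eq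
      rw [h5, map_one]
  obtain ⟨u, hu, hu2⟩ := key a ha
  obtain ⟨v, hv, hv2⟩ := key b hb
  have h3 : π (u * v) ∈ Subgroup.centralizer (F : Set (H ⧸ Y)) := by
    rw [Subgroup.mem_centralizer_iff]
    intro f hf
    have h4 : π (u * v) * f * (π (u * v))⁻¹ = f := by
      have : π (u * v) * f * (π (u * v))⁻¹ = π u * (π v * f * (π v)⁻¹) * (π u)⁻¹ := by
        rw [map_mul]; group
      rw [this, hv2 f hf, hu2 f⁻¹ (inv_mem hf), inv_inv]
    rw [mul_inv_eq_iff_eq_mul] at h4
    exact h4.symm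
  have h4 := (hWπ (u * v)).2 (hFX (hCq h3))
  rw [← QuotientGroup.ker_mk' W, MonoidHom.mem_ker, map_mul, hu, hv] at h4
  apply hab
  have h5 : b = a⁻¹ := (inv_eq_of_mul_eq_one_right h4).symm
  rw [h5]
  exact inv_mem (Subgroup.mem_zpowers a)

end Cfsg.Agent.S3215
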