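import Cfsg.Statements.S3222
import Cfsg.Agent.H20.TSf
import Cfsg.Agent.S0144

set_option autoImplicit false
open Cfsg


namespace Cfsg.Agent.S3222


/-- Let G be a finite group of even order such that (1) some involution t lying in the centre of a Sylow 2-subgroup of G has C_G(t) ≅ Z₂ × S₄, and (2) every Sylow 2-subgroup S of G satisfies C_G(S′) = S, where S′ is the derived subgroup of S. Then G = C_G(t) if G is solvable, and G ≅ S₆ otherwise. -/
theorem result {G : Type*} [Group G] [Finite G] (hev : Even (Nat.card G))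
    (t : G) (ht : orderOf t = 2) (T : Sylow 2 G) (htT : t ∈ (T : Subgroup G)) (htc : ∀ s ∈ (T : Subgroup G), s * t = t * s)
    (e : ↥(Subgroup.centralizer ({t} : Set G)) ≃* (Multiplicative (ZMod 2) × Equiv.Perm (Fin 4)))
    (h2 : ∀ S : Sylow 2 G, Subgroup.centralizer ((⁅(S : Subgroup G), (S : Subgroup G)⁆ : Subgroup G) : Set G) = (S : Subgroup G)) :
    (Group.IsSolvable G → Subgroup.centralizer ({t} : Set G) = ⊤) ∧
      (¬ Group.IsSolvable G → Nonempty (G ≃* Equiv.Perm (Fin 6))) := by
  rcases H20.TS.main t ht T htc e h2 with h | h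
  · refine ⟨fun _ => h, fun hns => ?_⟩
    exfalso
    apply hns
    obtain ⟨j, cf⟩ := H20.TS.exists_cf ht e
    have h3 := cf.cardC
    rw [h, Subgroup.card_top] at h3
    exact S0144.result 2 3 4 1 Nat.prime_two Nat.prime_three (by rw [h3]; norm_num)
  · refine ⟨fun hs => ?_, fun _ => h⟩
    exfalso
    obtain ⟨f⟩ := h
    have h5 : ¬ Group.IsSolvable (Equiv.Perm (Fin 6)) := Equiv.Perm.not_isSolvable (Fin 6) (by simp; norm_num)
    exact h5 (Group.isSolvable_of_surjective (f := f.toMonoidHom) f.surjective)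


end Cfsg.Agent.S3222
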