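import Cfsg.Statements.S3497
import Mathlib
import Cfsg.Agent.S3494
import Cfsg.Agent.H29.MulAutGL
import Cfsg.Agent.H10.Basic

set_option autoImplicit false
set_option linter.all false
open Cfsg

namespace Cfsg.Agent.S3497

theorem nontriv_center {G : Type*} [Group G] [Nontrivial G] [hn : Group.IsNilpotent G] : Subgroup.center G ≠ ⊥ := by
  intro h
  have h1 : ∀ n, Subgroup.upperCentralSeries G n = ⊥ := by
    intro n
    induction n with
    | zero => exact Subgroup.upperCentralSeries_zero G
    | succ n ih =>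
      rw [eq_bot_iff]
      intro x hx
      rw [← h, Subgroup.mem_center_iff]
      intro y
      have h2 := Subgroup.mem_upperCentralSeries_succ_iff.1 hx y
      rw [ih, Subgroup.mem_bot, commutatorElement_eq_one_iff_mul_comm] at h2
      exact h2.symm
  obtain ⟨n, hn⟩ := hn.nilpotent'
  rw [h1] at hn
  exact bot_ne_top hn

section
variable {H : Type*} [Group H] [Finite H]

theorem prim_abelian {X : Type*} [MulAction H X] [FaithfulSMul H X] [Nontrivial X]
    (hp : MulAction.IsPreprimitive H X) (A : Subgroup H) [hAn : A.Normal] (hne : A ≠ ⊥)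
    (hc : ∀ a ∈ A, ∀ b ∈ A, a * b = b * a) :
    (∀ c ∈ Subgroup.centralizer (A : Set H), c ∈ A) ∧ (∀ a ∈ A, ∀ x : X, a • x = x → a = 1) ∧
      Nat.card A = Nat.card X := by
  have htr : MulAction.IsPretransitive A X := by
    apply MulAction.IsQuasiPreprimitive.isPretransitive_of_normal
    intro h
    apply hne
    rw [eq_bot_iff]
    intro a ha
    rw [Subgroup.mem_bot]
    apply FaithfulSMul.eq_of_smul_eq_smul (α := X)
    intro x
    have : x ∈ MulAction.fixedPoints A X := by rw [h]; trivial
    rw [one_smul]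
    exact this ⟨a, ha⟩
  obtain ⟨x0, -, -⟩ := exists_pair_ne X
  have key : ∀ c ∈ Subgroup.centralizer (A : Set H), ∀ x : X, c • x = x → c = 1 := by
    intro c hc x hx
    apply FaithfulSMul.eq_of_smul_eq_smul (α := X)
    intro y
    obtain ⟨b, hb⟩ := htr.exists_smul_eq x y
    have hb' : (b : H) • x = y := hb
    rw [one_smul, ← hb', smul_smul, ← Subgroup.mem_centralizer_iff.1 hc b b.2, ← smul_smul, hx]
  have hAC : ∀ a ∈ A, a ∈ Subgroup.centralizer (A : Set H) := by
    intro a ha
    rw [Subgroup.mem_centralizer_iff]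
    intro b hb; exact hc b hb a ha
  refine ⟨?_, fun a ha => key a (hAC a ha), ?_⟩
  · intro c hcc
    obtain ⟨a, ha⟩ := htr.exists_smul_eq x0 (c • x0)
    have ha' : (a : H) • x0 = c • x0 := ha
    have h1 : (a : H)⁻¹ * c = 1 := by
      apply key _ (mul_mem (inv_mem (hAC a a.2)) hcc) x0
      rw [← smul_smul, ← ha', smul_smul, inv_mul_cancel, one_smul]
    have h2 : c = a := (inv_mul_eq_one.1 h1).symm
    rw [h2]; exact a.2
  · apply Nat.card_congr
    refine Equiv.ofBijective (fun a : A => (a : H) • x0) ⟨?_, ?_⟩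
    · intro a b hab
      have hab : (a : H) • x0 = (b : H) • x0 := hab
      have h1 : (a : H)⁻¹ * b = 1 := by
        apply key _ (mul_mem (inv_mem (hAC a a.2)) (hAC b b.2)) x0
        rw [← smul_smul, ← hab, smul_smul, inv_mul_cancel, one_smul]
      exact Subtype.ext (inv_mul_eq_one.1 h1)
    · intro y
      obtain ⟨a, ha⟩ := htr.exists_smul_eq x0 y
      exact ⟨a, ha⟩

theorem prim_fitting {X : Type*} [MulAction H X] [FaithfulSMul H X] [Nontrivial X]
    (hp : MulAction.IsPreprimitive H X) (hne : Cfsg.fittingSubgroup H ≠ ⊥) :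
    (∀ a ∈ Cfsg.fittingSubgroup H, ∀ b ∈ Cfsg.fittingSubgroup H, a * b = b * a) ∧
    (∀ c ∈ Subgroup.centralizer (Cfsg.fittingSubgroup H : Set H), c ∈ Cfsg.fittingSubgroup H) ∧
    (∀ a ∈ Cfsg.fittingSubgroup H, ∀ x : X, a • x = x → a = 1) ∧
    (∃ p : ℕ, p.Prime ∧ ∀ x ∈ Cfsg.fittingSubgroup H, x ^ p = 1) := by
  have hFn : (Cfsg.fittingSubgroup H).Normal := Cfsg.Agent.H10.fitting_normal _
  have hFnil : Group.IsNilpotent (Cfsg.fittingSubgroup H) := Cfsg.Agent.H10.fitting_isNilpotent _
  set F := Cfsg.fittingSubgroup H with hF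
  haveI : Nontrivial F := (Subgroup.nontrivial_iff_ne_bot F).2 hne
  have hZn : ((Subgroup.center F).map F.subtype).Normal := inferInstance
  have hZ : (Subgroup.center F).map F.subtype ≠ ⊥ := by
    rw [Ne, Subgroup.map_eq_bot_iff_of_injective _ F.subtype_injective]
    exact nontriv_center
  have h1 := prim_abelian hp ((Subgroup.center F).map F.subtype) hZ (by
    rintro _ ⟨a, ha, rfl⟩ _ ⟨b, hb, rfl⟩
    exact congrArg Subtype.val (Subgroup.mem_center_iff.1 hb a))
  have hFc : ∀ a ∈ F, ∀ b ∈ F, a * b = b * a := by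
    intro a ha b hb
    have h2 : a ∈ (Subgroup.center F).map F.subtype := by
      apply h1.1
      rw [Subgroup.mem_centralizer_iff]
      rintro _ ⟨z, hz, rfl⟩
      exact (congrArg Subtype.val (Subgroup.mem_center_iff.1 hz ⟨a, ha⟩)).symm
    obtain ⟨z, hz, rfl⟩ := h2
    exact (congrArg Subtype.val (Subgroup.mem_center_iff.1 hz ⟨b, hb⟩)).symm
  have h2 := prim_abelian hp F hne hFc
  refine ⟨hFc, h2.1, h2.2.1, ?_⟩
  obtain ⟨p, hpp, hpd⟩ := Nat.exists_prime_and_dvd (show Nat.card F ≠ 1 by
    rw [Ne, Subgroup.card_eq_one]; exact hne)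
  haveI : Fact p.Prime := ⟨hpp⟩
  obtain ⟨x, hx⟩ := exists_prime_orderOf_dvd_card' (G := F) p hpd
  let Ω : Subgroup H :=
    { carrier := {a | a ∈ F ∧ a ^ p = 1}
      one_mem' := ⟨one_mem _, one_pow _⟩
      mul_mem' := by
        rintro a b ⟨ha, ha2⟩ ⟨hb, hb2⟩
        have h3 := (show Commute a b from hFc a ha b hb).mul_pow p
        exact ⟨mul_mem ha hb, by rw [h3, ha2, hb2, one_mul]⟩
      inv_mem' := by
        rintro a ⟨ha, ha2⟩
        exact ⟨inv_mem ha, by rw [inv_pow, ha2, inv_one]⟩ }
  have hΩn : Ω.Normal := by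
    refine ⟨fun a ha g => ⟨hFn.conj_mem a ha.1 g, ?_⟩⟩
    rw [conj_pow, ha.2]; group
  have hΩ : Ω ≠ ⊥ := by
    intro h
    have h3 : (x : H) ∈ Ω := ⟨x.2, by
      rw [← hx]; exact congrArg Subtype.val (pow_orderOf_eq_one x)⟩
    rw [h, Subgroup.mem_bot] at h3
    have : x = 1 := Subtype.ext h3
    rw [this, orderOf_one] at hx
    exact hpp.one_lt.ne hx
  have h3 := prim_abelian hp Ω hΩ (fun a ha b hb => hFc a (show a ∈ F ∧ a ^ p = 1 from ha).1 b (show b ∈ F ∧ b ^ p = 1 from hb).1)
  have hΩF : Ω = F := by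
    apply Subgroup.eq_of_le_of_card_ge (fun a ha => (show a ∈ F ∧ a ^ p = 1 from ha).1)
    rw [h3.2.2, h2.2.2]
  refine ⟨p, hpp, fun a ha => ?_⟩
  rw [← hΩF] at ha
  exact (show a ∈ F ∧ a ^ p = 1 from ha).2
end

/-- an abelian primitive group is of prime order -/
theorem prim_comm_prime {H : Type*} [Group H] [Finite H] {X : Type*} [MulAction H X] [FaithfulSMul H X] [Nontrivial X]
    (hp : MulAction.IsPreprimitive H X) (hc : ∀ a b : H, a * b = b * a) : (Nat.card H).Prime := by
  have htop : (⊤ : Subgroup H) ≠ ⊥ := by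
    intro h
    obtain ⟨x, y, hxy⟩ := exists_pair_ne X
    obtain ⟨g, hg⟩ := MulAction.exists_smul_eq H x y
    have : g ∈ (⊤ : Subgroup H) := Subgroup.mem_top g
    rw [h, Subgroup.mem_bot] at this
    rw [this, one_smul] at hg
    exact hxy hg
  have h1 := prim_abelian hp ⊤ htop (fun a _ b _ => hc a b)
  obtain ⟨p, hpp, hpd⟩ := Nat.exists_prime_and_dvd (show Nat.card H ≠ 1 by
    intro h
    rw [← Subgroup.card_top, Subgroup.card_eq_one] at h
    exact htop h)
  haveI : Fact p.Prime := ⟨hpp⟩
  obtain ⟨x, hx⟩ := exists_prime_orderOf_dvd_card' (G := H) p hpd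
  haveI : (Subgroup.zpowers x).Normal := ⟨fun a ha g => by rw [hc g a, mul_inv_cancel_right]; exact ha⟩
  have hne : Subgroup.zpowers x ≠ ⊥ := by
    intro h
    rw [Subgroup.zpowers_eq_bot] at h
    rw [h, orderOf_one] at hx
    exact hpp.one_lt.ne hx
  have h2 := prim_abelian hp (Subgroup.zpowers x) hne (fun a _ b _ => hc a b)
  have h3 : Nat.card H = p := by
    rw [← Subgroup.card_top (G := H), h1.2.2, ← h2.2.2, Nat.card_zpowers, hx]
  rw [h3]; exact hpp

/-- Restrictions on the point stabilizer of an extremely primitive group. Let a finite group G act faithfully and primitively on a finite set Ω with point stabilizers H = G_α whose order is neither 1 nor a prime, each acting primitively on every one of its orbits. Then H has trivial center, the Fitting subgroup F(H) is an elementary abelian p-group for some prime p, and if F(H) ≠ 1 has order p ^ e then p ^ e divides the number of points minus one and H / F(H) embeds in GL_e(p) (there is a homomorphism from H to GL_e(p) with kernel exactly F(H)). -/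
theorem result {G : Type*} [Group G] [Finite G] {Ω : Type*} [Fintype Ω] [MulAction G Ω] [FaithfulSMul G Ω] (hprim : MulAction.IsPreprimitive G Ω) (hep : ∀ (α : Ω) (ω : Ω), MulAction.IsPreprimitive (MulAction.stabilizer G α) (MulAction.orbit (MulAction.stabilizer G α) ω)) (α : Ω)
    (hH1 : MulAction.stabilizer G α ≠ ⊥) (hHp : ¬ (Nat.card (MulAction.stabilizer G α)).Prime) :
    Subgroup.center (MulAction.stabilizer G α) = ⊥ ∧
    IsMulCommutative (Cfsg.fittingSubgroup (MulAction.stabilizer G α)) ∧
    ∃ p e : ℕ, p.Prime ∧ Nat.card (Cfsg.fittingSubgroup (MulAction.stabilizer G α)) = p ^ e ∧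
      (∀ x ∈ Cfsg.fittingSubgroup (MulAction.stabilizer G α), x ^ p = 1) ∧
      (Cfsg.fittingSubgroup (MulAction.stabilizer G α) ≠ ⊥ →
        p ^ e ∣ Fintype.card Ω - 1 ∧
        ∃ φ : MulAction.stabilizer G α →* GL (Fin e) (ZMod p), φ.ker = Cfsg.fittingSubgroup (MulAction.stabilizer G α)) := by
  classical
  set H := MulAction.stabilizer G α with hH
  have hHall : ∀ β : Ω, MulAction.stabilizer G β ≠ ⊥ := by
    intro β h
    obtain ⟨g, hg⟩ := MulAction.exists_smul_eq G β α
    apply hH1
    rw [hH, ← hg, MulAction.stabilizer_smul_eq_stabilizer_map_conj, h, Subgroup.map_bot]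
  have hman := Cfsg.Agent.S3494.result hprim hHall hep α
  obtain ⟨ω, hω⟩ : ∃ ω : Ω, ω ≠ α := by
    by_contra hcon
    push Not at hcon
    apply hH1
    rw [eq_bot_iff]
    intro h _
    rw [Subgroup.mem_bot]
    apply FaithfulSMul.eq_of_smul_eq_smul (α := Ω)
    intro x
    rw [hcon x, hcon (h • α), hcon ((1 : G) • α)]
  have hgen : ∀ ω : Ω, ω ≠ α → FaithfulSMul H (MulAction.orbit H ω) ∧ Nontrivial (MulAction.orbit H ω) := by
    intro ω hω
    constructor
    · refine ⟨fun {a b} hab => ?_⟩
      have h1 : b⁻¹ * a = 1 := by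
        apply hman ω hω
        intro x hx
        have h2 := congrArg Subtype.val (hab ⟨x, hx⟩)
        have h3 : a • x = b • x := h2
        rw [← smul_smul, h3, smul_smul, inv_mul_cancel, one_smul]
      exact (inv_mul_eq_one.1 h1).symm
    · by_contra hnt
      rw [not_nontrivial_iff_subsingleton] at hnt
      apply hH1
      rw [eq_bot_iff]
      intro h hh
      rw [Subgroup.mem_bot]
      have h1 : (⟨h, hh⟩ : H) = 1 := by
        apply hman ω hω
        intro x hx
        exact congrArg Subtype.val (hnt.elim ((⟨h, hh⟩ : H) • (⟨x, hx⟩ : MulAction.orbit H ω)) ⟨x, hx⟩)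
      exact congrArg Subtype.val h1
  obtain ⟨hf, hnt⟩ := hgen ω hω
  have hp := hep α ω
  have hcentre : Subgroup.center H = ⊥ := by
    by_contra hZ
    have h1 := prim_abelian hp (Subgroup.center H) hZ (fun a ha b _ => (Subgroup.mem_center_iff.1 ha b).symm)
    apply hHp
    apply prim_comm_prime hp
    intro a b
    have h2 : a ∈ Subgroup.center H := by
      apply h1.1
      rw [Subgroup.mem_centralizer_iff]
      intro z hz
      exact (Subgroup.mem_center_iff.1 hz a).symm
    exact (Subgroup.mem_center_iff.1 h2 b).symm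
  refine ⟨hcentre, ?_, ?_⟩
  · by_cases hF : Cfsg.fittingSubgroup H = ⊥
    · rw [hF]; infer_instance
    · exact ⟨⟨fun a b => Subtype.ext ((prim_fitting hp hF).1 a a.2 b b.2)⟩⟩
  · by_cases hF : Cfsg.fittingSubgroup H = ⊥
    · refine ⟨2, 0, Nat.prime_two, by rw [hF]; simp, ?_, fun h => absurd hF h⟩
      intro x hx
      rw [hF, Subgroup.mem_bot] at hx
      rw [hx, one_pow]
    · obtain ⟨hFc, hFcent, -, p, hpp, hFp⟩ := prim_fitting hp hF
      haveI : Fact p.Prime := ⟨hpp⟩
      have hFpg : IsPGroup p (Cfsg.fittingSubgroup H) := fun a => ⟨1, by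
        rw [pow_one]; exact Subtype.ext (hFp a a.2)⟩
      obtain ⟨e, he⟩ := IsPGroup.iff_card.1 hFpg
      refine ⟨p, e, hpp, he, hFp, fun _ => ⟨?_, ?_⟩⟩
      · -- free action
        set F := Cfsg.fittingSubgroup H with hFdef
        have hfree : ∀ (a : F) (x : SubMulAction.ofStabilizer G α), a • x = x → a = 1 := by
          intro a x hax
          have hxα : (x : Ω) ≠ α := SubMulAction.neq_of_mem_ofStabilizer G α
          obtain ⟨hf', hnt'⟩ := hgen x hxα
          have h1 := (prim_fitting (hep α (x : Ω)) hF).2.2.1 a a.2 ⟨(x : Ω), MulAction.mem_orbit_self _⟩ (by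
            apply Subtype.ext
            have h0 : ((a • x : SubMulAction.ofStabilizer G α) : Ω) = x := congrArg Subtype.val hax
            exact h0)
          exact Subtype.ext h1
        have h2 : ∀ x : SubMulAction.ofStabilizer G α, MulAction.stabilizer F x = ⊥ := by
          intro x
          rw [eq_bot_iff]
          intro a ha
          exact hfree a x ha
        have h3 := Nat.card_congr (MulAction.selfEquivOrbitsQuotientProd h2)
        rw [Nat.card_prod, he] at h3
        have h4 := SubMulAction.nat_card_ofStabilizer_eq G α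
        rw [← Nat.card_eq_fintype_card (α := Ω), ← h4, h3]
        exact Dvd.intro_left _ rfl
      · obtain ⟨E⟩ := Cfsg.Agent.H29.mulAut_GL (E := Cfsg.fittingSubgroup H) (p := p) (n := e)
          (fun a b => Subtype.ext (hFc a a.2 b b.2)) (fun a => Subtype.ext (hFp a a.2)) he
        haveI hFn : (Cfsg.fittingSubgroup H).Normal := Cfsg.Agent.H10.fitting_normal _
        refine ⟨E.toMonoidHom.comp (MulAut.conjNormal (H := Cfsg.fittingSubgroup H)), ?_⟩
        ext g
        rw [MonoidHom.mem_ker, MonoidHom.comp_apply]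
        show E (MulAut.conjNormal g) = 1 ↔ _
        rw [map_eq_one_iff E E.injective]
        constructor
        · intro h
          apply hFcent
          rw [Subgroup.mem_centralizer_iff]
          intro a ha
          have h5 := congrArg Subtype.val (DFunLike.congr_fun h ⟨a, ha⟩)
          rw [MulAut.conjNormal_apply] at h5
          simp only [MulAut.one_apply] at h5
          rw [mul_inv_eq_iff_eq_mul] at h5
          exact h5.symm
        · intro h
          ext a
          rw [MulAut.conjNormal_apply, hFc g h a a.2, mul_inv_cancel_right]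
          rfl

end Cfsg.Agent.S3497
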