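import Cfsg.Statements.S3496
import Cfsg.Agent.S3497
import Cfsg.Agent.H22.FieldAct2
import Cfsg.Agent.H1.Chief
import Cfsg.Agent.H23.Coprime4

set_option autoImplicit false
set_option linter.all false
open Cfsg

namespace Cfsg.Agent.S3496

open Cfsg.Agent.S3497

theorem fit_ne_bot {G : Type*} [Group G] [Finite G] [Group.IsSolvable G] [Nontrivial G] :
    Cfsg.fittingSubgroup G ≠ ⊥ := by
  intro h
  have h1 := Cfsg.Agent.H1.centralizer_fitting_le (G := G) inferInstance
  rw [h] at h1
  obtain ⟨g, hg⟩ := exists_ne (1 : G)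
  apply hg
  have h2 : g ∈ Subgroup.centralizer ((⊥ : Subgroup G) : Set G) := by
    rw [Subgroup.mem_centralizer_iff]
    intro x hx
    rw [SetLike.mem_coe, Subgroup.mem_bot] at hx
    rw [hx]; simp
  exact Subgroup.mem_bot.1 (h1 h2)


/-- The soluble extremely primitive groups. Let a finite solvable group G act faithfully and primitively on a finite set Ω with p ^ d points (p prime), with non-trivial point stabilizers each acting primitively on every one of its orbits. Then there is a prime q such that every orbit of a point stabilizer G_α other than {α} has exactly q points, q divides p ^ d − 1 but no p ^ i − 1 with 0 < i < d, and G_α has a normal subgroup T of order q with G_α generated by T and one further element and the order of G_α dividing q·d (so G_α is cyclic of order q, or an extension of T by a cyclic group of order dividing d). -/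
theorem result {G : Type*} [Group G] [Finite G] {Ω : Type*} [Fintype Ω] [MulAction G Ω] [FaithfulSMul G Ω] [Group.IsSolvable G] (p d : ℕ) (hp : p.Prime) (hcard : Fintype.card Ω = p ^ d)
    (hprim : MulAction.IsPreprimitive G Ω) (hH : ∀ α : Ω, MulAction.stabilizer G α ≠ ⊥) (hep : ∀ (α : Ω) (ω : Ω), MulAction.IsPreprimitive (MulAction.stabilizer G α) (MulAction.orbit (MulAction.stabilizer G α) ω)) (α : Ω) :
    ∃ q : ℕ, q.Prime ∧ (∀ ω : Ω, ω ≠ α → Nat.card (MulAction.orbit (MulAction.stabilizer G α) ω) = q) ∧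
      q ∣ p ^ d - 1 ∧ (∀ i : ℕ, 0 < i → i < d → ¬ q ∣ p ^ i - 1) ∧
      ∃ T : Subgroup G, T ≤ MulAction.stabilizer G α ∧ MulAction.stabilizer G α ≤ Subgroup.normalizer (T : Set G) ∧ Nat.card T = q ∧
        (∃ h : G, MulAction.stabilizer G α = T ⊔ Subgroup.zpowers h) ∧ Nat.card (MulAction.stabilizer G α) ∣ q * d := by
  classical
  haveI hpf : Fact p.Prime := ⟨hp⟩
  have hman := Cfsg.Agent.S3494.result hprim hH hep α
  have hH1 := hH α
  have hnS := MulAction.stabilizer_smul_eq_stabilizer_map_conj (G := G) (α := Ω)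
  set H := MulAction.stabilizer G α with hHdef
  obtain ⟨ω0, hω0⟩ : ∃ ω : Ω, ω ≠ α := by
    by_contra hcon
    push Not at hcon
    apply hH1
    rw [eq_bot_iff]
    intro h _
    rw [Subgroup.mem_bot]
    apply FaithfulSMul.eq_of_smul_eq_smul (α := Ω)
    intro x
    rw [hcon x, hcon (h • α), hcon ((1 : G) • α)]
  haveI hnΩ : Nontrivial Ω := ⟨ω0, α, hω0⟩
  haveI hnH : Nontrivial H := (Subgroup.nontrivial_iff_ne_bot H).2 hH1
  haveI hnG : Nontrivial G := ⟨by
    obtain ⟨a, b, hab⟩ := exists_pair_ne H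
    exact ⟨a, b, fun h => hab (Subtype.ext h)⟩⟩
  have hgen : ∀ ω : Ω, ω ≠ α → FaithfulSMul H (MulAction.orbit H ω) ∧ Nontrivial (MulAction.orbit H ω) := by
    intro ω hω
    constructor
    · refine ⟨fun {a b} hab => ?_⟩
      have h1 : b⁻¹ * a = 1 := by
        apply hman ω hω
        intro x hx
        have h2 := congrArg Subtype.val (hab ⟨x, hx⟩)
        have h3 : a • x = b • x := h2
        rw [← smul_smul, h3, smul_smul, inv_mul_cancel, one_smul]
      exact (inv_mul_eq_one.1 h1).symm
    · by_contra hnt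
      rw [not_nontrivial_iff_subsingleton] at hnt
      apply hH1
      rw [eq_bot_iff]
      intro h hh
      rw [Subgroup.mem_bot]
      have h1 : (⟨h, hh⟩ : H) = 1 := by
        apply hman ω hω
        intro x hx
        exact congrArg Subtype.val (hnt.elim ((⟨h, hh⟩ : H) • (⟨x, hx⟩ : MulAction.orbit H ω)) ⟨x, hx⟩)
      exact congrArg Subtype.val h1
  have hF : Cfsg.fittingSubgroup H ≠ ⊥ := fit_ne_bot
  have hFn : (Cfsg.fittingSubgroup H).Normal := Cfsg.Agent.H10.fitting_normal _
  obtain ⟨F, hFdef⟩ : ∃ F, F = Cfsg.fittingSubgroup H := ⟨_, rfl⟩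
  -- information from the orbits
  have horb : ∀ ω : Ω, ω ≠ α → (∀ a ∈ F, ∀ b ∈ F, a * b = b * a) ∧
      (∀ c ∈ Subgroup.centralizer (F : Set H), c ∈ F) ∧
      (∀ a ∈ F, ∀ x ∈ MulAction.orbit H ω, a • x = x → a = 1) ∧
      Nat.card F = Nat.card (MulAction.orbit H ω) := by
    intro ω hω
    obtain ⟨hf, hnt⟩ := hgen ω hω
    have h1 := prim_fitting (hep α ω) hF
    have h2 := prim_abelian (hep α ω) (Cfsg.fittingSubgroup H) hF h1.1
    rw [← hFdef] at h1 h2
    refine ⟨h1.1, h1.2.1, ?_, h2.2.2⟩
    intro a ha x hx hax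
    exact h1.2.2.1 a ha ⟨x, hx⟩ (Subtype.ext hax)
  obtain ⟨q, hqp, hFq⟩ : ∃ q : ℕ, q.Prime ∧ ∀ x ∈ F, x ^ q = 1 := by
    obtain ⟨hf, hnt⟩ := hgen ω0 hω0
    have h1 := prim_fitting (hep α ω0) hF
    rw [← hFdef] at h1
    exact h1.2.2.2
  obtain ⟨hFc, hFcent, -, -⟩ := horb ω0 hω0
  rw [← hFdef] at hF hFn
  -- the regular normal subgroup
  have hN1 : Cfsg.fittingSubgroup G ≠ ⊥ := fit_ne_bot
  have hN := prim_fitting hprim hN1
  have hN2 := prim_abelian hprim (Cfsg.fittingSubgroup G) hN1 hN.1 (hAn := Cfsg.Agent.H10.fitting_normal _)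
  have hNn : (Cfsg.fittingSubgroup G).Normal := Cfsg.Agent.H10.fitting_normal _
  obtain ⟨N, hNdef⟩ : ∃ N, N = Cfsg.fittingSubgroup G := ⟨_, rfl⟩
  rw [← hNdef] at hN1 hN hN2 hNn
  obtain ⟨hNc, hNcent, hNreg, p1, hp1, hNp1⟩ := hN
  have hNcard : Nat.card N = p ^ d := by rw [hN2.2.2, Nat.card_eq_fintype_card, hcard]
  have hd0 : 0 < d := by
    rcases Nat.eq_zero_or_pos d with h | h
    · exfalso
      rw [h, pow_zero] at hNcard
      exact hN1 (Subgroup.card_eq_one.1 hNcard)
    · exact h
  have hNp : ∀ x ∈ N, x ^ p = 1 := by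
    have h1 : p ∣ Nat.card N := by rw [hNcard]; exact dvd_pow_self p hd0.ne'
    obtain ⟨x, hx⟩ := exists_prime_orderOf_dvd_card' (G := N) p h1
    have h2 : orderOf x ∣ p1 := orderOf_dvd_of_pow_eq_one (Subtype.ext (hNp1 x x.2))
    rw [hx] at h2
    have h3 : p = p1 := (Nat.prime_dvd_prime_iff_eq hp hp1).1 h2
    rw [h3]; exact hNp1
  -- fixed point freeness
  have hfpf : ∀ t ∈ F, ∀ x ∈ N, (t : G) * x = x * t → t = 1 ∨ x = 1 := by
    intro t ht x hx htx
    by_cases hx1 : x = 1
    · exact Or.inr hx1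
    · left
      have h1 : x • α ≠ α := fun h => hx1 (hNreg x hx α h)
      apply (horb (x • α) h1).2.2.1 t ht (x • α) (MulAction.mem_orbit_self _)
      show (t : G) • x • α = x • α
      rw [smul_smul, htx, ← smul_smul, show (t : G) • α = α from t.2]
  -- F acts regularly on Ω \ {α}
  have hFdvd : Nat.card F ∣ p ^ d - 1 := by
    have hfree : ∀ (a : F) (x : SubMulAction.ofStabilizer G α), a • x = x → a = 1 := by
      intro a x hax
      have hxα : (x : Ω) ≠ α := SubMulAction.neq_of_mem_ofStabilizer G α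
      have h1 := (horb x hxα).2.2.1 a a.2 (x : Ω) (MulAction.mem_orbit_self _) (by
        have h0 : ((a • x : SubMulAction.ofStabilizer G α) : Ω) = x := congrArg Subtype.val hax
        exact h0)
      exact Subtype.ext h1
    have h2 : ∀ x : SubMulAction.ofStabilizer G α, MulAction.stabilizer F x = ⊥ := by
      intro x
      rw [eq_bot_iff]
      intro a ha
      exact hfree a x ha
    have h3 := Nat.card_congr (MulAction.selfEquivOrbitsQuotientProd h2)
    rw [Nat.card_prod] at h3
    have h4 := SubMulAction.nat_card_ofStabilizer_eq G α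
    rw [← hcard, ← Nat.card_eq_fintype_card (α := Ω), ← h4, h3]
    exact Dvd.intro_left _ rfl
  have hpd1 : 1 < p ^ d := Nat.one_lt_pow hd0.ne' hp.one_lt
  have hcop : (Nat.card F).Coprime (Nat.card N) := by
    rw [hNcard]
    apply Nat.Coprime.coprime_dvd_left hFdvd
    rw [Nat.coprime_comm]
    have : Nat.Coprime (p ^ d) (p ^ d - 1) := by
      have h1 : p ^ d = (p ^ d - 1) + 1 := by omega
      rw [h1]
      simp
    exact this
  -- F is cyclic
  have hTcard : Nat.card (F.map H.subtype) = Nat.card F :=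
    Subgroup.card_map_of_injective H.subtype_injective
  have hFcyc : IsCyclic F := by
    by_contra hnc
    have hnc' : ¬ IsCyclic (F.map H.subtype) := by
      intro h
      exact hnc (isCyclic_of_injective (F.equivMapOfInjective H.subtype H.subtype_injective).toMonoidHom
        (F.equivMapOfInjective H.subtype H.subtype_injective).injective)
    have h1 := Cfsg.Agent.H23.iSup_centralizer_of_not_isCyclic (A := F.map H.subtype) (G := N)
      ⟨⟨by
        rintro ⟨_, a, ha, rfl⟩ ⟨_, b, hb, rfl⟩
        apply Subtype.ext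
        show (a : G) * b = b * a
        exact congrArg Subtype.val (hFc a ha b hb)⟩⟩ hnc'
      (by rw [Subgroup.normalizer_eq_top_iff.2 hNn]; exact le_top) (by rw [hTcard]; exact hcop)
    apply hN1
    rw [← h1, eq_bot_iff]
    apply iSup_le
    rintro ⟨_, ⟨a, ha, rfl⟩, ha1⟩
    intro x hx
    obtain ⟨hxN, hxc⟩ := Subgroup.mem_inf.1 hx
    rw [Subgroup.mem_centralizer_singleton_iff] at hxc
    rcases hfpf a ha x hxN hxc.symm with h2 | h2
    · exact absurd (by rw [h2]; rfl) ha1
    · exact h2
  obtain ⟨t0, ht0⟩ := hFcyc.exists_generator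
  have hFcard : Nat.card F = q := by
    have h1 : orderOf t0 = Nat.card F := orderOf_eq_card_of_forall_mem_zpowers ht0
    have h2 : orderOf t0 ∣ q := orderOf_dvd_of_pow_eq_one (Subtype.ext (hFq t0 t0.2))
    rw [h1] at h2
    rcases (Nat.dvd_prime hqp).1 h2 with h3 | h3
    · exact absurd (Subgroup.card_eq_one.1 h3) hF
    · exact h3
  haveI hqf : Fact q.Prime := ⟨hqp⟩
  obtain ⟨t, htdef⟩ : ∃ t : H, t = t0 := ⟨_, rfl⟩
  have htF : t ∈ F := by rw [htdef]; exact t0.2
  have hFt : ∀ a ∈ F, ∃ k : ℕ, a = t ^ k := by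
    intro a ha
    have h1 := ht0 ⟨a, ha⟩
    rw [← mem_powers_iff_mem_zpowers] at h1
    obtain ⟨k, hk⟩ := h1
    refine ⟨k, ?_⟩
    have := congrArg Subtype.val hk
    rw [htdef]; exact this.symm
  -- irreducibility
  let ρ : H →* MulAut N := (MulAut.conjNormal (H := N)).comp H.subtype
  have hρ : ∀ (h : H) (x : N), ((ρ h x : N) : G) = h * x * (h : G)⁻¹ := fun h x => rfl
  have hirr : ∀ M : Subgroup N, (∀ x ∈ M, ρ t x ∈ M) → M = ⊥ ∨ M = ⊤ := by
    intro M hM
    by_cases hM1 : M = ⊥
    · exact Or.inl hM1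
    · right
      obtain ⟨x, hxM, hx1⟩ : ∃ x : N, x ∈ M ∧ x ≠ 1 := by
        by_contra hcon
        push Not at hcon
        exact hM1 ((Subgroup.eq_bot_iff_forall M).2 hcon)
      have hx1' : (x : G) ≠ 1 := fun h => hx1 (Subtype.ext h)
      have hMt : ∀ (k : ℕ), ∀ y ∈ M, ρ (t ^ k) y ∈ M := by
        intro k
        induction k with
        | zero => intro y hy; rw [pow_zero, map_one]; exact hy
        | succ k ih =>
          intro y hy
          rw [pow_succ', map_mul]
          exact hM _ (ih y hy)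
      have hxα : (x : G) • α ≠ α := fun h => hx1' (hNreg x x.2 α h)
      -- conjugates under H
      have hconj : ∀ h : H, ρ h x ∈ M := by
        intro h
        obtain ⟨-, -, hreg, hcd⟩ := horb ((x : G) • α) hxα
        -- transitivity
        have hinj : Function.Injective (fun a : F => ((⟨(a : H) • (x : G) • α, ⟨a, rfl⟩⟩ :
            MulAction.orbit H ((x : G) • α)))) := by
          intro a b hab
          have h1 : (a : H) • (x : G) • α = (b : H) • (x : G) • α := congrArg Subtype.val hab
          have h2 := hreg ((b : H)⁻¹ * a) (mul_mem (inv_mem b.2) a.2) ((x : G) • α) (MulAction.mem_orbit_self _) (by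
            rw [← smul_smul, h1, smul_smul, inv_mul_cancel, one_smul])
          exact Subtype.ext (inv_mul_eq_one.1 h2).symm
        have hbij := (Nat.bijective_iff_injective_and_card _).2 ⟨hinj, hcd⟩
        obtain ⟨a, ha⟩ := hbij.2 ⟨h • (x : G) • α, ⟨h, rfl⟩⟩
        have ha' : (a : H) • (x : G) • α = h • (x : G) • α := congrArg Subtype.val ha
        obtain ⟨k, hk⟩ := hFt a a.2
        have key : ∀ g : H, ((ρ g x : N) : G) • α = g • (x : G) • α := by
          intro g
          have h3 : (g : G)⁻¹ • α = α := by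
            rw [inv_smul_eq_iff]; exact (show (g : G) • α = α from g.2).symm
          rw [hρ, ← smul_smul, h3, ← smul_smul]; rfl
        have h4 : ρ h x = ρ a x := by
          have h5 : ((ρ a x : N) : G)⁻¹ * (ρ h x : N) = 1 := by
            apply hNreg _ (mul_mem (inv_mem (ρ a x).2) (ρ h x).2) α
            rw [← smul_smul, key, ← ha', ← key, smul_smul, inv_mul_cancel, one_smul]
          exact Subtype.ext (inv_mul_eq_one.1 h5).symm
        rw [h4, hk]
        exact hMt k x hxM
      have hle : Subgroup.normalClosure {(x : G)} ≤ M.map N.subtype := by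
        rw [Subgroup.normalClosure, Subgroup.closure_le]
        intro y hy
        rw [Group.mem_conjugatesOfSet_iff] at hy
        obtain ⟨x', hx', hxy⟩ := hy
        rw [Set.mem_singleton_iff] at hx'
        rw [hx', isConj_iff] at hxy
        obtain ⟨g, hg⟩ := hxy
        -- g = n h
        obtain ⟨n, hn⟩ : ∃ n : N, (n : G) • α = g • α := by
          have hinj : Function.Injective (fun n : N => (n : G) • α) := by
            intro a b hab
            have h2 := hNreg ((b : G)⁻¹ * a) (mul_mem (inv_mem b.2) a.2) α (by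
              have hab' : (a : G) • α = (b : G) • α := hab
              rw [← smul_smul, hab', smul_smul, inv_mul_cancel, one_smul])
            exact Subtype.ext (inv_mul_eq_one.1 h2).symm
          exact ((Nat.bijective_iff_injective_and_card _).2 ⟨hinj, hN2.2.2⟩).2 (g • α)
        have hh : (n : G)⁻¹ * g ∈ H := by
          show ((n : G)⁻¹ * g) • α = α
          rw [← smul_smul, ← hn, smul_smul, inv_mul_cancel, one_smul]
        refine ⟨ρ ⟨_, hh⟩ x, hconj _, ?_⟩
        show ((n : G)⁻¹ * g) * x * ((n : G)⁻¹ * g)⁻¹ = y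
        rw [← hg]
        have h6 : g * x * g⁻¹ ∈ N := hNn.conj_mem x x.2 g
        have h7 := hNc _ h6 n n.2
        calc ((n : G)⁻¹ * g) * x * ((n : G)⁻¹ * g)⁻¹ = (n : G)⁻¹ * ((g * x * g⁻¹) * n) := by group
          _ = (n : G)⁻¹ * (n * (g * x * g⁻¹)) := by rw [h7]
          _ = g * x * g⁻¹ := by group
      have hDne : Subgroup.normalClosure {(x : G)} ≠ ⊥ := by
        intro hb
        apply hx1'
        have : (x : G) ∈ Subgroup.normalClosure {(x : G)} := Subgroup.subset_normalClosure rfl
        rw [hb, Subgroup.mem_bot] at this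
        exact this
      have hMN : M.map N.subtype ≤ N := Subgroup.map_subtype_le M
      have hD := (prim_abelian hprim (Subgroup.normalClosure {(x : G)}) hDne
        (fun a ha b hb => hNc a (hMN (hle ha)) b (hMN (hle hb)))).2.2
      have h8 : M.map N.subtype = N := by
        apply Subgroup.eq_of_le_of_card_ge hMN
        rw [hN2.2.2, ← hD]
        exact Subgroup.card_le_of_le hle
      rw [eq_top_iff]
      intro y _
      have h9 : (y : G) ∈ M.map N.subtype := by rw [h8]; exact y.2
      obtain ⟨y', hy', hyy⟩ := h9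
      have : y' = y := Subtype.ext hyy
      rw [← this]; exact hy'
  have hk : ∀ h : H, ∃ k : ℕ, h * t * h⁻¹ = t ^ k := fun h => hFt _ (hFn.conj_mem t htF h)
  haveI hnN : Nontrivial N := (Subgroup.nontrivial_iff_ne_bot N).2 hN1
  obtain ⟨hA, hB⟩ := Cfsg.Agent.H22.FieldAct.group_version (E := N) (p := p)
    (fun a b => Subtype.ext (hNc a a.2 b b.2)) (fun a => Subtype.ext (hNp a a.2)) hNcard ρ t hirr hk
  have htq : t ^ q = 1 := hFq t htF
  -- faithful action
  have hρinj : ∀ g : H, (∀ x : N, (g : G) * x = x * g) → g = 1 := by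
    intro g hg
    have h1 : (g : G) ∈ N := hNcent _ (by
      rw [Subgroup.mem_centralizer_iff]
      intro x hx
      exact (hg ⟨x, hx⟩).symm)
    exact Subtype.ext (hNreg g h1 α g.2)
  have hidx := hB F (by
    intro g
    constructor
    · intro hg
      rw [← map_mul, ← map_mul, hFc g hg t htF]
    · intro hg
      apply hFcent
      rw [Subgroup.mem_centralizer_iff]
      have h1 : t * g = g * t := by
        rw [← map_mul, ← map_mul] at hg
        have h2 : (g * t)⁻¹ * (t * g) = 1 := by
          apply hρinj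
          intro x
          have h3 : ρ ((g * t)⁻¹ * (t * g)) = 1 := by rw [map_mul, map_inv, hg, inv_mul_cancel]
          have h4 := congrArg Subtype.val (DFunLike.congr_fun h3 x)
          rw [hρ] at h4
          exact mul_inv_eq_iff_eq_mul.1 h4
        exact (inv_mul_eq_one.1 h2).symm
      intro a ha
      obtain ⟨k, rfl⟩ := hFt a ha
      exact ((show Commute t g from h1).pow_left k).eq)
  refine ⟨q, hqp, ?_, ?_, ?_, F.map H.subtype, Subgroup.map_subtype_le F, ?_, ?_, ?_, ?_⟩
  · intro ω hω
    rw [← (horb ω hω).2.2.2, hFcard]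
  · rw [← hFcard]; exact hFdvd
  · intro i hi0 hid hq
    have h1 : t ^ p ^ i = t := by
      obtain ⟨m, hm⟩ := hq
      have h2 : p ^ i = q * m + 1 := by
        have : 1 ≤ p ^ i := Nat.one_le_pow _ _ hp.pos
        omega
      rw [h2, pow_succ, pow_mul, htq, one_pow, one_mul]
    have h2 := hA i hi0 h1
    rw [hNcard] at h2
    have h3 := (Nat.pow_le_pow_iff_right hp.one_lt).1 h2
    omega
  · intro g hg
    rw [Subgroup.mem_normalizer_iff]
    have key : ∀ g ∈ H, ∀ x ∈ F.map H.subtype, g * x * g⁻¹ ∈ F.map H.subtype := by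
      rintro g hg _ ⟨x, hx, rfl⟩
      exact ⟨⟨g, hg⟩ * x * ⟨g, hg⟩⁻¹, hFn.conj_mem x hx _, rfl⟩
    intro x
    constructor
    · exact key g hg x
    · intro hx
      have h1 := key g⁻¹ (inv_mem hg) _ hx
      have h2 : g⁻¹ * (g * x * g⁻¹) * g⁻¹⁻¹ = x := by group
      rwa [h2] at h1
  · rw [hTcard, hFcard]
  · -- generated by T and one element
    haveI := hFcyc
    let φ : H →* MulAut F := MulAut.conjNormal (H := F)
    have hcycA : IsCyclic (MulAut F) := by
      have e := IsCyclic.mulAutMulEquiv F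
      rw [hFcard] at e
      haveI : IsCyclic (ZMod q)ˣ := ZMod.isCyclic_units_prime hqp
      exact isCyclic_of_injective e.toMonoidHom e.injective
    have hcycR : IsCyclic φ.range := inferInstance
    obtain ⟨⟨_, h, rfl⟩, hh⟩ := hcycR.exists_generator
    refine ⟨(h : G), ?_⟩
    apply le_antisymm
    · intro g hg
      have h1 := hh ⟨φ ⟨g, hg⟩, ⟨_, rfl⟩⟩
      obtain ⟨k, hk⟩ := h1
      have h2 : φ (h ^ k) = φ ⟨g, hg⟩ := by
        have := congrArg Subtype.val hk
        rw [map_zpow]; exact this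
      have h3 : (h ^ k)⁻¹ * ⟨g, hg⟩ ∈ F := by
        apply hFcent
        rw [Subgroup.mem_centralizer_iff]
        intro a ha
        have h4 : φ ((h ^ k)⁻¹ * ⟨g, hg⟩) = 1 := by rw [map_mul, map_inv, h2, inv_mul_cancel]
        have h5 := congrArg Subtype.val (DFunLike.congr_fun h4 ⟨a, ha⟩)
        rw [MulAut.conjNormal_apply] at h5
        have h6 : ((h ^ k)⁻¹ * ⟨g, hg⟩) * a * ((h ^ k)⁻¹ * ⟨g, hg⟩)⁻¹ = a := h5
        rw [mul_inv_eq_iff_eq_mul] at h6
        exact h6.symm
      have h7 : g = (h : G) ^ k * (((h ^ k)⁻¹ * ⟨g, hg⟩ : H) : G) := by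
        rw [Subgroup.coe_mul, Subgroup.coe_inv, Subgroup.coe_zpow]; group
      rw [h7]
      exact mul_mem (Subgroup.mem_sup_right (Subgroup.zpow_mem_zpowers _ _))
        (Subgroup.mem_sup_left ⟨_, h3, rfl⟩)
    · apply sup_le (Subgroup.map_subtype_le F)
      rw [Subgroup.zpowers_le]
      exact h.2
  · rw [← Subgroup.card_mul_index F, hFcard]
    exact Nat.mul_dvd_mul_left q hidx

end Cfsg.Agent.S3496
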