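import Cfsg.Statements.S3501
import Mathlib
import Cfsg.Agent.H21.DerangCount

set_option autoImplicit false
set_option linter.style.haveILetI false
set_option linter.unusedVariables false
open Cfsg

namespace Cfsg.Agent.S3501

open Cfsg.Agent.H21 Cfsg.Agent.H22 in
theorem aux_forward {G : Type*} [Group G] [Finite G] {Ω : Type*} [Fintype Ω] [MulAction G Ω] [FaithfulSMul G Ω] (hΩ : 2 ≤ Fintype.card Ω) (hprim : MulAction.IsPreprimitive G Ω) (hnas : ¬ ∃ T : Subgroup G, T.Normal ∧ IsSimpleGroup T ∧ ¬ IsMulCommutative T ∧ Subgroup.centralizer (T : Set G) = ⊥)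
    (hcl : ∀ x y : G, (∀ ω : Ω, x • ω ≠ ω) → (∀ ω : Ω, y • ω ≠ ω) → IsConj x y) :
    (MulAction.IsMultiplyPretransitive G Ω 2 ∧ ∀ g : G, g ≠ 1 → ∀ a b : Ω, a ≠ b → g • a = a → g • b ≠ b) := by
  have hΩ' : 2 ≤ Nat.card Ω := by rw [Nat.card_eq_fintype_card]; exact hΩ
  by_cases hab : ∀ A : Subgroup G, A.Normal → (∀ a ∈ A, ∀ b ∈ A, a * b = b * a) → A = ⊥
  · obtain ⟨d₁, d₂, d₃, h1, h2, h3, h12, h13, h23⟩ := three_derangements hΩ' hprim hnas hab
    exact absurd (hcl d₁ d₂ h1 h2) h12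
  · push Not at hab
    obtain ⟨A, hAn, hAc, hA1⟩ := hab
    have hAt := isPretransitive_of_normal_of_primitive hprim A hAn hA1
    have hAr : ∀ a ∈ A, ∀ ω : Ω, a • ω = ω → a = 1 := fun a ha ω hω =>
      eq_one_of_centralizes hAt (fun n hn => hAc n hn a ha) hω
    refine ⟨two_transitive_of_conj A hAt hAc (fun a ha b hb ha1 hb1 =>
      hcl a b (fun ω hω => ha1 (hAr a ha ω hω)) (fun ω hω => hb1 (hAr b hb ω hω))), ?_⟩
    intro g hg a b hab hga hgb
    have h1 := mem_derang_of_two_fixed hprim.toIsPretransitive hab hga hgb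
    have h2 : derang G Ω ≤ A := by
      rw [derang, Subgroup.closure_le]
      intro x hx
      obtain ⟨y, hy, hy1⟩ : ∃ y ∈ A, y ≠ 1 := by
        rw [Ne, Subgroup.eq_bot_iff_forall] at hA1
        push Not at hA1
        exact hA1
      obtain ⟨c, hc⟩ := isConj_iff.1 (hcl y x (fun ω hω => hy1 (hAr y hy ω hω)) hx)
      rw [← hc]
      exact hAn.conj_mem y hy c
    exact hg (hAr g (h2 h1) a hga)

open Cfsg.Agent.H21 Cfsg.Agent.H22 in
theorem aux_backward {G : Type*} [Group G] [Finite G] {Ω : Type*} [Fintype Ω] [MulAction G Ω] [FaithfulSMul G Ω] (hΩ : 2 ≤ Fintype.card Ω)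
    (h2t : MulAction.IsMultiplyPretransitive G Ω 2) (hsh : ∀ g : G, g ≠ 1 → ∀ a b : Ω, a ≠ b → g • a = a → g • b ≠ b) :
    (∃ x : G, ∀ ω : Ω, x • ω ≠ ω) ∧ (∀ x y : G, (∀ ω : Ω, x • ω ≠ ω) → (∀ ω : Ω, y • ω ≠ ω) → IsConj x y) := by
  classical
  have hΩ' : 2 ≤ Nat.card Ω := by rw [Nat.card_eq_fintype_card]; exact hΩ
  haveI : Nontrivial Ω := Fintype.one_lt_card_iff_nontrivial.1 hΩ
  rw [MulAction.is_two_pretransitive_iff] at h2t
  have ht : MulAction.IsPretransitive G Ω := by
    constructor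
    intro a b
    obtain ⟨c, hc⟩ := exists_ne a
    obtain ⟨d, hd⟩ := exists_ne b
    obtain ⟨g, hg, _⟩ := h2t hc.symm hd.symm
    exact ⟨g, hg⟩
  have hfix : ∀ g : G, g ≠ 1 → Nat.card (MulAction.fixedBy Ω g) ≤ 1 := by
    intro g hg
    rw [Finite.card_le_one_iff_subsingleton]
    constructor
    rintro ⟨a, ha⟩ ⟨b, hb⟩
    by_contra hne
    have : a ≠ b := fun h => hne (Subtype.ext h)
    exact hsh g hg a b this ha hb
  have hcount := card_derangements hΩ' ht hfix
  haveI : Finite {g : G // ∀ ω : Ω, g • ω ≠ ω} := inferInstance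
  refine ⟨?_, ?_⟩
  · have : 0 < Nat.card {g : G // ∀ ω : Ω, g • ω ≠ ω} := by rw [hcount]; omega
    obtain ⟨⟨x, hx⟩⟩ := (Nat.card_pos_iff.1 this).1
    exact ⟨x, hx⟩
  · intro x y hx hy
    by_contra hne
    obtain ⟨α, β, hαβ⟩ := exists_pair_ne Ω
    -- |G_α| ≥ n - 1
    have hge : Nat.card Ω - 1 ≤ Nat.card (MulAction.stabilizer G α) := by
      have hsurj : Function.Surjective (fun h : MulAction.stabilizer G α => (⟨(h : G) • β, by
          intro h1
          apply hαβ
          have h2 : (h : G) • α = α := h.2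
          exact MulAction.injective (h : G) (h2.trans h1.symm)⟩ : {ω : Ω // ω ≠ α})) := by
        rintro ⟨γ, hγ⟩
        obtain ⟨g, hg1, hg2⟩ := h2t hαβ hγ.symm
        exact ⟨⟨g, hg1⟩, Subtype.ext hg2⟩
      have := Nat.card_le_card_of_surjective _ hsurj
      rwa [Nat.card_eq_fintype_card, Fintype.card_subtype_compl, Fintype.card_subtype_eq, ← Nat.card_eq_fintype_card] at this
    have hinj : Function.Injective (fun z : (MulAction.stabilizer G α) ⊕ (MulAction.stabilizer G α) =>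
        (Sum.elim (fun h : MulAction.stabilizer G α => (⟨(h : G) * x * (h : G)⁻¹, by
          intro ω hω
          apply hx ((h : G)⁻¹ • ω)
          rw [mul_smul, mul_smul] at hω
          rw [eq_inv_smul_iff, hω]⟩ : {g : G // ∀ ω : Ω, g • ω ≠ ω}))
         (fun h : MulAction.stabilizer G α => (⟨(h : G) * y * (h : G)⁻¹, by
          intro ω hω
          apply hy ((h : G)⁻¹ • ω)
          rw [mul_smul, mul_smul] at hω
          rw [eq_inv_smul_iff, hω]⟩ : {g : G // ∀ ω : Ω, g • ω ≠ ω})) z)) := by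
      rintro (h | h) (k | k) hk
      · have := congrArg Subtype.val hk
        rw [exists_conj_injective hsh α hx h k this]
      · exfalso
        have h3 : (h : G) * x * (h : G)⁻¹ = (k : G) * y * (k : G)⁻¹ := congrArg Subtype.val hk
        apply hne
        rw [isConj_iff]
        refine ⟨(k : G)⁻¹ * h, ?_⟩
        calc (k : G)⁻¹ * h * x * ((k : G)⁻¹ * h)⁻¹ = (k : G)⁻¹ * ((h : G) * x * (h : G)⁻¹) * k := by group
          _ = y := by rw [h3]; group
      · exfalso
        have h3 : (h : G) * y * (h : G)⁻¹ = (k : G) * x * (k : G)⁻¹ := congrArg Subtype.val hk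
        apply hne
        rw [isConj_iff]
        refine ⟨(h : G)⁻¹ * k, ?_⟩
        calc (h : G)⁻¹ * k * x * ((h : G)⁻¹ * k)⁻¹ = (h : G)⁻¹ * ((k : G) * x * (k : G)⁻¹) * h := by group
          _ = y := by rw [← h3]; group
      · have := congrArg Subtype.val hk
        rw [exists_conj_injective hsh α hy h k this]
    have hle := Nat.card_le_card_of_injective _ hinj
    rw [Nat.card_sum, hcount] at hle
    omega

/-- Let a finite group G act faithfully and primitively on a finite set Ω with at least two points, and suppose G is not almost simple (it has no non-abelian simple normal subgroup with trivial centralizer). Then the derangements of G form a single conjugacy class if and only if G is sharply 2-transitive (2-transitive, and no non-identity element fixes two points). -/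
theorem result {G : Type*} [Group G] [Finite G] {Ω : Type*} [Fintype Ω] [MulAction G Ω] [FaithfulSMul G Ω] (hΩ : 2 ≤ Fintype.card Ω) (hprim : MulAction.IsPreprimitive G Ω) (hnas : ¬ ∃ T : Subgroup G, T.Normal ∧ IsSimpleGroup T ∧ ¬ IsMulCommutative T ∧ Subgroup.centralizer (T : Set G) = ⊥) :
    Nat.card {c : ConjClasses G // ∃ g : G, ConjClasses.mk g = c ∧ ∀ ω : Ω, g • ω ≠ ω} = 1 ↔ (MulAction.IsMultiplyPretransitive G Ω 2 ∧ ∀ g : G, g ≠ 1 → ∀ a b : Ω, a ≠ b → g • a = a → g • b ≠ b) := by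
  constructor
  · intro hc
    apply aux_forward hΩ hprim hnas
    intro x y hx hy
    rw [Nat.card_eq_one_iff_unique] at hc
    have := hc.1.elim (⟨ConjClasses.mk x, x, rfl, hx⟩ : {c : ConjClasses G // ∃ g : G, ConjClasses.mk g = c ∧ ∀ ω : Ω, g • ω ≠ ω}) ⟨ConjClasses.mk y, y, rfl, hy⟩
    exact ConjClasses.mk_eq_mk_iff_isConj.1 (congrArg Subtype.val this)
  · rintro ⟨h2t, hsh⟩
    obtain ⟨⟨x, hx⟩, hcl⟩ := aux_backward hΩ h2t hsh
    rw [Nat.card_eq_one_iff_unique]
    refine ⟨⟨?_⟩, ⟨⟨ConjClasses.mk x, x, rfl, hx⟩⟩⟩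
    rintro ⟨_, a, rfl, ha⟩ ⟨_, b, rfl, hb⟩
    exact Subtype.ext (ConjClasses.mk_eq_mk_iff_isConj.2 (hcl a b ha hb))

end Cfsg.Agent.S3501
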