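import Cfsg.Statements.S3520
import Mathlib
import Cfsg.Agent.H21.DerangCount

set_option autoImplicit false
set_option linter.style.haveILetI false
set_option linter.unusedVariables false
open Cfsg

namespace Cfsg.Agent.S3520

open Cfsg.Agent.H21 Cfsg.Agent.H22 in
theorem aux_case_a {G : Type*} [Group G] [Finite G] {Ω : Type*} [Finite Ω] [MulAction G Ω] [FaithfulSMul G Ω] (hΩ' : 2 ≤ Nat.card Ω)
    (ht : MulAction.IsPretransitive G Ω) (A : Subgroup G) (hAt : MulAction.IsPretransitive A Ω)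
    (hAc : ∀ a ∈ A, ∀ b ∈ A, a * b = b * a)
    (hAr : ∀ a ∈ A, ∀ ω : Ω, a • ω = ω → a = 1) (hD : ∀ d : G, (∀ ω : Ω, d • ω ≠ ω) → d ∈ A)
    (x₁ x₂ : G) (hx₁ : ∀ ω : Ω, x₁ • ω ≠ ω) (hx₂ : ∀ ω : Ω, x₂ • ω ≠ ω) (hne : ¬ IsConj x₁ x₂)
    (hall : ∀ g : G, (∀ ω : Ω, g • ω ≠ ω) → IsConj x₁ g ∨ IsConj x₂ g) (α : Ω) :
    (∀ g : G, g ≠ 1 → Nat.card (MulAction.fixedBy Ω g) ≤ 1) ∧ 2 * Nat.card (MulAction.stabilizer G α) = Nat.card Ω - 1 := by
  classical
  haveI : Nontrivial Ω := Finite.one_lt_card_iff_nontrivial.1 hΩ'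
  have hDA : derang G Ω ≤ A := by
    rw [derang, Subgroup.closure_le]
    exact hD
  have hfix : ∀ g : G, g ≠ 1 → Nat.card (MulAction.fixedBy Ω g) ≤ 1 := by
    intro g hg
    by_cases hgA : g ∈ A
    · have : IsEmpty (MulAction.fixedBy Ω g) := ⟨fun ω => hg (hAr g hgA ω.1 ω.2)⟩
      rw [Nat.card_of_isEmpty]; omega
    · have := (derang_main (G := G) (Ω := Ω) ht).2 g (fun h => hgA (hDA h))
      rw [this]
  refine ⟨hfix, ?_⟩
  rw [← card_derangements hΩ' ht hfix, two_mul, ← Nat.card_sum]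
  have hsh : ∀ g : G, g ≠ 1 → ∀ a b : Ω, a ≠ b → g • a = a → g • b ≠ b := by
    intro g hg a b hab ha hb
    have := hfix g hg
    rw [Finite.card_le_one_iff_subsingleton] at this
    exact hab (congrArg Subtype.val (this.elim ⟨a, ha⟩ ⟨b, hb⟩))
  have hder : ∀ (x : G), (∀ ω : Ω, x • ω ≠ ω) → ∀ h : G, ∀ ω : Ω, (h * x * h⁻¹) • ω ≠ ω := by
    intro x hx h ω hω
    apply hx (h⁻¹ • ω)
    rw [mul_smul, mul_smul] at hω
    rw [eq_inv_smul_iff, hω]
  let f : (MulAction.stabilizer G α) ⊕ (MulAction.stabilizer G α) → {g : G // ∀ ω : Ω, g • ω ≠ ω} :=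
    Sum.elim (fun h : MulAction.stabilizer G α => ⟨(h : G) * x₁ * (h : G)⁻¹, hder x₁ hx₁ h⟩)
      (fun h : MulAction.stabilizer G α => ⟨(h : G) * x₂ * (h : G)⁻¹, hder x₂ hx₂ h⟩)
  apply Nat.card_congr
  apply Equiv.ofBijective f
  constructor
  · rintro (h | h) (k | k) hk
    · have := congrArg Subtype.val hk
      rw [exists_conj_injective hsh α hx₁ h k this]
    · exfalso
      have h3 : (h : G) * x₁ * (h : G)⁻¹ = (k : G) * x₂ * (k : G)⁻¹ := congrArg Subtype.val hk
      apply hne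
      rw [isConj_iff]
      refine ⟨(k : G)⁻¹ * h, ?_⟩
      calc (k : G)⁻¹ * h * x₁ * ((k : G)⁻¹ * h)⁻¹ = (k : G)⁻¹ * ((h : G) * x₁ * (h : G)⁻¹) * k := by group
        _ = x₂ := by rw [h3]; group
    · exfalso
      have h3 : (h : G) * x₂ * (h : G)⁻¹ = (k : G) * x₁ * (k : G)⁻¹ := congrArg Subtype.val hk
      apply hne
      rw [isConj_iff]
      refine ⟨(h : G)⁻¹ * k, ?_⟩
      calc (h : G)⁻¹ * k * x₁ * ((h : G)⁻¹ * k)⁻¹ = (h : G)⁻¹ * ((k : G) * x₁ * (k : G)⁻¹) * h := by group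
        _ = x₂ := by rw [← h3]; group
    · have := congrArg Subtype.val hk
      rw [exists_conj_injective hsh α hx₂ h k this]
  · rintro ⟨g, hg⟩
    have key : ∀ x : G, (∀ ω : Ω, x • ω ≠ ω) → IsConj x g → ∃ h : MulAction.stabilizer G α, (h : G) * x * (h : G)⁻¹ = g := by
      intro x hx hxg
      obtain ⟨c, hc⟩ := isConj_iff.1 hxg
      obtain ⟨v, hv⟩ := hAt.exists_smul_eq α (c⁻¹ • α)
      have hv' : (v : G) • α = c⁻¹ • α := hv
      refine ⟨⟨c * v, by rw [MulAction.mem_stabilizer_iff, mul_smul, hv', smul_inv_smul]⟩, ?_⟩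
      show c * (v : G) * x * (c * (v : G))⁻¹ = g
      rw [← hc]
      have := hAc v v.2 x (hD x hx)
      calc c * (v : G) * x * (c * (v : G))⁻¹ = c * ((v : G) * x) * (v : G)⁻¹ * c⁻¹ := by group
        _ = c * (x * (v : G)) * (v : G)⁻¹ * c⁻¹ := by rw [this]
        _ = c * x * c⁻¹ := by group
    rcases hall g hg with h1 | h1
    · obtain ⟨h, hh⟩ := key x₁ hx₁ h1
      exact ⟨Sum.inl h, Subtype.ext hh⟩
    · obtain ⟨h, hh⟩ := key x₂ hx₂ h1
      exact ⟨Sum.inr h, Subtype.ext hh⟩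

/-- Let a finite group G act faithfully and primitively on a finite set Ω with at least two points, suppose G is not almost simple (no non-abelian simple normal subgroup with trivial centralizer), and suppose the derangements of G form exactly two conjugacy classes. Then either Ω has 3 points and G has order 3; or G has a non-trivial abelian normal subgroup N acting regularly, every non-identity element of G fixes at most one point (so, when n > 3, G is a Frobenius group with kernel N), the number n of points is odd and a point stabilizer has order (n − 1)/2; or G is 2-transitive with a non-trivial abelian regular normal subgroup and some non-identity element fixes at least two points (a non-Frobenius 2-transitive affine group). -/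
theorem result {G : Type*} [Group G] [Finite G] {Ω : Type*} [Fintype Ω] [MulAction G Ω] [FaithfulSMul G Ω] (hΩ : 2 ≤ Fintype.card Ω) (hprim : MulAction.IsPreprimitive G Ω) (hnas : ¬ ∃ T : Subgroup G, T.Normal ∧ IsSimpleGroup T ∧ ¬ IsMulCommutative T ∧ Subgroup.centralizer (T : Set G) = ⊥)
    (hκ : Nat.card {c : ConjClasses G // ∃ g : G, ConjClasses.mk g = c ∧ ∀ ω : Ω, g • ω ≠ ω} = 2) (α : Ω) :
    (Fintype.card Ω = 3 ∧ Nat.card G = 3) ∨
    ((∃ N : Subgroup G, N.Normal ∧ N ≠ ⊥ ∧ IsMulCommutative N ∧ ∀ ω : Ω, MulAction.stabilizer N ω = ⊥) ∧ (∀ g : G, g ≠ 1 → Nat.card (MulAction.fixedBy Ω g) ≤ 1) ∧ ¬ 2 ∣ Fintype.card Ω ∧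
        2 * Nat.card (MulAction.stabilizer G α) = Fintype.card Ω - 1) ∨
    ((∃ N : Subgroup G, N.Normal ∧ N ≠ ⊥ ∧ IsMulCommutative N ∧ ∀ ω : Ω, MulAction.stabilizer N ω = ⊥) ∧ MulAction.IsMultiplyPretransitive G Ω 2 ∧ ∃ g : G, g ≠ 1 ∧ 2 ≤ Nat.card (MulAction.fixedBy Ω g)) := by
  classical
  have hΩ' : 2 ≤ Nat.card Ω := by rw [Nat.card_eq_fintype_card]; exact hΩ
  haveI : Nontrivial Ω := Fintype.one_lt_card_iff_nontrivial.1 hΩ
  obtain ⟨⟨_, x₁, rfl, hx₁⟩, ⟨_, x₂, rfl, hx₂⟩, hne, huniv⟩ := Nat.card_eq_two_iff.1 hκ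
  have hne' : ¬ IsConj x₁ x₂ := fun h => hne (Subtype.ext (ConjClasses.mk_eq_mk_iff_isConj.2 h))
  have hall : ∀ g : G, (∀ ω : Ω, g • ω ≠ ω) → IsConj x₁ g ∨ IsConj x₂ g := by
    intro g hg
    have h1 : (⟨ConjClasses.mk g, g, rfl, hg⟩ : {c : ConjClasses G // ∃ g : G, ConjClasses.mk g = c ∧ ∀ ω : Ω, g • ω ≠ ω}) ∈ (Set.univ : Set _) := trivial
    rw [← huniv] at h1
    rcases h1 with h1 | h1
    · left; exact (ConjClasses.mk_eq_mk_iff_isConj.1 (congrArg Subtype.val h1)).symm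
    · right; exact (ConjClasses.mk_eq_mk_iff_isConj.1 (congrArg Subtype.val h1)).symm
  have three : ∀ x y z : G, (∀ ω : Ω, x • ω ≠ ω) → (∀ ω : Ω, y • ω ≠ ω) → (∀ ω : Ω, z • ω ≠ ω) →
      IsConj x y ∨ IsConj x z ∨ IsConj y z := by
    intro x y z hx hy hz
    rcases hall x hx with h1 | h1 <;> rcases hall y hy with h2 | h2 <;> rcases hall z hz with h3 | h3
    · exact Or.inl (h1.symm.trans h2)
    · exact Or.inl (h1.symm.trans h2)
    · exact Or.inr (Or.inl (h1.symm.trans h3))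
    · exact Or.inr (Or.inr (h2.symm.trans h3))
    · exact Or.inr (Or.inr (h2.symm.trans h3))
    · exact Or.inr (Or.inl (h1.symm.trans h3))
    · exact Or.inl (h1.symm.trans h2)
    · exact Or.inl (h1.symm.trans h2)
  have hab : ¬ ∀ A : Subgroup G, A.Normal → (∀ a ∈ A, ∀ b ∈ A, a * b = b * a) → A = ⊥ := by
    intro hab
    obtain ⟨d₁, d₂, d₃, h1, h2, h3, h12, h13, h23⟩ := Cfsg.Agent.H21.three_derangements hΩ' hprim hnas hab
    rcases three d₁ d₂ d₃ h1 h2 h3 with h | h | h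
    · exact h12 h
    · exact h13 h
    · exact h23 h
  push Not at hab
  obtain ⟨A, hAn, hAc, hA1⟩ := hab
  have hAt := Cfsg.Agent.H22.isPretransitive_of_normal_of_primitive hprim A hAn hA1
  have hAr : ∀ a ∈ A, ∀ ω : Ω, a • ω = ω → a = 1 := fun a ha ω hω =>
    Cfsg.Agent.H21.eq_one_of_centralizes hAt (fun n hn => hAc n hn a ha) hω
  have hAff : ∃ N : Subgroup G, N.Normal ∧ N ≠ ⊥ ∧ IsMulCommutative N ∧ ∀ ω : Ω, MulAction.stabilizer N ω = ⊥ := by
    refine ⟨A, hAn, hA1, ⟨⟨fun a b => Subtype.ext (hAc a a.2 b b.2)⟩⟩, fun ω => ?_⟩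
    rw [Subgroup.eq_bot_iff_forall]
    intro x hx
    exact Subtype.ext (hAr x x.2 ω hx)
  by_cases hD : ∀ d : G, (∀ ω : Ω, d • ω ≠ ω) → d ∈ A
  · right; left
    obtain ⟨h1, h2⟩ := aux_case_a hΩ' hprim.toIsPretransitive A hAt hAc hAr hD x₁ x₂ hx₁ hx₂ hne' hall α
    rw [Nat.card_eq_fintype_card (α := Ω)] at h2
    refine ⟨hAff, h1, ?_, h2⟩
    intro h3
    have : 0 < Nat.card (MulAction.stabilizer G α) := Nat.card_pos
    omega
  · right; right
    push Not at hD
    obtain ⟨d, hd, hdA⟩ := hD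
    refine ⟨hAff, ?_, ?_⟩
    · apply Cfsg.Agent.H21.two_transitive_of_conj A hAt hAc
      intro a ha b hb ha1 hb1
      have hnd : ∀ a ∈ A, ¬ IsConj a d := by
        intro a ha hc
        obtain ⟨c, hc⟩ := isConj_iff.1 hc
        apply hdA
        rw [← hc]
        exact hAn.conj_mem a ha c
      rcases three a b d (fun ω hω => ha1 (hAr a ha ω hω)) (fun ω hω => hb1 (hAr b hb ω hω)) hd with h | h | h
      · exact h
      · exact absurd h (hnd a ha)
      · exact absurd h (hnd b hb)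
    · by_contra hcon
      push Not at hcon
      have hfix : ∀ g : G, g ≠ 1 → Nat.card (MulAction.fixedBy Ω g) ≤ 1 := fun g hg => by
        have := hcon g hg; omega
      have hcount := Cfsg.Agent.H21.card_derangements hΩ' hprim.toIsPretransitive hfix
      -- A ∖ 1 ∪ {d} injects: A → derangements, 1 ↦ d
      have hinj : Function.Injective (fun a : A => (if h : (a : G) = 1 then (⟨d, hd⟩ : {g : G // ∀ ω : Ω, g • ω ≠ ω})
          else ⟨a, fun ω hω => h (hAr a a.2 ω hω)⟩)) := by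
        intro a b hab
        by_cases ha : (a : G) = 1 <;> by_cases hb : (b : G) = 1
        · exact Subtype.ext (ha.trans hb.symm)
        · simp only [dif_pos ha, dif_neg hb] at hab
          exfalso; apply hdA
          have : d = b := congrArg Subtype.val hab
          rw [this]; exact b.2
        · simp only [dif_neg ha, dif_pos hb] at hab
          exfalso; apply hdA
          have : (a : G) = d := congrArg Subtype.val hab
          rw [← this]; exact a.2
        · simp only [dif_neg ha, dif_neg hb] at hab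
          have hab' : (a : G) = b := Subtype.mk_eq_mk.1 hab
          exact Subtype.ext hab'
      have hle := Nat.card_le_card_of_injective _ hinj
      rw [hcount] at hle
      -- |A| = n
      have hsurj : Function.Surjective (fun a : A => (a : G) • α) := by
        intro ω
        obtain ⟨a, ha⟩ := hAt.exists_smul_eq α ω
        exact ⟨a, ha⟩
      have := Nat.card_le_card_of_surjective _ hsurj
      omega

end Cfsg.Agent.S3520
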