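import Cfsg.Statements.S3554

set_option autoImplicit false
open Cfsg

namespace Cfsg.Agent.S3554


/-- Let G act faithfully and transitively on a finite set and suppose G has a non-trivial cyclic normal subgroup. Then some element of G of prime order fixes no point. -/
theorem result {G Ω : Type*} [Group G] [Finite G] [MulAction G Ω] [FaithfulSMul G Ω] [Finite Ω]
    (htrans : MulAction.IsPretransitive G Ω) (C : Subgroup G) (hC : C.Normal) (hC1 : C ≠ ⊥) (hcyc : IsCyclic ↥C) :
    ∃ g : G, (orderOf g).Prime ∧ ∀ ω : Ω, g • ω ≠ ω := by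
  obtain ⟨⟨c, hcC⟩, hc⟩ := hcyc.exists_generator
  have hc1 : c ≠ 1 := by
    rintro rfl
    apply hC1
    rw [eq_bot_iff]
    intro x hx
    obtain ⟨k, hk⟩ := Subgroup.mem_zpowers_iff.1 (hc ⟨x, hx⟩)
    have := congrArg Subtype.val hk
    simpa [eq_comm] using this
  have ho : orderOf c ≠ 1 := fun h => hc1 (orderOf_eq_one_iff.1 h)
  obtain ⟨p, hp, hpd⟩ := Nat.exists_prime_and_dvd ho
  have hpos : 0 < orderOf c := orderOf_pos c
  set g := c ^ (orderOf c / p) with hg
  have hog : orderOf g = p := by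
    rw [hg, orderOf_pow_of_dvd (Nat.div_pos (Nat.le_of_dvd hpos hpd) hp.pos).ne' (Nat.div_dvd_of_dvd hpd)]
    exact Nat.div_div_self hpd hpos.ne'
  refine ⟨g, hog ▸ hp, fun ω hω => ?_⟩
  have hconj : ∀ h : G, ∃ k : ℤ, h⁻¹ * g * h = g ^ k := by
    intro h
    have h1 : h⁻¹ * c * h ∈ C := by
      have := hC.conj_mem c hcC h⁻¹
      simpa using this
    obtain ⟨k, hk⟩ := Subgroup.mem_zpowers_iff.1 (hc ⟨_, h1⟩)
    have hk' : c ^ k = h⁻¹ * c * h := by simpa using congrArg Subtype.val hk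
    refine ⟨k, ?_⟩
    have h2 : h⁻¹ * c ^ (orderOf c / p) * h = (h⁻¹ * c * h) ^ (orderOf c / p) := by
      have := conj_pow (a := h⁻¹) (b := c) (i := orderOf c / p)
      simpa using this.symm
    rw [hg, h2, ← hk', ← zpow_natCast, ← zpow_natCast, ← zpow_mul, ← zpow_mul, mul_comm]
  have hgfix : ∀ k : ℤ, g ^ k • ω = ω := fun k => by
    have : g ^ k ∈ MulAction.stabilizer G ω := (MulAction.stabilizer G ω).zpow_mem (by simpa using hω) k
    simpa using this
  have hall : ∀ ω' : Ω, g • ω' = ω' := by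
    intro ω'
    obtain ⟨h, rfl⟩ := htrans.exists_smul_eq ω ω'
    obtain ⟨k, hk⟩ := hconj h
    calc g • h • ω = h • (h⁻¹ * g * h) • ω := by simp [mul_smul]
      _ = h • ω := by rw [hk, hgfix]
  have : g = 1 := by
    apply FaithfulSMul.eq_of_smul_eq_smul (α := Ω)
    intro a
    simpa using hall a
  rw [this, orderOf_one] at hog
  exact hp.one_lt.ne hog

end Cfsg.Agent.S3554
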