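import Cfsg.Statements.S3555
import Cfsg.Agent.H25.FrobKernel

set_option autoImplicit false
open Cfsg

namespace Cfsg.Agent.S3555

open scoped Pointwise

/-- number of fixed points -/
noncomputable def fx {G Ω : Type*} [Group G] [MulAction G Ω] [Fintype Ω] (g : G) : ℕ :=
  open Classical in (Finset.univ.filter fun ω : Ω => g • ω = ω).card

lemma sum_fx {G Ω : Type*} [Group G] [Fintype G] [MulAction G Ω] [Fintype Ω] [Nonempty Ω] (ht : MulAction.IsPretransitive G Ω) :
    ∑ g : G, fx (Ω := Ω) g = Fintype.card G := by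
  classical
  have h := MulAction.sum_card_fixedBy_eq_card_orbits_mul_card_group G Ω
  have h1 : Fintype.card (Quotient (MulAction.orbitRel G Ω)) = 1 := by
    rw [Fintype.card_eq_one_iff_nonempty_unique]
    obtain ⟨ω⟩ := ‹Nonempty Ω›
    refine ⟨⟨⟨Quotient.mk _ ω⟩, ?_⟩⟩
    intro q
    induction q using Quotient.inductionOn with
    | h a =>
      apply Quotient.sound
      obtain ⟨g, hg⟩ := MulAction.exists_smul_eq G ω a
      exact ⟨g, hg⟩
  rw [h1, one_mul] at h
  rw [← h]
  refine Finset.sum_congr rfl fun g _ => ?_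
  unfold fx
  rw [Fintype.card_subtype]
  rfl

/-- pairwise comparison -/
lemma sum_sq_le {G Ω : Type*} [Group G] [Fintype G] [MulAction G Ω] [Fintype Ω] :
    ∑ g : G, fx (Ω := Ω) (g ^ 2) ≤ ∑ g : G, fx (Ω := Ω) g ^ 2 := by
  classical
  have h1 : ∀ g : G, fx (Ω := Ω) g ^ 2 = ∑ q : Ω × Ω, if g • q.1 = q.1 ∧ g • q.2 = q.2 then 1 else 0 := by
    intro g
    rw [Finset.sum_boole, Nat.cast_id]
    unfold fx
    rw [sq, ← Finset.card_product]
    congr 1
    ext q
    simp [Finset.mem_product]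
  have h2 : ∀ g : G, fx (Ω := Ω) (g ^ 2) = ∑ q : Ω × Ω, if g • q.1 = q.2 ∧ g • q.2 = q.1 then 1 else 0 := by
    intro g
    rw [Finset.sum_boole, Nat.cast_id]
    unfold fx
    refine Finset.card_bij (fun ω _ => (ω, g • ω)) ?_ ?_ ?_
    · intro ω hω
      rw [Finset.mem_filter] at hω ⊢
      refine ⟨Finset.mem_univ _, rfl, ?_⟩
      have := hω.2
      rwa [sq, mul_smul] at this
    · intro a _ b _ hab
      exact (Prod.mk.inj hab).1
    · rintro ⟨a, b⟩ hab
      rw [Finset.mem_filter] at hab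
      refine ⟨a, ?_, ?_⟩
      · rw [Finset.mem_filter]
        refine ⟨Finset.mem_univ _, ?_⟩
        rw [sq, mul_smul, hab.2.1, hab.2.2]
      · rw [hab.2.1]
  rw [Finset.sum_congr rfl fun g _ => h1 g, Finset.sum_congr rfl fun g _ => h2 g, Finset.sum_comm, Finset.sum_comm (s := Finset.univ) (t := (Finset.univ : Finset (Ω × Ω)))]
  refine Finset.sum_le_sum fun q _ => ?_
  rw [Finset.sum_boole, Finset.sum_boole, Nat.cast_id, Nat.cast_id]
  by_cases hne : (Finset.univ.filter fun g : G => g • q.1 = q.2 ∧ g • q.2 = q.1).Nonempty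
  · obtain ⟨g₀, hg₀⟩ := hne
    rw [Finset.mem_filter] at hg₀
    refine Finset.card_le_card_of_injOn (fun g => g₀ * g) ?_ (fun a _ b _ h => mul_left_cancel h)
    intro g hg
    rw [Finset.mem_coe, Finset.mem_filter] at hg ⊢
    refine ⟨Finset.mem_univ _, ?_, ?_⟩
    · rw [mul_smul, hg.2.1, hg₀.2.2]
    · rw [mul_smul, hg.2.2, hg₀.2.1]
  · rw [Finset.not_nonempty_iff_eq_empty] at hne
    rw [hne]; exact Nat.zero_le _

/-- elements with fixed points have exactly one, or all -/
lemma key {G Ω : Type*} [Group G] [Fintype G] [MulAction G Ω] [Fintype Ω] [Nonempty Ω] (ht : MulAction.IsPretransitive G Ω)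
    (hinv : ∀ g : G, (∀ ω : Ω, g • ω ≠ ω) → orderOf g = 2) (g : G) (hg : fx (Ω := Ω) g ≠ 0) :
    fx (Ω := Ω) g = 1 ∨ fx (Ω := Ω) g = Fintype.card Ω := by
  classical
  set n := Fintype.card Ω with hn
  have hle : ∀ g : G, fx (Ω := Ω) g ≤ n := fun g => Finset.card_le_univ _
  have hD : ∀ g : G, fx (Ω := Ω) g = 0 → g ^ 2 = 1 := by
    intro g h0
    unfold fx at h0
    rw [Finset.card_eq_zero, Finset.filter_eq_empty_iff] at h0
    have := hinv g (fun ω => h0 (Finset.mem_univ ω))
    rw [← this]; exact pow_orderOf_eq_one g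
  have h1 : fx (Ω := Ω) (1 : G) = n := by
    unfold fx
    rw [Finset.filter_true_of_mem (fun ω _ => one_smul G ω), Finset.card_univ]
  have hmono : ∀ g : G, fx (Ω := Ω) g ≤ fx (Ω := Ω) (g ^ 2) := by
    intro g
    unfold fx
    refine Finset.card_le_card fun ω hω => ?_
    rw [Finset.mem_filter] at hω ⊢
    refine ⟨hω.1, ?_⟩
    rw [sq, mul_smul, hω.2, hω.2]
  -- the sum of nonnegative terms
  have hterm : ∀ g : G, (0 : ℤ) ≤ (fx (Ω := Ω) (g ^ 2) : ℤ) - fx (Ω := Ω) g * fx (Ω := Ω) g + n * fx (Ω := Ω) g - n := by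
    intro g
    rcases Nat.eq_zero_or_pos (fx (Ω := Ω) g) with h0 | h0
    · rw [hD g h0, h1, h0]; simp
    · have e1 : (1 : ℤ) ≤ fx (Ω := Ω) g := by exact_mod_cast h0
      have e2 : (fx (Ω := Ω) g : ℤ) ≤ n := by exact_mod_cast hle g
      have e3 : (fx (Ω := Ω) g : ℤ) ≤ fx (Ω := Ω) (g ^ 2) := by exact_mod_cast hmono g
      nlinarith [mul_nonneg (sub_nonneg.2 e1) (sub_nonneg.2 e2)]
  have hsum : ∑ g : G, ((fx (Ω := Ω) (g ^ 2) : ℤ) - fx (Ω := Ω) g * fx (Ω := Ω) g + n * fx (Ω := Ω) g - n) ≤ 0 := by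
    rw [Finset.sum_sub_distrib, Finset.sum_add_distrib, Finset.sum_sub_distrib, ← Finset.mul_sum]
    have e1 : (∑ g : G, (fx (Ω := Ω) g : ℤ)) = Fintype.card G := by exact_mod_cast sum_fx (Ω := Ω) ht
    have e2 : (∑ g : G, (fx (Ω := Ω) (g ^ 2) : ℤ)) ≤ ∑ g : G, (fx (Ω := Ω) g : ℤ) * fx (Ω := Ω) g := by
      have := sum_sq_le (G := G) (Ω := Ω)
      have h3 : ((∑ g : G, fx (Ω := Ω) (g ^ 2) : ℕ) : ℤ) ≤ ((∑ g : G, fx (Ω := Ω) g ^ 2 : ℕ) : ℤ) := by exact_mod_cast this
      push_cast at h3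
      simpa [sq] using h3
    rw [e1, Finset.sum_const, Finset.card_univ, nsmul_eq_mul]
    linarith
  have hz := (Finset.sum_eq_zero_iff_of_nonneg (fun g _ => hterm g)).1 (le_antisymm hsum (Finset.sum_nonneg fun g _ => hterm g)) g (Finset.mem_univ g)
  have e1 : (1 : ℤ) ≤ fx (Ω := Ω) g := by exact_mod_cast Nat.one_le_iff_ne_zero.2 hg
  have e2 : (fx (Ω := Ω) g : ℤ) ≤ n := by exact_mod_cast hle g
  have e3 : (fx (Ω := Ω) g : ℤ) ≤ fx (Ω := Ω) (g ^ 2) := by exact_mod_cast hmono g
  have h4 : ((fx (Ω := Ω) g : ℤ) - 1) * (n - fx (Ω := Ω) g) ≤ 0 := by nlinarith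
  have h5 : ((fx (Ω := Ω) g : ℤ) - 1) * (n - fx (Ω := Ω) g) = 0 := le_antisymm h4 (mul_nonneg (by linarith) (by linarith))
  rcases mul_eq_zero.1 h5 with h6 | h6
  · left; omega
  · right; omega

/-- Let G act faithfully and transitively on a finite set and suppose every element of G fixing no point is an involution. Then either G is an elementary abelian 2-group, or G is a Frobenius group whose Frobenius kernel is an elementary abelian 2-group: G has a Frobenius complement H, and the elements lying in no conjugate of H, together with the identity, pairwise commute and square to the identity. -/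
theorem result {G Ω : Type*} [Group G] [Finite G] [MulAction G Ω] [FaithfulSMul G Ω] [Finite Ω]
    (htrans : MulAction.IsPretransitive G Ω) (hinv : ∀ g : G, (∀ ω : Ω, g • ω ≠ ω) → orderOf g = 2) :
    (IsMulCommutative G ∧ ∀ g : G, g ^ 2 = 1) ∨
    (∃ H : Subgroup G, Cfsg.IsFrobeniusComplement H ∧
      (∀ x ∈ Cfsg.frobeniusKernel H, x ^ 2 = 1) ∧
      ∀ x ∈ Cfsg.frobeniusKernel H, ∀ y ∈ Cfsg.frobeniusKernel H, x * y = y * x) := by
  classical
  letI : Fintype G := Fintype.ofFinite G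
  letI : Fintype Ω := Fintype.ofFinite Ω
  haveI : Nonempty Ω := by
    by_contra hne
    rw [not_nonempty_iff] at hne
    have := hinv 1 (fun ω => (hne.false ω).elim)
    rw [orderOf_one] at this
    omega
  have hkey : ∀ g : G, g ≠ 1 → ∀ a b : Ω, g • a = a → g • b = b → a = b := by
    intro g hg a b ha hb
    have h0 : fx (Ω := Ω) g ≠ 0 := by
      unfold fx
      rw [Finset.card_ne_zero]
      exact ⟨a, Finset.mem_filter.2 ⟨Finset.mem_univ _, ha⟩⟩
    rcases key htrans hinv g h0 with h | h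
    · unfold fx at h
      rw [Finset.card_eq_one] at h
      obtain ⟨c, hc⟩ := h
      have h1 : a ∈ ({c} : Finset Ω) := hc ▸ Finset.mem_filter.2 ⟨Finset.mem_univ _, ha⟩
      have h2 : b ∈ ({c} : Finset Ω) := hc ▸ Finset.mem_filter.2 ⟨Finset.mem_univ _, hb⟩
      rw [Finset.mem_singleton] at h1 h2
      rw [h1, h2]
    · exfalso
      apply hg
      apply FaithfulSMul.eq_of_smul_eq_smul (M := G) (α := Ω)
      intro ω
      rw [one_smul]
      unfold fx at h
      rw [Finset.card_eq_iff_eq_univ] at h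
      have h7 := Finset.mem_univ ω
      rw [← h] at h7
      exact (Finset.mem_filter.1 h7).2
  have hcomm : ∀ x y : G, x ^ 2 = 1 → y ^ 2 = 1 → (x * y) ^ 2 = 1 → x * y = y * x := by
    intro x y hx hy hxy
    have h1 : x * y * (x * y) = 1 := by rw [← sq]; exact hxy
    have hx' : x⁻¹ = x := by rw [inv_eq_iff_mul_eq_one, ← sq, hx]
    have hy' : y⁻¹ = y := by rw [inv_eq_iff_mul_eq_one, ← sq, hy]
    have h2 : x * y = (x * y)⁻¹ := (inv_eq_of_mul_eq_one_left h1).symm
    rw [h2, mul_inv_rev, hx', hy']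
  obtain ⟨α⟩ := ‹Nonempty Ω›
  by_cases hreg : ∀ g : G, g ≠ 1 → ∀ ω : Ω, g • ω ≠ ω
  · left
    have h2 : ∀ g : G, g ^ 2 = 1 := by
      intro g
      by_cases hg : g = 1
      · rw [hg, one_pow]
      · rw [← hinv g (hreg g hg), pow_orderOf_eq_one]
    exact ⟨⟨⟨fun x y => hcomm x y (h2 x) (h2 y) (h2 _)⟩⟩, h2⟩
  · right
    push Not at hreg
    obtain ⟨g, hg1, β, hβ⟩ := hreg
    set H : Subgroup G := MulAction.stabilizer G β with hH
    have hmem : ∀ x g : G, x ∈ (MulAut.conj g • H : Subgroup G) ↔ x • (g • β) = g • β := by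
      intro x g
      rw [Subgroup.mem_pointwise_smul_iff_inv_smul_mem, hH, MulAction.mem_stabilizer_iff, ← map_inv, MulAut.smul_def, MulAut.conj_apply, inv_inv, mul_smul, mul_smul, inv_smul_eq_iff]
    have hFC : Cfsg.IsFrobeniusComplement H := by
      refine ⟨?_, ?_, ?_⟩
      · intro hbot
        apply hg1
        rw [← Subgroup.mem_bot, ← hbot]
        exact hβ
      · intro htop
        have hall : ∀ x : G, x • β = β := fun x => by
          have : x ∈ H := by rw [htop]; exact Subgroup.mem_top x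
          exact this
        apply hg1
        apply FaithfulSMul.eq_of_smul_eq_smul (M := G) (α := Ω)
        intro ω
        obtain ⟨x, rfl⟩ := MulAction.exists_smul_eq G β ω
        rw [hall x, one_smul, hβ]
      · intro x hx
        rw [Subgroup.eq_bot_iff_forall]
        rintro y ⟨hy1, hy2⟩
        by_contra hy
        have h1 : y • β = β := hy1
        have h2 := (hmem y x).1 hy2
        have h3 := hkey y hy β (x • β) h1 h2
        exact hx h3.symm
    have hsq : ∀ x ∈ Cfsg.frobeniusKernel H, x ^ 2 = 1 := by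
      rintro x (rfl | hx)
      · exact one_pow 2
      · have : ∀ ω : Ω, x • ω ≠ ω := by
          intro ω hω
          obtain ⟨g, rfl⟩ := MulAction.exists_smul_eq G β ω
          exact hx g ((hmem x g).2 hω)
        rw [← hinv x this, pow_orderOf_eq_one]
    refine ⟨H, hFC, hsq, ?_⟩
    obtain ⟨K, hK, -, -⟩ := Cfsg.Agent.H25.frobenius_kernel hFC
    intro x hx y hy
    refine hcomm x y (hsq x hx) (hsq y hy) (hsq _ ?_)
    rw [← hK] at hx hy ⊢
    exact K.mul_mem hx hy

end Cfsg.Agent.S3555
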