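import Cfsg.Statements.S3556
import Cfsg.Agent.H22.MinNormal

set_option autoImplicit false
set_option linter.all false
open Cfsg

namespace Cfsg.Agent.S3556

open Cfsg.Agent.H22

theorem not_pgroup_of_exists {G : Type*} [Group G] [Finite G] (p : ℕ) [Fact p.Prime] (T : Subgroup G)
    (h : ∀ t ∈ T, t ≠ 1 → ∃ k : ℕ, orderOf t = p ^ k) : IsPGroup p T := by
  intro t
  by_cases ht : (t : G) = 1
  · exact ⟨0, by rw [pow_zero, pow_one]; exact Subtype.ext ht⟩
  · obtain ⟨k, hk⟩ := h t t.2 ht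
    exact ⟨k, by rw [← hk]; exact Subtype.ext (by simpa using pow_orderOf_eq_one (t : G))⟩

theorem exists_prime_order_ne {G : Type*} [Group G] [Finite G] (p : ℕ) [Fact p.Prime] (T : Subgroup G)
    (h : ¬ IsPGroup p T) : ∃ q : ℕ, q.Prime ∧ q ≠ p ∧ ∃ t ∈ T, orderOf t = q := by
  by_contra hcon
  push Not at hcon
  apply h
  rw [IsPGroup.iff_card]
  have hpos : Nat.card T ≠ 0 := Nat.card_pos.ne'
  refine ⟨(Nat.card T).factorization p, ?_⟩
  refine Nat.eq_pow_of_factorization_eq_single hpos ?_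
  ext q
  by_cases hq : q = p
  · subst hq; simp
  · rw [Finsupp.single_apply, if_neg (Ne.symm hq)]
    by_cases hqp : q.Prime
    · apply Nat.factorization_eq_zero_of_not_dvd
      intro hd
      haveI : Fact q.Prime := ⟨hqp⟩
      obtain ⟨⟨d, hdN⟩, hd⟩ := exists_prime_orderOf_dvd_card' q hd
      rw [Subgroup.orderOf_mk] at hd
      exact hcon q hqp hq d hdN hd
    · exact Nat.factorization_eq_zero_of_not_prime _ hqp

theorem main {G Ω : Type*} [Group G] [Finite G] [MulAction G Ω] [FaithfulSMul G Ω] [Finite Ω]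
    (hprim : MulAction.IsPreprimitive G Ω) (hΩ : 2 ≤ Nat.card Ω) (p : ℕ) (hp : p.Prime)
    (hder : ∀ g : G, (∀ ω : Ω, g • ω ≠ ω) → ∃ k : ℕ, orderOf g = p ^ k) :
    (∃ (N : Subgroup G) (r : ℕ), r.Prime ∧ N.Normal ∧ Cfsg.IsElementaryAbelian r N ∧
      MulAction.IsPretransitive N Ω ∧ ∀ a : Ω, MulAction.stabilizer N a = ⊥) ∨
    (∃ T : Subgroup G, T.Normal ∧ IsSimpleGroup ↥T ∧ ¬ IsMulCommutative ↥T ∧
      Subgroup.centralizer (T : Set G) = ⊥) := by
  classical
  haveI : Fact p.Prime := ⟨hp⟩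
  obtain ⟨ω, ω', hωω'⟩ : ∃ x y : Ω, x ≠ y := by
    haveI : Nontrivial Ω := Finite.one_lt_card_iff_nontrivial.1 (by omega)
    exact exists_pair_ne Ω
  have htop : (⊤ : Subgroup G) ≠ ⊥ := by
    intro h
    obtain ⟨g, hg⟩ := hprim.toIsPretransitive.exists_smul_eq ω ω'
    have : g ∈ (⊤ : Subgroup G) := trivial
    rw [h, Subgroup.mem_bot] at this
    rw [this, one_smul] at hg
    exact hωω' hg
  obtain ⟨N, -, hN⟩ := exists_isMinNormalIn (⊤ : Subgroup G) ⊤ le_rfl (fun _ _ _ _ => trivial) htop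
  have hNn : N.Normal := normal_of_conj_top hN.conj
  have hNt : MulAction.IsPretransitive N Ω := isPretransitive_of_normal_of_primitive hprim N hNn hN.ne_bot
  -- elements commuting with a transitive group
  have hsemi : ∀ (A : Subgroup G), MulAction.IsPretransitive A Ω → ∀ x : G, (∀ a ∈ A, a * x = x * a) →
      ∀ y : Ω, x • y = y → x = 1 := by
    intro A hA x hx y hy
    apply FaithfulSMul.eq_of_smul_eq_smul (α := Ω)
    intro z
    obtain ⟨a, ha⟩ := hA.exists_smul_eq y z
    have ha' : (a : G) • y = z := ha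
    rw [one_smul, ← ha', ← mul_smul, ← hx a a.2, mul_smul, hy]
  by_cases hab : ∀ a ∈ N, ∀ b ∈ N, a * b = b * a
  · left
    obtain ⟨r, hr, hrN⟩ := elementary_of_abelian hN hab
    refine ⟨N, r, hr, hNn, ⟨⟨⟨fun a b => Subtype.ext (hab a a.2 b b.2)⟩⟩, hrN⟩, hNt, ?_⟩
    intro a
    rw [eq_bot_iff]
    rintro ⟨x, hx⟩ hxa
    have hxa' : x • a = a := hxa
    rw [Subgroup.mem_bot]
    exact Subtype.ext (hsemi N hNt x (fun b hb => hab b hb x hx) a hxa')
  right
  have hNp : ¬ IsPGroup p N := not_isPGroup_of_nonabelian hN hab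
  have hcent : Subgroup.centralizer (N : Set G) = ⊥ := by
    by_contra hc
    apply hNp
    apply not_pgroup_of_exists
    intro t ht ht1
    apply hder
    intro y hy
    apply ht1
    have hCn : (Subgroup.centralizer (N : Set G)).Normal :=
      normal_of_conj_top (centralizer_conj hN.conj)
    have hCt := isPretransitive_of_normal_of_primitive hprim _ hCn hc
    exact hsemi _ hCt t (fun a ha => ((mem_centralizer_iff_comm.1 ha) t ht).symm) y hy
  obtain ⟨T, -, hT⟩ := exists_isMinNormalIn N N le_rfl (fun n hn t ht => hNn.conj_mem t ht n) hN.ne_bot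
  have hTC : T ⊓ Subgroup.centralizer (T : Set G) = ⊥ := inf_centralizer_eq_bot hN hT hab
  have hTp : ¬ IsPGroup p T := fun h => inf_centralizer_ne_bot_of_pgroup h hT.ne_bot hTC
  by_cases hTN : T = N
  · -- N simple
    subst hTN
    refine ⟨T, hNn, ?_, ?_, hcent⟩
    · haveI : Nontrivial T := (Subgroup.nontrivial_iff_ne_bot T).2 hT.ne_bot
      constructor
      intro K hK
      have h1 := hT.min (K.map T.subtype) (by
        rintro n hn _ ⟨k, hk, rfl⟩
        exact ⟨⟨n, hn⟩ * k * ⟨n, hn⟩⁻¹, hK.conj_mem k hk ⟨n, hn⟩, rfl⟩) (Subgroup.map_subtype_le K)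
      rcases h1 with h1 | h1
      · left
        exact (Subgroup.map_eq_bot_iff_of_injective K T.subtype_injective).1 h1
      · right
        rw [eq_top_iff]
        rintro ⟨t, ht⟩ -
        rw [← h1] at ht
        obtain ⟨k, hk, hkt⟩ := ht
        have : k = ⟨t, by rw [← hkt]; exact k.2⟩ := Subtype.ext hkt
        rw [← this]; exact hk
    · intro hcomm
      apply hab
      intro a ha b hb
      exact congrArg Subtype.val (hcomm.is_comm.comm (⟨a, ha⟩ : T) ⟨b, hb⟩)
  exfalso
  set C := Subgroup.centralizer (T : Set G) ⊓ N with hC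
  have hNle : N ≤ T ⊔ C := le_sup_centralizer hN hT
  have hTCcomm : ∀ t ∈ T, ∀ c ∈ C, t * c = c * t := fun t ht c hc => (mem_centralizer_iff_comm.1 hc.1) t ht
  have hdecomp : ∀ n ∈ N, ∃ t ∈ T, ∃ c ∈ C, n = t * c := by
    intro n hn
    have h1 := hNle hn
    have h2 : T ⊔ C ≤ { carrier := {x | ∃ t ∈ T, ∃ c ∈ C, x = t * c}
                        mul_mem' := by
                          rintro _ _ ⟨t, ht, c, hc, rfl⟩ ⟨t', ht', c', hc', rfl⟩
                          refine ⟨t * t', T.mul_mem ht ht', c * c', C.mul_mem hc hc', ?_⟩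
                          rw [mul_assoc, ← mul_assoc c, ← hTCcomm t' ht' c hc]
                          simp only [mul_assoc]
                        one_mem' := ⟨1, T.one_mem, 1, C.one_mem, by simp⟩
                        inv_mem' := by
                          rintro _ ⟨t, ht, c, hc, rfl⟩
                          refine ⟨t⁻¹, T.inv_mem ht, c⁻¹, C.inv_mem hc, ?_⟩
                          rw [hTCcomm t ht c hc, mul_inv_rev] : Subgroup G } := by
      apply sup_le
      · intro t ht; exact ⟨t, ht, 1, C.one_mem, by simp⟩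
      · intro c hc; exact ⟨1, T.one_mem, c, hc, by simp⟩
    exact h2 h1
  -- a conjugate of T inside C
  obtain ⟨g, hg⟩ : ∃ g : G, T.map (MulAut.conj g).toMonoidHom ≠ T := by
    by_contra hcon
    push Not at hcon
    apply hTN
    have hTn : ∀ n ∈ (⊤ : Subgroup G), ∀ t ∈ T, n * t * n⁻¹ ∈ T := by
      intro n _ t ht
      have := hcon n
      rw [← this]
      exact ⟨t, ht, by simp⟩
    rcases hN.min T hTn hT.le with h | h
    · exact absurd h hT.ne_bot
    · exact h
  have hgC : T.map (MulAut.conj g).toMonoidHom ≤ C := by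
    refine le_inf ((conj_eq_or_le_centralizer hNn hT g).resolve_left hg) ?_
    rintro x ⟨t, ht, rfl⟩
    exact hNn.conj_mem t (hT.le ht) g
  obtain ⟨q, hq, hqp, t0, ht0, hot0⟩ := exists_prime_order_ne p T hTp
  set c0 := g * t0 * g⁻¹ with hc0
  have hc0C : c0 ∈ C := hgC ⟨t0, ht0, by simp [hc0]⟩
  have hoc0 : orderOf c0 = q := by
    rw [← hot0]
    exact (SemiconjBy.orderOf_eq g (by rw [SemiconjBy, hc0]; simp)).symm
  -- the projection of the point stabilizer
  let R : Subgroup T :=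
    { carrier := {t | ∃ c ∈ C, ((t : G) * c) • ω = ω}
      mul_mem' := by
        rintro s t ⟨c, hc, hs⟩ ⟨d, hd, ht⟩
        refine ⟨c * d, C.mul_mem hc hd, ?_⟩
        have : ((s * t : T) : G) * (c * d) = ((s : G) * c) * ((t : G) * d) := by
          rw [Subgroup.coe_mul, mul_assoc, mul_assoc, ← mul_assoc (t : G) c, hTCcomm t t.2 c hc, mul_assoc c]
        rw [this, mul_smul, ht, hs]
      one_mem' := ⟨1, C.one_mem, by simp⟩
      inv_mem' := by
        rintro s ⟨c, hc, hs⟩
        refine ⟨c⁻¹, C.inv_mem hc, ?_⟩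
        have : ((s⁻¹ : T) : G) * c⁻¹ = ((s : G) * c)⁻¹ := by
          rw [hTCcomm s s.2 c hc, mul_inv_rev, Subgroup.coe_inv]
        rw [this, inv_smul_eq_iff, hs] }
  by_cases hR : R = ⊤
  · -- T ∩ N_ω is normal in N
    have hnorm : ∀ n ∈ N, ∀ t ∈ T ⊓ MulAction.stabilizer G ω, n * t * n⁻¹ ∈ T ⊓ MulAction.stabilizer G ω := by
      rintro n hn t ⟨ht, htω⟩
      refine ⟨hT.conj n hn t ht, ?_⟩
      obtain ⟨s, hs, c, hc, rfl⟩ := hdecomp n hn
      have hsR : (⟨s, hs⟩ : T) ∈ R := by rw [hR]; trivial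
      obtain ⟨d, hd, hsd⟩ := hsR
      have hct : ∀ c ∈ C, c * t * c⁻¹ = t := by
        intro c hc
        rw [← hTCcomm t ht c hc]; simp
      have e1 : s * c * t * (s * c)⁻¹ = (s * d) * t * (s * d)⁻¹ := by
        calc s * c * t * (s * c)⁻¹ = s * (c * t * c⁻¹) * s⁻¹ := by group
          _ = s * (d * t * d⁻¹) * s⁻¹ := by rw [hct c hc, hct d hd]
          _ = (s * d) * t * (s * d)⁻¹ := by group
      rw [e1]
      exact (MulAction.stabilizer G ω).mul_mem ((MulAction.stabilizer G ω).mul_mem hsd htω)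
        ((MulAction.stabilizer G ω).inv_mem hsd)
    have hconjN : ∀ t ∈ T, ∀ y : Ω, t • y = y → ∃ n ∈ N, n⁻¹ * t * n ∈ T ⊓ MulAction.stabilizer G ω := by
      intro t ht y hy
      obtain ⟨n, hn⟩ := hNt.exists_smul_eq ω y
      have hn' : (n : G) • ω = y := hn
      refine ⟨n, n.2, ?_, ?_⟩
      · have := hT.conj (n : G)⁻¹ (N.inv_mem n.2) t ht
        simpa using this
      · show ((n : G)⁻¹ * t * n) • ω = ω
        rw [mul_smul, mul_smul, hn', hy, ← hn', inv_smul_smul]
    rcases hT.min _ hnorm inf_le_left with h | h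
    · apply hTp
      apply not_pgroup_of_exists
      intro t ht ht1
      apply hder
      intro y hy
      apply ht1
      obtain ⟨n, hn, h1⟩ := hconjN t ht y hy
      rw [h, Subgroup.mem_bot] at h1
      have : t = n * (n⁻¹ * t * n) * n⁻¹ := by group
      rw [this, h1]; simp
    · apply hT.ne_bot
      rw [eq_bot_iff]
      intro t ht
      rw [Subgroup.mem_bot]
      apply FaithfulSMul.eq_of_smul_eq_smul (α := Ω)
      intro y
      obtain ⟨n, hn⟩ := hNt.exists_smul_eq ω y
      have hn' : (n : G) • ω = y := hn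
      have h1 : (n : G)⁻¹ * t * n ∈ T := by
        have := hT.conj (n : G)⁻¹ (N.inv_mem n.2) t ht
        simpa using this
      rw [← h] at h1
      have h2 : ((n : G)⁻¹ * t * n) • ω = ω := h1.2
      rw [one_smul, ← hn']
      rw [mul_smul, mul_smul, inv_smul_eq_iff] at h2
      exact h2
  · obtain ⟨t, ht⟩ := exists_notMem_conj R hR
    have hder1 : ∀ y : Ω, ((t : G) * c0) • y ≠ y := by
      intro y hy
      obtain ⟨n, hn⟩ := hNt.exists_smul_eq ω y
      have hn' : (n : G) • ω = y := hn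
      obtain ⟨s, hs, c, hc, hnsc⟩ := hdecomp n n.2
      apply ht ⟨s, hs⟩
      refine ⟨c⁻¹ * c0 * c, C.mul_mem (C.mul_mem (C.inv_mem hc) hc0C) hc, ?_⟩
      have e1 : (((⟨s, hs⟩ : T)⁻¹ * t * ⟨s, hs⟩ : T) : G) * (c⁻¹ * c0 * c) = (n : G)⁻¹ * ((t : G) * c0) * n := by
        rw [hnsc]
        simp only [Subgroup.coe_mul, Subgroup.coe_inv, mul_inv_rev]
        have a1 : s⁻¹ * (t : G) * s * c⁻¹ = c⁻¹ * (s⁻¹ * (t : G) * s) :=
          hTCcomm _ (T.mul_mem (T.mul_mem (T.inv_mem hs) t.2) hs) _ (C.inv_mem hc)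
        have a2 : s * c0 = c0 * s := hTCcomm s hs c0 hc0C
        calc s⁻¹ * (t : G) * s * (c⁻¹ * c0 * c) = (s⁻¹ * (t : G) * s * c⁻¹) * c0 * c := by group
          _ = c⁻¹ * s⁻¹ * (t : G) * (s * c0) * c := by rw [a1]; group
          _ = c⁻¹ * s⁻¹ * ((t : G) * c0) * (s * c) := by rw [a2]; group
      rw [e1, mul_smul, mul_smul, hn', hy, ← hn', inv_smul_smul]
    obtain ⟨k, hk⟩ := hder _ hder1
    have hdvd : q ∣ p ^ k := by
      rw [← hk, ← hoc0]
      apply orderOf_dvd_of_pow_eq_one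
      have hcm : Commute (t : G) c0 := hTCcomm t t.2 c0 hc0C
      have h1 : ((t : G) * c0) ^ orderOf ((t : G) * c0) = 1 := pow_orderOf_eq_one _
      rw [hcm.mul_pow] at h1
      have h2 : c0 ^ orderOf ((t : G) * c0) = ((t : G) ^ orderOf ((t : G) * c0))⁻¹ := eq_inv_of_mul_eq_one_right h1
      have h3 : c0 ^ orderOf ((t : G) * c0) ∈ T ⊓ Subgroup.centralizer (T : Set G) := by
        refine ⟨?_, (C.pow_mem hc0C _).1⟩
        rw [h2]; exact T.inv_mem (T.pow_mem t.2 _)
      rw [hTC, Subgroup.mem_bot] at h3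
      exact h3
    exact hqp ((Nat.prime_dvd_prime_iff_eq hq hp).1 (hq.dvd_of_dvd_pow hdvd))


/-- Let G act faithfully and primitively on a finite set with at least two points, and suppose that for some fixed prime p every element of G fixing no point has order a power of p. Then G is of affine type (it has a regular normal subgroup that is an elementary abelian r-group for some prime r) or almost simple (it has a non-abelian simple normal subgroup with trivial centralizer). -/
theorem result {G Ω : Type*} [Group G] [Finite G] [MulAction G Ω] [FaithfulSMul G Ω] [Finite Ω]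
    (hprim : MulAction.IsPreprimitive G Ω) (hΩ : 2 ≤ Nat.card Ω) (p : ℕ) (hp : p.Prime)
    (hder : ∀ g : G, (∀ ω : Ω, g • ω ≠ ω) → ∃ k : ℕ, orderOf g = p ^ k) :
    (∃ (N : Subgroup G) (r : ℕ), r.Prime ∧ N.Normal ∧ Cfsg.IsElementaryAbelian r N ∧
      MulAction.IsPretransitive N Ω ∧ ∀ a : Ω, MulAction.stabilizer N a = ⊥) ∨
    (∃ T : Subgroup G, T.Normal ∧ IsSimpleGroup ↥T ∧ ¬ IsMulCommutative ↥T ∧
      Subgroup.centralizer (T : Set G) = ⊥) := by
  exact main hprim hΩ p hp hder

end Cfsg.Agent.S3556
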