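import Cfsg.Statements.S3557
import Cfsg.Agent.H22.Perm
import Cfsg.Agent.H13.Perm
import Cfsg.Agent.H2.Basic

set_option autoImplicit false
set_option linter.all false
open Cfsg

namespace Cfsg.Agent.S3557

open MulAction

theorem smul_mem_orbit_of_mem {P Ω : Type*} [Group P] [MulAction P Ω] {g : P} {x a : Ω}
    (h : x ∈ orbit P a) : g • x ∈ orbit P a := by
  obtain ⟨k, rfl⟩ := h
  exact ⟨g * k, mul_smul g k a⟩

section
variable {P Ω : Type*} [Group P] [Finite P] [MulAction P Ω] [FaithfulSMul P Ω] [Finite Ω]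

theorem claim {p : ℕ} [hp : Fact p.Prime] (hP : IsPGroup p P) (a b : Ω)
    (ha : (stabilizer P a).index = p ^ 2) (hb : (stabilizer P b).index = p ^ 2)
    (hab : a ∉ orbit P b) (hcov : ∀ x, x ∈ orbit P a ∨ x ∈ orbit P b)
    (z : P) (hz : ∀ g : P, g * z = z * g) (hz1 : z ≠ 1) (hzp : z ^ p = 1) (hzb : z • b = b) :
    ∃ σ : Equiv.Perm Ω, σ ^ p = 1 ∧ (∀ x, σ x ≠ x) ∧ ∀ x y, ∃ g : P, σ x = g • x ∧ σ y = g • y := by
  classical
  -- z trivial on the orbit of b
  have hzB : ∀ x ∈ orbit P b, z • x = x := by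
    rintro _ ⟨g, rfl⟩
    show z • g • b = g • b
    rw [← mul_smul, ← hz, mul_smul, hzb]
  have hdisj : ∀ x, x ∈ orbit P a → x ∉ orbit P b := by
    intro x hx hx'
    apply hab
    rw [← orbit_eq_iff] at hx hx' ⊢
    rw [← hx, hx']
  have hzA : ∀ x ∈ orbit P a, z • x ≠ x := by
    rintro _ ⟨g, rfl⟩ h
    apply hz1
    apply FaithfulSMul.eq_of_smul_eq_smul (α := Ω)
    intro x
    rw [one_smul]
    rcases hcov x with hx | hx
    · obtain ⟨k, rfl⟩ := hx
      have h' : z • a = a := by
        have h2 : z • g • a = g • a := h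
        rw [← mul_smul, ← hz, mul_smul] at h2
        exact smul_left_cancel _ h2
      show z • k • a = k • a
      rw [← mul_smul, ← hz, mul_smul, h']
    · exact hzB x hx
  -- the kernel on B
  let K : Subgroup P :=
    { carrier := {g | ∀ x ∈ orbit P b, g • x = x}
      one_mem' := fun x _ => one_smul _ _
      mul_mem' := fun {g h} hg hh x hx => by rw [mul_smul, hh x hx, hg x hx]
      inv_mem' := fun {g} hg x hx => by rw [inv_smul_eq_iff, hg x hx] }
  have hKmem : ∀ g, g ∈ K ↔ ∀ x ∈ orbit P b, g • x = x := fun g => Iff.rfl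
  have hKn : K.Normal := by
    constructor
    intro n hn g x hx
    rw [mul_smul, mul_smul, hn (g⁻¹ • x), smul_inv_smul]
    exact smul_mem_orbit_of_mem hx
  have hzK : z ∈ K := hzB
  have hKb : K ≤ stabilizer P b := fun g hg => hg b (mem_orbit_self b)
  have hza : z ∉ stabilizer P a := fun h => hzA a (mem_orbit_self a) h
  let L : Subgroup P := K ⊔ stabilizer P a
  have hLi : L.index ∣ p := by
    have h1 : L.index ∣ p ^ 2 := by rw [← ha]; exact Subgroup.index_dvd_of_le le_sup_right
    obtain ⟨k, hk, hk'⟩ := (Nat.dvd_prime_pow hp.out).1 h1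
    have h2 : L.index ≠ p ^ 2 := by
      intro h
      apply hza
      have h3 : stabilizer P a = L := by
        apply Subgroup.eq_of_le_of_card_ge le_sup_right
        have e1 := Subgroup.card_mul_index L
        have e2 := Subgroup.card_mul_index (stabilizer P a)
        rw [h] at e1
        rw [ha] at e2
        have hpp : 0 < p ^ 2 := pow_pos hp.out.pos 2
        have : Nat.card L * p ^ 2 = Nat.card (stabilizer P a) * p ^ 2 := by rw [e1, e2]
        exact (Nat.eq_of_mul_eq_mul_right hpp this).le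
      rw [h3]
      exact (le_sup_left : K ≤ L) hzK
    rw [hk']
    have : k ≠ 2 := fun h => h2 (by rw [hk', h])
    calc p ^ k ∣ p ^ 1 := pow_dvd_pow p (by omega)
      _ = p := pow_one p
  have hLn : L.Normal := by
    rcases (Nat.dvd_prime hp.out).1 hLi with h | h
    · rw [Subgroup.index_eq_one.1 h]; infer_instance
    · exact Cfsg.Agent.H13.normal_of_index_prime_of_isPGroup hP h
  have hKL : ¬ L ≤ K := by
    intro h
    have h1 : p ^ 2 ∣ L.index := by
      rw [← hb]
      exact Subgroup.index_dvd_of_le (h.trans hKb)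
    have h2 := Nat.le_of_dvd hp.out.pos (h1.trans hLi)
    have := hp.out.two_le
    nlinarith
  -- an element w
  obtain ⟨w, hwL, hwK, hwc, hwp⟩ : ∃ w ∈ L, w ∉ K ∧ (∀ g : P, g⁻¹ * w * g * w⁻¹ ∈ K) ∧ w ^ p ∈ K := by
    have hPQ : IsPGroup p (P ⧸ K) := hP.to_quotient K
    haveI : (L.map (QuotientGroup.mk' K)).Normal := hLn.map _ (QuotientGroup.mk'_surjective K)
    have hne : L.map (QuotientGroup.mk' K) ≠ ⊥ := by
      intro h
      apply hKL
      rw [Subgroup.map_eq_bot_iff, QuotientGroup.ker_mk'] at h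
      exact h
    have h1 := Cfsg.Agent.H2.inf_center_ne_bot_of_normal hPQ _ hne
    set D := L.map (QuotientGroup.mk' K) ⊓ Subgroup.center (P ⧸ K) with hD
    have hDp : IsPGroup p D := hPQ.to_subgroup D
    have hpD : p ∣ Nat.card D := by
      rcases hDp.card_eq_or_dvd with h | h
      · exact absurd (Subgroup.card_eq_one.1 h) h1
      · exact h
    obtain ⟨d, hd⟩ := exists_prime_orderOf_dvd_card' p hpD
    obtain ⟨⟨w, hwL, hw⟩, hwc⟩ := Subgroup.mem_inf.1 d.2
    have hwd : (QuotientGroup.mk' K w) = (d : P ⧸ K) := hw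
    refine ⟨w, hwL, ?_, ?_, ?_⟩
    · intro hwK
      have : (d : P ⧸ K) = 1 := by
        rw [← hwd]; exact (QuotientGroup.eq_one_iff w).2 hwK
      have : d = 1 := Subtype.ext this
      rw [this, orderOf_one] at hd
      exact hp.out.one_lt.ne hd
    · intro g
      rw [← QuotientGroup.eq_one_iff]
      have hc := Subgroup.mem_center_iff.1 hwc (QuotientGroup.mk' K g)
      rw [← hwd] at hc
      show (QuotientGroup.mk' K) (g⁻¹ * w * g * w⁻¹) = 1
      rw [map_mul, map_mul, map_mul, map_inv, map_inv, mul_assoc (QuotientGroup.mk' K g)⁻¹, ← hc,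
        inv_mul_cancel_left, mul_inv_cancel]
    · rw [← QuotientGroup.eq_one_iff]
      have : (d : P ⧸ K) ^ p = 1 := by
        have := pow_orderOf_eq_one d
        rw [hd] at this
        exact_mod_cast congrArg Subtype.val this
      rw [← hwd] at this
      exact this
  -- w is fixed point free on B
  have hwB : ∀ x ∈ orbit P b, w • x ≠ x := by
    intro x hx hwx
    apply hwK
    intro y hy
    have hxy : y ∈ orbit P x := by rw [orbit_eq_iff.2 hx]; exact hy
    obtain ⟨g, rfl⟩ := hxy
    have h1 : (g⁻¹ * w * g) • x = x := by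
      have : g⁻¹ * w * g = (g⁻¹ * w * g * w⁻¹) * w := by group
      rw [this, mul_smul, hwx]
      exact hwc g x hx
    rw [mul_smul, mul_smul, inv_smul_eq_iff] at h1
    exact h1
  -- w moves points of A inside K-orbits
  have hwA : ∀ x ∈ orbit P a, ∃ k ∈ K, w • x = k • x := by
    rintro _ ⟨g, rfl⟩
    have h1 : g⁻¹ * w * g ∈ L := by
      have := hLn.conj_mem w hwL g⁻¹
      simpa using this
    obtain ⟨k, hk, s, hs, hks⟩ := Subgroup.mem_sup_of_normal_left.1 h1
    refine ⟨g * k * g⁻¹, hKn.conj_mem k hk g, ?_⟩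
    show w • g • a = (g * k * g⁻¹) • g • a
    have h2 : w = g * (k * s) * g⁻¹ := by rw [hks]; group
    rw [← mul_smul, ← mul_smul]
    have h3 : w * g = (g * k) * s := by rw [h2]; group
    rw [h3, mul_smul, mem_stabilizer_iff.1 hs]
    congr 1
    group
  -- the permutation
  let f : Ω → Ω := fun x => if x ∈ orbit P a then z • x else w • x
  have hfA : ∀ x ∈ orbit P a, f x = z • x := fun x hx => if_pos hx
  have hfB : ∀ x, x ∉ orbit P a → f x = w • x := fun x hx => if_neg hx
  have hBA : ∀ x, x ∉ orbit P a → x ∈ orbit P b := fun x hx => (hcov x).resolve_left hx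
  have hinj : Function.Injective f := by
    intro x y hxy
    by_cases hx : x ∈ orbit P a <;> by_cases hy : y ∈ orbit P a
    · rw [hfA x hx, hfA y hy] at hxy
      exact smul_left_cancel _ hxy
    · rw [hfA x hx, hfB y hy] at hxy
      exfalso
      apply hdisj (z • x) (smul_mem_orbit_of_mem hx)
      rw [hxy]; exact smul_mem_orbit_of_mem (hBA y hy)
    · rw [hfB x hx, hfA y hy] at hxy
      exfalso
      apply hdisj (z • y) (smul_mem_orbit_of_mem hy)
      rw [← hxy]; exact smul_mem_orbit_of_mem (hBA x hx)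
    · rw [hfB x hx, hfB y hy] at hxy
      exact smul_left_cancel _ hxy
  let σ : Equiv.Perm Ω := Equiv.ofBijective f (Finite.injective_iff_bijective.1 hinj)
  have hσ : ∀ x, σ x = f x := fun x => rfl
  have hσA : ∀ n : ℕ, ∀ x ∈ orbit P a, (σ ^ n) x = z ^ n • x := by
    intro n
    induction n with
    | zero => intro x _; simp
    | succ n ih =>
      intro x hx
      rw [pow_succ', Equiv.Perm.mul_apply, ih x hx, hσ, hfA _ (smul_mem_orbit_of_mem hx), pow_succ', mul_smul]
  have hσB : ∀ n : ℕ, ∀ x, x ∉ orbit P a → (σ ^ n) x = w ^ n • x := by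
    intro n
    induction n with
    | zero => intro x _; simp
    | succ n ih =>
      intro x hx
      have h1 : w ^ n • x ∉ orbit P a := by
        intro h
        exact hdisj _ h (smul_mem_orbit_of_mem (hBA x hx))
      rw [pow_succ', Equiv.Perm.mul_apply, ih x hx, hσ, hfB _ h1, pow_succ', mul_smul]
  refine ⟨σ, ?_, ?_, ?_⟩
  · ext x
    by_cases hx : x ∈ orbit P a
    · rw [hσA p x hx, hzp, one_smul]; rfl
    · rw [hσB p x hx, hwp x (hBA x hx)]; rfl
  · intro x
    by_cases hx : x ∈ orbit P a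
    · rw [hσ, hfA x hx]; exact hzA x hx
    · rw [hσ, hfB x hx]; exact hwB x (hBA x hx)
  · have key : ∀ x ∈ orbit P a, ∀ y ∈ orbit P b, ∃ g : P, σ x = g • x ∧ σ y = g • y := by
      intro x hx y hy
      have hy' : y ∉ orbit P a := fun h => hdisj y h hy
      obtain ⟨k, hk, hkx⟩ := hwA x hx
      -- g = w * k' with k' x = w⁻¹ z x ; w x = k x, so take g = (z k⁻¹ twisted)
      -- w⁻¹ * k * x = x ; choose g = z * k⁻¹ * w : g x = z x, g y = w y
      refine ⟨z * k⁻¹ * w, ?_, ?_⟩
      · rw [hσ, hfA x hx, mul_smul, hkx, mul_smul, inv_smul_smul]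
      · rw [hσ, hfB y hy', mul_smul, mul_smul, K.inv_mem hk (w • y) (smul_mem_orbit_of_mem hy)]
        exact (hzB (w • y) (smul_mem_orbit_of_mem hy)).symm
    intro x y
    by_cases hx : x ∈ orbit P a <;> by_cases hy : y ∈ orbit P a
    · exact ⟨z, by rw [hσ, hfA x hx], by rw [hσ, hfA y hy]⟩
    · exact key x hx y (hBA y hy)
    · obtain ⟨g, h1, h2⟩ := key y hy x (hBA x hx)
      exact ⟨g, h2, h1⟩
    · exact ⟨w, by rw [hσ, hfB x hx], by rw [hσ, hfB y hy]⟩

end

theorem main {G Ω : Type*} [Group G] [Finite G] [MulAction G Ω] [FaithfulSMul G Ω] [Finite Ω]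
    (htrans : MulAction.IsPretransitive G Ω) (p : ℕ) (hp : p.Prime) (hcard : Nat.card Ω = 2 * p ^ 2)
    (hcl : ∀ σ : Equiv.Perm Ω, (∀ a b : Ω, ∃ g : G, σ a = g • a ∧ σ b = g • b) → ∃ g : G, ∀ a : Ω, σ a = g • a) :
    ∃ g : G, (orderOf g).Prime ∧ ∀ ω : Ω, g • ω ≠ ω := by
  classical
  haveI : Fact p.Prime := ⟨hp⟩
  obtain ⟨P⟩ : Nonempty (Sylow p G) := inferInstance
  have hP : IsPGroup p P := P.isPGroup'
  haveI : FaithfulSMul P Ω := ⟨fun {g h} hgh => Subtype.ext (FaithfulSMul.eq_of_smul_eq_smul (α := Ω) hgh)⟩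
  have hΩ : Nonempty Ω := by
    rw [← Finite.card_pos_iff, hcard]
    have := hp.pos
    positivity
  obtain ⟨a⟩ := hΩ
  have horb : ∀ x : Ω, p ^ 2 ∣ Nat.card (orbit P x) := fun x =>
    Cfsg.Agent.H13.pow_dvd_card_orbit_sylow p P 2 (by rw [hcard]; exact Dvd.intro_left 2 rfl) x
  have hpos : ∀ x : Ω, 0 < Nat.card (orbit P x) := fun x => by
    haveI : Nonempty (orbit P x) := ⟨⟨x, mem_orbit_self x⟩⟩
    exact Nat.card_pos
  -- a central element of order p
  obtain ⟨z, hzc, hz1, hzp⟩ : ∃ z : P, (∀ g : P, g * z = z * g) ∧ z ≠ 1 ∧ z ^ p = 1 := by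
    have hnt : (⊤ : Subgroup P) ≠ ⊥ := by
      intro h
      have h1 : Nat.card (orbit P a) * Nat.card (stabilizer P a) = Nat.card P :=
        Cfsg.Agent.H13.card_orbit_mul_card_stabilizer a
      have h2 : Nat.card P = 1 := by
        rw [← Subgroup.card_top, h, Subgroup.card_bot]
      rw [h2] at h1
      have h3 := Nat.le_of_dvd (hpos a) (horb a)
      have h4 : Nat.card (orbit P a) = 1 := Nat.eq_one_of_mul_eq_one_right h1
      rw [h4] at h3
      have := hp.two_le
      nlinarith
    have h1 := Cfsg.Agent.H2.inf_center_ne_bot_of_normal hP ⊤ hnt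
    rw [top_inf_eq] at h1
    have hDp : IsPGroup p (Subgroup.center P) := hP.to_subgroup _
    have hpD : p ∣ Nat.card (Subgroup.center P) := by
      rcases hDp.card_eq_or_dvd with h | h
      · exact absurd (Subgroup.card_eq_one.1 h) h1
      · exact h
    obtain ⟨d, hd⟩ := exists_prime_orderOf_dvd_card' p hpD
    refine ⟨d, fun g => Subgroup.mem_center_iff.1 d.2 g, ?_, ?_⟩
    · intro h
      have : d = 1 := Subtype.ext h
      rw [this, orderOf_one] at hd
      exact hp.one_lt.ne hd
    · have := pow_orderOf_eq_one d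
      rw [hd] at this
      exact_mod_cast congrArg Subtype.val this
  have hzord : (orderOf (z : G)).Prime := by
    rw [Subgroup.orderOf_coe, orderOf_eq_prime hzp hz1]; exact hp
  have hfixorb : ∀ x : Ω, z • x = x → ∀ y ∈ orbit P x, z • y = y := by
    rintro x hx _ ⟨g, rfl⟩
    show z • g • x = g • x
    rw [← mul_smul, ← hzc, mul_smul, hx]
  by_cases htr : ∀ x : Ω, x ∈ orbit P a
  · refine ⟨z, hzord, fun ω hω => hz1 ?_⟩
    apply FaithfulSMul.eq_of_smul_eq_smul (α := Ω)
    intro y
    rw [one_smul]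
    apply hfixorb ω hω
    have h1 := htr y
    have h2 := htr ω
    rw [← orbit_eq_iff] at h1 h2 ⊢
    rw [h1, h2]
  · push Not at htr
    obtain ⟨b, hb⟩ := htr
    have hdis : Disjoint (orbit P a) (orbit P b) := by
      rcases orbit.eq_or_disjoint (G := P) a b with h | h
      · exact absurd (h ▸ mem_orbit_self b) hb
      · exact h
    have hsum : (orbit P a).ncard + (orbit P b).ncard = (orbit P a ∪ orbit P b).ncard :=
      (Set.ncard_union_eq hdis (Set.toFinite _) (Set.toFinite _)).symm
    have hle : (orbit P a ∪ orbit P b).ncard ≤ 2 * p ^ 2 := by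
      rw [← hcard, ← Set.ncard_univ]
      exact Set.ncard_le_ncard (Set.subset_univ _) (Set.toFinite _)
    have ha2 := Nat.le_of_dvd (hpos a) (horb a)
    have hb2 := Nat.le_of_dvd (hpos b) (horb b)
    rw [Nat.card_coe_set_eq] at ha2 hb2
    have hau : (orbit P a ∪ orbit P b) = Set.univ := by
      apply Set.eq_of_subset_of_ncard_le (Set.subset_univ _) _ (Set.toFinite _)
      rw [Set.ncard_univ, hcard]
      omega
    have hai : (stabilizer P a).index = p ^ 2 := by rw [index_stabilizer]; omega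
    have hbi : (stabilizer P b).index = p ^ 2 := by rw [index_stabilizer]; omega
    have hba : a ∉ orbit P b := fun h => Set.disjoint_left.1 hdis (mem_orbit_self a) h
    have hcov : ∀ x, x ∈ orbit P a ∨ x ∈ orbit P b := fun x => by
      have : x ∈ orbit P a ∪ orbit P b := by rw [hau]; trivial
      exact this
    have fin : (∃ σ : Equiv.Perm Ω, σ ^ p = 1 ∧ (∀ x, σ x ≠ x) ∧ ∀ x y, ∃ g : P, σ x = g • x ∧ σ y = g • y) →
        ∃ g : G, (orderOf g).Prime ∧ ∀ ω : Ω, g • ω ≠ ω := by
      rintro ⟨σ, hσp, hσf, hσ⟩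
      obtain ⟨g, hg⟩ := hcl σ (fun x y => by
        obtain ⟨k, h1, h2⟩ := hσ x y
        exact ⟨k, h1, h2⟩)
      refine ⟨g, ?_, fun ω hω => hσf ω (by rw [hg, hω])⟩
      have hgp : g ^ p = 1 := by
        apply FaithfulSMul.eq_of_smul_eq_smul (α := Ω)
        intro x
        have : ∀ n : ℕ, (σ ^ n) x = g ^ n • x := by
          intro n
          induction n with
          | zero => simp
          | succ n ih => rw [pow_succ', Equiv.Perm.mul_apply, ih, hg, pow_succ', mul_smul]
        rw [← this, hσp, one_smul]; rfl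
      have hg1 : g ≠ 1 := by
        rintro rfl
        apply hσf a
        rw [hg, one_smul]
      rw [orderOf_eq_prime hgp hg1]
      exact hp
    by_cases hzb : z • b = b
    · exact fin (claim hP a b hai hbi hba hcov z hzc hz1 hzp hzb)
    · by_cases hza : z • a = a
      · exact fin (claim hP b a hbi hai hb (fun x => (hcov x).symm) z hzc hz1 hzp hza)
      · refine ⟨z, hzord, fun ω hω => ?_⟩
        rcases hcov ω with h | h
        · apply hza
          apply hfixorb ω hω
          rw [← orbit_eq_iff] at h ⊢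
          exact h.symm
        · apply hzb
          apply hfixorb ω hω
          rw [← orbit_eq_iff] at h ⊢
          exact h.symm

/-- Let G act faithfully and transitively on a finite set with 2p² points, p a prime, and suppose G is 2-closed: every permutation of the set which, on each ordered pair of points, agrees with some element of G, is itself induced by an element of G. Then some element of G of prime order fixes no point. -/
theorem result {G Ω : Type*} [Group G] [Finite G] [MulAction G Ω] [FaithfulSMul G Ω] [Finite Ω]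
    (htrans : MulAction.IsPretransitive G Ω) (p : ℕ) (hp : p.Prime) (hcard : Nat.card Ω = 2 * p ^ 2)
    (hcl : ∀ σ : Equiv.Perm Ω, (∀ a b : Ω, ∃ g : G, σ a = g • a ∧ σ b = g • b) → ∃ g : G, ∀ a : Ω, σ a = g • a) :
    ∃ g : G, (orderOf g).Prime ∧ ∀ ω : Ω, g • ω ≠ ω := by
  exact main htrans p hp hcard hcl

end Cfsg.Agent.S3557
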