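import Cfsg.Statements.S3634
import Cfsg.Agent.H22.FrobFixed
import Cfsg.Agent.H19.Sylow

set_option autoImplicit false
set_option linter.all false
open Cfsg

namespace Cfsg.Agent.S3634

open Subgroup Cfsg.Agent.H23 Cfsg.Agent.H22 Cfsg.Agent.H19

theorem main {G : Type*} [Group G] [Finite G] (K M : Subgroup G) [K.Normal] [M.Normal] (hKM : K ≤ M)
    (p q r : ℕ) (hp : p.Prime) (hq : q.Prime) (hr : r.Prime) (hpq : p ≠ q) (hpr : p ≠ r) (hqr : q ≠ r)
    (hpK : p ∣ Nat.card ↥K) (hqM : q ∣ K.relIndex M) (hrG : r ∣ M.index) :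
    (∃ x : G, orderOf x = p * q) ∨ (∃ x : G, orderOf x = p * r) ∨ (∃ x : G, orderOf x = q * r) := by
  classical
  haveI := Fact.mk hp
  haveI := Fact.mk hq
  haveI := Fact.mk hr
  obtain ⟨P, hP⟩ := exists_isSylowOf p K
  have hP1 : P ≠ ⊥ := Cfsg.Agent.H19.IsSylowOf.ne_bot hP hpK
  set N := normalizer (P : Set G) with hN
  have hKN : K ⊔ N = ⊤ := frattini_sup inferInstance hP
  set M1 := M ⊓ N with hM1
  have hM : M ≤ M1 ⊔ K := by
    intro g hg
    obtain ⟨n, hn, h⟩ := frattini_elem hP (g := g)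
      (by rw [Subgroup.normalizer_eq_top_iff.mpr (inferInstance : K.Normal)]; exact Subgroup.mem_top g)
    have : g = n * (n⁻¹ * g) := by group
    rw [this]
    apply mul_mem
    · exact (le_sup_right : K ≤ M1 ⊔ K) hn
    · exact (le_sup_left : M1 ≤ M1 ⊔ K) ⟨M.mul_mem (M.inv_mem (hKM hn)) hg, h⟩
  have hM' : M = M1 ⊔ K := le_antisymm hM (sup_le inf_le_left hKM)
  have hqM1 : q ∣ Nat.card M1 := by
    rw [hM', relIndex_sup_right] at hqM
    exact hqM.trans (Subgroup.relIndex_dvd_card K M1)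
  obtain ⟨Q, hQ⟩ := exists_isSylowOf q M1
  have hQ1 : Q ≠ ⊥ := Cfsg.Agent.H19.IsSylowOf.ne_bot hQ hqM1
  set L := N ⊓ normalizer (Q : Set G) with hL
  have hNL : N ≤ M1 ⊔ L := by
    intro g hg
    have hgM1 : g ∈ normalizer (M1 : Set G) := by
      rw [mem_normalizer_iff]
      intro h
      rw [hM1, mem_inf, mem_inf]
      constructor
      · rintro ⟨h1, h2⟩
        exact ⟨(inferInstance : M.Normal).conj_mem h h1 g, N.mul_mem (N.mul_mem hg h2) (N.inv_mem hg)⟩
      · rintro ⟨h1, h2⟩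
        have h3 := (inferInstance : M.Normal).conj_mem _ h1 g⁻¹
        have h4 := N.mul_mem (N.mul_mem (N.inv_mem hg) h2) hg
        have e1 : g⁻¹ * (g * h * g⁻¹) * g⁻¹⁻¹ = h := by group
        have e2 : g⁻¹ * (g * h * g⁻¹) * g = h := by group
        rw [e1] at h3
        rw [e2] at h4
        exact ⟨h3, h4⟩
    obtain ⟨n, hn, h⟩ := frattini_elem hQ hgM1
    have : g = n * (n⁻¹ * g) := by group
    rw [this]
    apply mul_mem
    · exact (le_sup_left : M1 ≤ M1 ⊔ L) hn
    · exact (le_sup_right : L ≤ M1 ⊔ L) ⟨N.mul_mem (N.inv_mem (hn.2)) hg, h⟩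
  have hLM : L ⊔ M = ⊤ := by
    rw [eq_top_iff, ← hKN]
    apply sup_le (hKM.trans le_sup_right)
    apply hNL.trans
    exact sup_le (inf_le_left.trans le_sup_right) le_sup_left
  have hrL : r ∣ Nat.card L := by
    rw [← relIndex_top_right, ← hLM, relIndex_sup_right] at hrG
    exact hrG.trans (Subgroup.relIndex_dvd_card M L)
  obtain ⟨y0, hy0⟩ := exists_prime_orderOf_dvd_card' r hrL
  set y : G := (y0 : G) with hy
  have hyr : orderOf y = r := by rw [hy, Subgroup.orderOf_coe, hy0]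
  have hyN : y ∈ N := y0.2.1
  have hyQ : y ∈ normalizer (Q : Set G) := y0.2.2
  have hy1 : y ≠ 1 := by
    intro h
    rw [h, orderOf_one] at hyr
    exact hr.one_lt.ne hyr
  have hyr1 : y ^ r ^ 1 = 1 := by rw [pow_one, ← hyr]; exact pow_orderOf_eq_one y
  by_contra hcon
  push Not at hcon
  obtain ⟨c1, c2, c3⟩ := hcon
  -- the centre of P, as a subgroup of G
  let V : Subgroup G :=
    { carrier := {x | x ∈ P ∧ ∀ z ∈ P, z * x = x * z}
      one_mem' := ⟨P.one_mem, fun z _ => by simp⟩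
      mul_mem' := fun {a b} ha hb => ⟨P.mul_mem ha.1 hb.1, fun z hz => by
        rw [← mul_assoc, ha.2 z hz, mul_assoc, hb.2 z hz, mul_assoc]⟩
      inv_mem' := fun {a} ha => ⟨P.inv_mem ha.1, fun z hz => by
        have := (show Commute z a from ha.2 z hz).inv_right
        exact this⟩ }
  have hVP : V ≤ P := fun x hx => hx.1
  obtain ⟨v0, hv0V, hv01⟩ : ∃ v ∈ V, v ≠ 1 := by
    haveI : Nontrivial P := (Subgroup.nontrivial_iff_ne_bot P).2 hP1
    haveI : Nontrivial (center P) := hP.isPGroup.center_nontrivial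
    obtain ⟨⟨v, hv⟩, hv1⟩ := exists_ne (1 : center P)
    refine ⟨v, ⟨v.2, fun z hz => ?_⟩, ?_⟩
    · have := Subgroup.mem_center_iff.1 hv ⟨z, hz⟩
      exact congrArg Subtype.val this
    · intro h
      apply hv1
      apply Subtype.ext
      exact Subtype.ext h
  letI : CommGroup V := { (inferInstance : Group V) with
    mul_comm := fun a b => Subtype.ext ((b.2.2 a a.2.1)) }
  have hNV : N ≤ normalizer (V : Set G) := by
    have key : ∀ g ∈ N, ∀ x ∈ V, g * x * g⁻¹ ∈ V := by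
      intro g hg x hx
      refine ⟨(mem_normalizer_iff.1 hg x).1 hx.1, ?_⟩
      intro z hz
      have hz' : g⁻¹ * z * g ∈ P := by
        have := (mem_normalizer_iff.1 (N.inv_mem hg) z).1 hz
        simpa using this
      have h1 := hx.2 _ hz'
      calc z * (g * x * g⁻¹) = g * ((g⁻¹ * z * g) * x) * g⁻¹ := by group
        _ = g * (x * (g⁻¹ * z * g)) * g⁻¹ := by rw [h1]
        _ = (g * x * g⁻¹) * z := by group
    intro g hg
    rw [mem_normalizer_iff]
    intro x
    constructor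
    · exact key g hg x
    · intro h
      have := key g⁻¹ (N.inv_mem hg) _ h
      have e : g⁻¹ * (g * x * g⁻¹) * g⁻¹⁻¹ = x := by group
      rwa [e] at this
  let S := normalizer (V : Set G)
  have hQN : Q ≤ N := hQ.le.trans inf_le_right
  have hpow : ∀ a ∈ V, ∃ m, a ^ p ^ m = 1 := by
    intro a ha
    obtain ⟨m, hm⟩ := hP.isPGroup ⟨a, hVP ha⟩
    exact ⟨m, congrArg Subtype.val hm⟩
  have hQpow : ∀ x ∈ Q, ∃ n, x ^ q ^ n = 1 := by
    intro x hx
    obtain ⟨n, hn⟩ := hQ.isPGroup ⟨x, hx⟩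
    exact ⟨n, congrArg Subtype.val hn⟩
  obtain ⟨x0, hx0Q, hx01⟩ : ∃ x ∈ Q, x ≠ 1 := by
    haveI : Nontrivial Q := (Subgroup.nontrivial_iff_ne_bot Q).2 hQ1
    obtain ⟨x, hx⟩ := exists_ne (1 : Q)
    exact ⟨x, x.2, fun h => hx (Subtype.ext h)⟩
  have hfinal := frob_fixed (S := S) (A := V) V.normalizerMonoidHom (Q.subgroupOf S) ⟨y, hNV hyN⟩ hr
    (Subtype.ext (by rw [← hyr]; exact pow_orderOf_eq_one y))
    (fun x hx => (mem_normalizer_iff.1 hyQ x).1 hx)
    (fun a ha => by
      by_contra ha1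
      have h1 := ha ⟨x0, hNV (hQN hx0Q)⟩ hx0Q
      have h2 : x0 * a * x0⁻¹ = a := congrArg Subtype.val h1
      obtain ⟨m, hm⟩ := hpow a a.2
      obtain ⟨n, hn⟩ := hQpow x0 hx0Q
      obtain ⟨z, hz⟩ := exists_orderOf_mul hp hq hpq (x := (a : G)) (y := x0)
        (by rw [← mul_inv_eq_iff_eq_mul.1 h2.symm.symm]) (fun h => ha1 (Subtype.ext h)) hx01 hm hn
      exact c1 z hz)
    (fun x hx hyx => by
      by_contra hx1
      obtain ⟨n, hn⟩ := hQpow x hx
      obtain ⟨z, hz⟩ := exists_orderOf_mul hq hr hqr (x := (x : G)) (y := y)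
        (congrArg Subtype.val hyx.symm) (fun h => hx1 (Subtype.ext h)) hy1 hn hyr1
      exact c3 z hz)
    (fun a ha => by
      obtain ⟨m, hm⟩ := hpow a a.2
      obtain ⟨n, hn⟩ := hQ.isPGroup.exists_card_eq
      have e1 : Nat.card (Q.subgroupOf S) = q ^ n := by
        rw [← hn]
        exact Nat.card_congr (Subgroup.subgroupOfEquivOfLe (hQN.trans hNV)).toEquiv
      rw [e1] at ha
      have h1 : orderOf a ∣ q ^ n := orderOf_dvd_of_pow_eq_one ha
      have h2 : orderOf a ∣ p ^ m := orderOf_dvd_of_pow_eq_one (Subtype.ext hm)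
      have h3 : Nat.Coprime (q ^ n) (p ^ m) := Nat.Coprime.pow _ _ ((Nat.coprime_primes hq hp).2 hpq.symm)
      exact orderOf_eq_one_iff.1 (Nat.eq_one_of_dvd_coprimes h3 h1 h2))
    (fun a ha => by
      by_contra ha1
      have h2 : y * a * y⁻¹ = a := congrArg Subtype.val ha
      obtain ⟨m, hm⟩ := hpow a a.2
      obtain ⟨z, hz⟩ := exists_orderOf_mul hp hr hpr (x := (a : G)) (y := y)
        (by rw [← mul_inv_eq_iff_eq_mul.1 h2.symm.symm]) (fun h => ha1 (Subtype.ext h)) hy1 hm hyr1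
      exact c2 z hz)
    ⟨v0, hv0V⟩
  exact hv01 (congrArg Subtype.val hfinal)

/-- Let G be a finite group with normal subgroups K ≤ M, and let p, q, r be distinct primes with p dividing the order of K, q dividing the order of M/K and r dividing the order of G/M. Then p, q, r are not pairwise non-adjacent in the prime graph of G: G has an element of order pq, pr or qr. -/
theorem result {G : Type*} [Group G] [Finite G] (K M : Subgroup G) [K.Normal] [M.Normal] (hKM : K ≤ M)
    (p q r : ℕ) (hp : p.Prime) (hq : q.Prime) (hr : r.Prime) (hpq : p ≠ q) (hpr : p ≠ r) (hqr : q ≠ r)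
    (hpK : p ∣ Nat.card ↥K) (hqM : q ∣ Nat.card ↥M / Nat.card ↥K) (hrG : r ∣ Nat.card G / Nat.card ↥M) :
    (∃ x : G, orderOf x = p * q) ∨ (∃ x : G, orderOf x = p * r) ∨ (∃ x : G, orderOf x = q * r) := by
  apply main K M hKM p q r hp hq hr hpq hpr hqr hpK
  · have : Nat.card M = Nat.card K * K.relIndex M := (card_relIndex hKM).symm
    rw [this, Nat.mul_div_cancel_left _ Nat.card_pos] at hqM
    exact hqM
  · have : Nat.card G = Nat.card M * M.index := M.card_mul_index.symm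
    rw [this, Nat.mul_div_cancel_left _ Nat.card_pos] at hrG
    exact hrG

end Cfsg.Agent.S3634
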