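import Cfsg.Statements.S3633
import Cfsg.Agent.S3634
import Cfsg.Agent.H1.Chief

set_option autoImplicit false
set_option linter.all false
open Cfsg

namespace Cfsg.Agent.S3633

open Subgroup Cfsg.Agent.H19

section
variable {G : Type*} [Group G] [Finite G]

/-- primes of `T` dividing `|X|` -/
noncomputable def pp (T : Finset ℕ) (X : Subgroup G) : Finset ℕ := by
  classical exact T.filter (fun r => r ∣ Nat.card X)

omit [Finite G] in
theorem mem_pp {T : Finset ℕ} {X : Subgroup G} {r : ℕ} : r ∈ pp T X ↔ r ∈ T ∧ r ∣ Nat.card X := by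
  classical
  simp [pp]

omit [Finite G] in
theorem pp_mono (T : Finset ℕ) {X Y : Subgroup G} (h : X ≤ Y) : pp T X ⊆ pp T Y := by
  intro r hr
  rw [mem_pp] at hr ⊢
  exact ⟨hr.1, hr.2.trans (Subgroup.card_dvd_of_le h)⟩

theorem step (T : Finset ℕ) (hT : ∀ r ∈ T, r.Prime) (K : Subgroup G) (hK : K.Normal) (hs : Group.IsSolvable K) :
    ∀ (n : ℕ) (Z : Subgroup G), Z.Normal → Z ≤ K → Nat.card K - Nat.card Z = n → (pp T Z).card < (pp T K).card →
      ∃ Y : Subgroup G, Y.Normal ∧ Z ≤ Y ∧ Y ≤ K ∧ (pp T Y).card = (pp T Z).card + 1 := by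
  classical
  intro n
  induction n using Nat.strong_induction_on with
  | _ n ih =>
    intro Z hZ hZK hn hcard
    have hlt : Z < K := by
      refine lt_of_le_of_ne hZK ?_
      rintro rfl
      exact lt_irrefl _ hcard
    obtain ⟨A, hA, hZA, hAK, hchief⟩ := Cfsg.Agent.H1.exists_chief_above hK hlt
    have hAs : Group.IsSolvable A := Cfsg.Agent.H1.isSolvable_of_le hAK hs
    obtain ⟨-, p, hp, -, hpg⟩ := Cfsg.Agent.H1.chief_factor_solvable hZ hA hZA hchief hAs
    haveI := Fact.mk hp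
    have hle : (pp T A).card ≤ (pp T Z).card + 1 := by
      have h1 : pp T A ⊆ insert p (pp T Z) := by
        intro r hr
        rw [mem_pp] at hr
        rw [Finset.mem_insert, mem_pp]
        by_cases hrZ : r ∣ Nat.card Z
        · exact Or.inr ⟨hr.1, hrZ⟩
        · left
          obtain ⟨k, hk⟩ := hpg.exists_card_eq
          have h2 : Nat.card A = Nat.card Z * p ^ k := by
            rw [← hk, ← card_relIndex hZA.le]
            congr 1
            rw [← Subgroup.relIndex_bot_left (A.map (QuotientGroup.mk' Z)), ← Subgroup.relIndex_comap,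
              MonoidHom.comap_bot, QuotientGroup.ker_mk']
          rw [h2] at hr
          rcases ((hT r hr.1).dvd_mul).1 hr.2 with h | h
          · exact absurd h hrZ
          · exact (Nat.prime_dvd_prime_iff_eq (hT r hr.1) hp).1 ((hT r hr.1).dvd_of_dvd_pow h)
      exact (Finset.card_le_card h1).trans (Finset.card_insert_le _ _)
    have hge : (pp T Z).card ≤ (pp T A).card := Finset.card_le_card (pp_mono T hZA.le)
    by_cases heq : (pp T A).card = (pp T Z).card
    · have hcl : Nat.card Z < Nat.card A := Set.Finite.card_lt_card (Set.toFinite _) hZA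
      have hcle : Nat.card A ≤ Nat.card K := Subgroup.card_le_of_le hAK
      obtain ⟨Y, hY, hAY, hYK, hYc⟩ := ih (Nat.card K - Nat.card A) (by omega) A hA hAK rfl (by omega)
      exact ⟨Y, hY, hZA.le.trans hAY, hYK, by omega⟩
    · exact ⟨A, hA, hZA.le, hAK, by omega⟩

theorem two (ρ : Finset ℕ) (hρ : 3 ≤ ρ.card) (hc1 : ∀ r ∈ ρ, r.Prime ∧ r ∣ Nat.card G)
    (hc2 : ∀ r ∈ ρ, ∀ s ∈ ρ, r ≠ s → ¬ ∃ x : G, orderOf x = r * s)
    (K : Subgroup G) (hKn : K.Normal) (hK : Group.IsSolvable ↥K) :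
    ∀ r ∈ ρ, ∀ s ∈ ρ, r ∣ Nat.card ↥K → s ∣ Nat.card ↥K → r = s := by
  classical
  intro r hr s hs hrK hsK
  by_contra hrs
  obtain ⟨t, ht, htr⟩ : ∃ t ∈ ρ, t ∉ ({r, s} : Finset ℕ) := by
    apply Finset.exists_mem_notMem_of_card_lt_card
    calc ({r, s} : Finset ℕ).card ≤ 2 := Finset.card_le_two
      _ < ρ.card := by omega
  simp only [Finset.mem_insert, Finset.mem_singleton, not_or] at htr
  set T : Finset ℕ := {r, s, t} with hT
  have hTρ : T ⊆ ρ := by
    intro x hx
    simp only [hT, Finset.mem_insert, Finset.mem_singleton] at hx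
    rcases hx with rfl | rfl | rfl <;> assumption
  have hTp : ∀ x ∈ T, x.Prime := fun x hx => (hc1 x (hTρ hx)).1
  have hTc : T.card = 3 := by
    rw [hT, Finset.card_eq_three]
    exact ⟨r, s, t, hrs, fun h => htr.1 h.symm, fun h => htr.2 h.symm, rfl⟩
  have hbot : (pp T (⊥ : Subgroup G)).card = 0 := by
    rw [Finset.card_eq_zero, Finset.eq_empty_iff_forall_notMem]
    intro x hx
    rw [mem_pp, Subgroup.card_bot] at hx
    exact (hTp x hx.1).one_lt.ne' (Nat.dvd_one.1 hx.2)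
  have hKc : 2 ≤ (pp T K).card := by
    have h1 : ({r, s} : Finset ℕ) ⊆ pp T K := by
      intro x hx
      simp only [Finset.mem_insert, Finset.mem_singleton] at hx
      rw [mem_pp]
      rcases hx with rfl | rfl
      · exact ⟨by simp [hT], hrK⟩
      · exact ⟨by simp [hT], hsK⟩
    calc 2 = ({r, s} : Finset ℕ).card := (Finset.card_pair hrs).symm
      _ ≤ _ := Finset.card_le_card h1
  obtain ⟨X1, hX1, -, hX1K, hX1c⟩ := step T hTp K hKn hK _ ⊥ inferInstance bot_le rfl (by omega)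
  rw [hbot] at hX1c
  obtain ⟨X2, hX2, hX12, hX2K, hX2c⟩ := step T hTp K hKn hK _ X1 hX1 hX1K rfl (by omega)
  rw [hX1c] at hX2c
  obtain ⟨a, ha⟩ := Finset.card_eq_one.1 hX1c
  have ha1 : a ∈ pp T X1 := by rw [ha]; exact Finset.mem_singleton_self a
  obtain ⟨b, hb, hba⟩ : ∃ b ∈ pp T X2, b ∉ pp T X1 :=
    Finset.exists_mem_notMem_of_card_lt_card (by omega)
  obtain ⟨c, hc, hcX⟩ : ∃ c ∈ T, c ∉ pp T X2 :=
    Finset.exists_mem_notMem_of_card_lt_card (by omega)
  have ha2 := pp_mono T hX12 ha1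
  have hab : a ≠ b := fun h => hba (h ▸ ha1)
  have hac : a ≠ c := fun h => hcX (h ▸ ha2)
  have hbc : b ≠ c := fun h => hcX (h ▸ hb)
  have haT := (mem_pp.1 ha1).1
  have hbT := (mem_pp.1 hb).1
  have hbX1 : ¬ b ∣ Nat.card X1 := fun h => hba (mem_pp.2 ⟨hbT, h⟩)
  have hcX2 : ¬ c ∣ Nat.card X2 := fun h => hcX (mem_pp.2 ⟨hc, h⟩)
  have hb12 : b ∣ X1.relIndex X2 := by
    have h1 := (mem_pp.1 hb).2
    rw [← card_relIndex hX12] at h1
    exact ((hTp b hbT).dvd_mul.1 h1).resolve_left hbX1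
  have hcG : c ∣ X2.index := by
    have h1 := (hc1 c (hTρ hc)).2
    rw [← X2.card_mul_index] at h1
    exact ((hTp c hc).dvd_mul.1 h1).resolve_left hcX2
  rcases Cfsg.Agent.S3634.main X1 X2 hX12 a b c (hTp a haT) (hTp b hbT) (hTp c hc) hab hac hbc
    (mem_pp.1 ha1).2 hb12 hcG with h | h | h
  · exact hc2 a (hTρ haT) b (hTρ hbT) hab h
  · exact hc2 a (hTρ haT) c (hTρ hc) hac h
  · exact hc2 b (hTρ hbT) c (hTρ hc) hbc h

end

/-- Let G be a finite group and ρ a set of at least three prime divisors of the order of G that are pairwise non-adjacent in the prime graph (no element of order rs for distinct r, s ∈ ρ). Then at most one prime of ρ divides the order of any given solvable normal subgroup of G; in particular G is not solvable. -/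
theorem result {G : Type*} [Group G] [Finite G] (ρ : Finset ℕ) (hρ : 3 ≤ ρ.card) (hc : ((∀ r ∈ ρ, r.Prime ∧ r ∣ Nat.card G) ∧ (∀ r ∈ ρ, ∀ s ∈ ρ, r ≠ s → ¬ ∃ x : G, orderOf x = r * s)))
    (K : Subgroup G) [K.Normal] (hK : Group.IsSolvable ↥K) :
    (∀ r ∈ ρ, ∀ s ∈ ρ, r ∣ Nat.card ↥K → s ∣ Nat.card ↥K → r = s) ∧ ¬ Group.IsSolvable G := by
  refine ⟨two ρ hρ hc.1 hc.2 K inferInstance hK, ?_⟩
  intro hG
  have hs : Group.IsSolvable (⊤ : Subgroup G) := Group.isSolvable_of_isSolvable_injective (Subgroup.subtype_injective ⊤)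
  have h1 := two ρ hρ hc.1 hc.2 ⊤ inferInstance hs
  obtain ⟨a, ha, b, hb, hab⟩ := Finset.one_lt_card.1 (by omega : 1 < ρ.card)
  apply hab
  apply h1 a ha b hb
  · rw [Subgroup.card_top]; exact (hc.1 a ha).2
  · rw [Subgroup.card_top]; exact (hc.1 b hb).2

end Cfsg.Agent.S3633
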