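import Cfsg.Statements.S3807
import Cfsg.Agent.H23.PGroup3

set_option autoImplicit false
set_option linter.all false
open Cfsg

namespace Cfsg.Agent.S3807

section aux
open Subgroup
open scoped Pointwise commutatorElement

theorem card_subgroups_prime {Q : Type*} [Group Q] [Finite Q] {p : ℕ} [Fact p.Prime]
    (hQ : Nat.card Q = p ^ 2) (hexp : ∀ x : Q, x ^ p = 1) :
    Nat.card {K : Subgroup Q // Nat.card K = p} = p + 1 := by
  classical
  have hpp := (Fact.out : p.Prime)
  haveI : Fintype Q := Fintype.ofFinite Q
  haveI : Fintype (Subgroup Q) := Fintype.ofFinite _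
  have hz : ∀ x : Q, x ≠ 1 → Nat.card (zpowers x) = p := by
    intro x hx
    rw [Nat.card_zpowers]; exact orderOf_eq_prime (hexp x) hx
  -- unique subgroup containing x
  have huniq : ∀ (x : Q) (hx : x ≠ 1) (K : Subgroup Q), Nat.card K = p → x ∈ K → K = zpowers x := by
    intro x hx K hK hxK
    symm
    apply eq_of_le_of_card_ge (zpowers_le.mpr hxK)
    rw [hK, hz x hx]
  let T : Finset Q := Finset.univ.filter fun x => x ≠ 1
  let 𝒦 : Finset (Subgroup Q) := Finset.univ.filter fun K => Nat.card K = p
  have hcard : T.card = ∑ K ∈ 𝒦, (T.filter fun x => zpowers x = K).card := by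
    apply Finset.card_eq_sum_card_fiberwise
    intro x hx
    have hx' : x ≠ 1 := by simpa [T] using hx
    simp only [𝒦, Finset.coe_filter, Finset.mem_univ, true_and, Set.mem_setOf_eq]
    exact hz x hx'
  have hfib : ∀ K ∈ 𝒦, (T.filter fun x => zpowers x = K).card = p - 1 := by
    intro K hK
    have hK' : Nat.card K = p := by simpa [𝒦] using hK
    have h1 : (T.filter fun x => zpowers x = K) = (Finset.univ.filter fun x => x ∈ K).erase 1 := by
      ext x
      simp only [T, Finset.mem_filter, Finset.mem_univ, true_and, Finset.mem_erase]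
      constructor
      · rintro ⟨h1, h2⟩
        exact ⟨h1, h2 ▸ mem_zpowers x⟩
      · rintro ⟨h1, h2⟩
        exact ⟨h1, (huniq x h1 K hK' h2).symm⟩
    rw [h1, Finset.card_erase_of_mem (by simp [one_mem K]), ← Fintype.card_subtype,
      ← Nat.card_eq_fintype_card]
    show Nat.card K - 1 = p - 1
    rw [hK']
  rw [Finset.sum_congr rfl hfib, Finset.sum_const, smul_eq_mul] at hcard
  have hT : T.card = p ^ 2 - 1 := by
    have : T = Finset.univ.erase 1 := by ext x; simp [T]
    rw [this, Finset.card_erase_of_mem (Finset.mem_univ _), Finset.card_univ,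
      ← Nat.card_eq_fintype_card, hQ]
  have h𝒦 : 𝒦.card = Nat.card {K : Subgroup Q // Nat.card K = p} := by
    rw [Nat.card_eq_fintype_card, Fintype.card_subtype]
  rw [hT, h𝒦] at hcard
  have h2 : p ^ 2 - 1 = (p + 1) * (p - 1) := by
    have := Nat.sq_sub_sq p 1
    simpa using this
  rw [h2] at hcard
  exact (Nat.eq_of_mul_eq_mul_right (Nat.sub_pos_of_lt hpp.one_lt) hcard).symm

theorem aux {S : Type*} [Group S] [Finite S] (p : ℕ) [Fact p.Prime] (hS : IsPGroup p S) (hna : ¬ IsMulCommutative S)
    (A : Subgroup S) (hA : IsMulCommutative ↥A) (hAi : A.index = p) :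
    (Subgroup.center S).index = p * Nat.card (commutator S) ∧
      ((Nat.card (commutator S) = p ∧ Cfsg.IsElementaryAbelian p (⊤ : Subgroup (S ⧸ Subgroup.center S)) ∧
          Nat.card (S ⧸ Subgroup.center S) = p ^ 2 ∧
          Nat.card {B : Subgroup S // IsMulCommutative ↥B ∧ B.index = p} = p + 1) ∨
        (p ^ 2 ≤ Nat.card (commutator S) ∧ ∀ B : Subgroup S, IsMulCommutative ↥B → B.index = p → B = A)) := by
  classical
  have hpp := (Fact.out : p.Prime)
  haveI hAn : A.Normal := H23.normal_of_index_prime hS hAi
  have hmax : ∀ (B : Subgroup S), B.index = p → ∀ x, x ∉ B → B ⊔ zpowers x = ⊤ := by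
    intro B hB x hx
    apply H23.eq_top_of_lt_of_index_prime hB
    refine lt_of_le_of_ne le_sup_left fun h => hx ?_
    rw [h]; exact mem_sup_right (mem_zpowers x)
  have htopc : ∀ T : Subgroup S, T = ⊤ → ¬ IsMulCommutative T := by
    rintro T rfl hT
    apply hna
    exact ⟨⟨fun a b => congrArg Subtype.val (hT.is_comm.comm (⟨a, mem_top a⟩ : (⊤ : Subgroup S)) ⟨b, mem_top b⟩)⟩⟩
  have hZB : ∀ B : Subgroup S, IsMulCommutative B → B.index = p → center S ≤ B := by
    intro B hB hBi z hz
    by_contra hzB
    apply htopc _ (hmax B hBi z hzB)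
    apply H23.isMulCommutative_sup_zpowers hB
    rw [mem_centralizer_iff]
    intro b _
    exact mem_center_iff.mp hz b
  obtain ⟨s, hs⟩ : ∃ s, s ∉ A := by
    by_contra h; push Not at h
    have : A = ⊤ := eq_top_iff.mpr fun y _ => h y
    exact htopc A this hA
  have hstop := hmax A hAi s hs
  have hcommA : ∀ a ∈ A, ∀ b ∈ A, a * b = b * a := by
    intro a ha b hb
    exact congrArg Subtype.val (hA.is_comm.comm (⟨a, ha⟩ : A) ⟨b, hb⟩)
  have hmemA : ∀ a ∈ A, ⁅a, s⁆ ∈ A := by
    intro a ha
    have h1 : ⁅a, s⁆ = a * (s * a⁻¹ * s⁻¹) := by rw [commutatorElement_def]; group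
    rw [h1]
    exact mul_mem ha (hAn.conj_mem _ (inv_mem ha) s)
  let φ : A →* S :=
    { toFun := fun a => ⁅(a : S), s⁆
      map_one' := commutatorElement_one_left s
      map_mul' := by
        intro a b
        show ⁅(a : S) * b, s⁆ = ⁅(a : S), s⁆ * ⁅(b : S), s⁆
        rw [commutatorElement_mul_left_eq_conj_mul, hcommA _ a.2 _ (hmemA b b.2), mul_inv_cancel_right]
        exact hcommA _ (hmemA b b.2) _ (hmemA a a.2) }
  have hφ : ∀ a : A, φ a = ⁅(a : S), s⁆ := fun _ => rfl
  have hker : φ.ker.map A.subtype = center S := by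
    apply le_antisymm
    · rintro _ ⟨a, ha, rfl⟩
      have h1 : (a : S) * s = s * a := commutatorElement_eq_one_iff_mul_comm.mp ha
      rw [mem_center_iff]
      have h2 : (⊤ : Subgroup S) ≤ centralizer ({(a : S)} : Set S) := by
        rw [← hstop]
        refine sup_le ?_ ?_
        · intro b hb
          rw [mem_centralizer_singleton_iff]
          exact hcommA b hb a a.2
        · rw [zpowers_le, mem_centralizer_singleton_iff]; exact h1.symm
      intro g
      exact mem_centralizer_singleton_iff.mp (h2 (mem_top g))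
    · intro z hz
      refine ⟨⟨z, hZB A hA hAi hz⟩, ?_, rfl⟩
      show ⁅z, s⁆ = 1
      rw [commutatorElement_eq_one_iff_mul_comm]
      exact (mem_center_iff.mp hz s).symm
  have hrange : φ.range = commutator S := by
    apply le_antisymm
    · rintro _ ⟨a, rfl⟩
      exact commutator_mem_commutator (mem_top _) (mem_top _)
    · have hTn : φ.range.Normal := by
        rw [← Subgroup.normalizer_eq_top_iff, eq_top_iff, ← hstop]
        refine sup_le ?_ ?_
        · refine H23.le_normalizer_of_conj_mem ?_
          rintro b hb _ ⟨a, rfl⟩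
          refine ⟨a, ?_⟩
          rw [hφ, hcommA b hb _ (hmemA a a.2), mul_inv_cancel_right]
        · rw [zpowers_le]
          have h1 : zpowers s ≤ normalizer (φ.range : Set S) := by
            refine H23.le_normalizer_of_conj_mem ?_
            rintro _ ⟨k, rfl⟩ _ ⟨a, rfl⟩
            refine ⟨⟨s ^ k * a * (s ^ k)⁻¹, hAn.conj_mem _ a.2 _⟩, ?_⟩
            show ⁅s ^ k * (a : S) * (s ^ k)⁻¹, s⁆ = s ^ k * ⁅(a : S), s⁆ * (s ^ k)⁻¹
            have h2 : s = s ^ k * s * (s ^ k)⁻¹ := by
              rw [← zpow_add_one, ← zpow_neg, ← zpow_add]; simp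
            rw [conjugate_commutatorElement, ← h2]
          exact h1 (mem_zpowers s)
      haveI := hTn
      rw [← Subgroup.Normal.quotient_commutative_iff_commutator_le]
      have h1 : IsMulCommutative (A.map (QuotientGroup.mk' φ.range) ⊔
          zpowers (QuotientGroup.mk' φ.range s) : Subgroup (S ⧸ φ.range)) := by
        apply H23.isMulCommutative_sup_zpowers
        · refine ⟨⟨?_⟩⟩
          rintro ⟨_, a, ha, rfl⟩ ⟨_, b, hb, rfl⟩
          apply Subtype.ext
          show (QuotientGroup.mk' φ.range) a * (QuotientGroup.mk' φ.range) b = _ * _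
          rw [← map_mul, hcommA a ha b hb, map_mul]
        · rw [mem_centralizer_iff]
          rintro _ ⟨a, ha, rfl⟩
          rw [← commutatorElement_eq_one_iff_mul_comm, ← map_commutatorElement]
          exact (QuotientGroup.eq_one_iff _).mpr ⟨⟨a, ha⟩, rfl⟩
      rw [← MonoidHom.map_zpowers, ← Subgroup.map_sup, hstop,
        Subgroup.map_top_of_surjective _ (QuotientGroup.mk'_surjective _)] at h1
      exact ⟨⟨fun a b => congrArg Subtype.val (h1.is_comm.comm (⟨a, mem_top a⟩ : (⊤ : Subgroup (S ⧸ φ.range))) ⟨b, mem_top b⟩)⟩⟩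
  have hcardA : Nat.card A = Nat.card (center S) * Nat.card (commutator S) := by
    rw [← hker, H1.card_map_subtype, ← hrange, ← φ.ker.card_mul_index, Subgroup.index_ker]
  have hidx : (center S).index = p * Nat.card (commutator S) := by
    have h1 := (center S).card_mul_index
    have h2 := A.card_mul_index
    rw [hAi, hcardA] at h2
    have h3 : Nat.card (center S) * (center S).index = Nat.card (center S) * (p * Nat.card (commutator S)) := by
      rw [h1, ← h2]; ring
    exact Nat.eq_of_mul_eq_mul_left Nat.card_pos h3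
  refine ⟨hidx, ?_⟩
  have hcne : commutator S ≠ ⊥ := by
    intro h
    apply hna
    rw [_root_.commutator_def, commutator_eq_bot_iff_le_centralizer, coe_top, centralizer_univ] at h
    exact ⟨⟨fun a b => (mem_center_iff.mp (h (mem_top b)) a)⟩⟩
  obtain ⟨c, hc⟩ := IsPGroup.iff_card.mp (hS.to_subgroup (commutator S))
  have hc0 : c ≠ 0 := by
    rintro rfl
    rw [pow_zero] at hc; exact hcne (Subgroup.card_eq_one.mp hc)
  by_cases hc1 : c = 1
  · left
    subst hc1
    rw [pow_one] at hc
    have hQcard : Nat.card (S ⧸ center S) = p ^ 2 := by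
      rw [← Subgroup.index_eq_card, hidx, hc]; ring
    have hQcomm : ∀ a b : S ⧸ center S, a * b = b * a := by
      have := IsPGroup.isMulCommutative_of_card_eq_prime_sq (p := p) hQcard
      exact fun a b => this.is_comm.comm a b
    have hncyc : ¬ IsCyclic (S ⧸ center S) := by
      intro h
      apply hna
      exact ⟨⟨fun a b => commutative_of_cyclic_center_quotient (QuotientGroup.mk' (center S))
        (by rw [QuotientGroup.ker_mk']) a b⟩⟩
    have hexp : ∀ x : S ⧸ center S, x ^ p = 1 := by
      intro x
      have h1 : orderOf x ∣ p ^ 2 := hQcard ▸ orderOf_dvd_natCard x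
      obtain ⟨k, hk, hk2⟩ := (Nat.dvd_prime_pow hpp).mp h1
      have h3 : k ≠ 2 := by
        rintro rfl
        exact hncyc (isCyclic_of_orderOf_eq_card x (by rw [hk2, hQcard]))
      rw [← orderOf_dvd_iff_pow_eq_one, hk2]
      interval_cases k
      · simp
      · simp
      · exact absurd rfl h3
    refine ⟨hc, ⟨⟨⟨fun a b => Subtype.ext (hQcomm a b)⟩⟩, fun a _ => hexp a⟩, hQcard, ?_⟩
    rw [← card_subgroups_prime hQcard hexp]
    apply Nat.card_congr
    have hZpos : 0 < Nat.card (center S) := Nat.card_pos
    have hScard : Nat.card S = Nat.card (center S) * p ^ 2 := by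
      rw [← (center S).card_mul_index, hidx, hc, pow_two]
    refine
      { toFun := fun B => ⟨(B : Subgroup S).map (QuotientGroup.mk' (center S)), ?_⟩
        invFun := fun K => ⟨(K : Subgroup (S ⧸ center S)).comap (QuotientGroup.mk' (center S)), ?_, ?_⟩
        left_inv := ?_
        right_inv := ?_ }
    · have hZ := hZB B B.2.1 B.2.2
      have h1 := H1.card_map_mk'_mul (center S) (B : Subgroup S)
      rw [inf_of_le_right hZ] at h1
      have h2 := (B : Subgroup S).card_mul_index
      rw [B.2.2, hScard, ← h1] at h2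
      have h3 : (Nat.card (center S) * p) * Nat.card ((B : Subgroup S).map (QuotientGroup.mk' (center S))) =
          (Nat.card (center S) * p) * p := by
        calc _ = Nat.card (center S) * Nat.card ((B : Subgroup S).map (QuotientGroup.mk' (center S))) * p := by ring
          _ = _ := by rw [h2]; ring
      exact Nat.eq_of_mul_eq_mul_left (Nat.mul_pos hZpos hpp.pos) h3
    · -- commutative
      have h0 := H1.card_map_mk'_mul (center S) ((K : Subgroup (S ⧸ center S)).comap (QuotientGroup.mk' (center S)))
      have hZK : center S ≤ (K : Subgroup (S ⧸ center S)).comap (QuotientGroup.mk' (center S)) := by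
        intro z hz
        rw [mem_comap, show (QuotientGroup.mk' (center S)) z = 1 from (QuotientGroup.eq_one_iff z).mpr hz]
        exact one_mem _
      apply H23.isMulCommutative_of_relIndex_le (p := p) (hS.to_subgroup _) hZK
      · rw [Subgroup.le_centralizer_iff]
        exact center_le_centralizer _
      · rw [inf_of_le_right hZK, Subgroup.map_comap_eq_self_of_surjective (QuotientGroup.mk'_surjective _), K.2] at h0
        have h1 := H1.card_mul_relIndex hZK
        rw [← h0] at h1
        exact (Nat.eq_of_mul_eq_mul_left hZpos h1).le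
    · -- index
      rw [Subgroup.index_comap_of_surjective _ (QuotientGroup.mk'_surjective _)]
      have h1 := (K : Subgroup (S ⧸ center S)).card_mul_index
      rw [K.2, hQcard, pow_two] at h1
      exact Nat.eq_of_mul_eq_mul_left hpp.pos h1
    · intro B
      apply Subtype.ext
      show ((B : Subgroup S).map (QuotientGroup.mk' (center S))).comap (QuotientGroup.mk' (center S)) = B
      rw [Subgroup.comap_map_eq, QuotientGroup.ker_mk', sup_eq_left]
      exact hZB B B.2.1 B.2.2
    · intro K
      apply Subtype.ext
      exact Subgroup.map_comap_eq_self_of_surjective (QuotientGroup.mk'_surjective _) _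
  · right
    have hc2 : 2 ≤ c := by omega
    refine ⟨by rw [hc]; exact Nat.pow_le_pow_right hpp.pos hc2, ?_⟩
    intro B hB hBi
    by_contra hne
    haveI hBn : B.Normal := H23.normal_of_index_prime hS hBi
    have hAB : A ⊔ B = ⊤ := by
      apply H23.eq_top_of_lt_of_index_prime hAi
      refine lt_of_le_of_ne le_sup_left fun h => hne ?_
      have hBA : B ≤ A := by rw [h]; exact le_sup_right
      apply eq_of_le_of_card_ge hBA
      have e1 := A.card_mul_index
      have e2 := B.card_mul_index
      rw [hAi] at e1; rw [hBi] at e2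
      have : Nat.card A * p = Nat.card B * p := by rw [e1, e2]
      exact (Nat.eq_of_mul_eq_mul_right hpp.pos this).le
    have hinf : A ⊓ B ≤ center S := by
      intro x hx
      obtain ⟨hxA, hxB⟩ := mem_inf.mp hx
      have h2 : (⊤ : Subgroup S) ≤ centralizer ({x} : Set S) := by
        rw [← hAB]
        refine sup_le ?_ ?_
        · intro b hb
          rw [mem_centralizer_singleton_iff]
          exact hcommA b hb x hxA
        · intro b hb
          rw [mem_centralizer_singleton_iff]
          exact congrArg Subtype.val (hB.is_comm.comm (⟨b, hb⟩ : B) ⟨x, hxB⟩)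
      rw [mem_center_iff]
      intro g
      exact mem_centralizer_singleton_iff.mp (h2 (mem_top g))
    have h1 : (center S).index ≤ (A ⊓ B).index :=
      Nat.le_of_dvd (Nat.pos_of_ne_zero (Subgroup.index_ne_zero_of_finite)) (Subgroup.index_dvd_of_le hinf)
    have h2 : (A ⊓ B).index ≤ p * p := by
      have h9 := @Subgroup.index_inf_le _ _ A B
      rwa [hAi, hBi] at h9
    rw [hidx, hc] at h1
    have h3 : p * p ^ c ≤ p * p := h1.trans h2
    have h4 : p ^ c ≤ p ^ 1 := by rw [pow_one]; exact Nat.le_of_mul_le_mul_left h3 hpp.pos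
    have := (Nat.pow_le_pow_iff_right hpp.one_lt).mp h4
    omega

end aux

/-- Let S be a non-abelian finite p-group with an abelian subgroup A of index p. Then [S : Z(S)] = p·#[S,S], and either [S,S] has order p, S/Z(S) is elementary abelian of order p², and S has exactly p + 1 abelian subgroups of index p; or [S,S] has order at least p² and A is the only abelian subgroup of index p in S. -/
theorem result {S : Type*} [Group S] [Finite S] (p : ℕ) [Fact p.Prime] (hS : IsPGroup p S) (hna : ¬ IsMulCommutative S)
    (A : Subgroup S) (hA : IsMulCommutative ↥A) (hAi : A.index = p) :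
    (Subgroup.center S).index = p * Nat.card (commutator S) ∧
      ((Nat.card (commutator S) = p ∧ Cfsg.IsElementaryAbelian p (⊤ : Subgroup (S ⧸ Subgroup.center S)) ∧
          Nat.card (S ⧸ Subgroup.center S) = p ^ 2 ∧
          Nat.card {B : Subgroup S // IsMulCommutative ↥B ∧ B.index = p} = p + 1) ∨
        (p ^ 2 ≤ Nat.card (commutator S) ∧ ∀ B : Subgroup S, IsMulCommutative ↥B → B.index = p → B = A)) := by
  exact aux p hS hna A hA hAi

end Cfsg.Agent.S3807
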