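import Cfsg.Statements.S3808
import Cfsg.Agent.H23.PGroup2

set_option autoImplicit false
set_option linter.all false
open Cfsg

namespace Cfsg.Agent.S3808

section aux
open Subgroup
open scoped Pointwise commutatorElement

theorem aux {S : Type*} [Group S] [Finite S] (p : ℕ) [Fact p.Prime] (hS : IsPGroup p S) (Q : Subgroup S) (hQ : Cfsg.IsExtraspecial p ↥Q) (hQi : Q.index = p) :
    Subgroup.center S = (Subgroup.center ↥Q).map Q.subtype ∨
      (Q ⊔ Subgroup.center S = ⊤ ∧ Nat.card (Subgroup.center S) = p ^ 2) := by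
  have hpp := (Fact.out : p.Prime)
  haveI hQn : Q.Normal := H23.normal_of_index_prime hS hQi
  set Z' : Subgroup S := (center Q).map Q.subtype with hZ'
  haveI : Z'.Normal := inferInstance
  have hZc : Nat.card Z' = p := by rw [hZ', H1.card_map_subtype]; exact hQ.2
  have hZle : Z' ≤ center S := H23.le_center_of_card_le hS hZc.le
  have hinf : Q ⊓ center S = Z' := by
    apply le_antisymm
    · intro x hx
      obtain ⟨hxQ, hxZ⟩ := mem_inf.mp hx
      refine ⟨⟨x, hxQ⟩, ?_, rfl⟩
      rw [SetLike.mem_coe, mem_center_iff]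
      intro g
      exact Subtype.ext (mem_center_iff.mp hxZ g)
    · exact le_inf (map_subtype_le _) hZle
  by_cases h : center S ≤ Q
  · left
    rw [← hinf]; exact (inf_eq_right.mpr h).symm
  · right
    have htop : Q ⊔ center S = ⊤ := by
      apply H23.eq_top_of_lt_of_index_prime hQi
      refine lt_of_le_of_ne le_sup_left fun heq => h ?_
      rw [heq]; exact le_sup_right
    refine ⟨htop, ?_⟩
    have h1 := H2.card_sup_mul_card_inf Q (center S)
    rw [htop, hinf, hZc, Subgroup.card_top, ← Q.card_mul_index, hQi] at h1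
    have h2 : Nat.card Q * (p ^ 2) = Nat.card Q * Nat.card (center S) := by
      rw [← h1]; ring
    exact (Nat.eq_of_mul_eq_mul_left Nat.card_pos h2).symm

end aux

/-- Let S be a finite p-group with an extraspecial subgroup Q of index p. Then either Z(S) = Z(Q), or S = Q·Z(S) and Z(S) has order p². -/
theorem result {S : Type*} [Group S] [Finite S] (p : ℕ) [Fact p.Prime] (hS : IsPGroup p S) (Q : Subgroup S) (hQ : Cfsg.IsExtraspecial p ↥Q) (hQi : Q.index = p) :
    Subgroup.center S = (Subgroup.center ↥Q).map Q.subtype ∨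
      (Q ⊔ Subgroup.center S = ⊤ ∧ Nat.card (Subgroup.center S) = p ^ 2) := by
  exact aux p hS Q hQ hQi

end Cfsg.Agent.S3808
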