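import Cfsg.Statements.S3809
import Cfsg.Agent.H23.PGroup2

set_option autoImplicit false
set_option linter.all false
open Cfsg

namespace Cfsg.Agent.S3809

section aux
open Subgroup
open scoped Pointwise commutatorElement

theorem aux {S : Type*} [Group S] [Finite S] (p : ℕ) [Fact p.Prime] (hS : IsPGroup p S) (Q : Subgroup S) (hQ : Cfsg.IsExtraspecial p ↥Q) (hQi : Q.index = p) :
    (∃ n : ℕ, 1 ≤ n ∧ Nat.card S = p ^ (2 + 2 * n)) ∧ derivedSeries S 3 = ⊥ ∧ ∀ x : S, x ^ (p ^ 3) = 1 := by
  have hpp := (Fact.out : p.Prime)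
  haveI hQn : Q.Normal := H23.normal_of_index_prime hS hQi
  obtain ⟨n, hn, hcard⟩ := H23.card_of_isExtraspecial hQ
  refine ⟨⟨n, hn, ?_⟩, ?_, ?_⟩
  · rw [← Q.card_mul_index, hQi, hcard, ← pow_succ]; congr 1; ring
  · have h1 : derivedSeries S 1 ≤ Q := by
      rw [derivedSeries_one]
      exact H2.commutator_le_of_index_prime hQi
    have h2 : derivedSeries S 2 ≤ (center Q).map Q.subtype := by
      rw [derivedSeries_succ]
      refine (commutator_mono h1 h1).trans ?_
      rw [← map_subtype_commutator, hQ.1.2.2]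
    rw [derivedSeries_succ, eq_bot_iff]
    refine (commutator_mono h2 h2).trans ?_
    rw [← map_commutator]
    have h3 : ⁅center Q, center Q⁆ = ⊥ := by
      rw [commutator_eq_bot_iff_le_centralizer]
      exact center_le_centralizer _
    rw [h3, Subgroup.map_bot]
  · intro x
    have h1 : x ^ p ∈ Q := by rw [← hQi]; exact Subgroup.pow_index_mem Q x
    have h2 : (⟨x ^ p, h1⟩ : Q) ^ p ∈ center Q := by
      rw [← hQ.1.2.1]; exact H2.pow_mem_frattini hQ.1.1 _
    have h3 : ((⟨x ^ p, h1⟩ : Q) ^ p) ^ p = 1 := by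
      have := pow_card_eq_one' (x := (⟨_, h2⟩ : center Q))
      rw [hQ.2] at this
      exact congrArg Subtype.val this
    have h4 : ((x ^ p) ^ p) ^ p = 1 := congrArg Subtype.val h3
    rw [pow_succ, pow_mul, pow_two, pow_mul]
    exact h4

end aux

/-- Let S be a finite p-group with an extraspecial subgroup of index p. Then S has order p^(2+2n) for some n ≥ 1, derived length at most 3, and exponent dividing p³. -/
theorem result {S : Type*} [Group S] [Finite S] (p : ℕ) [Fact p.Prime] (hS : IsPGroup p S) (Q : Subgroup S) (hQ : Cfsg.IsExtraspecial p ↥Q) (hQi : Q.index = p) :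
    (∃ n : ℕ, 1 ≤ n ∧ Nat.card S = p ^ (2 + 2 * n)) ∧ derivedSeries S 3 = ⊥ ∧ ∀ x : S, x ^ (p ^ 3) = 1 := by
  exact aux p hS Q hQ hQi

end Cfsg.Agent.S3809
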