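import Cfsg.Statements.S3810
import Cfsg.Agent.H23.PGroup3

set_option autoImplicit false
set_option linter.all false
open Cfsg

namespace Cfsg.Agent.S3810

section aux
open Subgroup
open scoped Pointwise commutatorElement

theorem aux {S : Type*} [Group S] [Finite S] (p : ℕ) [Fact p.Prime] (hS : IsPGroup p S) (Q : Subgroup S) (hQ : Cfsg.IsExtraspecial p ↥Q) (hQi : Q.index = p) :
    (∃ A : Subgroup S, IsMulCommutative ↥A ∧ A.index = p) ↔ Nat.card S = p ^ 4 := by
  have hpp := (Fact.out : p.Prime)
  haveI hQn : Q.Normal := H23.normal_of_index_prime hS hQi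
  obtain ⟨n, hn, hcard⟩ := H23.card_of_isExtraspecial hQ
  have hScard : Nat.card S = p ^ (2 * n + 2) := by
    rw [← Q.card_mul_index, hQi, hcard, ← pow_succ]
  constructor
  · rintro ⟨A, hA, hAi⟩
    set B : Subgroup Q := A.subgroupOf Q with hB
    have hBc : IsMulCommutative B := ⟨⟨fun x y => by
      have h1 := hA.is_comm.comm (⟨((x : Q) : S), x.2⟩ : A) ⟨((y : Q) : S), y.2⟩
      have h2 : ((x : Q) : S) * ((y : Q) : S) = ((y : Q) : S) * ((x : Q) : S) := congrArg Subtype.val h1
      exact Subtype.ext (Subtype.ext h2)⟩⟩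
    have hBC : B ≤ centralizer (B : Set Q) := H23.isMulCommutative_iff_le_centralizer.mp hBc
    have h1 := H13.card_centralizer_mul hQ.1.1 hQ.1.2.2.le hQ.2 B
    have h2 : Nat.card B ≤ Nat.card (centralizer (B : Set Q)) :=
      Nat.le_of_dvd Nat.card_pos (card_dvd_of_le hBC)
    have h3 : Nat.card (center Q ⊓ B : Subgroup Q) ≤ p := by
      rw [← hQ.2]; exact Nat.le_of_dvd Nat.card_pos (card_dvd_of_le inf_le_left)
    have h4 : Nat.card B * Nat.card B ≤ Nat.card Q * p := by
      calc Nat.card B * Nat.card B ≤ Nat.card (centralizer (B : Set Q)) * Nat.card B :=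
            Nat.mul_le_mul_right _ h2
        _ = Nat.card Q * Nat.card (center Q ⊓ B : Subgroup Q) := h1
        _ ≤ Nat.card Q * p := Nat.mul_le_mul_left _ h3
    have h5 : B.index ≤ p := by
      have : B.index ∣ A.index := by
        haveI : A.Normal := H23.normal_of_index_prime hS hAi
        exact Subgroup.relIndex_dvd_index_of_normal A Q
      rw [hAi] at this
      exact Nat.le_of_dvd hpp.pos this
    have h6 := B.card_mul_index
    have h7 : Nat.card Q ≤ Nat.card B * p := by
      rw [← h6]; exact Nat.mul_le_mul_left _ h5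
    have h8 : Nat.card Q * Nat.card Q ≤ Nat.card Q * p ^ 3 := by
      calc Nat.card Q * Nat.card Q ≤ (Nat.card B * p) * (Nat.card B * p) := Nat.mul_le_mul h7 h7
        _ = (Nat.card B * Nat.card B) * p ^ 2 := by ring
        _ ≤ (Nat.card Q * p) * p ^ 2 := Nat.mul_le_mul_right _ h4
        _ = Nat.card Q * p ^ 3 := by ring
    have h9 : Nat.card Q ≤ p ^ 3 := Nat.le_of_mul_le_mul_left h8 Nat.card_pos
    rw [hcard] at h9
    have h10 := (Nat.pow_le_pow_iff_right hpp.one_lt).mp h9
    rw [hScard]; congr 1; omega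
  · intro h
    exact H23.exists_abelian_of_card_eq h

end aux

/-- Let S be a finite p-group with an extraspecial subgroup of index p. Then S has an abelian subgroup of index p if and only if S has order p⁴. -/
theorem result {S : Type*} [Group S] [Finite S] (p : ℕ) [Fact p.Prime] (hS : IsPGroup p S) (Q : Subgroup S) (hQ : Cfsg.IsExtraspecial p ↥Q) (hQi : Q.index = p) :
    (∃ A : Subgroup S, IsMulCommutative ↥A ∧ A.index = p) ↔ Nat.card S = p ^ 4 := by
  exact aux p hS Q hQ hQi

end Cfsg.Agent.S3810
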