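import Cfsg.Statements.S3811
import Cfsg.Agent.H1.Chief
import Cfsg.Agent.H1.Hall

set_option autoImplicit false
set_option linter.all false
open Cfsg

namespace Cfsg.Agent.S3811

open Subgroup
open scoped Pointwise
open Cfsg.Agent.H1
universe u

section
variable {P : Type u} [Group P]

/-- elements normalizing `R` and commuting with `S` modulo `R` -/
def cmod (R : Subgroup P) (S : Set P) : Subgroup P where
  carrier := {x | x ∈ normalizer (R : Set P) ∧ ∀ s ∈ S, x * s * x⁻¹ * s⁻¹ ∈ R}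
  one_mem' := ⟨one_mem _, fun s _ => by simp⟩
  mul_mem' := by
    rintro a b ⟨ha, ha'⟩ ⟨hb, hb'⟩
    refine ⟨mul_mem ha hb, fun s hs => ?_⟩
    have h1 := (Subgroup.mem_normalizer_iff.mp ha (b * s * b⁻¹ * s⁻¹)).mp (hb' s hs)
    have h2 := mul_mem h1 (ha' s hs)
    have h3 : a * (b * s * b⁻¹ * s⁻¹) * a⁻¹ * (a * s * a⁻¹ * s⁻¹) = a * b * s * (a * b)⁻¹ * s⁻¹ := by group
    rwa [h3] at h2
  inv_mem' := by
    rintro a ⟨ha, ha'⟩
    refine ⟨inv_mem ha, fun s hs => ?_⟩
    have h1 := (Subgroup.mem_normalizer_iff.mp (inv_mem ha) ((a * s * a⁻¹ * s⁻¹)⁻¹)).mp (inv_mem (ha' s hs))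
    have h3 : a⁻¹ * (a * s * a⁻¹ * s⁻¹)⁻¹ * a⁻¹⁻¹ = a⁻¹ * s * a⁻¹⁻¹ * s⁻¹ := by group
    rwa [h3] at h1

theorem mem_cmod {R : Subgroup P} {S : Set P} {x : P} :
    x ∈ cmod R S ↔ x ∈ normalizer (R : Set P) ∧ ∀ s ∈ S, x * s * x⁻¹ * s⁻¹ ∈ R := Iff.rfl

theorem comm_symm {R : Subgroup P} {x s : P} (h : x * s * x⁻¹ * s⁻¹ ∈ R) : s * x * s⁻¹ * x⁻¹ ∈ R := by
  have h1 := inv_mem h
  have h2 : (x * s * x⁻¹ * s⁻¹)⁻¹ = s * x * s⁻¹ * x⁻¹ := by group
  rwa [h2] at h1

theorem comm_conj {R : Subgroup P} {g x s : P} (hg : g ∈ normalizer (R : Set P)) (h : x * s * x⁻¹ * s⁻¹ ∈ R) :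
    (g * x * g⁻¹) * (g * s * g⁻¹) * (g * x * g⁻¹)⁻¹ * (g * s * g⁻¹)⁻¹ ∈ R := by
  have h1 := (Subgroup.mem_normalizer_iff.mp hg _).mp h
  have h2 : g * (x * s * x⁻¹ * s⁻¹) * g⁻¹ = (g * x * g⁻¹) * (g * s * g⁻¹) * (g * x * g⁻¹)⁻¹ * (g * s * g⁻¹)⁻¹ := by
    group
  rwa [h2] at h1

/-- growth of normalizers -/
theorem exists_norm [Finite P] {p : ℕ} [Fact p.Prime] (hP : IsPGroup p P) {H T : Subgroup P} (hHT : H < T) :
    ∃ x ∈ T, x ∉ H ∧ x ∈ normalizer (H : Set P) := by
  haveI : Group.IsNilpotent T := (hP.to_subgroup T).isNilpotent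
  have h1 : H.subgroupOf T < ⊤ := by
    rw [lt_top_iff_ne_top]
    intro h
    exact not_le_of_gt hHT (Subgroup.subgroupOf_eq_top.mp h)
  have h2 := Group.normalizerCondition_of_isNilpotent (G := T) _ h1
  obtain ⟨x, hx, hx2⟩ := SetLike.exists_of_lt h2
  refine ⟨x, x.2, fun h => hx2 (Subgroup.mem_subgroupOf.mpr h), ?_⟩
  rw [Subgroup.mem_normalizer_iff] at hx ⊢
  intro h
  constructor
  · intro hh
    exact Subgroup.mem_subgroupOf.mp ((hx ⟨h, hHT.le hh⟩).mp (Subgroup.mem_subgroupOf.mpr hh))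
  · intro hh
    have h3 : h ∈ T := by
      have := mul_mem (mul_mem (inv_mem x.2) (hHT.le hh)) x.2
      have h4 : (x : P)⁻¹ * (x * h * (x : P)⁻¹) * x = h := by group
      rwa [h4] at this
    exact Subgroup.mem_subgroupOf.mp ((hx ⟨h, h3⟩).mpr (Subgroup.mem_subgroupOf.mpr hh))

/-- `A ≤ B` with prime relative index: nothing strictly between -/
theorem prime_step [Finite P] {p : ℕ} (hp : p.Prime) {A B C : Subgroup P} (h : A.relIndex B = p) (h1 : A < C) (h2 : C ≤ B) :
    B ≤ C := by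
  have h3 := Subgroup.relIndex_mul_relIndex A C B h1.le h2
  rw [h] at h3
  have h4 : A.relIndex C ≠ 1 := fun h5 => not_le_of_gt h1 (Subgroup.relIndex_eq_one.mp h5)
  have h5 : A.relIndex C = p := by
    rcases (Nat.dvd_prime hp).mp (Dvd.intro _ h3) with h6 | h6
    · exact absurd h6 h4
    · exact h6
  rw [h5] at h3
  have h6 : C.relIndex B = 1 := by
    have := hp.pos
    nlinarith
  exact Subgroup.relIndex_eq_one.mp h6

/-- the centre modulo `R` is larger than `R` -/
theorem exists_central_mod [Finite P] {p : ℕ} [Fact p.Prime] (hP : IsPGroup p P) {R T : Subgroup P} (hRT : R < T)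
    (hn : T ≤ normalizer (R : Set P)) : ∃ x ∈ T, x ∉ R ∧ ∀ t ∈ T, x * t * x⁻¹ * t⁻¹ ∈ R := by
  haveI : (R.subgroupOf T).Normal := (Subgroup.normal_subgroupOf_iff_le_normalizer hRT.le).mpr hn
  have hq : IsPGroup p (T ⧸ R.subgroupOf T) := (hP.to_subgroup T).to_quotient _
  haveI : Nontrivial (T ⧸ R.subgroupOf T) := by
    rw [QuotientGroup.nontrivial_iff]
    intro h
    exact not_le_of_gt hRT (Subgroup.subgroupOf_eq_top.mp h)
  haveI := hq.center_nontrivial
  obtain ⟨z, hz⟩ := exists_ne (1 : Subgroup.center (T ⧸ R.subgroupOf T))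
  obtain ⟨x, hx⟩ := QuotientGroup.mk'_surjective (R.subgroupOf T) z.1
  refine ⟨x, x.2, fun h => hz (Subtype.ext ?_), fun t ht => ?_⟩
  · rw [← hx]
    exact (QuotientGroup.eq_one_iff x).mpr (Subgroup.mem_subgroupOf.mpr h)
  · have h1 := Subgroup.mem_center_iff.mp z.2 (QuotientGroup.mk' _ ⟨t, ht⟩)
    rw [← hx, ← map_mul, ← map_mul] at h1
    have h2 := QuotientGroup.eq.mp h1.symm
    have h3 := Subgroup.mem_subgroupOf.mp h2
    have h4 : (((x * ⟨t, ht⟩)⁻¹ * (⟨t, ht⟩ * x) : T) : P) = (t⁻¹ : P) * (x : P)⁻¹ * t * x := by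
      push_cast
      group
    rw [h4] at h3
    -- t⁻¹ x⁻¹ t x ∈ R, conjugate by x t
    have h5 := (Subgroup.mem_normalizer_iff.mp (hn (mul_mem ht x.2)) _).mp h3
    have h6 : t * (x : P) * (t⁻¹ * (x : P)⁻¹ * t * x) * (t * x)⁻¹ = t * x * t⁻¹ * (x : P)⁻¹ := by group
    rw [h6] at h5
    exact comm_symm h5

structure Soft (p : ℕ) (T R E : Subgroup P) : Prop where
  hRE : R ≤ E
  hET : E ≤ T
  hTR : T ≤ normalizer (R : Set P)
  ab : ∀ x ∈ E, ∀ y ∈ E, x * y * x⁻¹ * y⁻¹ ∈ R
  cent : ∀ x ∈ T, (∀ y ∈ E, x * y * x⁻¹ * y⁻¹ ∈ R) → x ∈ E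
  rel : E.relIndex (normalizer (E : Set P) ⊓ T) = p

variable [Finite P] {p : ℕ} [hp : Fact p.Prime] {T R E : Subgroup P}

theorem Soft.le_N (h : Soft p T R E) : E ≤ normalizer (E : Set P) ⊓ T := le_inf le_normalizer h.hET

theorem Soft.N_le (hP : IsPGroup p P) (h : Soft p T R E) {K : Subgroup P} (hEK : E < K) (hKT : K ≤ T) :
    normalizer (E : Set P) ⊓ T ≤ K := by
  obtain ⟨x, hxK, hxE, hx⟩ := exists_norm hP hEK
  have h1 : E < normalizer (E : Set P) ⊓ K := by
    refine lt_of_le_of_ne (le_inf le_normalizer hEK.le) fun h2 => hxE ?_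
    rw [h2]; exact ⟨hx, hxK⟩
  exact (prime_step hp.out h.rel h1 (inf_le_inf_left _ hKT)).trans inf_le_right

theorem Soft.E_lt (h : Soft p T R E) : E < normalizer (E : Set P) ⊓ T := by
  refine lt_of_le_of_ne h.le_N fun h1 => ?_
  have := h.rel
  rw [← h1, Subgroup.relIndex_self] at this
  exact hp.out.one_lt.ne this

theorem Soft.sup_eq (h : Soft p T R E) {x : P} (hx : x ∈ T)
    (hxN : x ∈ normalizer ((normalizer (E : Set P) ⊓ T : Subgroup P) : Set P)) (hx2 : x ∉ normalizer (E : Set P) ⊓ T) :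
    E ⊔ MulAut.conj x • E = normalizer (E : Set P) ⊓ T := by
  have h1 : MulAut.conj x • E ≤ normalizer (E : Set P) ⊓ T := by
    rw [← mem_normalizer_iff_conj_smul.mp hxN]
    exact conj_smul_le_conj_smul_iff.mpr h.le_N
  have h2 : E < E ⊔ MulAut.conj x • E := by
    refine lt_of_le_of_ne le_sup_left fun h3 => hx2 ⟨mem_normalizer_iff_conj_smul.mpr ?_, hx⟩
    exact Subgroup.eq_of_le_of_card_ge (sup_eq_left.mp h3.symm) (by rw [card_conj_smul])
  exact le_antisymm (sup_le h.le_N h1) (prime_step hp.out h.rel h2 (sup_le h.le_N h1))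

/-- abbreviations -/
theorem mem_conj' {x a : P} {E : Subgroup P} (h : a ∈ MulAut.conj x • E) : ∃ e ∈ E, x * e * x⁻¹ = a := by
  rw [mem_conj_smul] at h
  exact ⟨x⁻¹ * a * x, by simpa using h, by group⟩

theorem Soft.conj_centre (h : Soft p T R E) {N : Subgroup P} {g : P} (hg : g ∈ T) (hgN : g ∈ normalizer (N : Set P))
    {z : P} (hz : z ∈ T ⊓ cmod R N) : g * z * g⁻¹ ∈ T ⊓ cmod R N := by
  refine Subgroup.mem_inf.mpr ⟨mul_mem (mul_mem hg (Subgroup.mem_inf.mp hz).1) (inv_mem hg), mem_cmod.mpr ⟨?_, ?_⟩⟩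
  · exact mul_mem (mul_mem (h.hTR hg) hz.2.1) (inv_mem (h.hTR hg))
  · intro s hs
    have h1 : g⁻¹ * s * g ∈ N := by
      have := (Subgroup.mem_normalizer_iff.mp (inv_mem hgN) s).mp hs
      simpa using this
    have h2 := comm_conj (h.hTR hg) (hz.2.2 _ h1)
    have h3 : g * (g⁻¹ * s * g) * g⁻¹ = s := by group
    rwa [h3] at h2

theorem Soft.inter_eq (h : Soft p T R E) {x : P} (hx : x ∈ T) {N : Subgroup P} (hN : E ⊔ MulAut.conj x • E = N)
    (hNT : N ≤ T) (hxN : x ∈ normalizer (N : Set P)) :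
    E ⊓ MulAut.conj x • E = T ⊓ cmod R N := by
  apply le_antisymm
  · rintro a ⟨ha, hax⟩
    have haT := h.hET ha
    refine ⟨haT, h.hTR haT, ?_⟩
    have h1 : E ≤ cmod R {a} := fun e he => ⟨h.hTR (h.hET he), fun s hs => by
      rw [Set.mem_singleton_iff.mp hs]; exact h.ab e he a ha⟩
    have h2 : MulAut.conj x • E ≤ cmod R {a} := by
      intro e he
      obtain ⟨e', he', rfl⟩ := mem_conj' he
      obtain ⟨a', ha', ha2⟩ := mem_conj' hax
      refine ⟨h.hTR (mul_mem (mul_mem hx (h.hET he')) (inv_mem hx)), fun s hs => ?_⟩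
      rw [Set.mem_singleton_iff.mp hs, ← ha2]
      exact comm_conj (h.hTR hx) (h.ab _ he' _ ha')
    have h3 : N ≤ cmod R {a} := hN ▸ sup_le h1 h2
    intro s hs
    exact comm_symm ((h3 hs).2 a rfl)
  · intro z hz
    have key : ∀ w ∈ T ⊓ cmod R N, w ∈ E := by
      intro w hw
      exact h.cent w hw.1 fun y hy => hw.2.2 y (hN ▸ (le_sup_left : E ≤ E ⊔ MulAut.conj x • E) hy)
    refine Subgroup.mem_inf.mpr ⟨key z hz, ?_⟩
    rw [mem_conj_smul]
    have h1 := key _ (h.conj_centre (inv_mem hx) (inv_mem hxN) hz)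
    simpa using h1

theorem Soft.card_N (h : Soft p T R E) : Nat.card E * p = Nat.card (normalizer (E : Set P) ⊓ T : Subgroup P) := by
  have h1 := card_mul_relIndex_aux h.le_N
  rwa [h.rel] at h1

theorem Soft.card_Z (h : Soft p T R E) {x : P} (hx : x ∈ T)
    (hxN : x ∈ normalizer ((normalizer (E : Set P) ⊓ T : Subgroup P) : Set P)) (hx2 : x ∉ normalizer (E : Set P) ⊓ T) :
    Nat.card (T ⊓ cmod R ((normalizer (E : Set P) ⊓ T : Subgroup P) : Set P) : Subgroup P) * p = Nat.card E := by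
  have h1 := h.sup_eq hx hxN hx2
  have h2 := h.inter_eq hx h1 inf_le_right hxN
  have h3 : MulAut.conj x • E ≤ normalizer (E : Set P) := by
    have := le_sup_right.trans h1.le
    exact this.trans inf_le_left
  have h4 := card_sup_mul_card_inf_of_le_normalizer h3
  rw [h1, h2, card_conj_smul, ← h.card_N] at h4
  have h5 : 0 < Nat.card E := Nat.card_pos
  have h6 : Nat.card E * (Nat.card (T ⊓ cmod R ((normalizer (E : Set P) ⊓ T : Subgroup P) : Set P) : Subgroup P) * p) =
      Nat.card E * Nat.card E := by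
    rw [← h4]; ring
  exact Nat.eq_of_mul_eq_mul_left h5 h6

theorem Soft.rel2 (hP : IsPGroup p P) (h : Soft p T R E) (hNT : normalizer (E : Set P) ⊓ T < T) :
    (normalizer (E : Set P) ⊓ T).relIndex (normalizer ((normalizer (E : Set P) ⊓ T : Subgroup P) : Set P) ⊓ T) = p := by
  obtain ⟨x, hxT, hx2, hxN⟩ := exists_norm hP hNT
  have hcZ := h.card_Z hxT hxN hx2
  have hcN := h.card_N
  obtain ⟨N, hN⟩ : ∃ N, N = normalizer (E : Set P) ⊓ T := ⟨_, rfl⟩
  rw [← hN] at hcZ hcN hx2 hNT hxN ⊢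
  obtain ⟨M, hM⟩ : ∃ M, M = normalizer (N : Set P) ⊓ T := ⟨_, rfl⟩
  rw [← hM]
  have hNM : N ≤ M := hM ▸ le_inf le_normalizer hNT.le
  obtain ⟨Z, hZ⟩ : ∃ Z : Subgroup P, Z = T ⊓ cmod R N := ⟨_, rfl⟩
  rw [← hZ] at hcZ
  have hEN : E ≤ N := hN ▸ h.le_N
  have hZE : Z ≤ E := by
    intro z hz
    rw [hZ] at hz
    exact h.cent z hz.1 fun y hy => hz.2.2 y (hEN hy)
  have hZM : ∀ g ∈ M, ∀ z ∈ Z, g * z * g⁻¹ ∈ Z := by
    intro g hg z hz
    rw [hM] at hg
    rw [hZ] at hz ⊢
    exact h.conj_centre hg.2 hg.1 hz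
  have hEM : ∀ g ∈ M, ∀ e ∈ E, g * e * g⁻¹ ∈ N := by
    intro g hg e he
    rw [hM] at hg
    exact (Subgroup.mem_normalizer_iff.mp hg.1 e).mp (hEN he)
  -- two different conjugates meet in Z
  have hmeet : ∀ g ∈ M, g ∉ N → ∀ e ∈ E, g * e * g⁻¹ ∈ E → e ∈ Z := by
    intro g hg hgN e he hge
    have hg' := hg
    rw [hM] at hg'
    have hginv : g⁻¹ ∉ N := fun h1 => hgN (by simpa using inv_mem h1)
    have h1 := h.sup_eq (x := g⁻¹) (inv_mem hg'.2) (by rw [← hN]; exact inv_mem hg'.1) (by rw [← hN]; exact hginv)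
    rw [← hN] at h1
    have h2 := h.inter_eq (inv_mem hg'.2) h1 hNT.le (inv_mem hg'.1)
    rw [hZ, ← h2]
    refine Subgroup.mem_inf.mpr ⟨he, ?_⟩
    rw [mem_conj_smul]
    simpa using hge
  -- the counting map
  let f : (M ⧸ N.subgroupOf M) × {e : P // e ∈ (E : Set P) \ Z} → {n : P // n ∈ (N : Set P) \ Z} := fun w =>
    ⟨(w.1.out : P) * w.2 * (w.1.out : P)⁻¹, hEM _ w.1.out.2 _ w.2.2.1, fun h1 => w.2.2.2 (by
      have := hZM _ (inv_mem w.1.out.2) _ h1
      have h2 : (w.1.out : P)⁻¹ * ((w.1.out : P) * w.2 * (w.1.out : P)⁻¹) * (w.1.out : P)⁻¹⁻¹ = w.2 := by group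
      rwa [h2] at this)⟩
  have hf : Function.Injective f := by
    rintro ⟨a, e⟩ ⟨b, e'⟩ hab
    have h1 : (a.out : P) * e * (a.out : P)⁻¹ = (b.out : P) * e' * (b.out : P)⁻¹ := congrArg Subtype.val hab
    have h2 : ((b.out : P)⁻¹ * a.out) * e * ((b.out : P)⁻¹ * a.out)⁻¹ = e' := by
      have : ((b.out : P)⁻¹ * a.out) * e * ((b.out : P)⁻¹ * a.out)⁻¹ = (b.out : P)⁻¹ * ((a.out : P) * e * (a.out : P)⁻¹) * b.out := by
        group
      rw [this, h1]; group
    have h3 : (b.out : P)⁻¹ * a.out ∈ N := by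
      by_contra h4
      exact e.2.2 (hmeet _ (mul_mem (inv_mem b.out.2) a.out.2) h4 _ e.2.1 (by rw [h2]; exact e'.2.1))
    have h4 : b = a := by
      rw [← b.out_eq', ← a.out_eq']
      exact QuotientGroup.eq.mpr (Subgroup.mem_subgroupOf.mpr h3)
    subst h4
    have h5 : (e : P) = e' := by
      have := mul_right_cancel h1
      exact mul_left_cancel this
    rw [Subtype.ext h5]
  have hcard := Nat.card_le_card_of_injective f hf
  rw [Nat.card_prod] at hcard
  have c1 : Nat.card {e : P // e ∈ (E : Set P) \ Z} = Nat.card E - Nat.card Z := by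
    have := Set.ncard_sdiff (s := (Z : Set P)) (t := (E : Set P)) hZE
    rw [← Nat.card_coe_set_eq, ← Nat.card_coe_set_eq, ← Nat.card_coe_set_eq] at this
    exact this
  have c2 : Nat.card {e : P // e ∈ (N : Set P) \ Z} = Nat.card N - Nat.card Z := by
    have := Set.ncard_sdiff (s := (Z : Set P)) (t := (N : Set P)) (hZE.trans hEN)
    rw [← Nat.card_coe_set_eq, ← Nat.card_coe_set_eq, ← Nat.card_coe_set_eq] at this
    exact this
  rw [c1, c2] at hcard
  have c3 : Nat.card (M ⧸ N.subgroupOf M) = N.relIndex M := rfl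
  rw [c3] at hcard
  obtain ⟨j, hj⟩ : ∃ j, N.relIndex M = p ^ j := by
    have h1 : N.relIndex M ∣ Nat.card M := Subgroup.relIndex_dvd_card N M
    obtain ⟨k, hk⟩ := IsPGroup.iff_card.mp (hP.to_subgroup M)
    rw [hk] at h1
    obtain ⟨j, -, hj⟩ := (Nat.dvd_prime_pow hp.out).mp h1
    exact ⟨j, hj⟩
  have hj0 : j ≠ 0 := by
    rintro rfl
    rw [pow_zero, Subgroup.relIndex_eq_one] at hj
    exact hx2 (hj (hM ▸ ⟨hxN, hxT⟩))
  have hz : 0 < Nat.card Z := Nat.card_pos
  have hp2 := hp.out.two_le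
  have hj2 : j < 2 := by
    by_contra hge
    have h1 : p ^ 2 ≤ p ^ j := Nat.pow_le_pow_right hp.out.pos (by omega)
    rw [hj, ← hcN, ← hcZ] at hcard
    obtain ⟨r, rfl⟩ : ∃ r, p = r + 2 := ⟨p - 2, by omega⟩
    have e1 : Nat.card Z * (r + 2) - Nat.card Z = Nat.card Z * (r + 1) := by
      rw [show r + 2 = (r + 1) + 1 from rfl, mul_add (Nat.card Z) (r + 1) 1, mul_one, Nat.add_sub_cancel]
    have e2 : Nat.card Z * (r + 2) * (r + 2) - Nat.card Z = Nat.card Z * ((r + 2) * (r + 2) - 1) := by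
      rw [mul_assoc, Nat.mul_sub, mul_one]
    have e3 : (r + 2) * (r + 2) - 1 = (r + 1) * (r + 3) := by
      have : (r + 2) * (r + 2) = (r + 1) * (r + 3) + 1 := by ring
      omega
    rw [e1, e2, e3] at hcard
    have h2 : (r + 2) ^ j * (Nat.card Z * (r + 1)) ≤ (r + 3) * (Nat.card Z * (r + 1)) := by
      refine hcard.trans (le_of_eq ?_)
      ring
    have h3 := Nat.le_of_mul_le_mul_right h2 (by positivity)
    nlinarith
  have hj1 : j = 1 := by omega
  rw [hj, hj1, pow_one]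

theorem Soft.R_lt (h : Soft p T R E) : R < T := by
  refine lt_of_le_of_ne (h.hRE.trans h.hET) fun h1 => ?_
  have h2 : E = T := le_antisymm h.hET (h1 ▸ h.hRE)
  have h3 := h.rel
  rw [h2, Subgroup.relIndex_eq_one.mpr inf_le_right] at h3
  exact hp.out.one_lt.ne h3

/-- the centre of `T` modulo `R` -/
theorem Soft.centre_facts (hP : IsPGroup p P) (h : Soft p T R E) : R < T ⊓ cmod R T ∧ T ⊓ cmod R T ≤ E ∧
    T ≤ normalizer ((T ⊓ cmod R T : Subgroup P) : Set P) := by
  refine ⟨?_, ?_, ?_⟩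
  · refine lt_of_le_of_ne ?_ ?_
    · intro r hr
      refine Subgroup.mem_inf.mpr ⟨h.hET (h.hRE hr), mem_cmod.mpr ⟨le_normalizer hr, fun t ht => ?_⟩⟩
      have h1 := (Subgroup.mem_normalizer_iff.mp (h.hTR ht) _).mp (inv_mem hr)
      have h2 := mul_mem hr h1
      have h3 : r * (t * r⁻¹ * t⁻¹) = r * t * r⁻¹ * t⁻¹ := by group
      rwa [h3] at h2
    · intro h1
      obtain ⟨x, hxT, hxR, hx⟩ := exists_central_mod hP h.R_lt h.hTR
      apply hxR
      rw [h1]
      exact Subgroup.mem_inf.mpr ⟨hxT, mem_cmod.mpr ⟨h.hTR hxT, hx⟩⟩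
  · intro z hz
    exact h.cent z hz.1 fun y hy => hz.2.2 y (h.hET hy)
  · intro g hg
    rw [mem_normalizer_iff_conj_smul]
    have key : MulAut.conj g • (T ⊓ cmod R T) ≤ T ⊓ cmod R T := by
      intro z hz
      obtain ⟨w, hw, rfl⟩ := mem_conj' hz
      exact h.conj_centre hg (le_normalizer hg) hw
    exact Subgroup.eq_of_le_of_card_ge key (by rw [card_conj_smul])

theorem Soft.step (hP : IsPGroup p P) (h : Soft p T R E) {S : Subgroup P} (hRS : R ≤ S) (hSE : S ≤ E)
    (hTS : T ≤ normalizer (S : Set P)) :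
    Soft p T S E ∨ ((normalizer (E : Set P) ⊓ T < T) → Soft p T S (normalizer (E : Set P) ⊓ T)) := by
  have hE : E ≤ T ⊓ cmod S E := by
    intro e he
    exact Subgroup.mem_inf.mpr ⟨h.hET he, mem_cmod.mpr ⟨hTS (h.hET he), fun s hs => hRS (h.ab e he s hs)⟩⟩
  have hC : T ⊓ cmod S E ≤ normalizer (E : Set P) ⊓ T := by
    intro c hc
    refine Subgroup.mem_inf.mpr ⟨?_, hc.1⟩
    rw [mem_normalizer_iff_conj_smul]
    have key : MulAut.conj c • E ≤ E := by
      intro z hz
      obtain ⟨w, hw, rfl⟩ := mem_conj' hz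
      have h1 := mul_mem (hSE (hc.2.2 w hw)) hw
      have h2 : c * w * c⁻¹ * w⁻¹ * w = c * w * c⁻¹ := by group
      rwa [h2] at h1
    exact Subgroup.eq_of_le_of_card_ge key (by rw [card_conj_smul])
  rcases eq_or_lt_of_le hE with heq | hlt
  · left
    refine ⟨hSE, h.hET, hTS, fun x hx y hy => hRS (h.ab x hx y hy), fun x hx hxy => ?_, h.rel⟩
    rw [heq]
    exact Subgroup.mem_inf.mpr ⟨hx, mem_cmod.mpr ⟨hTS hx, hxy⟩⟩
  · right
    intro hNT
    have hCN : normalizer (E : Set P) ⊓ T ≤ T ⊓ cmod S E := prime_step hp.out h.rel hlt hC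
    obtain ⟨x, hxT, hx2, hxN⟩ := exists_norm hP hNT
    have hsup := h.sup_eq hxT hxN hx2
    have hrel := h.rel2 hP hNT
    obtain ⟨N, hN⟩ : ∃ N, N = normalizer (E : Set P) ⊓ T := ⟨_, rfl⟩
    rw [← hN] at hsup hrel hCN hxN hx2 hNT ⊢
    have hEN : E ≤ N := hN ▸ h.le_N
    refine ⟨hSE.trans hEN, hNT.le, hTS, ?_, ?_, hrel⟩
    · intro a ha b hb
      have h1 : E ≤ cmod S {a} := fun e he => ⟨hTS (h.hET he), fun s hs => by
        rw [Set.mem_singleton_iff.mp hs]; exact comm_symm ((hCN ha).2.2 e he)⟩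
      have h2 : MulAut.conj x • E ≤ cmod S {a} := by
        intro e he
        obtain ⟨e', he', rfl⟩ := mem_conj' he
        refine ⟨hTS (mul_mem (mul_mem hxT (h.hET he')) (inv_mem hxT)), fun s hs => ?_⟩
        rw [Set.mem_singleton_iff.mp hs]
        have h3 : x⁻¹ * a * x ∈ N := by
          have := (Subgroup.mem_normalizer_iff.mp (inv_mem hxN) a).mp ha
          simpa using this
        have h4 := comm_conj (hTS hxT) (comm_symm ((hCN h3).2.2 e' he'))
        have h5 : x * (x⁻¹ * a * x) * x⁻¹ = a := by group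
        rwa [h5] at h4
      have h3 : N ≤ cmod S {a} := hsup ▸ sup_le h1 h2
      exact comm_symm ((h3 hb).2 a rfl)
    · intro y hy hya
      exact hN ▸ hC (Subgroup.mem_inf.mpr ⟨hy, mem_cmod.mpr ⟨hTS hy, fun s hs => hya s (hEN hs)⟩⟩)

/-- Claim A -/
theorem claimA (hP : IsPGroup p P) (n : ℕ) : ∀ (R E : Subgroup P), Nat.card T - Nat.card R = n → Soft p T R E →
    (∀ K : Subgroup P, E ≤ K → K < T → K.relIndex (normalizer (K : Set P) ⊓ T) = p) ∧
    (∀ K L : Subgroup P, E ≤ K → E ≤ L → K ≤ T → L ≤ T → K ≤ L ∨ L ≤ K) := by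
  induction n using Nat.strong_induction_on with
  | _ n ih =>
  intro R E hn h
  obtain ⟨h1, h2, h3⟩ := h.centre_facts hP
  have hdec : Nat.card T - Nat.card (T ⊓ cmod R T : Subgroup P) < n := by
    have e1 := card_lt_of_lt' h1
    have e2 := Subgroup.card_le_of_le (h2.trans h.hET)
    have e3 := Subgroup.card_le_of_le h.R_lt.le
    omega
  rcases h.step hP h1.le h2 h3 with hs | hs
  · exact ih _ hdec _ E rfl hs
  · by_cases hNT : normalizer (E : Set P) ⊓ T < T
    · obtain ⟨i1, i2⟩ := ih _ hdec _ _ rfl (hs hNT)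
      constructor
      · intro K hK hKT
        rcases eq_or_lt_of_le hK with rfl | hlt
        · exact h.rel
        · exact i1 K (h.N_le hP hlt hKT.le) hKT
      · intro K L hK hL hKT hLT
        rcases eq_or_lt_of_le hK with rfl | hltK
        · exact Or.inl hL
        · rcases eq_or_lt_of_le hL with rfl | hltL
          · exact Or.inr hK
          · exact i2 K L (h.N_le hP hltK hKT) (h.N_le hP hltL hLT) hKT hLT
    · have hT : T ≤ normalizer (E : Set P) ⊓ T := by
        by_contra h4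
        exact hNT (lt_of_le_not_ge inf_le_right h4)
      have hKall : ∀ K : Subgroup P, E ≤ K → K ≤ T → K = E ∨ K = T := by
        intro K hK hKT
        rcases eq_or_lt_of_le hK with rfl | hlt
        · exact Or.inl rfl
        · exact Or.inr (le_antisymm hKT (hT.trans (h.N_le hP hlt hKT)))
      constructor
      · intro K hK hKT
        rcases hKall K hK hKT.le with rfl | h5
        · exact h.rel
        · exact absurd h5 hKT.ne
      · intro K L hK hL hKT hLT
        rcases hKall K hK hKT with rfl | rfl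
        · exact Or.inl hL
        · exact Or.inr hLT

theorem mem_mod_of_mem {K : Subgroup P} (hK : K ≤ normalizer (R : Set P)) {r : P} (hr : r ∈ R) :
    ∀ t ∈ K, r * t * r⁻¹ * t⁻¹ ∈ R := by
  intro t ht
  have h1 := (Subgroup.mem_normalizer_iff.mp (hK ht) _).mp (inv_mem hr)
  have h2 := mul_mem hr h1
  have h3 : r * (t * r⁻¹ * t⁻¹) = r * t * r⁻¹ * t⁻¹ := by group
  rwa [h3] at h2

/-- Claim B -/
theorem claimB (hP : IsPGroup p P) (n : ℕ) : ∀ (T R E : Subgroup P), Nat.card T - Nat.card R = n → Soft p T R E →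
    ∀ (K : Subgroup P), E ≤ K → K < T → ∀ i, E.relIndex K = p ^ i →
      K.lowerCentralSeries (i+1) ≤ R ∧ ¬ K.lowerCentralSeries i ≤ R := by
  induction n using Nat.strong_induction_on with
  | _ n ih =>
  intro T R E hn h K hEK hKT i hi
  have hRT := h.R_lt
  rcases eq_or_lt_of_le hEK with heq | hlt
  · -- K = E
    subst heq
    rw [Subgroup.relIndex_self] at hi
    have hi0 : i = 0 := by
      by_contra h0
      exact absurd hi (Nat.one_lt_pow h0 hp.out.one_lt).ne
    subst hi0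
    constructor
    · rw [Subgroup.lowerCentralSeries_succ, Subgroup.lowerCentralSeries_zero, Subgroup.commutator_le]
      intro a ha b hb
      exact h.ab a ha b hb
    · rw [Subgroup.lowerCentralSeries_zero]
      intro h1
      obtain ⟨h2, h3, -⟩ := h.centre_facts hP
      exact not_le_of_gt h2 (h3.trans h1)
  -- E < K
  have hA := claimA hP _ R E rfl h
  have hKrel := hA.1 K hEK hKT
  obtain ⟨L, hL⟩ : ∃ L, L = normalizer (K : Set P) ⊓ T := ⟨_, rfl⟩
  rw [← hL] at hKrel
  have hKL : K ≤ L := hL ▸ le_inf le_normalizer hKT.le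
  have hKL' : K < L := lt_of_le_of_ne hKL (fun h1 => by
    rw [← h1, Subgroup.relIndex_self] at hKrel
    exact hp.out.one_lt.ne hKrel)
  have hLT : L ≤ T := hL ▸ inf_le_right
  rcases eq_or_lt_of_le hLT with hLT' | hLT'
  swap
  · -- L < T
    have hNL : normalizer (E : Set P) ⊓ T ≤ L := h.N_le hP (lt_of_lt_of_le hlt hKL) hLT
    have hs : Soft p L R E := ⟨h.hRE, hEK.trans hKL, hLT.trans h.hTR, h.ab, fun x hx => h.cent x (hLT hx), by
      have : normalizer (E : Set P) ⊓ L = normalizer (E : Set P) ⊓ T :=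
        le_antisymm (inf_le_inf_left _ hLT) (le_inf inf_le_left hNL)
      rw [this]; exact h.rel⟩
    refine ih _ ?_ L R E rfl hs K hEK hKL' i hi
    have e1 := card_lt_of_lt' hLT'
    have e2 := Subgroup.card_le_of_le (h.hRE.trans (hEK.trans hKL))
    omega
  · -- K maximal in T, normal
    have hTK : T ≤ normalizer (K : Set P) := by rw [← hLT', hL]; exact inf_le_left
    obtain ⟨y, hyT, hyK⟩ := SetLike.exists_of_lt hKT
    have hyE : MulAut.conj y • E ≤ K := by
      rw [← mem_normalizer_iff_conj_smul.mp (hTK hyT)]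
      exact conj_smul_le_conj_smul_iff.mpr hEK
    have hsup : E ⊔ MulAut.conj y • E = K := by
      by_contra hne
      have hJK : E ⊔ MulAut.conj y • E ≤ K := sup_le hEK hyE
      obtain ⟨J, hJ⟩ : ∃ J, J = E ⊔ MulAut.conj y • E := ⟨_, rfl⟩
      rw [← hJ] at hne hJK
      have hEJ : E ≤ J := hJ ▸ le_sup_left
      have hJ2 : E ≤ MulAut.conj y⁻¹ • J := by
        rw [← conj_smul_le_conj_smul_iff (g := y), conj_smul_smul, mul_inv_cancel, map_one, one_smul, hJ]
        exact le_sup_right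
      have hJT : MulAut.conj y⁻¹ • J ≤ T := by
        have : MulAut.conj y⁻¹ • T = T := conj_smul_self_of_mem (inv_mem hyT)
        rw [← this]
        exact conj_smul_le_conj_smul_iff.mpr (hJK.trans hKT.le)
      have hJeq : MulAut.conj y⁻¹ • J = J := by
        rcases hA.2 J _ hEJ hJ2 (hJK.trans hKT.le) hJT with h1 | h1
        · exact (Subgroup.eq_of_le_of_card_ge h1 (by rw [card_conj_smul])).symm
        · exact Subgroup.eq_of_le_of_card_ge h1 (by rw [card_conj_smul])
      have hyJ : y ∈ normalizer (J : Set P) := by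
        have := mem_normalizer_iff_conj_smul.mpr hJeq
        simpa using inv_mem this
      have hJrel := hA.1 J hEJ (lt_of_le_of_lt hJK hKT)
      have hJK' : J < K := lt_of_le_of_ne hJK hne
      obtain ⟨w, hwK, hwJ, hw⟩ := exists_norm hP hJK'
      have hJlt : J < normalizer (J : Set P) ⊓ K := by
        refine lt_of_le_of_ne (le_inf le_normalizer hJK) fun h2 => hwJ ?_
        rw [h2]; exact ⟨hw, hwK⟩
      have := prime_step hp.out hJrel hJlt (inf_le_inf_left _ hKT.le)
      exact hyK (this ⟨hyJ, hyT⟩).2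
    have hinter : E ⊓ MulAut.conj y • E = T ⊓ cmod R K := h.inter_eq hyT hsup hKT.le (hTK hyT)
    obtain ⟨S, hS⟩ : ∃ S : Subgroup P, S = T ⊓ cmod R K := ⟨_, rfl⟩
    have hRK : R < K := lt_of_le_of_lt h.hRE hlt
    have hRS : R < S := by
      obtain ⟨z, hzK, hzR, hz⟩ := exists_central_mod hP hRK (hKT.le.trans h.hTR)
      refine lt_of_le_of_ne ?_ (fun h1 => hzR ?_)
      · intro r hr
        rw [hS]
        exact Subgroup.mem_inf.mpr ⟨h.hET (h.hRE hr), mem_cmod.mpr ⟨le_normalizer hr,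
          mem_mod_of_mem (hKT.le.trans h.hTR) hr⟩⟩
      · rw [h1, hS]; exact Subgroup.mem_inf.mpr ⟨hKT.le hzK, mem_cmod.mpr ⟨h.hTR (hKT.le hzK), hz⟩⟩
    have hSE : S ≤ E := by rw [hS, ← hinter]; exact inf_le_left
    have hTS : T ≤ normalizer (S : Set P) := by
      intro g hg
      rw [mem_normalizer_iff_conj_smul]
      have key : MulAut.conj g • S ≤ S := by
        intro z hz
        obtain ⟨w, hw, rfl⟩ := mem_conj' hz
        rw [hS] at hw ⊢
        exact h.conj_centre hg (hTK hg) hw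
      exact Subgroup.eq_of_le_of_card_ge key (by rw [card_conj_smul])
    have hdec : Nat.card T - Nat.card S < n := by
      have e1 := card_lt_of_lt' hRS
      have e2 := Subgroup.card_le_of_le (hSE.trans h.hET)
      omega
    rcases h.step hP hRS.le hSE hTS with hs | hs
    · exfalso
      have hSK : S < K := lt_of_le_of_lt hSE hlt
      obtain ⟨z, hzK, hzS, hz⟩ := exists_central_mod hP hSK (hKT.le.trans hTS)
      have hzE : z ∈ E := hs.cent z (hKT.le hzK) fun e he => hz e (hEK he)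
      have hzE2 : y⁻¹ * z * y ∈ E := by
        apply hs.cent _ (mul_mem (mul_mem (inv_mem hyT) (hKT.le hzK)) hyT)
        intro e he
        have h1 : y * e * y⁻¹ ∈ K := hyE (conj_mem_conj_smul he)
        have h2 := comm_conj (hTS (inv_mem hyT)) (hz _ h1)
        have h3 : y⁻¹ * z * y⁻¹⁻¹ = y⁻¹ * z * y := by rw [inv_inv]
        have h4 : y⁻¹ * (y * e * y⁻¹) * y⁻¹⁻¹ = e := by group
        rw [h3, h4] at h2
        exact h2
      apply hzS
      rw [hS, ← hinter]
      refine Subgroup.mem_inf.mpr ⟨hzE, ?_⟩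
      rw [mem_conj_smul]; exact hzE2
    · have hNK : normalizer (E : Set P) ⊓ T ≤ K := h.N_le hP hlt hKT.le
      have hs' := hs (lt_of_le_of_lt hNK hKT)
      have hmul := Subgroup.relIndex_mul_relIndex E _ K h.le_N hNK
      rw [h.rel, hi] at hmul
      obtain ⟨j, rfl⟩ : ∃ j, i = j + 1 := by
        rcases Nat.eq_zero_or_pos i with rfl | h0
        · rw [pow_zero] at hmul
          exact absurd (Nat.eq_one_of_mul_eq_one_right hmul) hp.out.one_lt.ne'
        · exact ⟨i - 1, by omega⟩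
      have hj : (normalizer (E : Set P) ⊓ T).relIndex K = p ^ j := by
        rw [pow_succ, mul_comm] at hmul
        exact Nat.eq_of_mul_eq_mul_right hp.out.pos hmul
      obtain ⟨c1, c2⟩ := ih _ hdec T S _ rfl hs' K hNK hKT j hj
      constructor
      · rw [Subgroup.lowerCentralSeries_succ, Subgroup.commutator_le]
        intro a ha b hb
        have := c1 ha
        rw [hS] at this
        exact this.2.2 b hb
      · intro h1
        apply c2
        intro a ha
        rw [hS]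
        have haK : a ∈ K := by
          have : K.lowerCentralSeries j ≤ K := by
            have := Subgroup.lowerCentralSeries_antitone K (Nat.zero_le j)
            simpa using this
          exact this ha
        refine Subgroup.mem_inf.mpr ⟨hKT.le haK, mem_cmod.mpr ⟨h.hTR (hKT.le haK), fun b hb => ?_⟩⟩
        exact h1 (Subgroup.commutator_mem_commutator ha hb)

end

/-- Let P be a finite p-group and E an abelian subgroup of P that contains its centralizer, has index p in its normalizer, and has index at least p² in P. Then the subgroups of P containing E are totally ordered by inclusion, each proper one has index p in its normalizer (so they form the normalizer tower of E, with all steps of index p), and the i-th member of the tower above E has nilpotency class i + 1 whenever it is a proper subgroup of P. -/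
theorem result {P : Type*} [Group P] [Finite P] (p : ℕ) [Fact p.Prime] (hP : IsPGroup p P)
    (E : Subgroup P) (hEab : IsMulCommutative ↥E) (hC : Subgroup.centralizer (E : Set P) ≤ E)
    (hN : (E.subgroupOf (Subgroup.normalizer (E : Set P))).index = p) (hidx : p ^ 2 ≤ E.index) :
    (∀ K L : Subgroup P, E ≤ K → E ≤ L → K ≤ L ∨ L ≤ K) ∧
      (∀ K : Subgroup P, E ≤ K → K ≠ ⊤ → (K.subgroupOf (Subgroup.normalizer (K : Set P))).index = p) ∧
      ∀ (i : ℕ) (K : Subgroup P) [Group.IsNilpotent ↥K], E ≤ K → K ≠ ⊤ → K.index * p ^ i = E.index →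
        Group.nilpotencyClass ↥K = i + 1 := by
  have hsoft : Soft p (⊤ : Subgroup P) ⊥ E := by
    refine ⟨bot_le, le_top, ?_, ?_, ?_, ?_⟩
    · rw [Subgroup.normalizer_eq_top]
    · intro x hx y hy
      have := hEab.is_comm.comm (⟨x, hx⟩ : E) ⟨y, hy⟩
      have h2 : x * y = y * x := congrArg Subtype.val this
      rw [Subgroup.mem_bot, h2]; group
    · intro x _ hx
      apply hC
      rw [Subgroup.mem_centralizer_iff]
      intro y hy
      have h1 := Subgroup.mem_bot.mp (hx y hy)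
      have h2 : x * y = (x * y * x⁻¹ * y⁻¹) * (y * x) := by group
      rw [h2, h1, one_mul]
    · rw [inf_top_eq]; exact hN
  have hA := claimA hP _ ⊥ E rfl hsoft
  refine ⟨fun K L hK hL => hA.2 K L hK hL le_top le_top, fun K hK hKT => ?_, fun i K _ hK hKT hKi => ?_⟩
  · have := hA.1 K hK (lt_top_iff_ne_top.mpr hKT)
    rw [inf_top_eq] at this
    exact this
  · have hrel : E.relIndex K = p ^ i := by
      have h1 := Subgroup.relIndex_mul_index hK
      rw [← hKi, mul_comm] at h1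
      exact Nat.eq_of_mul_eq_mul_left (Nat.pos_of_ne_zero Subgroup.index_ne_zero_of_finite) h1
    obtain ⟨c1, c2⟩ := claimB hP _ ⊤ ⊥ E rfl hsoft K hK (lt_top_iff_ne_top.mpr hKT) i hrel
    apply le_antisymm
    · rw [← Subgroup.lowerCentralSeries_eq_bot_iff_nilpotencyClass_le]
      rw [← Subgroup.map_subtype_inj, Subgroup.map_bot, Subgroup.top_subtype_lowerCentralSeries]
      exact le_bot_iff.mp c1
    · by_contra hlt
      apply c2
      have h1 : Group.nilpotencyClass K ≤ i := by omega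
      rw [← Subgroup.lowerCentralSeries_eq_bot_iff_nilpotencyClass_le] at h1
      rw [← Subgroup.top_subtype_lowerCentralSeries, h1, Subgroup.map_bot]

end Cfsg.Agent.S3811
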