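import Cfsg.Statements.S3824
import Cfsg.Agent.H3.BurnsidePQ
import Cfsg.Agent.H1.Basic
import Cfsg.Agent.H2.Basic

set_option autoImplicit false
set_option linter.all false
open Cfsg

namespace Cfsg.Agent.S3824

section aux
open Subgroup
universe u

theorem solv_aux (n : ℕ) : ∀ (G : Type u) [Group G] [Finite G], Nat.card G = n → ∀ A : Subgroup G,
    IsMulCommutative A → (∃ k : ℕ, A.index = 2 ^ k) → Group.IsSolvable G := by
  induction n using Nat.strong_induction_on with
  | _ n ih =>
  intro G _ _ hn A hA hidx
  obtain ⟨k, hk⟩ := hidx
  haveI : Fact (Nat.Prime 2) := ⟨Nat.prime_two⟩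
  by_cases hsimp : IsSimpleGroup G
  · by_cases hA1 : A = ⊥
    · rw [hA1, index_bot] at hk
      have h1 : IsPGroup 2 G := IsPGroup.of_card hk
      haveI := h1.isNilpotent
      infer_instance
    · obtain ⟨a, ha, ha1⟩ : ∃ a ∈ A, a ≠ 1 := by
        by_contra hcon
        push Not at hcon
        exact hA1 ((Subgroup.eq_bot_iff_forall A).mpr hcon)
      have h1 : A ≤ centralizer ({a} : Set G) := by
        intro x hx
        rw [mem_centralizer_singleton_iff]
        exact congrArg Subtype.val (hA.is_comm.comm ⟨x, hx⟩ ⟨a, ha⟩)
      have h2 : (centralizer ({a} : Set G)).index ∣ 2 ^ k := hk ▸ index_dvd_of_le h1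
      obtain ⟨m, -, hm⟩ := (Nat.dvd_prime_pow Nat.prime_two).mp h2
      have h3 := H3.prime_card_of_prime_power_class 2 m Nat.prime_two a ha1 hm
      haveI : Fact (Nat.card G).Prime := ⟨h3⟩
      haveI : IsCyclic G := isCyclic_of_prime_card rfl
      letI : CommGroup G := IsCyclic.commGroup
      exact Group.isSolvable_of_comm (fun a b => mul_comm a b)
  · by_cases hnt : Nontrivial G
    · have h4 : ∃ N : Subgroup G, N.Normal ∧ N ≠ ⊥ ∧ N ≠ ⊤ := by
        by_contra hcon
        push Not at hcon
        apply hsimp
        exact { exists_pair_ne := hnt.exists_pair_ne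
                eq_bot_or_eq_top_of_normal := fun N hN => by
                  by_cases h5 : N = ⊥
                  · exact Or.inl h5
                  · exact Or.inr (hcon N hN h5) }
      obtain ⟨N, hN, hN1, hN2⟩ := h4
      have hltN : Nat.card N < n := by
        rw [← hn]
        have := H1.card_lt_of_lt' (lt_top_iff_ne_top.mpr hN2)
        rwa [card_top] at this
      have hltQ : Nat.card (G ⧸ N) < n := by
        rw [← hn, ← N.card_mul_index, ← index_eq_card]
        have h5 : 1 < Nat.card N := one_lt_card_iff_ne_bot _ |>.mpr hN1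
        have h6 : 0 < N.index := Nat.pos_of_ne_zero index_ne_zero_of_finite
        nlinarith
      have hsN : Group.IsSolvable N := by
        refine ih _ hltN N rfl (A.subgroupOf N) ?_ ?_
        · refine ⟨⟨fun x y => ?_⟩⟩
          have := hA.is_comm.comm ⟨_, mem_subgroupOf.mp x.2⟩ ⟨_, mem_subgroupOf.mp y.2⟩
          have e := congrArg Subtype.val this
          exact Subtype.ext (Subtype.ext e)
        · have h5 : (A.subgroupOf N).index ∣ 2 ^ k := by
            have e1 := H2.card_sup_mul_card_inf A N
            have e2 := (A ⊔ N).card_mul_index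
            have e3 : Nat.card (A ⊓ N : Subgroup G) * (A.subgroupOf N).index = Nat.card N := by
              have := (A.subgroupOf N).card_mul_index
              rw [← this]
              congr 1
              rw [← inf_subgroupOf_right]
              exact (Nat.card_congr (subgroupOfEquivOfLe (inf_le_right : A ⊓ N ≤ N)).toEquiv).symm
            have e4 := A.card_mul_index
            have hp1 : 0 < Nat.card (A ⊓ N : Subgroup G) := Nat.card_pos
            have hp2 : 0 < Nat.card A := Nat.card_pos
            have e5 : Nat.card (A ⊔ N : Subgroup G) = Nat.card A * (A.subgroupOf N).index := by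
              apply Nat.eq_of_mul_eq_mul_right hp1
              rw [e1, ← e3]; ring
            rw [← hk]
            refine ⟨(A ⊔ N).index, ?_⟩
            apply Nat.eq_of_mul_eq_mul_left hp2
            rw [e4, ← e2, e5]; ring
          obtain ⟨m, -, hm⟩ := (Nat.dvd_prime_pow Nat.prime_two).mp h5
          exact ⟨m, hm⟩
      have hsQ : Group.IsSolvable (G ⧸ N) := by
        refine ih _ hltQ (G ⧸ N) rfl (A.map (QuotientGroup.mk' N)) ?_ ?_
        · refine ⟨⟨?_⟩⟩
          rintro ⟨_, x, hx, rfl⟩ ⟨_, y, hy, rfl⟩
          apply Subtype.ext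
          show QuotientGroup.mk' N x * QuotientGroup.mk' N y = QuotientGroup.mk' N y * QuotientGroup.mk' N x
          rw [← map_mul, ← map_mul]
          congr 1
          exact congrArg Subtype.val (hA.is_comm.comm ⟨x, hx⟩ ⟨y, hy⟩)
        · have h5 : (A.map (QuotientGroup.mk' N)).index ∣ 2 ^ k := by
            rw [← hk]
            exact index_map_dvd A (QuotientGroup.mk'_surjective N)
          obtain ⟨m, -, hm⟩ := (Nat.dvd_prime_pow Nat.prime_two).mp h5
          exact ⟨m, hm⟩
      exact solvable_of_ker_le_range N.subtype (QuotientGroup.mk' N) (by rw [QuotientGroup.ker_mk', range_subtype])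
    · haveI : Subsingleton G := not_nontrivial_iff_subsingleton.mp hnt
      infer_instance
end aux

/-- Every finite group having an abelian subgroup whose index is a power of 2 is solvable. -/
theorem result {G : Type*} [Group G] [Finite G]
    (A : Subgroup G) (hA : IsMulCommutative A) (hidx : ∃ k : ℕ, A.index = 2 ^ k) : Group.IsSolvable G := by
  exact solv_aux _ G rfl A hA hidx

end Cfsg.Agent.S3824
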