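import Cfsg.Statements.S3869
import Cfsg.Agent.H23.MinNonClosed

set_option autoImplicit false
set_option linter.all false
open Cfsg

namespace Cfsg.Agent.S3869

section aux
open Subgroup H23
open scoped commutatorElement

theorem pclosed_of_isPGroup {K : Type*} [Group K] [Finite K] {p : ℕ} [Fact p.Prime] (h : IsPGroup p K) :
    Cfsg.IsPClosed p K := by
  intro P
  have h1 : (⊤ : Subgroup K) = P := P.3 (h.to_subgroup ⊤) le_top
  rw [← h1]; infer_instance

theorem pclosed_of_not_dvd {K : Type*} [Group K] [Finite K] {p : ℕ} [Fact p.Prime] (h : ¬ p ∣ Nat.card K) :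
    Cfsg.IsPClosed p K := by
  intro P
  have h1 : (P : Subgroup K) = ⊥ := by
    have h3 := P.card_eq_multiplicity
    rw [Nat.factorization_eq_zero_of_not_dvd h, pow_zero, card_eq_one] at h3
    exact h3
  rw [h1]; infer_instance

theorem comm_of_commute {G : Type*} [Group G] [Finite G] {p : ℕ} [Fact p.Prime] {A : Subgroup G} [A.Normal]
    (hA : ∀ a ∈ A, ∀ b ∈ A, a * b = b * a) (hidx : A.index = p) {x : G} (hx : x ∉ A)
    (hxA : ∀ a ∈ A, x * a = a * x) (g h : G) : g * h = h * g := by
  have hp : p.Prime := Fact.out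
  have hsup := sup_zpowers_eq_top_of_index_prime hp hidx hx
  have hdec : ∀ g : G, ∃ a ∈ A, ∃ k : ℕ, g = a * x ^ k := by
    intro g
    obtain ⟨a, ha, z, hz, rfl⟩ := mem_sup_of_normal_left.mp (show g ∈ A ⊔ zpowers x by rw [hsup]; exact mem_top g)
    obtain ⟨k, rfl⟩ := mem_powers_iff_mem_zpowers.mpr hz
    exact ⟨a, ha, k, rfl⟩
  obtain ⟨a, ha, k, rfl⟩ := hdec g
  obtain ⟨b, hb, l, rfl⟩ := hdec h
  have e1 : Commute (x ^ k) b := (show Commute x b from hxA b hb).pow_left k
  have e2 : Commute (x ^ l) a := (show Commute x a from hxA a ha).pow_left l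
  have e3 : Commute (x ^ k) (x ^ l) := (Commute.refl x).pow_pow k l
  have e4 : Commute a b := hA a ha b hb
  exact ((e4.mul_right e2.symm).mul_left (e1.mul_right e3)).eq

theorem aux {G : Type*} [Group G] [Finite G] {p q : ℕ} [Fact p.Prime] (hq : q.Prime) (hpq : q ≠ p)
    (hna : ¬ IsMulCommutative G) (A : Subgroup G) [A.Normal] (hA : Cfsg.IsElementaryAbelian q A) (hidx : A.index = p)
    (hmin : ∀ B : Subgroup G, B.Normal → B ≤ A → B = ⊥ ∨ B = A) :
    Nat.card ↥A = q ^ orderOf (q : ZMod p) ∧ ¬ Cfsg.IsPClosed p G ∧ (∀ H : Subgroup G, H ≠ ⊤ → Cfsg.IsPClosed p ↥H) ∧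
      ∀ (N : Subgroup G) [N.Normal], N ≠ ⊥ → Cfsg.IsPClosed p (G ⧸ N) := by
  have hpp : p.Prime := Fact.out
  haveI hqF : Fact q.Prime := ⟨hq⟩
  have hna' : ∃ x y : G, x * y ≠ y * x := by
    by_contra hcon
    push Not at hcon
    exact hna ⟨⟨hcon⟩⟩
  have hAc : ∀ a ∈ A, ∀ b ∈ A, a * b = b * a := (H20.isMulCommutative_iff).mp hA.1
  have hcardA := card_min_normal hpq A hA hidx hmin hna'
  have hpA : ¬ p ∣ Nat.card A := by
    rw [hcardA]
    intro h
    have := hpp.dvd_of_dvd_pow h
    exact hpq ((Nat.prime_dvd_prime_iff_eq hpp hq).mp this).symm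
  have key : ∀ N : Subgroup G, N.Normal → N ≠ ⊥ → N ⊓ A ≠ ⊥ := by
    intro N hN hN1 hNA
    obtain ⟨x, y, hxy⟩ := hna'
    apply hxy
    obtain ⟨z, hz, hz1⟩ : ∃ z ∈ N, z ≠ 1 := by
      by_contra hcon
      push Not at hcon
      exact hN1 ((Subgroup.eq_bot_iff_forall N).mpr hcon)
    have hzA : z ∉ A := fun h => hz1 (by
      have : z ∈ N ⊓ A := ⟨hz, h⟩
      rwa [hNA, Subgroup.mem_bot] at this)
    refine comm_of_commute hAc hidx hzA ?_ x y
    intro a ha
    have h1 : z * a * z⁻¹ * a⁻¹ ∈ N ⊓ A := by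
      refine ⟨?_, ?_⟩
      · have := N.mul_mem hz (hN.conj_mem _ (N.inv_mem hz) a)
        have e : z * (a * z⁻¹ * a⁻¹) = z * a * z⁻¹ * a⁻¹ := by group
        rwa [e] at this
      · exact A.mul_mem (‹A.Normal›.conj_mem a ha z) (A.inv_mem ha)
    rw [hNA, Subgroup.mem_bot] at h1
    have h2 := mul_inv_eq_one.mp h1
    exact mul_inv_eq_iff_eq_mul.mp h2
  refine ⟨hcardA, ?_, ?_, ?_⟩
  · intro hcl
    have h1 := hcl (default : Sylow p G)
    apply key _ h1
    · intro h2
      have h3 := (default : Sylow p G).card_eq_multiplicity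
      rw [h2, Subgroup.card_bot] at h3
      have hdvd : p ∣ Nat.card G := by rw [← hidx]; exact A.index_dvd_card
      have h4 : 1 < p ^ (Nat.card G).factorization p :=
        Nat.one_lt_pow (Nat.pos_iff_ne_zero.mp (hpp.factorization_pos_of_dvd Nat.card_pos.ne' hdvd)) hpp.one_lt
      omega
    · rw [inf_comm]
      apply H23.inf_eq_bot_of_coprime
      have h5 := (default : Sylow p G).card_eq_multiplicity
      rw [h5]
      exact (Nat.Coprime.pow_left _ ((Nat.Prime.coprime_iff_not_dvd hpp).mpr hpA)).symm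
  · intro H hH
    by_cases hHA : H ≤ A
    · apply pclosed_of_not_dvd
      intro h
      exact hpA (h.trans (Subgroup.card_dvd_of_le hHA))
    · obtain ⟨x, hxH, hxA⟩ := Set.not_subset.mp hHA
      have hsup := sup_zpowers_eq_top_of_index_prime hpp hidx hxA
      have hHn : (H ⊓ A).Normal := by
        rw [← Subgroup.normalizer_eq_top_iff, eq_top_iff, ← hsup]
        apply sup_le
        · rw [Subgroup.le_normalizer_iff]
          intro a ha y hy
          rw [hAc a ha y hy.2, mul_inv_cancel_right]; exact hy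
        · have h1 : Subgroup.zpowers x ≤ H := by rw [Subgroup.zpowers_le]; exact hxH
          refine h1.trans ?_
          rw [Subgroup.le_normalizer_iff]
          intro a ha y hy
          exact ⟨H.mul_mem (H.mul_mem ha hy.1) (H.inv_mem ha), ‹A.Normal›.conj_mem y hy.2 a⟩
      rcases hmin _ hHn inf_le_right with h | h
      · apply pclosed_of_isPGroup
        have h1 : IsPGroup p (G ⧸ A) := IsPGroup.of_card (n := 1) (by rw [pow_one, ← hidx]; rfl)
        refine h1.of_injective ((QuotientGroup.mk' A).comp H.subtype) ?_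
        rw [← MonoidHom.ker_eq_bot_iff, eq_bot_iff]
        intro y hy
        rw [MonoidHom.mem_ker, MonoidHom.comp_apply] at hy
        have h2 : (y : G) ∈ A := (QuotientGroup.eq_one_iff _).mp hy
        have h3 : (y : G) ∈ H ⊓ A := ⟨y.2, h2⟩
        rw [h, Subgroup.mem_bot] at h3
        rw [Subgroup.mem_bot]
        exact Subtype.ext h3
      · exfalso
        apply hH
        rw [eq_top_iff, ← hsup]
        apply sup_le
        · rw [← h]; exact inf_le_left
        · rw [Subgroup.zpowers_le]; exact hxH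
  · intro N hN hN1
    rcases hmin (N ⊓ A) inferInstance inf_le_right with h | h
    · exact absurd h (key N hN hN1)
    · apply pclosed_of_isPGroup
      have h1 : A ≤ N := by rw [← h]; exact inf_le_left
      have h2 : N.index ∣ p := by rw [← hidx]; exact Subgroup.index_dvd_of_le h1
      rcases (Nat.dvd_prime hpp).mp h2 with h3 | h3
      · exact IsPGroup.of_card (n := 0) (by rw [pow_zero, ← h3]; rfl)
      · exact IsPGroup.of_card (n := 1) (by rw [pow_one]; exact h3)

end aux


/-- Let p and q be distinct primes and G a finite non-abelian group with a normal elementary abelian q-subgroup A that is a minimal normal subgroup of G and has index p. Then A has order q^e with e the multiplicative order of q modulo p, and G is minimal non-p-closed: its Sylow p-subgroups are not normal, while in every proper subgroup and in every proper quotient of G the Sylow p-subgroups are normal. -/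
theorem result {G : Type*} [Group G] [Finite G] {p q : ℕ} [Fact p.Prime] (hq : q.Prime) (hpq : q ≠ p)
    (hna : ¬ IsMulCommutative G) (A : Subgroup G) [A.Normal] (hA : Cfsg.IsElementaryAbelian q A) (hidx : A.index = p)
    (hmin : ∀ B : Subgroup G, B.Normal → B ≤ A → B = ⊥ ∨ B = A) :
    Nat.card ↥A = q ^ orderOf (q : ZMod p) ∧ ¬ Cfsg.IsPClosed p G ∧ (∀ H : Subgroup G, H ≠ ⊤ → Cfsg.IsPClosed p ↥H) ∧
      ∀ (N : Subgroup G) [N.Normal], N ≠ ⊥ → Cfsg.IsPClosed p (G ⧸ N) := by
  exact aux hq hpq hna A hA hidx hmin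

end Cfsg.Agent.S3869
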