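import Cfsg.Statements.S3870
import Cfsg.Agent.H23.PGroup3
import Cfsg.Agent.H1.Coprime2

set_option autoImplicit false
set_option linter.all false
open Cfsg

namespace Cfsg.Agent.S3870

section aux
open Subgroup
open scoped Pointwise

theorem aux {G : Type*} [Group G] [Finite G] [IsSimpleGroup G] {p : ℕ} [Fact p.Prime]
    (hnc : ¬ Cfsg.IsPClosed p G) (hsub : ∀ H : Subgroup G, H ≠ ⊤ → Cfsg.IsPClosed p ↥H) :
    (∀ P Q : Sylow p G, P ≠ Q → (P : Subgroup G) ⊓ (Q : Subgroup G) = ⊥) ∧
      ∀ (P : Sylow p G) (R : Subgroup G), R ≤ P → R ≠ ⊥ →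
        Subgroup.normalizer (R : Set G) ≤ Subgroup.normalizer ((P : Subgroup G) : Set G) := by
  classical
  have hTI : ∀ P Q : Sylow p G, P ≠ Q → (P : Subgroup G) ⊓ (Q : Subgroup G) = ⊥ := by
    by_contra hcon
    push Not at hcon
    -- choose a pair with maximal intersection
    obtain ⟨P₀, Q₀, hPQ₀, hne₀⟩ := hcon
    let 𝒟 : Set (Subgroup G) := {D | D ≠ ⊥ ∧ ∃ P Q : Sylow p G, P ≠ Q ∧ D = (P : Subgroup G) ⊓ Q}
    obtain ⟨D, hD⟩ := (Set.toFinite 𝒟).exists_maximal ⟨_, hne₀, P₀, Q₀, hPQ₀, rfl⟩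
    obtain ⟨hD1, P, Q, hPQ, hDeq⟩ := hD.prop
    have hDp : IsPGroup p D := P.isPGroup'.to_le (hDeq ▸ inf_le_left)
    have hDP : D < P := by
      refine lt_of_le_of_ne (hDeq ▸ inf_le_left) fun h => hPQ ?_
      have h1 : (P : Subgroup G) ≤ Q := by rw [← h, hDeq]; exact inf_le_right
      exact Sylow.ext (P.3 Q.isPGroup' h1).symm
    have hDQ : D < Q := by
      refine lt_of_le_of_ne (hDeq ▸ inf_le_right) fun h => hPQ ?_
      have h1 : (Q : Subgroup G) ≤ P := by rw [← h, hDeq]; exact inf_le_left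
      exact Sylow.ext (Q.3 P.isPGroup' h1)
    set N := normalizer (D : Set G) with hN
    have hNtop : N ≠ ⊤ := by
      intro h
      have hDn : D.Normal := Subgroup.normalizer_eq_top_iff.mp h
      rcases hDn.eq_bot_or_eq_top with h1 | h1
      · exact hD1 h1
      · exact absurd (h1 ▸ hDP) (not_lt_of_ge le_top)
    -- the normal Sylow subgroup of N
    have hT := hsub N hNtop
    obtain ⟨T⟩ : Nonempty (Sylow p N) := inferInstance
    haveI hTs : Subsingleton (Sylow p N) := by
      haveI := Sylow.unique_of_normal T (hT T)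
      infer_instance
    have hTp : IsPGroup p ((T : Subgroup N).map N.subtype) := T.isPGroup'.map _
    obtain ⟨R, hR⟩ := hTp.exists_le_sylow
    have hle : ∀ S : Sylow p G, N ⊓ (S : Subgroup G) ≤ R := by
      intro S
      have h1 : IsPGroup p ((N ⊓ (S : Subgroup G)).subgroupOf N) :=
        (S.isPGroup'.to_le inf_le_right).of_equiv (subgroupOfEquivOfLe inf_le_left).symm
      obtain ⟨T', hT'⟩ := h1.exists_le_sylow
      rw [Subsingleton.elim T' T] at hT'
      refine le_trans ?_ hR
      rw [← map_subgroupOf_eq_of_le (inf_le_left : N ⊓ (S : Subgroup G) ≤ N)]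
      exact map_mono hT'
    have hgrow : ∀ S : Sylow p G, D < S → S = R := by
      intro S hDS
      by_contra hSR
      have h1 := H1.lt_normalizer_inf_of_nilpotent S.isPGroup'.isNilpotent hDS
      have h2 : normalizer (D : Set G) ⊓ (S : Subgroup G) ≤ (S : Subgroup G) ⊓ R :=
        le_inf inf_le_right (hle S)
      have h3 : (S : Subgroup G) ⊓ R ≤ D := by
        apply hD.le_of_ge ⟨?_, S, R, hSR, rfl⟩ (h1.le.trans h2)
        intro h
        rw [h, le_bot_iff] at h2
        rw [h2] at h1
        exact absurd h1 not_lt_bot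
      exact absurd (h2.trans h3) (not_le_of_gt h1)
    exact hPQ ((hgrow P hDP).trans (hgrow Q hDQ).symm)
  refine ⟨hTI, ?_⟩
  intro P R hRP hR1 g hg
  have h1 : g • P = P := by
    by_contra hne
    have h2 := hTI (g • P) P hne
    apply hR1
    rw [eq_bot_iff, ← h2]
    refine le_inf ?_ hRP
    have h3 : MulAut.conj g • R = R := H1.mem_normalizer_iff_conj_smul.mp hg
    rw [← h3]
    show MulAut.conj g • R ≤ MulAut.conj g • (P : Subgroup G)
    exact H1.conj_smul_le_conj_smul_iff.mpr hRP
  rw [H1.mem_normalizer_iff_conj_smul]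
  exact congrArg (fun S : Sylow p G => (S : Subgroup G)) h1

end aux

/-- Let G be a finite simple group whose Sylow p-subgroups are not normal but such that every proper subgroup of G has a normal Sylow p-subgroup. Then any two distinct Sylow p-subgroups of G intersect trivially, and for every Sylow p-subgroup P the normalizer of every non-identity subgroup of P lies in the normalizer of P. -/
theorem result {G : Type*} [Group G] [Finite G] [IsSimpleGroup G] {p : ℕ} [Fact p.Prime]
    (hnc : ¬ Cfsg.IsPClosed p G) (hsub : ∀ H : Subgroup G, H ≠ ⊤ → Cfsg.IsPClosed p ↥H) :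
    (∀ P Q : Sylow p G, P ≠ Q → (P : Subgroup G) ⊓ (Q : Subgroup G) = ⊥) ∧
      ∀ (P : Sylow p G) (R : Subgroup G), R ≤ P → R ≠ ⊥ →
        Subgroup.normalizer (R : Set G) ≤ Subgroup.normalizer ((P : Subgroup G) : Set G) := by
  exact aux hnc hsub

end Cfsg.Agent.S3870
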