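import Cfsg.Statements.S3872
import Cfsg.Agent.H22.HallPet
import Cfsg.Agent.H25.RegP
import Cfsg.Agent.H23.RankOne
import Cfsg.Agent.H23.MaxClass3
import Cfsg.Agent.H2.Frat

set_option autoImplicit false
set_option linter.all false
open Cfsg

namespace Cfsg.Agent.S3872


/-- Say that a finite group is p-exponent closed when its elements of order dividing p form a subgroup. Let G be a finite p-group that is not p-exponent closed, but all of whose proper subgroups and proper quotients are. Then G is generated by two elements, has nilpotency class at least p, has exponent p², has cyclic center, and has order at least p^(p+1). -/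
theorem result {G : Type*} [Group G] [Finite G] {p : ℕ} [Fact p.Prime] (hG : IsPGroup p G)
    (hnc : ¬ (∃ H : Subgroup G, (H : Set G) = {g : G | g ^ p = 1})) (hsub : ∀ K : Subgroup G, K ≠ ⊤ → (∃ H : Subgroup ↥K, (H : Set ↥K) = {g : ↥K | g ^ p = 1}))
    (hquo : ∀ (N : Subgroup G) [N.Normal], N ≠ ⊥ → (∃ H : Subgroup (G ⧸ N), (H : Set (G ⧸ N)) = {g : (G ⧸ N) | g ^ p = 1})) :
    (∃ x y : G, Subgroup.closure ({x, y} : Set G) = ⊤) ∧ (⊤ : Subgroup G).lowerCentralSeries (p - 1) ≠ ⊥ ∧
      Monoid.exponent G = p ^ 2 ∧ IsCyclic ↥(Subgroup.center G) ∧ p ^ (p + 1) ≤ Nat.card G := by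
  have hp : p.Prime := Fact.out
  -- a bad pair
  obtain ⟨x, y, hx, hy, hxy⟩ : ∃ x y : G, x ^ p = 1 ∧ y ^ p = 1 ∧ (x * y) ^ p ≠ 1 := by
    by_contra hno
    push Not at hno
    apply hnc
    refine ⟨{ carrier := {g : G | g ^ p = 1}
              one_mem' := one_pow p
              mul_mem' := fun {a b} ha hb => hno a b ha hb
              inv_mem' := fun {a} (ha : a ^ p = 1) => by
                show a⁻¹ ^ p = 1
                rw [inv_pow, ha, inv_one] }, rfl⟩
  have hgen : Subgroup.closure ({x, y} : Set G) = ⊤ := by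
    by_contra hne
    obtain ⟨H, hH⟩ := hsub _ hne
    have hxK : x ∈ Subgroup.closure ({x, y} : Set G) := Subgroup.subset_closure (by simp)
    have hyK : y ∈ Subgroup.closure ({x, y} : Set G) := Subgroup.subset_closure (by simp)
    have hmem : ∀ g : Subgroup.closure ({x, y} : Set G), g ∈ H ↔ g ^ p = 1 := fun g => by
      rw [← SetLike.mem_coe, hH]; rfl
    have h1 : (⟨x, hxK⟩ : Subgroup.closure ({x, y} : Set G)) ∈ H := (hmem _).mpr (Subtype.ext hx)
    have h2 : (⟨y, hyK⟩ : Subgroup.closure ({x, y} : Set G)) ∈ H := (hmem _).mpr (Subtype.ext hy)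
    have h3 := (hmem _).mp (mul_mem h1 h2)
    exact hxy (congrArg Subtype.val h3)
  have hlcs : (⊤ : Subgroup G).lowerCentralSeries (p - 1) ≠ ⊥ := by
    intro h
    have hr := Cfsg.Agent.H22.HP.regular_of_class hG h
    have := Cfsg.Agent.H25.RegP.pow_mul_one hr (a := x) (b := y) (k := 1) (by rw [pow_one]; exact hx) (by rw [pow_one]; exact hy)
    rw [pow_one] at this
    exact hxy this
  have hquot : ∀ (N : Subgroup G) [N.Normal], N ≠ ⊥ → ∀ g : G, g ^ p ∈ N := by
    intro N _ hN g
    obtain ⟨H, hH⟩ := hquo N hN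
    have hmem : ∀ g : G ⧸ N, g ∈ H ↔ g ^ p = 1 := fun g => by
      rw [← SetLike.mem_coe, hH]; rfl
    have h1 : (⊤ : Subgroup G) ≤ H.comap (QuotientGroup.mk' N) := by
      rw [← hgen, Subgroup.closure_le]
      rintro g (rfl | rfl)
      · show QuotientGroup.mk' N g ∈ H
        rw [hmem, ← map_pow, hx, map_one]
      · show QuotientGroup.mk' N g ∈ H
        rw [hmem, ← map_pow, hy, map_one]
    have h2 : QuotientGroup.mk' N g ∈ H := h1 (Subgroup.mem_top g)
    rw [hmem, ← map_pow] at h2
    exact (QuotientGroup.eq_one_iff _).mp h2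
  have hnt : Nontrivial G := ⟨⟨(x * y) ^ p, 1, hxy⟩⟩
  -- a central element of order p
  haveI hZnt := hG.center_nontrivial
  have hZp : IsPGroup p (Subgroup.center G) := hG.to_subgroup _
  have hwZ : ∀ z ∈ Subgroup.center G, orderOf z = p → (x * y) ^ p ∈ Subgroup.zpowers z := by
    intro z hz hzo
    haveI : (Subgroup.zpowers z).Normal := by
      refine ⟨fun a ha g => ?_⟩
      have : a ∈ Subgroup.center G := (Subgroup.zpowers_le.mpr hz) ha
      rw [Subgroup.mem_center_iff.mp this g, mul_inv_cancel_right]
      exact ha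
    apply hquot
    rw [Ne, Subgroup.zpowers_eq_bot]
    rintro rfl
    rw [orderOf_one] at hzo
    exact hp.one_lt.ne hzo
  obtain ⟨z, hz⟩ := exists_prime_orderOf_dvd_card' (G := Subgroup.center G) p (by
    obtain ⟨n, hn⟩ := IsPGroup.iff_card.mp hZp
    have h1 := Finite.one_lt_card (α := Subgroup.center G)
    rw [hn] at h1 ⊢
    rcases Nat.eq_zero_or_pos n with h | h
    · rw [h, pow_zero] at h1; exact absurd h1 (lt_irrefl _)
    · exact dvd_pow_self p h.ne')
  have hz' : orderOf (z : G) = p := by rw [Subgroup.orderOf_coe]; exact hz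
  have hexp2 : ∀ g : G, g ^ p ^ 2 = 1 := by
    intro g
    haveI : (Subgroup.zpowers (z : G)).Normal := by
      refine ⟨fun a ha g => ?_⟩
      have : a ∈ Subgroup.center G := (Subgroup.zpowers_le.mpr z.2) ha
      rw [Subgroup.mem_center_iff.mp this g, mul_inv_cancel_right]
      exact ha
    have h1 : g ^ p ∈ Subgroup.zpowers (z : G) := by
      apply hquot
      rw [Ne, Subgroup.zpowers_eq_bot]
      intro h
      rw [h, orderOf_one] at hz'
      exact hp.one_lt.ne hz'
    obtain ⟨k, hk⟩ := h1
    have hk' : (z : G) ^ k = g ^ p := hk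
    have hzp : (z : G) ^ p = 1 := by rw [← hz']; exact pow_orderOf_eq_one _
    rw [pow_two, pow_mul, ← hk', ← zpow_natCast, ← zpow_mul, mul_comm, zpow_mul, zpow_natCast, hzp, one_zpow]
  refine ⟨⟨x, y, hgen⟩, hlcs, ?_, ?_, ?_⟩
  · have h1 : Monoid.exponent G ∣ p ^ 2 := Monoid.exponent_dvd_of_forall_pow_eq_one hexp2
    obtain ⟨k, hk, hk'⟩ := (Nat.dvd_prime_pow hp).mp h1
    rw [hk']
    have h2 : ¬ Monoid.exponent G ∣ p := fun h => hxy (Monoid.exponent_dvd_iff_forall_pow_eq_one.mp h _)
    rw [hk'] at h2
    rcases Nat.lt_or_ge k 2 with h | h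
    · exfalso
      apply h2
      have : k = 0 ∨ k = 1 := by omega
      rcases this with rfl | rfl
      · rw [pow_zero]; exact one_dvd _
      · rw [pow_one]
    · congr 1; omega
  · rcases Cfsg.Agent.H23.cyclic_or_quaternion (p := p) hZp (by
      intro a b ha hb
      have h1 := hwZ a a.2 (by rw [Subgroup.orderOf_coe]; exact ha)
      have h2 := hwZ b b.2 (by rw [Subgroup.orderOf_coe]; exact hb)
      -- zpowers w = zpowers a = zpowers b
      have key : ∀ c : Subgroup.center G, orderOf c = p → (x * y) ^ p ∈ Subgroup.zpowers (c : G) →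
          Subgroup.zpowers ((x * y) ^ p) = Subgroup.zpowers (c : G) := by
        intro c hc hw
        apply Subgroup.eq_of_le_of_card_ge (Subgroup.zpowers_le.mpr hw)
        rw [Nat.card_zpowers, Nat.card_zpowers, Subgroup.orderOf_coe, hc]
        have h3 : orderOf ((x * y) ^ p) ∣ p := by
          have := orderOf_dvd_of_mem_zpowers hw
          rwa [Subgroup.orderOf_coe, hc] at this
        rcases (Nat.dvd_prime hp).mp h3 with h | h
        · exact absurd (orderOf_eq_one_iff.mp h) hxy
        · rw [h]
      have h3 : (b : G) ∈ Subgroup.zpowers (a : G) := by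
        rw [← key a ha h1, key b hb h2]; exact Subgroup.mem_zpowers _
      obtain ⟨k, hk⟩ := h3
      exact ⟨k, Subtype.ext hk⟩) with h | ⟨-, n, hn, ⟨e⟩⟩
    · exact h
    · exfalso
      have h1 : (QuaternionGroup.a 1 : QuaternionGroup (2 ^ n)) * QuaternionGroup.xa 0 =
          QuaternionGroup.xa 0 * QuaternionGroup.a 1 := by
        apply e.symm.injective
        have hcm : ∀ u v : Subgroup.center G, u * v = v * u := fun u v =>
          Subtype.ext (Subgroup.mem_center_iff.mp v.2 (u : G))
        rw [map_mul, map_mul]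
        exact hcm _ _
      rw [QuaternionGroup.a_mul_xa, QuaternionGroup.xa_mul_a] at h1
      have h2 : (0 - 1 : ZMod (2 * 2 ^ n)) = 0 + 1 := by
        injection h1
      have h3 : ((2 : ℕ) : ZMod (2 * 2 ^ n)) = 0 := by
        push_cast
        linear_combination -h2
      rw [ZMod.natCast_eq_zero_iff] at h3
      have h4 := Nat.le_of_dvd (by norm_num) h3
      have h5 : 2 ≤ 2 ^ n := by
        calc 2 = 2 ^ 1 := by norm_num
          _ ≤ 2 ^ n := Nat.pow_le_pow_right (by norm_num) hn
      omega
  · have hp2 := hp.two_le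
    have h1 := Cfsg.Agent.H23.card_lcs_ge hG (p - 1) hlcs (p - 2) (by omega)
    rw [show p - 1 - (p - 2) = 1 by omega, show p - 2 + 1 = p - 1 by omega, Subgroup.top_lowerCentralSeries_one] at h1
    -- G / G' is not cyclic
    have h2 : p ^ 2 ≤ (commutator G).index := by
      obtain ⟨k, hk⟩ := IsPGroup.iff_card.mp (hG.to_quotient (commutator G))
      have hk' : (commutator G).index = p ^ k := hk
      rcases Nat.lt_or_ge k 2 with hlt | hge
      · exfalso
        have hcyc : IsCyclic (G ⧸ commutator G) := by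
          have : k = 0 ∨ k = 1 := by omega
          rcases this with rfl | rfl
          · rw [pow_zero] at hk
            exact isCyclic_of_card_dvd_prime (p := p) (by rw [hk]; exact one_dvd _)
          · rw [pow_one] at hk
            exact isCyclic_of_prime_card hk
        obtain ⟨c, hc⟩ := hcyc.exists_generator
        obtain ⟨g, rfl⟩ := QuotientGroup.mk_surjective c
        have h3 : Subgroup.zpowers g ⊔ frattini G = ⊤ := by
          rw [eq_top_iff]
          intro u _
          obtain ⟨k, hk⟩ := hc (u : G ⧸ commutator G)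
          have hk' : (g : G ⧸ commutator G) ^ k = u := hk
          have h4 : (g ^ k)⁻¹ * u ∈ commutator G := by
            rw [← QuotientGroup.eq_one_iff]
            show ((g : G ⧸ commutator G) ^ k)⁻¹ * (u : G ⧸ commutator G) = 1
            rw [hk', inv_mul_cancel]
          have h5 : u = g ^ k * ((g ^ k)⁻¹ * u) := by group
          rw [h5]
          exact mul_mem (Subgroup.mem_sup_left (zpow_mem (Subgroup.mem_zpowers g) k))
            (Subgroup.mem_sup_right (Cfsg.Agent.H2.commutator_le_frattini hG h4))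
        have h6 := Cfsg.Agent.H2.eq_top_of_sup_frattini h3
        apply hxy
        have hx6 : x ∈ Subgroup.zpowers g := by rw [h6]; trivial
        have hy6 : y ∈ Subgroup.zpowers g := by rw [h6]; trivial
        obtain ⟨a, ha⟩ := hx6
        obtain ⟨b, hb⟩ := hy6
        have hcm : Commute x y := by
          have ha' : g ^ a = x := ha
          have hb' : g ^ b = y := hb
          rw [← ha', ← hb']
          exact (Commute.refl g).zpow_zpow a b
        rw [hcm.mul_pow, hx, hy, one_mul]
      · rw [hk']; exact Nat.pow_le_pow_right hp.pos hge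
    have h3 := (commutator G).card_mul_index
    rw [← h3]
    calc p ^ (p + 1) = p ^ (p - 1) * p ^ 2 := by rw [← pow_add]; congr 1; omega
      _ ≤ _ := Nat.mul_le_mul h1 h2

end Cfsg.Agent.S3872
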