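import Cfsg.Statements.S3873
import Cfsg.Agent.H23.MinNonClosed
import Cfsg.Agent.H29.XS

set_option autoImplicit false
set_option linter.all false
open Cfsg

namespace Cfsg.Agent.S3873

section aux
open Subgroup H23
open scoped commutatorElement

theorem expclosed_le_normalizer {G : Type*} [Group G] [Finite G] {p : ℕ} [Fact p.Prime] {P H : Subgroup G}
    (hH : ∃ K : Subgroup H, (K : Set H) = {g : H | g ^ p = 1}) (hPH : P ≤ H) (hP : IsPGroup p P)
    (hPe : ∀ x ∈ P, x ^ p = 1) (h : ¬ p ∣ P.relIndex H) :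
    H ≤ normalizer (P : Set G) := by
  obtain ⟨K, hK⟩ := hH
  have hKm : ∀ x : H, x ∈ K ↔ x ^ p = 1 := fun x => by
    have : x ∈ (K : Set H) ↔ x ∈ {g : H | g ^ p = 1} := by rw [hK]
    exact this
  have hKp : IsPGroup p K := by
    intro x
    refine ⟨1, ?_⟩
    rw [pow_one]
    exact Subtype.ext ((hKm x).mp x.2)
  have h1 : P.subgroupOf H ≤ K := by
    intro x hx
    rw [hKm]
    exact Subtype.ext (hPe x hx)
  have h2 : K = P.subgroupOf H := by
    obtain ⟨S, hS⟩ := isSylowOf_of_not_dvd hPH hP h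
    have h3 : (S : Subgroup H) = P.subgroupOf H := by
      rw [← hS, subgroupOf, comap_map_eq_self_of_injective H.subtype_injective]
    rw [← h3]
    rw [← h3] at h1
    exact S.3 hKp h1
  rw [Subgroup.le_normalizer_iff]
  intro x hx y hy
  have h3 : (⟨y, hPH hy⟩ : H) ∈ K := by rw [h2]; exact hy
  rw [hKm] at h3
  have h4 : (⟨x, hx⟩ * ⟨y, hPH hy⟩ * ⟨x, hx⟩⁻¹ : H) ∈ K := by
    rw [hKm, conj_pow, h3, mul_one, mul_inv_cancel]
  rw [h2] at h4
  exact h4

theorem aux {G : Type*} [Group G] [Finite G] {p : ℕ} [Fact p.Prime]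
    (hnc : ¬ (∃ H : Subgroup G, (H : Set G) = {g : G | g ^ p = 1})) (hsub : ∀ K : Subgroup G, K ≠ ⊤ → (∃ H : Subgroup ↥K, (H : Set ↥K) = {g : ↥K | g ^ p = 1}))
    (hquo : ∀ (N : Subgroup G) [N.Normal], N ≠ ⊥ → (∃ H : Subgroup (G ⧸ N), (H : Set (G ⧸ N)) = {g : (G ⧸ N) | g ^ p = 1}))
    (hns : ¬ IsSimpleGroup G) (hnp : ¬ IsPGroup p G) :
    ∃ q : ℕ, q.Prime ∧ q ≠ p ∧ Nat.card G = p * q ^ orderOf (q : ZMod p) ∧
      ∃ A : Subgroup G, A.Normal ∧ Nat.card ↥A = q ^ orderOf (q : ZMod p) ∧ Cfsg.IsElementaryAbelian q A ∧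
        ∀ B : Subgroup G, B.Normal → B ≤ A → B = ⊥ ∨ B = A := by
  have hpp : p.Prime := Fact.out
  -- `G` is generated by elements of order `p`
  have hgen : closure {g : G | g ^ p = 1} = ⊤ := by
    by_contra hne
    obtain ⟨K, hK⟩ := hsub _ hne
    apply hnc
    refine ⟨K.map (closure {g : G | g ^ p = 1}).subtype, ?_⟩
    have hKm : ∀ x, x ∈ K ↔ x ^ p = 1 := fun x => by
      have : x ∈ (K : Set _) ↔ x ∈ {g : closure {g : G | g ^ p = 1} | g ^ p = 1} := by rw [hK]
      exact this
    ext g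
    constructor
    · rintro ⟨y, hy, rfl⟩
      exact congrArg Subtype.val ((hKm y).mp hy)
    · intro hg
      exact ⟨⟨g, subset_closure hg⟩, (hKm _).mpr (Subtype.ext hg), rfl⟩
  haveI hnt : Nontrivial G := by
    by_contra hcon
    rw [not_nontrivial_iff_subsingleton] at hcon
    apply hnc
    refine ⟨⊤, ?_⟩
    ext g
    have : g = 1 := Subsingleton.elim _ _
    simp [this]
  obtain ⟨N₀, hN₀, hN₀1, hN₀t⟩ : ∃ N : Subgroup G, N.Normal ∧ N ≠ ⊥ ∧ N ≠ ⊤ := by
    by_contra hcon
    push Not at hcon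
    apply hns
    exact { exists_pair_ne := hnt.exists_pair_ne
            eq_bot_or_eq_top_of_normal := fun N hN => by
              by_cases h5 : N = ⊥
              · exact Or.inl h5
              · exact Or.inr (hcon N hN h5) }
  obtain ⟨N, hN, hN1, hNN₀, hmin⟩ := H1.exists_minimal_normal_le hN₀ hN₀1
  haveI := hN
  have hNt : N ≠ ⊤ := fun h => hN₀t (top_le_iff.mp (h ▸ hNN₀))
  have hGN : ∀ g : G, g ^ p ∈ N := by
    obtain ⟨K, hK⟩ := hquo N hN1
    have hKm : ∀ x, x ∈ K ↔ x ^ p = 1 := fun x => by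
      have : x ∈ (K : Set _) ↔ x ∈ {g : G ⧸ N | g ^ p = 1} := by rw [hK]
      exact this
    have h1 : (⊤ : Subgroup G) ≤ K.comap (QuotientGroup.mk' N) := by
      rw [← hgen, closure_le]
      intro g hg
      have hg' : g ^ p = 1 := hg
      show QuotientGroup.mk' N g ∈ K
      rw [hKm, ← map_pow, hg', map_one]
    intro g
    have h2 : QuotientGroup.mk' N g ∈ K := h1 (mem_top g)
    rw [hKm, ← map_pow] at h2
    exact (QuotientGroup.eq_one_iff _).mp h2
  have hquoP : IsPGroup p (G ⧸ N) := by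
    intro x
    obtain ⟨g, rfl⟩ := QuotientGroup.mk_surjective x
    refine ⟨1, ?_⟩
    rw [pow_one, ← QuotientGroup.mk_pow]
    exact (QuotientGroup.eq_one_iff _).mpr (hGN g)
  have hNnp : ¬ IsPGroup p N := by
    intro h
    apply hnp
    have h1 : IsPGroup p (⊤ : Subgroup G) := by
      obtain ⟨k, hk⟩ := IsPGroup.iff_card.mp h
      obtain ⟨l, hl⟩ := IsPGroup.iff_card.mp hquoP
      apply IsPGroup.of_card (n := k + l)
      rw [card_top, ← N.card_mul_index, index_eq_card, hk, hl, pow_add]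
    exact h1.of_equiv topEquiv
  have hpN : ¬ p ∣ Nat.card N := by
    intro hdvd
    obtain ⟨K, hK⟩ := hsub N hNt
    have hKm : ∀ x, x ∈ K ↔ x ^ p = 1 := fun x => by
      have : x ∈ (K : Set _) ↔ x ∈ {g : N | g ^ p = 1} := by rw [hK]
      exact this
    have h1 : (K.map N.subtype).Normal := by
      constructor
      rintro _ ⟨y, hy, rfl⟩ g
      have hy' := (hKm y).mp hy
      refine ⟨⟨g * y * g⁻¹, hN.conj_mem y y.2 g⟩, ?_, rfl⟩
      rw [SetLike.mem_coe, hKm]
      apply Subtype.ext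
      show (g * (y : G) * g⁻¹) ^ p = 1
      rw [conj_pow]
      have : (y : G) ^ p = 1 := congrArg Subtype.val hy'
      rw [this]; simp
    rcases hmin _ h1 (map_subtype_le _) with h2 | h2
    · obtain ⟨x, hx⟩ := exists_prime_orderOf_dvd_card' p hdvd
      rw [map_eq_bot_iff_of_injective _ N.subtype_injective] at h2
      have h3 : x ∈ K := (hKm x).mpr (by rw [← hx]; exact pow_orderOf_eq_one x)
      rw [h2, mem_bot] at h3
      rw [h3, orderOf_one] at hx
      exact hpp.one_lt.ne hx
    · apply hNnp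
      intro x
      refine ⟨1, ?_⟩
      rw [pow_one, ← hKm]
      have : (x : G) ∈ K.map N.subtype := by rw [h2]; exact x.2
      obtain ⟨y, hy, hyx⟩ := this
      have : y = x := Subtype.ext hyx
      rwa [← this]
  obtain ⟨P⟩ := (inferInstance : Nonempty (Sylow p G))
  have hcop : ∀ K : Subgroup G, IsPGroup p K → (Nat.card K).Coprime (Nat.card N) := by
    intro K hK
    obtain ⟨k, hk⟩ := IsPGroup.iff_card.mp hK
    rw [hk]
    exact Nat.Coprime.pow_left k ((Nat.Prime.coprime_iff_not_dvd hpp).mpr hpN)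
  have hcard : ∀ K : Subgroup G, IsPGroup p K → Nat.card (K ⊔ N : Subgroup G) = Nat.card N * Nat.card K := by
    intro K hK
    rw [sup_comm]
    exact card_sup_of_coprime le_normalizer_of_normal (hcop K hK)
  have hrel : ∀ K : Subgroup G, IsPGroup p K → ¬ p ∣ K.relIndex (K ⊔ N) := by
    intro K hK h1
    have h2 := relIndex_mul_relIndex (⊥ : Subgroup G) K (K ⊔ N) bot_le le_sup_left
    rw [relIndex_bot_left, relIndex_bot_left, hcard K hK, mul_comm (Nat.card N)] at h2
    have h3 := Nat.eq_of_mul_eq_mul_left Nat.card_pos h2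
    rw [h3] at h1
    exact hpN h1
  have hPN : (P : Subgroup G) ⊔ N = ⊤ := by
    have h1 : ((P : Subgroup G) ⊔ N).index ∣ N.index := index_dvd_of_le le_sup_right
    have h2 : ((P : Subgroup G) ⊔ N).index ∣ (P : Subgroup G).index := index_dvd_of_le le_sup_left
    obtain ⟨l, hl⟩ := IsPGroup.iff_card.mp hquoP
    rw [N.index_eq_card, hl] at h1
    obtain ⟨m, -, hm⟩ := (Nat.dvd_prime_pow hpp).mp h1
    rw [← index_eq_one, hm]
    rcases Nat.eq_zero_or_pos m with h0 | h0
    · rw [h0, pow_zero]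
    · exfalso
      rw [hm] at h2
      exact Sylow.not_dvd_index P ((dvd_pow_self p h0.ne').trans h2)
  have hPe : ∀ x ∈ (P : Subgroup G), x ^ p = 1 := by
    intro x hx
    have h1 : x ^ p ∈ (P : Subgroup G) ⊓ N := ⟨pow_mem hx p, hGN x⟩
    rw [H23.inf_eq_bot_of_coprime (hcop _ P.2), mem_bot] at h1
    exact h1
  have hPn : ¬ (P : Subgroup G).Normal := by
    intro h
    apply hnc
    refine ⟨P, ?_⟩
    ext g
    constructor
    · intro hg; exact hPe g hg
    · intro hg
      have hg' : g ^ p = 1 := hg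
      have h1 : IsPGroup p (zpowers g) := by
        intro x
        obtain ⟨k, hk⟩ := mem_zpowers_iff.mp x.2
        refine ⟨1, ?_⟩
        apply Subtype.ext
        show (x : G) ^ p ^ 1 = 1
        rw [pow_one, ← hk, ← zpow_natCast, ← zpow_mul, mul_comm, zpow_mul, zpow_natCast, hg', one_zpow]
      obtain ⟨Q, hQ⟩ := h1.exists_le_sylow
      have h4 : Q = P := by
        have := Sylow.unique_of_normal P h
        exact Subsingleton.elim _ _
      rw [h4] at hQ
      exact hQ (mem_zpowers _)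
  have hP1 : (P : Subgroup G) ≠ ⊥ := fun h => hPn (by rw [h]; infer_instance)
  have hPp : Nat.card (P : Subgroup G) = p := by
    haveI : Nontrivial (P : Subgroup G) := (nontrivial_iff_ne_bot _).mpr hP1
    obtain ⟨M, hM, -⟩ := (eq_top_or_exists_le_coatom (⊥ : Subgroup (P : Subgroup G))).resolve_left bot_ne_top
    have hMn := H29.pgroup_coatom_normal P.2 hM
    have hMi := H29.pgroup_coatom_index P.2 hM
    set P₁ := M.map (P : Subgroup G).subtype with hP₁
    have hP₁P : P₁ ≤ P := map_subtype_le _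
    have hP₁p : IsPGroup p P₁ := P.2.to_le hP₁P
    have hP₁t : P₁ ⊔ N ≠ ⊤ := by
      intro h
      have h1 := hcard P₁ hP₁p
      have h2 := hcard P P.2
      rw [h, card_top] at h1
      rw [hPN, card_top, h1] at h2
      have h3 := Nat.eq_of_mul_eq_mul_left Nat.card_pos h2
      have h4 : P₁ = P := eq_of_le_of_card_ge hP₁P h3.ge
      apply hM.1
      rw [hP₁] at h4
      apply map_injective (P : Subgroup G).subtype_injective
      rw [h4, ← MonoidHom.range_eq_map, range_subtype]
    have h1 := expclosed_le_normalizer (hsub _ hP₁t) le_sup_left hP₁p (fun x hx => hPe x (hP₁P hx)) (hrel _ hP₁p)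
    have h2 : (P : Subgroup G) ≤ normalizer (P₁ : Set G) := by
      rw [Subgroup.le_normalizer_iff]
      rintro x hx _ ⟨y, hy, rfl⟩
      exact ⟨⟨x, hx⟩ * y * ⟨x, hx⟩⁻¹, hMn.conj_mem y hy _, rfl⟩
    have h3 : P₁.Normal := by
      rw [← normalizer_eq_top_iff, eq_top_iff, ← hPN]
      exact sup_le h2 (le_sup_right.trans h1)
    have h4 : P₁ = ⊥ := by
      by_contra hne
      obtain ⟨K, hK⟩ := hquo P₁ hne
      have hKm : ∀ x, x ∈ K ↔ x ^ p = 1 := fun x => by
        have : x ∈ (K : Set _) ↔ x ∈ {g : G ⧸ P₁ | g ^ p = 1} := by rw [hK]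
        exact this
      have hKp : IsPGroup p K := by
        intro x
        refine ⟨1, ?_⟩
        rw [pow_one]
        exact Subtype.ext ((hKm x).mp x.2)
      have h5 : ((P.mapSurjective (QuotientGroup.mk'_surjective P₁) : Sylow p (G ⧸ P₁)) : Subgroup (G ⧸ P₁)) ≤ K := by
        rintro _ ⟨x, hx, rfl⟩
        rw [hKm, ← map_pow, hPe x hx, map_one]
      have h6 := (P.mapSurjective (QuotientGroup.mk'_surjective P₁)).3 hKp h5
      have hKn : K.Normal := by
        constructor
        intro n hn g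
        rw [hKm] at hn ⊢
        rw [conj_pow, hn]; simp
      rw [h6] at hKn
      have h7 : ((P : Subgroup G).map (QuotientGroup.mk' P₁)).Normal := hKn
      have h8 := h7.comap (QuotientGroup.mk' P₁)
      rw [comap_map_eq, QuotientGroup.ker_mk', sup_eq_left.mpr hP₁P] at h8
      exact hPn h8
    rw [hP₁, map_eq_bot_iff_of_injective _ (P : Subgroup G).subtype_injective] at h4
    rw [h4, index_bot] at hMi
    exact hMi
  obtain ⟨q, h1, h2, h3, h4, h5⟩ := struct_core N (P : Subgroup G) hN1 hmin hpN hPp hPN hPn (by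
    intro H hH hPH
    refine expclosed_le_normalizer (hsub H hH) hPH P.2 hPe ?_
    intro hd
    have h1 := relIndex_mul_index hPH
    have h2 : ¬ p ∣ (P : Subgroup G).index := Sylow.not_dvd_index P
    apply h2
    rw [← h1]
    exact Dvd.dvd.mul_right hd _)
  exact ⟨q, h1, h2, h3, N, hN, h4, h5, hmin⟩
end aux

/-- Say that a finite group is p-exponent closed when its elements of order dividing p form a subgroup. Let G be a finite group that is not p-exponent closed, but all of whose proper subgroups and proper quotients are, and suppose G is neither simple nor a p-group. Then there is a prime q ≠ p such that G has order p · q^e, where e is the multiplicative order of q modulo p, and G has a normal elementary abelian subgroup of order q^e that is a minimal normal subgroup of G. -/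
theorem result {G : Type*} [Group G] [Finite G] {p : ℕ} [Fact p.Prime]
    (hnc : ¬ (∃ H : Subgroup G, (H : Set G) = {g : G | g ^ p = 1})) (hsub : ∀ K : Subgroup G, K ≠ ⊤ → (∃ H : Subgroup ↥K, (H : Set ↥K) = {g : ↥K | g ^ p = 1}))
    (hquo : ∀ (N : Subgroup G) [N.Normal], N ≠ ⊥ → (∃ H : Subgroup (G ⧸ N), (H : Set (G ⧸ N)) = {g : (G ⧸ N) | g ^ p = 1}))
    (hns : ¬ IsSimpleGroup G) (hnp : ¬ IsPGroup p G) :
    ∃ q : ℕ, q.Prime ∧ q ≠ p ∧ Nat.card G = p * q ^ orderOf (q : ZMod p) ∧
      ∃ A : Subgroup G, A.Normal ∧ Nat.card ↥A = q ^ orderOf (q : ZMod p) ∧ Cfsg.IsElementaryAbelian q A ∧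
        ∀ B : Subgroup G, B.Normal → B ≤ A → B = ⊥ ∨ B = A := by
  exact aux hnc hsub hquo hns hnp

end Cfsg.Agent.S3873
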