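import Cfsg.Statements.S3889

set_option autoImplicit false
set_option linter.all false
open Cfsg

namespace Cfsg.Agent.S3889

section aux
open Subgroup

theorem aux {G : Type*} [CommGroup G] [Finite G] (𝓑 : Set (Subgroup G)) (hprop : ∀ B ∈ 𝓑, B ≠ ⊤)
    (hcov : ∀ g : G, ∃ B ∈ 𝓑, g ∈ B) (hdisj : ∀ B ∈ 𝓑, ∀ C ∈ 𝓑, B ≠ C → B ⊓ C = ⊥) :
    (Monoid.exponent G).Prime := by
  classical
  have h1 : ∀ B ∈ 𝓑, ∀ x ∈ B, x ≠ 1 → ∀ C ∈ 𝓑, x ∈ C → B = C := by
    intro B hB x hxB hx C hC hxC
    by_contra hne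
    have := hdisj B hB C hC hne
    have h2 : x ∈ B ⊓ C := mem_inf.mpr ⟨hxB, hxC⟩
    rw [this, mem_bot] at h2
    exact hx h2
  have hord : ∀ B ∈ 𝓑, ∀ x ∈ B, x ≠ 1 → ∀ y, y ∉ B → orderOf x = orderOf y := by
    intro B hB x hxB hx y hyB
    have hy : y ≠ 1 := by rintro rfl; exact hyB (one_mem B)
    obtain ⟨D, hD, hyD⟩ := hcov y
    obtain ⟨C, hC, hxyC⟩ := hcov (x * y)
    have hBC : B ≠ C := by
      rintro rfl
      apply hyB
      have : y = x⁻¹ * (x * y) := by group
      rw [this]; exact mul_mem (inv_mem hxB) hxyC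
    have hDC : D ≠ C := by
      rintro rfl
      have hxD : x ∈ D := by
        have : x = (x * y) * y⁻¹ := by group
        rw [this]; exact mul_mem hxyC (inv_mem hyD)
      have := h1 B hB x hxB hx D hD hxD
      rw [this] at hyB; exact hyB hyD
    apply Nat.dvd_antisymm
    · apply orderOf_dvd_of_pow_eq_one
      have h2 : (x * y) ^ orderOf y = x ^ orderOf y := by
        rw [mul_pow, pow_orderOf_eq_one, mul_one]
      have h3 : x ^ orderOf y ∈ B ⊓ C := mem_inf.mpr ⟨pow_mem hxB _, h2 ▸ pow_mem hxyC _⟩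
      rw [hdisj B hB C hC hBC, mem_bot] at h3
      exact h3
    · apply orderOf_dvd_of_pow_eq_one
      have h2 : (x * y) ^ orderOf x = y ^ orderOf x := by
        rw [mul_pow, pow_orderOf_eq_one, one_mul]
      have h3 : y ^ orderOf x ∈ D ⊓ C := mem_inf.mpr ⟨pow_mem hyD _, h2 ▸ pow_mem hxyC _⟩
      rw [hdisj D hD C hC hDC, mem_bot] at h3
      exact h3
  -- G nontrivial
  obtain ⟨B₀, hB₀, -⟩ := hcov 1
  obtain ⟨g, hg⟩ : ∃ g, g ∉ B₀ := by
    by_contra h; push Not at h
    exact hprop B₀ hB₀ (eq_top_iff.mpr fun y _ => h y)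
  have hg1 : g ≠ 1 := by rintro rfl; exact hg (one_mem _)
  -- all nonidentity elements have the same order
  have hall : ∀ x y : G, x ≠ 1 → y ≠ 1 → orderOf x = orderOf y := by
    intro x y hx hy
    obtain ⟨B, hB, hxB⟩ := hcov x
    by_cases hyB : y ∈ B
    · obtain ⟨z, hz⟩ : ∃ z, z ∉ B := by
        by_contra h; push Not at h
        exact hprop B hB (eq_top_iff.mpr fun y _ => h y)
      rw [hord B hB x hxB hx z hz, hord B hB y hyB hy z hz]
    · exact hord B hB x hxB hx y hyB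
  have hprime : (orderOf g).Prime := by
    have h2 : orderOf g ≠ 1 := fun h => hg1 (orderOf_eq_one_iff.mp h)
    obtain ⟨p, hp, hpd⟩ := Nat.exists_prime_and_dvd h2
    have h3 : orderOf (g ^ (orderOf g / p)) = p := by
      obtain ⟨m, hm⟩ := hpd
      have hm0 : 0 < m := by
        rcases Nat.eq_zero_or_pos m with h | h
        · rw [h, mul_zero] at hm; exact absurd hm (orderOf_pos g).ne'
        · exact h
      rw [orderOf_pow, hm, Nat.mul_div_cancel_left _ hp.pos, Nat.gcd_eq_right (dvd_mul_left m p)]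
      exact Nat.mul_div_cancel _ hm0
    have h4 : g ^ (orderOf g / p) ≠ 1 := by
      intro h
      rw [h, orderOf_one] at h3
      exact hp.one_lt.ne h3
    rw [hall g _ hg1 h4, h3]; exact hp
  have hexp : Monoid.exponent G = orderOf g := by
    apply Nat.dvd_antisymm
    · apply Monoid.exponent_dvd_of_forall_pow_eq_one
      intro x
      by_cases hx : x = 1
      · rw [hx, one_pow]
      · rw [hall g x hg1 hx, pow_orderOf_eq_one]
    · exact Monoid.order_dvd_exponent g
  rw [hexp]; exact hprime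

end aux

/-- A finite abelian group that is the union of a family of proper subgroups any two of which intersect trivially is elementary abelian: its exponent is a prime. -/
theorem result {G : Type*} [CommGroup G] [Finite G] (𝓑 : Set (Subgroup G)) (hprop : ∀ B ∈ 𝓑, B ≠ ⊤)
    (hcov : ∀ g : G, ∃ B ∈ 𝓑, g ∈ B) (hdisj : ∀ B ∈ 𝓑, ∀ C ∈ 𝓑, B ≠ C → B ⊓ C = ⊥) :
    (Monoid.exponent G).Prime := by
  exact aux 𝓑 hprop hcov hdisj

end Cfsg.Agent.S3889
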