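import Cfsg.Statements.S3890
import Cfsg.Agent.H18.NilCover

set_option autoImplicit false
open Cfsg
open Cfsg.Agent.H18.NilCover

namespace Cfsg.Agent.S3890

/-- A cover of a group is a finite set of proper subgroups whose union is the whole group; it is minimal when no cover has fewer members, and nilpotent when all its members are nilpotent. Let G be a finite group with trivial center admitting a nilpotent minimal cover 𝓐, and let P be an abelian Sylow p-subgroup of G that is not normal. Then either P is elementary abelian of order greater than p, or P is a Sylow p-subgroup of some member A of 𝓐, the normalizer N of P is a maximal subgroup of G, N meets each of its conjugates by elements outside N in a subgroup of order prime to p, and the centralizer of P equals A. -/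
theorem result {G : Type*} [Group G] [Finite G] (hZ : Subgroup.center G = ⊥) (𝓐 : Finset (Subgroup G))
    (h𝓐 : ((∀ A ∈ 𝓐, A ≠ ⊤) ∧ (∀ g : G, ∃ A ∈ 𝓐, g ∈ A)) ∧ (∀ 𝓑 : Finset (Subgroup G), (∀ A ∈ 𝓑, A ≠ ⊤) ∧ (∀ g : G, ∃ A ∈ 𝓑, g ∈ A) → 𝓐.card ≤ 𝓑.card) ∧ (∀ A ∈ 𝓐, Group.IsNilpotent ↥A)) {p : ℕ} [Fact p.Prime] (P : Sylow p G) (hab : IsMulCommutative ↥(P : Subgroup G))
    (hnn : ¬ (P : Subgroup G).Normal) :
    (Cfsg.IsElementaryAbelian p (P : Subgroup G) ∧ p < Nat.card ↥(P : Subgroup G)) ∨
    (∃ A ∈ 𝓐, (P : Subgroup G) ≤ A ∧ ¬ p ∣ ((P : Subgroup G).subgroupOf A).index ∧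
      IsCoatom (Subgroup.normalizer ((P : Subgroup G) : Set G)) ∧
      (∀ g : G, g ∉ Subgroup.normalizer ((P : Subgroup G) : Set G) →
        ¬ p ∣ Nat.card ↥(Subgroup.normalizer ((P : Subgroup G) : Set G) ⊓
          (Subgroup.normalizer ((P : Subgroup G) : Set G)).map (MulAut.conj g).toMonoidHom)) ∧
      Subgroup.centralizer ((P : Subgroup G) : Set G) = A) := by
  have hm : MinCover 𝓐 := ⟨h𝓐.1, h𝓐.2.1⟩
  have hn := h𝓐.2.2
  have hab' : ∀ x ∈ (P : Subgroup G), ∀ y ∈ (P : Subgroup G), x * y = y * x := by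
    intro x hx y hy
    have := hab.is_comm.comm ⟨x, hx⟩ ⟨y, hy⟩
    exact congrArg Subtype.val this
  have hbot : (P : Subgroup G) ≠ ⊥ := by
    intro h
    apply hnn
    rw [h]; infer_instance
  by_cases hel : Cfsg.IsElementaryAbelian p (P : Subgroup G) ∧ p < Nat.card ↥(P : Subgroup G)
  · exact Or.inl hel
  right
  have hC : Cond p (P : Subgroup G) := by
    by_cases h1 : ∃ x ∈ (P : Subgroup G), x ^ p ≠ 1
    · exact Or.inl h1
    · push Not at h1
      have h2 : Nat.card ↥(P : Subgroup G) ≤ p := by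
        by_contra hlt
        exact hel ⟨⟨hab, h1⟩, not_le.mp hlt⟩
      obtain ⟨k, hk⟩ := IsPGroup.iff_card.mp P.isPGroup'
      have hp1 := (Fact.out : p.Prime).one_lt
      have h3 : Nat.card ↥(P : Subgroup G) = p := by
        rcases k with _ | _ | k
        · exfalso
          rw [pow_zero] at hk
          exact hbot (Subgroup.card_eq_one.mp hk)
        · rw [hk, zero_add, pow_one]
        · exfalso
          rw [hk] at h2
          have : p ^ 2 ≤ p ^ (k + 1 + 1) := Nat.pow_le_pow_right (by omega) (by omega)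
          nlinarith
      haveI : IsCyclic ↥(P : Subgroup G) := isCyclic_of_prime_card h3
      obtain ⟨g, hg⟩ := IsCyclic.exists_generator (α := ↥(P : Subgroup G))
      refine Or.inr ⟨g, g.2, fun y hy => ?_⟩
      obtain ⟨n, hn⟩ := Subgroup.mem_zpowers_iff.mp (hg ⟨y, hy⟩)
      exact Subgroup.mem_zpowers_iff.mpr ⟨n, congrArg Subtype.val hn⟩
  obtain ⟨A, hA, hPA⟩ := exists_le hZ hm hn P hab' hC
  have hcent := cent_eq hZ hm hn P hab' hbot hA hPA
  refine ⟨A, hA, hPA, ?_, ⟨?_, ?_⟩, ?_, hcent⟩
  · intro hd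
    have h1 : (((P : Subgroup G)).subgroupOf A).index ∣ (P : Subgroup G).index := by
      have := Subgroup.relIndex_dvd_index_of_le hPA
      exact this
    exact P.not_dvd_index (hd.trans h1)
  · intro h
    exact hnn (Subgroup.normalizer_eq_top_iff.mp h)
  · intro H hH
    by_contra hne
    have h1 := le_norm hZ hm hn P hab' hbot hC hne ((Subgroup.centralizer_le_normalizer _).trans hH.le)
    exact absurd h1 (not_le_of_gt hH)
  · intro g hg hd
    obtain ⟨x, hx⟩ := exists_prime_orderOf_dvd_card' p hd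
    obtain ⟨h1, h2⟩ := Subgroup.mem_inf.mp x.2
    have h3 : (x : G) = 1 := by
      refine ti hZ hm hn P hab' hC hg (k := 1) ?_ h1 ?_
      · have h5 : x ^ p = 1 := orderOf_dvd_iff_pow_eq_one.mp hx.dvd
        rw [pow_one]
        exact congrArg Subtype.val h5
      · obtain ⟨y, hy, hyx⟩ := Subgroup.mem_map.mp h2
        rw [← hyx]
        have : g⁻¹ * ((MulAut.conj g).toMonoidHom y) * g = y := by
          change g⁻¹ * (g * y * g⁻¹) * g = y
          group
        rw [this]; exact hy
    have h4 : x = 1 := Subtype.ext h3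
    rw [h4, orderOf_one] at hx
    exact (Fact.out : p.Prime).one_lt.ne hx

end Cfsg.Agent.S3890
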