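import Cfsg.Statements.S3891
import Cfsg.Agent.H18.NilCover

set_option autoImplicit false
open Cfsg
open Cfsg.Agent.H18.NilCover

namespace Cfsg.Agent.S3891

/-- A cover of a group is a finite set of proper subgroups whose union is the whole group; it is minimal when no cover has fewer members, and nilpotent when all its members are nilpotent. Let G be a finite group with trivial center admitting a nilpotent minimal cover, and let P be a non-normal Sylow p-subgroup of G that is cyclic, or abelian but not elementary abelian. Then the centralizer of P is nilpotent and the normalizer of P is the unique maximal subgroup of G containing the centralizer of P. -/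
theorem result {G : Type*} [Group G] [Finite G] (hZ : Subgroup.center G = ⊥) (𝓐 : Finset (Subgroup G))
    (h𝓐 : ((∀ A ∈ 𝓐, A ≠ ⊤) ∧ (∀ g : G, ∃ A ∈ 𝓐, g ∈ A)) ∧ (∀ 𝓑 : Finset (Subgroup G), (∀ A ∈ 𝓑, A ≠ ⊤) ∧ (∀ g : G, ∃ A ∈ 𝓑, g ∈ A) → 𝓐.card ≤ 𝓑.card) ∧ (∀ A ∈ 𝓐, Group.IsNilpotent ↥A)) {p : ℕ} [Fact p.Prime] (P : Sylow p G)
    (hP : IsCyclic ↥(P : Subgroup G) ∨ (IsMulCommutative ↥(P : Subgroup G) ∧ ¬ Cfsg.IsElementaryAbelian p (P : Subgroup G)))
    (hnn : ¬ (P : Subgroup G).Normal) :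
    Group.IsNilpotent ↥(Subgroup.centralizer ((P : Subgroup G) : Set G)) ∧
      IsCoatom (Subgroup.normalizer ((P : Subgroup G) : Set G)) ∧
      ∀ M : Subgroup G, IsCoatom M → Subgroup.centralizer ((P : Subgroup G) : Set G) ≤ M →
        M = Subgroup.normalizer ((P : Subgroup G) : Set G) := by
  have hm : MinCover 𝓐 := ⟨h𝓐.1, h𝓐.2.1⟩
  have hn := h𝓐.2.2
  have hab' : ∀ x ∈ (P : Subgroup G), ∀ y ∈ (P : Subgroup G), x * y = y * x := by
    intro x hx y hy
    rcases hP with hcyc | ⟨hab, _⟩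
    · haveI := hcyc
      letI := IsCyclic.commGroup (α := ↥(P : Subgroup G))
      have := mul_comm (⟨x, hx⟩ : ↥(P : Subgroup G)) ⟨y, hy⟩
      exact congrArg Subtype.val this
    · have := hab.is_comm.comm ⟨x, hx⟩ ⟨y, hy⟩
      exact congrArg Subtype.val this
  have hbot : (P : Subgroup G) ≠ ⊥ := by
    intro h
    apply hnn
    rw [h]; infer_instance
  have hC : Cond p (P : Subgroup G) := by
    rcases hP with hcyc | ⟨hab, hel⟩
    · obtain ⟨g, hg⟩ := IsCyclic.exists_generator (α := ↥(P : Subgroup G))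
      refine Or.inr ⟨g, g.2, fun y hy => ?_⟩
      obtain ⟨n, hn⟩ := Subgroup.mem_zpowers_iff.mp (hg ⟨y, hy⟩)
      exact Subgroup.mem_zpowers_iff.mpr ⟨n, congrArg Subtype.val hn⟩
    · by_contra hcon
      apply hel
      refine ⟨hab, fun a ha => ?_⟩
      by_contra hne
      exact hcon (Or.inl ⟨a, ha, hne⟩)
  obtain ⟨A, hA, hPA⟩ := exists_le hZ hm hn P hab' hC
  have hcent := cent_eq hZ hm hn P hab' hbot hA hPA
  have hco : ∀ H : Subgroup G, H ≠ ⊤ → Subgroup.centralizer ((P : Subgroup G) : Set G) ≤ H →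
      H ≤ Subgroup.normalizer ((P : Subgroup G) : Set G) := fun H hH hle => le_norm hZ hm hn P hab' hbot hC hH hle
  have hNtop : Subgroup.normalizer ((P : Subgroup G) : Set G) ≠ ⊤ := by
    intro h
    exact hnn (Subgroup.normalizer_eq_top_iff.mp h)
  refine ⟨?_, ⟨hNtop, ?_⟩, ?_⟩
  · rw [hcent]; exact hn A hA
  · intro H hH
    by_contra hne
    have h1 := hco H hne ((Subgroup.centralizer_le_normalizer _).trans hH.le)
    exact absurd h1 (not_le_of_gt hH)
  · intro M hM hle
    have h1 := hco M hM.1 hle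
    rcases h1.eq_or_lt with h2 | h2
    · exact h2
    · exact absurd (hM.2 _ h2) hNtop

end Cfsg.Agent.S3891
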