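import Cfsg.Statements.S3892
import Cfsg.Agent.H18.NilCover2

set_option autoImplicit false
open Cfsg
open Cfsg.Agent.H18.NilCover Subgroup Equiv Equiv.Perm

namespace Cfsg.Agent.S3892

theorem small_A5 : (∀ g : Perm (Fin 5), g * c[0, 1, 2] = c[0, 1, 2] * g → sign g = 1 → g 4 = 4) := by
  decide +kernel

theorem small_S4 : (∀ g : Perm (Fin 4), g * c[0, 1, 2] = c[0, 1, 2] * g → sign g = 1) := by
  decide +kernel

theorem small_S5 : (∀ g : Perm (Fin 5), g * c[0, 1, 2, 3, 4] = c[0, 1, 2, 3, 4] * g → sign g = 1) := by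
  decide +kernel

/-- powers of an element of small order -/
theorem not_mem_zpowers {G : Type*} [Group G] [DecidableEq G] {s x : G} {p : ℕ} (hp : 0 < p) (hs : s ^ p = 1)
    (h : ∀ k < p, s ^ k ≠ x) : x ∉ zpowers s := by
  intro hx
  obtain ⟨k, hk⟩ := mem_zpowers_iff.mp hx
  have h1 : s ^ (k % (p : ℤ)) = s ^ k := by
    conv_rhs => rw [← Int.emod_add_mul_ediv k p, zpow_add, zpow_mul, zpow_natCast, hs, one_zpow, mul_one]
  have h2 : 0 ≤ k % (p : ℤ) := Int.emod_nonneg _ (by omega)
  have h3 : k % (p : ℤ) < p := Int.emod_lt_of_pos _ (by omega)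
  obtain ⟨l, hl⟩ := Int.eq_ofNat_of_zero_le h2
  refine h l (by omega) ?_
  rw [← zpow_natCast, ← hl, h1, hk]

/-- A cover of a group is a finite set of proper subgroups whose union is the whole group; it is minimal when no cover has fewer members, and nilpotent when all its members are nilpotent. The alternating groups of degree at least 5 and the symmetric groups of degree at least 4 have no nilpotent minimal cover. -/
theorem result (n : ℕ) :
    (5 ≤ n → ¬ ∃ 𝓐 : Finset (Subgroup ↥(alternatingGroup (Fin n))), ((∀ A ∈ 𝓐, A ≠ ⊤) ∧ (∀ g : ↥(alternatingGroup (Fin n)), ∃ A ∈ 𝓐, g ∈ A)) ∧ (∀ 𝓑 : Finset (Subgroup ↥(alternatingGroup (Fin n))), (∀ A ∈ 𝓑, A ≠ ⊤) ∧ (∀ g : ↥(alternatingGroup (Fin n)), ∃ A ∈ 𝓑, g ∈ A) → 𝓐.card ≤ 𝓑.card) ∧ (∀ A ∈ 𝓐, Group.IsNilpotent ↥A)) ∧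
    (4 ≤ n → ¬ ∃ 𝓐 : Finset (Subgroup (Equiv.Perm (Fin n))), ((∀ A ∈ 𝓐, A ≠ ⊤) ∧ (∀ g : (Equiv.Perm (Fin n)), ∃ A ∈ 𝓐, g ∈ A)) ∧ (∀ 𝓑 : Finset (Subgroup (Equiv.Perm (Fin n))), (∀ A ∈ 𝓑, A ≠ ⊤) ∧ (∀ g : (Equiv.Perm (Fin n)), ∃ A ∈ 𝓑, g ∈ A) → 𝓐.card ≤ 𝓑.card) ∧ (∀ A ∈ 𝓐, Group.IsNilpotent ↥A)) := by
  classical
  constructor
  · rintro h5 ⟨𝓐, h1, h2, h3⟩
    have hm : MinCover 𝓐 := ⟨h1, h2⟩
    have hZ : center ↥(alternatingGroup (Fin n)) = ⊥ := alternatingGroup.center_eq_bot (by rw [Nat.card_fin]; omega)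
    haveI : Nontrivial (Fin n) := Fin.nontrivial_iff_two_le.mpr (by omega)
    have hcA : Nat.card ↥(alternatingGroup (Fin n)) ∣ n.factorial := by
      have := Subgroup.card_subgroup_dvd_card (alternatingGroup (Fin n))
      rwa [Nat.card_perm, Nat.card_fin] at this
    by_cases h6 : n = 5
    · subst h6
      haveI : Fact (Nat.Prime 3) := ⟨by norm_num⟩
      let s : ↥(alternatingGroup (Fin 5)) := ⟨c[0, 1, 2], by rw [mem_alternatingGroup]; decide⟩
      have hs3 : s ^ 3 = 1 := Subtype.ext (by show (c[0, 1, 2] : Perm (Fin 5)) ^ 3 = 1; decide)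
      have hs1 : s ≠ 1 := fun h => by
        have := congrArg (fun z : ↥(alternatingGroup (Fin 5)) => (z : Perm (Fin 5))) h
        exact absurd this (by decide)
      refine no_cover (p := 3) hZ hm h3 (s := s) (orderOf_eq_prime hs3 hs1) ?_
        (H := (MulAction.stabilizer (Perm (Fin 5)) (4 : Fin 5)).subgroupOf (alternatingGroup (Fin 5))) ?_ ?_
        (t := ⟨c[0, 1] * c[2, 3], by rw [mem_alternatingGroup]; decide⟩) ?_ ?_
      · intro hd
        exact absurd (hd.trans hcA) (by decide)
      · intro htop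
        have h4 : (⟨c[0, 1] * c[2, 4], by rw [mem_alternatingGroup]; decide⟩ : ↥(alternatingGroup (Fin 5))) ∈
            (MulAction.stabilizer (Perm (Fin 5)) (4 : Fin 5)).subgroupOf (alternatingGroup (Fin 5)) := by
          rw [htop]; trivial
        rw [mem_subgroupOf, MulAction.mem_stabilizer_iff] at h4
        exact absurd h4 (by decide)
      · intro g hg
        rw [mem_subgroupOf, MulAction.mem_stabilizer_iff]
        exact small_A5 g (congrArg (fun z : ↥(alternatingGroup (Fin 5)) => (z : Perm (Fin 5))) hg)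
          (mem_alternatingGroup.mp g.2)
      · rw [mem_subgroupOf, MulAction.mem_stabilizer_iff]
        show (c[0, 1] * c[2, 3] : Perm (Fin 5)) 4 = 4
        decide
      · apply not_mem_zpowers (p := 3) (by norm_num) hs3
        intro k hk h
        have h4 := congrArg (fun z : ↥(alternatingGroup (Fin 5)) => (z : Perm (Fin 5))) h
        change (c[0, 1, 2] : Perm (Fin 5)) ^ k = (c[0, 1] * c[2, 3]) * c[0, 1, 2] * (c[0, 1] * c[2, 3])⁻¹ at h4
        interval_cases k <;> exact absurd h4 (by decide)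
    · obtain ⟨p, hp, hp1, hp2⟩ := Nat.exists_prime_lt_and_le_two_mul (n / 2) (by omega)
      haveI : Fact p.Prime := ⟨hp⟩
      have hpn : p < n := by
        rcases lt_or_ge p n with h | h
        · exact h
        · exfalso
          have h7 : p = n := by omega
          have h8 : 2 ∣ p := ⟨n / 2, by omega⟩
          have := (Nat.prime_dvd_prime_iff_eq Nat.prime_two hp).mp h8
          omega
      have hp5 : 5 ≤ p := by
        rcases lt_or_ge p 5 with h | h
        · exfalso
          have h7 : p = 4 := by omega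
          rw [h7] at hp
          exact absurd hp (by norm_num)
        · exact h
      have hdvd : p ∣ Nat.card ↥(alternatingGroup (Fin n)) := by
        have h7 := two_mul_nat_card_alternatingGroup (α := Fin n)
        rw [Nat.card_perm, Nat.card_fin] at h7
        have h8 : p ∣ 2 * Nat.card ↥(alternatingGroup (Fin n)) := by
          rw [h7]; exact hp.dvd_factorial.mpr hpn.le
        rcases hp.dvd_mul.mp h8 with h9 | h9
        · have := Nat.le_of_dvd (by norm_num) h9
          omega
        · exact h9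
      obtain ⟨s, hs⟩ := exists_prime_orderOf_dvd_card' p hdvd
      have hs' : orderOf (s : Perm (Fin n)) = p := by rw [Subgroup.orderOf_coe, hs]
      obtain ⟨d1, ⟨u, hu1, hu2⟩, ⟨t, ht1, ht2, ht3⟩⟩ := cyc_data hp5 hpn (by omega) hs'
      refine no_cover (p := p) hZ hm h3 hs (fun hd => not_sq_dvd hpn.le (by omega) (hd.trans hcA))
        (H := (stab (s : Perm (Fin n)).support).subgroupOf (alternatingGroup (Fin n))) ?_ ?_
        (t := ⟨t, mem_alternatingGroup.mpr ht1⟩) ?_ ?_
      · intro htop
        apply hu2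
        have h4 : (⟨u, mem_alternatingGroup.mpr hu1⟩ : ↥(alternatingGroup (Fin n))) ∈
            (stab (s : Perm (Fin n)).support).subgroupOf (alternatingGroup (Fin n)) := by
          rw [htop]; trivial
        exact mem_subgroupOf.mp h4
      · intro g hg
        rw [mem_subgroupOf]
        exact d1 g (congrArg (fun z : ↥(alternatingGroup (Fin n)) => (z : Perm (Fin n))) hg)
      · rw [mem_subgroupOf]; exact ht2
      · intro hz
        apply ht3
        obtain ⟨k, hk⟩ := mem_zpowers_iff.mp hz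
        exact mem_zpowers_iff.mpr ⟨k, congrArg (fun z : ↥(alternatingGroup (Fin n)) => (z : Perm (Fin n))) hk⟩
  · rintro h4 ⟨𝓐, h1, h2, h3⟩
    have hm : MinCover 𝓐 := ⟨h1, h2⟩
    have hZ : center (Perm (Fin n)) = ⊥ := center_perm (by omega)
    have hcA : Nat.card (Perm (Fin n)) = n.factorial := by
      rw [Nat.card_perm, Nat.card_fin]
    haveI : Nontrivial (Fin n) := Fin.nontrivial_iff_two_le.mpr (by omega)
    have hAtop : alternatingGroup (Fin n) ≠ ⊤ := by
      intro h
      have h5 := alternatingGroup.index_eq_two (α := Fin n)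
      rw [h, index_top] at h5
      omega
    by_cases h6 : n = 4
    · subst h6
      haveI : Fact (Nat.Prime 3) := ⟨by norm_num⟩
      have hs3 : (c[0, 1, 2] : Perm (Fin 4)) ^ 3 = 1 := by decide
      refine no_cover (p := 3) hZ hm h3 (s := c[0, 1, 2]) (orderOf_eq_prime hs3 (by decide)) ?_
        (H := alternatingGroup (Fin 4)) hAtop ?_ (t := c[0, 1] * c[2, 3]) ?_ ?_
      · rw [hcA]; decide
      · intro g hg
        exact mem_alternatingGroup.mpr (small_S4 g hg)
      · rw [mem_alternatingGroup]; decide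
      · apply not_mem_zpowers (p := 3) (by norm_num) hs3
        intro k hk h
        interval_cases k <;> exact absurd h (by decide)
    by_cases h6 : n = 5
    · subst h6
      haveI : Fact (Nat.Prime 5) := ⟨by norm_num⟩
      have hs3 : (c[0, 1, 2, 3, 4] : Perm (Fin 5)) ^ 5 = 1 := by decide +kernel
      refine no_cover (p := 5) hZ hm h3 (s := c[0, 1, 2, 3, 4]) (orderOf_eq_prime hs3 (by decide)) ?_
        (H := alternatingGroup (Fin 5)) hAtop ?_ (t := c[0, 1] * c[2, 3]) ?_ ?_
      · rw [hcA]; norm_num [Nat.factorial]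
      · intro g hg
        exact mem_alternatingGroup.mpr (small_S5 g hg)
      · rw [mem_alternatingGroup]; decide
      · apply not_mem_zpowers (p := 5) (by norm_num) hs3
        intro k hk h
        interval_cases k <;> exact absurd h (by decide)
    obtain ⟨p, hp, hp1, hp2⟩ := Nat.exists_prime_lt_and_le_two_mul (n / 2) (by omega)
    haveI : Fact p.Prime := ⟨hp⟩
    have hpn : p < n := by
      rcases lt_or_ge p n with h | h
      · exact h
      · exfalso
        have h7 : p = n := by omega
        have h8 : 2 ∣ p := ⟨n / 2, by omega⟩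
        have := (Nat.prime_dvd_prime_iff_eq Nat.prime_two hp).mp h8
        omega
    have hp5 : 5 ≤ p := by
      rcases lt_or_ge p 5 with h | h
      · exfalso
        have h7 : p = 4 := by omega
        rw [h7] at hp
        exact absurd hp (by norm_num)
      · exact h
    have hdvd : p ∣ Nat.card (Perm (Fin n)) := by
      rw [hcA]; exact hp.dvd_factorial.mpr hpn.le
    obtain ⟨s, hs⟩ := exists_prime_orderOf_dvd_card' p hdvd
    obtain ⟨d1, ⟨u, hu1, hu2⟩, ⟨t, ht1, ht2, ht3⟩⟩ := cyc_data hp5 hpn (by omega) hs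
    refine no_cover (p := p) hZ hm h3 hs (fun hd => not_sq_dvd hpn.le (by omega) (hcA ▸ hd))
      (H := stab s.support) ?_ d1 ht2 ht3
    intro htop
    apply hu2
    rw [htop]; trivial

end Cfsg.Agent.S3892
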