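import Cfsg.Statements.S3921
import Cfsg.Agent.H9.SCB
import Cfsg.Agent.H9.SCC
import Cfsg.Agent.FT

set_option autoImplicit false
open Cfsg

namespace Cfsg.Agent.S3921

/-- Say that a group has self-centralizing non-cyclic subgroups when every non-cyclic subgroup H satisfies C_G(H) ≤ H. A non-abelian finite simple group has self-centralizing non-cyclic subgroups if and only if it is isomorphic to PSL₂(q) with q = 4, q = 9, or q a prime of the form 2^k + 1 or 2^k − 1. -/
theorem result {G : Type*} [Group G] [Finite G] [IsSimpleGroup G] (hna : ¬ IsMulCommutative G) :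
    (∀ H : Subgroup G, ¬ IsCyclic ↥H → Subgroup.centralizer (H : Set G) ≤ H) ↔ ∃ (F : Type) (_ : Field F) (_ : Fintype F),
      (Fintype.card F = 4 ∨ Fintype.card F = 9 ∨ ((Fintype.card F).Prime ∧ ∃ k : ℕ, Fintype.card F = 2 ^ k + 1 ∨ Fintype.card F = 2 ^ k - 1)) ∧
      Nonempty (G ≃* Matrix.ProjectiveSpecialLinearGroup (Fin 2) F) := by
  constructor
  · intro h
    have h2 : 2 ∣ Nat.card G := by
      by_contra hodd
      have hsol : Group.IsSolvable G := Cfsg.Agent.FT.odd_order (Nat.odd_iff.mpr (Nat.two_dvd_ne_zero.mp hodd))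
      apply hna
      exact ⟨⟨fun a b => IsSimpleGroup.comm_iff_isSolvable.mpr hsol a b⟩⟩
    exact H9.SC.forward hna h2 h
  · rintro ⟨F, iF, iFin, hF, ⟨e⟩⟩
    have h := H9.SC.backward hF
    intro H hH g hg
    have h1 : ¬ IsCyclic (H.map e.toMonoidHom) := by
      intro hc
      apply hH
      exact isCyclic_of_surjective (H.equivMapOfInjective e.toMonoidHom e.injective).symm
        (H.equivMapOfInjective e.toMonoidHom e.injective).symm.surjective
    have h2 : e g ∈ Subgroup.centralizer ((H.map e.toMonoidHom : Subgroup _) : Set (Matrix.ProjectiveSpecialLinearGroup (Fin 2) F)) := by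
      rw [Subgroup.mem_centralizer_iff]
      rintro _ ⟨x, hx, rfl⟩
      have h3 := Subgroup.mem_centralizer_iff.mp hg x hx
      change e x * e g = e g * e x
      rw [← map_mul, h3, map_mul]
    obtain ⟨x, hx, hxg⟩ := h _ h1 h2
    have h4 : x = g := e.injective hxg
    rw [← h4]; exact hx

end Cfsg.Agent.S3921
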