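import Cfsg.Statements.S4018
import Cfsg.Agent.H24.Friend
import Cfsg.Agent.H9.SimplePP
import Cfsg.Agent.H4.KleinSylow
import Cfsg.Agent.H24.ClassSize
import Cfsg.Agent.H1.Basic

set_option autoImplicit false
open Cfsg

namespace Cfsg.Agent.S4018

open Subgroup
open scoped Pointwise

theorem aux {G : Type*} [Group G] [Finite G]
    (P : Sylow 3 G) (hab : IsMulCommutative P)
    (hN : Nat.card (Subgroup.normalizer ((P : Subgroup G) : Set G)) = 4 * Nat.card P)
    (hC : Nat.card (Subgroup.centralizer (P : Set G)) = 2 * Nat.card P)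
    (hTI : Cfsg.IsTISubset (Subgroup.centralizer (P : Set G) : Set G))
    (heven : ∀ H : Subgroup G, H ≠ ⊤ → 2 ∣ Nat.card H → Nat.card H ∣ 4 * Nat.card P)
    (hG : IsSimpleGroup G) : False := by
  classical
  haveI f3 : Fact (Nat.Prime 3) := ⟨Nat.prime_three⟩
  haveI f2 : Fact (Nat.Prime 2) := ⟨Nat.prime_two⟩
  set m := Nat.card P with hm
  have hmpos : 0 < m := Nat.card_pos
  obtain ⟨a, ha⟩ : ∃ a, m = 3 ^ a := ⟨_, P.card_eq_multiplicity⟩
  have hmodd : ¬ 2 ∣ m := by
    rw [ha]; intro h
    have := Nat.prime_two.dvd_of_dvd_pow h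
    omega
  have hPC : (P : Subgroup G) ≤ centralizer ((P : Subgroup G) : Set G) := by
    intro x hx
    rw [mem_centralizer_iff]
    intro y hy
    exact congrArg Subtype.val (mul_comm' (⟨y, hy⟩ : P) ⟨x, hx⟩)
  set C := centralizer ((P : Subgroup G) : Set G) with hCdef
  set N := normalizer ((P : Subgroup G) : Set G) with hNdef
  have hC' : Nat.card C = 2 * m := hC
  have hm1 : m ≠ 1 := by
    intro h1
    have hbot : (P : Subgroup G) = ⊥ := Subgroup.card_eq_one.1 h1
    have h2 : C = ⊤ := by
      rw [hCdef, hbot, eq_top_iff]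
      intro g _
      rw [mem_centralizer_iff]
      intro h hh
      rw [SetLike.mem_coe, Subgroup.mem_bot] at hh
      rw [hh]; group
    have h3 : C ≤ N := by
      rw [hCdef, hNdef]; exact Subgroup.centralizer_le_normalizer _
    have h4 : Nat.card C ≤ Nat.card N := Subgroup.card_le_of_le h3
    have h5 : Nat.card N ≤ Nat.card C := by
      rw [h2]
      exact Subgroup.card_le_of_le le_top
    rw [hC', hN, h1] at *
    omega
  have h3m : 3 ∣ m := by
    rw [ha]
    apply dvd_pow_self
    rintro rfl
    exact hm1 (by rw [ha, pow_zero])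
  have h4G : 4 ∣ Nat.card G := (Dvd.intro _ hN.symm).trans (Subgroup.card_subgroup_dvd_card N)
  have h3G : 3 ∣ Nat.card G := h3m.trans (Subgroup.card_subgroup_dvd_card (P : Subgroup G))
  have h2G : 2 ∣ Nat.card G := (by norm_num : (2 : ℕ) ∣ 4).trans h4G
  -- not abelian
  have hnotprime : ¬ (Nat.card G).Prime := by
    intro h
    rcases (Nat.dvd_prime h).1 h4G with h5 | h5
    · omega
    · rw [← h5] at h; exact absurd h (by norm_num)
  have hcen : center G = ⊥ := by
    rcases (inferInstance : (center G).Normal).eq_bot_or_eq_top with h | h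
    · exact h
    · exfalso
      letI : CommGroup G := { (inferInstance : Group G) with
        mul_comm := fun x y => by
          have : y ∈ center G := by rw [h]; exact mem_top y
          exact Subgroup.mem_center_iff.1 this x }
      exact hnotprime IsSimpleGroup.prime_card
  have hnc : ¬ IsMulCommutative G := by
    intro h
    letI : CommGroup G := { (inferInstance : Group G) with
      mul_comm := fun x y => h.is_comm.comm x y }
    exact hnotprime IsSimpleGroup.prime_card
  -- Sylow 2-subgroups have order four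
  have hScard : ∀ S : Sylow 2 G, Nat.card S = 4 := by
    intro S
    have h1 : 2 ^ 2 ∣ Nat.card S := S.pow_dvd_card_of_pow_dvd_card h4G
    have h2 : (S : Subgroup G) ≠ ⊤ := by
      intro h
      obtain ⟨k, hk⟩ := IsPGroup.iff_card.1 S.isPGroup'
      have h4 : 3 ∣ 2 ^ k := by
        rw [← hk, h, Subgroup.card_top]; exact h3G
      have := Nat.prime_three.dvd_of_dvd_pow h4
      omega
    have h3 := heven _ h2 ((by norm_num : (2 : ℕ) ∣ 2 ^ 2).trans h1)
    obtain ⟨k, hk⟩ := IsPGroup.iff_card.1 S.isPGroup'
    have h4 : (Nat.card (S : Subgroup G)).Coprime m := by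
      rw [hk]
      exact Nat.Coprime.pow_left _ ((Nat.Prime.coprime_iff_not_dvd Nat.prime_two).2 hmodd)
    have h5 : Nat.card (S : Subgroup G) ∣ 4 := h4.dvd_of_dvd_mul_right h3
    exact Nat.dvd_antisymm h5 h1
  have hnoc : ∀ S : Sylow 2 G, IsKleinFour (S : Subgroup G) := by
    intro S
    have h1 : ¬ IsCyclic (S : Subgroup G) :=
      H9.Simple.not_cyclic_minFac hnc h2G ((Nat.minFac_eq_two_iff _).2 h2G) S
    have h2 := (not_isCyclic_iff_exponent_eq_prime Nat.prime_two (by rw [hScard S]; norm_num)).1 h1
    exact ⟨hScard S, h2⟩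
  obtain ⟨S₀⟩ := (inferInstance : Nonempty (Sylow 2 G))
  have hinvconj : ∀ u v : G, orderOf u = 2 → orderOf v = 2 → IsConj u v := by
    have h0 : ∀ x ∈ S₀, ∀ y ∈ S₀, x ≠ 1 → y ≠ 1 → IsConj x y := by
      rcases H4.klein_cases S₀ (hnoc S₀) with h | h
      · exfalso
        apply H9.Simple.not_normalComplement hnc h2G
        apply H24.hasNormalPComplement_of_relIndex_eq_one S₀
        rw [Subgroup.relIndex_eq_one]
        intro n hn
        rw [mem_centralizer_iff]
        intro x hx
        exact (h n hn x hx).eq.symm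
      · exact h
    intro u v hu hv
    obtain ⟨x, hx, hux⟩ := H4.exists_conj_mem_sylow S₀ (t := u) (k := 1) (by rw [pow_one, ← hu, pow_orderOf_eq_one])
    obtain ⟨y, hy, hvy⟩ := H4.exists_conj_mem_sylow S₀ (t := v) (k := 1) (by rw [pow_one, ← hv, pow_orderOf_eq_one])
    have hx1 : x ≠ 1 := by
      rintro rfl
      rw [isConj_one_left] at hux
      rw [hux, orderOf_one] at hu; omega
    have hy1 : y ≠ 1 := by
      rintro rfl
      rw [isConj_one_left] at hvy
      rw [hvy, orderOf_one] at hv; omega
    exact hux.trans ((h0 x hx y hy hx1 hy1).trans hvy.symm)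
  -- the involution `t` of `C`
  obtain ⟨t₀, ht₀⟩ := exists_prime_orderOf_dvd_card' (G := C) 2 (by rw [hC']; exact dvd_mul_right 2 m)
  set t : G := (t₀ : G) with ht
  have htC : t ∈ C := t₀.2
  have htord : orderOf t = 2 := by rw [ht, Subgroup.orderOf_coe]; exact ht₀
  have htt : t * t = 1 := by rw [← pow_two, ← htord, pow_orderOf_eq_one]
  have ht1 : t ≠ 1 := by
    intro h
    rw [h, orderOf_one] at htord; omega
  have hordP : ∀ x ∈ (P : Subgroup G), x ^ m = 1 := by
    intro x hx
    have h1 := pow_card_eq_one' (x := (⟨x, hx⟩ : (P : Subgroup G)))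
    have h2 := congrArg Subtype.val h1
    rw [Subgroup.coe_pow] at h2
    exact h2
  have hoddpow : t ^ m = t := by
    obtain ⟨k, hk⟩ : ∃ k, m = 2 * k + 1 := ⟨m / 2, by omega⟩
    rw [hk, pow_succ, pow_mul, pow_two, htt, one_pow, one_mul]
  have htP : t ∉ (P : Subgroup G) := by
    intro h
    have := hordP t h
    rw [hoddpow] at this
    exact ht1 this
  have hidx : ((P : Subgroup G).subgroupOf C).index = 2 := by
    have h1 := ((P : Subgroup G).subgroupOf C).card_mul_index
    rw [H1.card_subgroupOf hPC, hC'] at h1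
    have h2 : Nat.card (P : Subgroup G) = m := rfl
    rw [h2, mul_comm 2 m] at h1
    exact Nat.eq_of_mul_eq_mul_left hmpos h1
  have hCcases : ∀ c ∈ C, c ∈ (P : Subgroup G) ∨ t * c ∈ (P : Subgroup G) := by
    intro c hc
    by_cases h : c ∈ (P : Subgroup G)
    · exact Or.inl h
    · right
      have h1 := Subgroup.mul_mem_iff_of_index_two hidx (a := (⟨t, htC⟩ : C)) (b := ⟨c, hc⟩)
      rw [Subgroup.mem_subgroupOf, Subgroup.mem_subgroupOf, Subgroup.mem_subgroupOf] at h1
      exact h1.2 (iff_of_false htP h)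
  have htcomm : ∀ x ∈ (P : Subgroup G), x * t = t * x := fun x hx => mem_centralizer_iff.1 htC x hx
  have hCt : ∀ c ∈ C, c * t = t * c := by
    intro c hc
    rcases hCcases c hc with h | h
    · exact htcomm c h
    · have h1 := htcomm _ h
      have h2 : c = t * (t * c) := by rw [← mul_assoc, htt, one_mul]
      calc c * t = t * (t * c * t) := by rw [← mul_assoc, ← mul_assoc, htt, one_mul]
        _ = t * (t * (t * c)) := by rw [h1]
        _ = t * c := by rw [← h2]
  have hCinv : ∀ u ∈ C, u * u = 1 → u ≠ 1 → u = t := by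
    intro u hu huu hu1
    rcases hCcases u hu with h | h
    · exfalso
      apply hu1
      have h1 := hordP u h
      obtain ⟨k, hk⟩ : ∃ k, m = 2 * k + 1 := ⟨m / 2, by omega⟩
      rw [hk, pow_succ, pow_mul, pow_two, huu, one_pow, one_mul] at h1
      exact h1
    · have h1 := hordP _ h
      have h2 : (t * u) * (t * u) = 1 := by
        calc (t * u) * (t * u) = t * (u * t) * u := by group
          _ = t * (t * u) * u := by rw [hCt u hu]
          _ = (t * t) * (u * u) := by group
          _ = 1 := by rw [htt, huu, one_mul]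
      obtain ⟨k, hk⟩ : ∃ k, m = 2 * k + 1 := ⟨m / 2, by omega⟩
      rw [hk, pow_succ, pow_mul, pow_two, h2, one_pow, one_mul] at h1
      calc u = (t * t) * u := by rw [htt, one_mul]
        _ = t * (t * u) := by group
        _ = t := by rw [h1, mul_one]
  -- elements of 3-power order in `N` lie in `P`
  have hNP : ∀ x ∈ N, x ^ m = 1 → x ∈ (P : Subgroup G) := by
    intro x hx h
    rw [ha] at h
    exact H4.mem_sylow_of_normalizes P h hx
  -- normalizer of `C`
  have hNC : ∀ g : G, g ∈ normalizer (C : Set G) ↔ g ∈ N := by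
    intro g
    constructor
    · intro hg
      have h1 : ∀ x ∈ (P : Subgroup G), g * x * g⁻¹ ∈ (P : Subgroup G) := by
        intro x hx
        have h2 : g * x * g⁻¹ ∈ C := (mem_normalizer_iff.1 hg x).1 (hPC hx)
        have h3 : (g * x * g⁻¹) ^ m = 1 := by rw [conj_pow, hordP x hx]; group
        exact hNP _ (Subgroup.centralizer_le_normalizer _ h2) h3
      rw [hNdef, H1.mem_normalizer_iff_conj_smul]
      apply Subgroup.eq_of_le_of_card_ge
      · intro y hy
        rw [H1.mem_conj_smul] at hy
        have := h1 _ hy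
        have h2 : g * (g⁻¹ * y * g) * g⁻¹ = y := by group
        rwa [h2] at this
      · rw [H1.card_conj_smul]
    · intro hg
      rw [hNdef, H1.mem_normalizer_iff_conj_smul] at hg
      rw [H1.mem_normalizer_iff_conj_smul, hCdef]
      apply Subgroup.eq_of_le_of_card_ge
      · intro y hy
        rw [H1.mem_conj_smul, mem_centralizer_iff] at hy
        rw [mem_centralizer_iff]
        intro x hx
        rw [SetLike.mem_coe, ← hg, H1.mem_conj_smul] at hx
        have h1 := hy _ hx
        calc x * y = g * ((g⁻¹ * x * g) * (g⁻¹ * y * g)) * g⁻¹ := by group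
          _ = g * ((g⁻¹ * y * g) * (g⁻¹ * x * g)) * g⁻¹ := by rw [h1]
          _ = y * x := by group
      · rw [H1.card_conj_smul]
  have hTI' : ∀ g x : G, x ∈ C → x ≠ 1 → g * x * g⁻¹ ∈ C → g ∈ N := by
    intro g x hx hx1 hgx
    rw [← hNC]
    by_contra hg
    exact hx1 (hTI g hg x hx hgx)
  -- the centralizer of `t`
  have hCTN : ∀ g : G, g * t = t * g → g ∈ N := by
    intro g hg
    apply hTI' g t htC ht1
    have : g * t * g⁻¹ = t := by rw [hg]; group
    rw [this]; exact htC
  set CT := centralizer ({t} : Set G) with hCT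
  have hCTle : CT ≤ N := by
    intro g hg
    exact hCTN g (mem_centralizer_singleton_iff.1 hg)
  obtain ⟨S, hS⟩ : ∃ S : Sylow 2 G, t ∈ (S : Subgroup G) := by
    have h1 : IsPGroup 2 (zpowers t) := IsPGroup.of_card (n := 1) (by rw [Nat.card_zpowers, htord, pow_one])
    obtain ⟨S, hS⟩ := h1.exists_le_sylow
    exact ⟨S, hS (mem_zpowers t)⟩
  have hSab := H4.klein_comm (hnoc S)
  have hSCT : (S : Subgroup G) ≤ CT := by
    intro s hs
    rw [hCT, mem_centralizer_singleton_iff]
    exact hSab s hs t hS
  have hPCT : (P : Subgroup G) ≤ CT := by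
    intro x hx
    rw [hCT, mem_centralizer_singleton_iff]
    exact htcomm x hx
  have hCTcard : Nat.card CT = 4 * m := by
    have h1 : 4 ∣ Nat.card CT := by
      have := Subgroup.card_dvd_of_le hSCT
      rwa [show Nat.card (S : Subgroup G) = 4 from hScard S] at this
    have h2 : m ∣ Nat.card CT := Subgroup.card_dvd_of_le hPCT
    have h3 : Nat.Coprime 4 m := by
      have : (4 : ℕ) = 2 ^ 2 := by norm_num
      rw [this]
      exact Nat.Coprime.pow_left _ ((Nat.Prime.coprime_iff_not_dvd Nat.prime_two).2 hmodd)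
    have h4 : 4 * m ∣ Nat.card CT := h3.mul_dvd_of_dvd_of_dvd h1 h2
    have h5 : Nat.card CT ≤ 4 * m := by rw [← hN]; exact Subgroup.card_le_of_le hCTle
    exact le_antisymm h5 (Nat.le_of_dvd Nat.card_pos h4)
  have hCTeq : CT = N := Subgroup.eq_of_le_of_card_ge hCTle (by rw [hCTcard, hN])
  have hNt : ∀ g : G, g ∈ N ↔ g * t = t * g := by
    intro g
    rw [← hCTeq, hCT, mem_centralizer_singleton_iff]
  have hCN : C ≤ N := Subgroup.centralizer_le_normalizer _
  -- an involution `s` in `N` outside `C`
  obtain ⟨s₀, hs₀S, hs₀C⟩ : ∃ s ∈ (S : Subgroup G), s ∉ C := by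
    by_contra hcon
    push Not at hcon
    have h1 := Subgroup.card_dvd_of_le (show (S : Subgroup G) ≤ C from hcon)
    rw [show Nat.card (S : Subgroup G) = 4 from hScard S, hC'] at h1
    omega
  -- fixed points
  have hfix : ∀ s : G, s * s = 1 → s ∈ N → s ∉ C → ∀ x ∈ (P : Subgroup G), s * x = x * s → x = 1 := by
    intro s hss hsN hsC x hx hsx
    by_contra hx1
    have hs1 : s ≠ 1 := by rintro rfl; exact hsC (one_mem _)
    have hsord : orderOf s = 2 := orderOf_eq_prime (by rw [pow_two, hss]) hs1
    obtain ⟨g, hg⟩ := isConj_iff.1 (hinvconj t s htord hsord)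
    -- `g⁻¹ x g` commutes with `t`
    have h1 : (g⁻¹ * x * g) * t = t * (g⁻¹ * x * g) := by
      calc (g⁻¹ * x * g) * t = g⁻¹ * (x * (g * t * g⁻¹)) * g := by group
        _ = g⁻¹ * ((g * t * g⁻¹) * x) * g := by rw [hg, hsx]
        _ = _ := by group
    have h2 : g⁻¹ * x * g ∈ N := (hNt _).2 h1
    have h3 : g⁻¹ * x * g ∈ (P : Subgroup G) := by
      apply hNP _ h2
      have : g⁻¹ * x * g = g⁻¹ * x * (g⁻¹)⁻¹ := by group
      rw [this, conj_pow, hordP x hx]; group
    have h4 : g⁻¹ ∈ N := hTI' g⁻¹ x (hPC hx) hx1 (by rw [inv_inv]; exact hPC h3)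
    have h5 : g ∈ N := by have := inv_mem h4; rwa [inv_inv] at this
    have h6 := (hNt g).1 h5
    have h7 : s = t := by rw [← hg, h6]; group
    exact hsC (h7 ▸ htC)
  have hPab : ∀ x ∈ (P : Subgroup G), ∀ y ∈ (P : Subgroup G), x * y = y * x := by
    intro x hx y hy
    exact mem_centralizer_iff.1 (hPC hy) x hx
  have hinvP : ∀ s : G, s * s = 1 → s ∈ N → s ∉ C → ∀ x ∈ (P : Subgroup G), s * x * s = x⁻¹ := by
    intro s hss hsN hsC x hx
    have hsinv : s⁻¹ = s := inv_eq_of_mul_eq_one_left hss
    have h1 : s * x * s ∈ (P : Subgroup G) := by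
      have := (mem_normalizer_iff.1 hsN x).1 hx
      rwa [hsinv] at this
    have h2 : x * (s * x * s) = 1 := by
      apply hfix s hss hsN hsC _ (mul_mem hx h1)
      calc s * (x * (s * x * s)) = (s * x * s) * x * s := by group
        _ = x * (s * x * s) * s := by rw [hPab _ h1 x hx]
    exact (inv_eq_of_mul_eq_one_right h2).symm
  have hinvC : ∀ s : G, s * s = 1 → s ∈ N → s ∉ C → ∀ c ∈ C, s * c * s = c⁻¹ := by
    intro s hss hsN hsC c hc
    rcases hCcases c hc with h | h
    · exact hinvP s hss hsN hsC c h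
    · have h1 := hinvP s hss hsN hsC _ h
      have h2 := (hNt s).1 hsN
      have htinv : t⁻¹ = t := inv_eq_of_mul_eq_one_left htt
      have h3 : s * (t * c) * s = t * (s * c * s) := by
        calc s * (t * c) * s = (s * t) * c * s := by group
          _ = (t * s) * c * s := by rw [h2]
          _ = _ := by group
      rw [h3, mul_inv_rev, htinv] at h1
      have h4 : c⁻¹ * t = t * c⁻¹ := hCt _ (inv_mem hc)
      rw [h4] at h1
      exact mul_left_cancel h1
  have hidx2 : (C.subgroupOf N).index = 2 := by
    have h1 := (C.subgroupOf N).card_mul_index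
    rw [H1.card_subgroupOf hCN, hC', hN] at h1
    have h2 : 2 * m * (C.subgroupOf N).index = 2 * m * 2 := by rw [h1]; ring
    exact Nat.eq_of_mul_eq_mul_left (by omega) h2
  have hNinv : ∀ g ∈ N, g ∉ C → g * g = 1 := by
    have hs₀1 : s₀ * s₀ = 1 := H4.klein_mul_self (hnoc S) hs₀S
    have hs₀N : s₀ ∈ N := by rw [← hCTeq]; exact hSCT hs₀S
    intro g hg hgC
    have h1 := Subgroup.mul_mem_iff_of_index_two hidx2 (a := (⟨s₀, hs₀N⟩ : N)) (b := ⟨g, hg⟩)
    rw [Subgroup.mem_subgroupOf, Subgroup.mem_subgroupOf, Subgroup.mem_subgroupOf] at h1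
    have h2 : s₀ * g ∈ C := h1.2 (iff_of_false hs₀C hgC)
    have h3 := hinvC s₀ hs₀1 hs₀N hs₀C _ h2
    have h4 : s₀ * (s₀ * g) * s₀ = g * s₀ := by rw [← mul_assoc, hs₀1, one_mul]
    rw [h4, mul_inv_rev, inv_eq_of_mul_eq_one_left hs₀1] at h3
    have h5 := mul_right_cancel h3
    rw [h5]
    nth_rewrite 1 [h5]
    rw [inv_inv]
    rw [h5]
    simp
  -- centralizers of elements of `P`
  have hCP : ∀ x ∈ (P : Subgroup G), x ≠ 1 → ∀ g : G, g * x = x * g → g ∈ C := by
    intro x hx hx1 g hg
    have h1 : g ∈ N := hTI' g x (hPC hx) hx1 (by rw [hg]; simpa using hPC hx)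
    by_contra hgC
    exact hx1 (hfix g (hNinv g h1 hgC) h1 hgC x hx hg)
  -- the friendship graph
  haveI : Fintype G := Fintype.ofFinite G
  let V := {u : G // u * u = 1 ∧ u ≠ 1}
  have hcnt : ∀ (Q : V → Prop) (Q' : G → Prop) [DecidablePred Q], (∀ w : V, Q w ↔ Q' w.1) →
      (Finset.univ.filter Q).card = {w : G | (w * w = 1 ∧ w ≠ 1) ∧ Q' w}.ncard := by
    intro Q Q' _ hQ
    rw [← Finset.card_map (⟨Subtype.val, Subtype.val_injective⟩ : V ↪ G), ← Set.ncard_coe_finset]
    congr 1
    ext w
    simp only [Finset.coe_map, Set.mem_image, Finset.mem_coe, Finset.mem_filter, Finset.mem_univ,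
      true_and, Set.mem_setOf_eq, Function.Embedding.coeFn_mk]
    constructor
    · rintro ⟨v, hv, rfl⟩
      exact ⟨v.2, (hQ v).1 hv⟩
    · rintro ⟨h1, h2⟩
      exact ⟨⟨w, h1⟩, (hQ ⟨w, h1⟩).2 h2, rfl⟩
  have hVord : ∀ u : G, u * u = 1 → u ≠ 1 → orderOf u = 2 := fun u h1 h2 =>
    orderOf_eq_prime (by rw [pow_two, h1]) h2
  have hNCcard : ((N : Set G) \ (C : Set G)).ncard = 2 * m := by
    rw [Set.ncard_diff hCN (Set.toFinite _)]
    have h1 : (N : Set G).ncard = 4 * m := hN
    have h2 : (C : Set G).ncard = 2 * m := hC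
    rw [h1, h2]; omega
  have hxinv : ∀ x ∈ (P : Subgroup G), x ≠ 1 → x⁻¹ ≠ x := by
    intro x hx hx1 h
    apply hx1
    have h1 : x * x = 1 := by nth_rewrite 1 [← h]; group
    have h2 := hordP x hx
    obtain ⟨k, hk⟩ : ∃ k, m = 2 * k + 1 := ⟨m / 2, by omega⟩
    rw [hk, pow_succ, pow_mul, pow_two, h1, one_pow, one_mul] at h2
    exact h2
  haveI : Nonempty V := ⟨⟨t, htt, ht1⟩⟩
  have h3le : 3 ≤ m := Nat.le_of_dvd hmpos h3m
  refine H24.no_regular_friendship (V := V) (fun u v => u ≠ v ∧ u.1 * v.1 = v.1 * u.1)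
    (fun v h => h.1 rfl) (fun u v h => ⟨h.1.symm, h.2.symm⟩) (c := 2 * m) (by omega) ?_ ?_
  · -- degree
    rintro ⟨u, hu, hu1⟩
    obtain ⟨g, hg⟩ := isConj_iff.1 (hinvconj t u htord (hVord u hu hu1))
    refine (hcnt _ (fun z : G => u ≠ z ∧ u * z = z * u) (fun w =>
      ⟨fun h => ⟨fun e => h.1 (Subtype.ext e), h.2⟩,
        fun h => ⟨fun e => h.1 (congrArg Subtype.val e), h.2⟩⟩)).trans ?_
    rw [← hNCcard, ← Set.ncard_image_of_injective ((N : Set G) \ (C : Set G)) (MulAut.conj g).injective]
    congr 1
    ext w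
    constructor
    · rintro ⟨⟨hw, hw1⟩, huw, hcomm⟩
      refine ⟨g⁻¹ * w * g, ⟨?_, ?_⟩, by rw [MulAut.conj_apply]; group⟩
      · show g⁻¹ * w * g ∈ N
        rw [hNt]
        calc g⁻¹ * w * g * t = g⁻¹ * (w * (g * t * g⁻¹)) * g := by group
          _ = g⁻¹ * ((g * t * g⁻¹) * w) * g := by rw [hg, hcomm]
          _ = t * (g⁻¹ * w * g) := by group
      · intro hc
        apply huw
        have h1 : g⁻¹ * w * g = t := by
          apply hCinv _ hc
          · calc g⁻¹ * w * g * (g⁻¹ * w * g) = g⁻¹ * (w * w) * g := by group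
              _ = 1 := by rw [hw]; group
          · intro h2
            apply hw1
            have : w = g * (g⁻¹ * w * g) * g⁻¹ := by group
            rw [this, h2]; group
        rw [← hg, ← h1]; group
    · rintro ⟨n, ⟨hnN, hnC⟩, rfl⟩
      rw [MulAut.conj_apply]
      have hnn := hNinv n hnN hnC
      have hn1 : n ≠ 1 := by rintro rfl; exact hnC (one_mem _)
      refine ⟨⟨?_, ?_⟩, ?_, ?_⟩
      · calc g * n * g⁻¹ * (g * n * g⁻¹) = g * (n * n) * g⁻¹ := by group
          _ = 1 := by rw [hnn]; group
      · intro h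
        apply hn1
        have : n = g⁻¹ * (g * n * g⁻¹) * g := by group
        rw [this, h]; group
      · intro h
        apply hnC
        have : n = g⁻¹ * (g * n * g⁻¹) * g := by group
        rw [this, ← h, ← hg]
        have h2 : g⁻¹ * (g * t * g⁻¹) * g = t := by group
        rw [h2]; exact htC
      · rw [← hg]
        have h1 := (hNt n).1 hnN
        calc g * t * g⁻¹ * (g * n * g⁻¹) = g * (t * n) * g⁻¹ := by group
          _ = g * (n * t) * g⁻¹ := by rw [h1]
          _ = _ := by group
  · -- common neighbours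
    rintro ⟨u, hu, hu1⟩ ⟨v, hv, hv1⟩ huv
    have huv' : u ≠ v := fun h => huv (Subtype.ext h)
    refine (hcnt _ (fun z : G => (u ≠ z ∧ u * z = z * u) ∧ (z ≠ v ∧ z * v = v * z)) (fun w =>
      ⟨fun h => ⟨⟨fun e => h.1.1 (Subtype.ext e), h.1.2⟩, ⟨fun e => h.2.1 (Subtype.ext e), h.2.2⟩⟩,
        fun h => ⟨⟨fun e => h.1.1 (congrArg Subtype.val e), h.1.2⟩,
          ⟨fun e => h.2.1 (congrArg Subtype.val e), h.2.2⟩⟩⟩)).trans ?_
    rw [Set.ncard_eq_one]
    have huinv : u⁻¹ = u := inv_eq_of_mul_eq_one_left hu
    have hvinv : v⁻¹ = v := inv_eq_of_mul_eq_one_left hv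
    set y := u * v with hy
    have hyne : y ≠ 1 := by
      intro h
      apply huv'
      have h1 : u = v⁻¹ := eq_inv_of_mul_eq_one_left h
      rw [h1, hvinv]
    have huy : u * y * u⁻¹ = y⁻¹ := by
      rw [huinv, hy, mul_inv_rev, huinv, hvinv, ← mul_assoc, hu, one_mul]
    have hvy : v * y * v⁻¹ = y⁻¹ := by
      rw [hvinv, hy, mul_inv_rev, huinv, hvinv]
      calc v * (u * v) * v = v * u * (v * v) := by group
        _ = v * u := by rw [hv, mul_one]
    -- the dihedral group
    set D : Subgroup G := Subgroup.closure {u, v} with hD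
    have huD : u ∈ D := Subgroup.subset_closure (by simp)
    have hvD : v ∈ D := Subgroup.subset_closure (by simp)
    have hDnorm : D ≤ normalizer (zpowers y : Set G) := by
      rw [hD, Subgroup.closure_le]
      have h1 : ∀ s : G, s * s = 1 → s * y * s⁻¹ = y⁻¹ → s ∈ normalizer (zpowers y : Set G) := by
        intro s hs hsy
        rw [H1.mem_normalizer_iff_conj_smul]
        apply Subgroup.eq_of_le_of_card_ge
        · intro z hz
          rw [H1.mem_conj_smul] at hz
          obtain ⟨k, hk⟩ := hz
          have hk' : y ^ k = s⁻¹ * z * s := hk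
          have h2 : z = (s * y * s⁻¹) ^ k := by
            rw [conj_zpow, hk']; group
          rw [h2, hsy]
          exact zpow_mem (inv_mem (mem_zpowers y)) k
        · rw [H1.card_conj_smul]
      rintro z (rfl | rfl)
      · exact h1 _ hu huy
      · exact h1 _ hv hvy
    have hDtop : D ≠ ⊤ := by
      intro h
      have h1 : (zpowers y).Normal := by
        rw [← Subgroup.normalizer_eq_top_iff, eq_top_iff, ← h]
        exact hDnorm
      rcases h1.eq_bot_or_eq_top with h2 | h2
      · exact hyne (Subgroup.zpowers_eq_bot.1 h2)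
      · apply hnc
        refine ⟨⟨fun a b => ?_⟩⟩
        have ha : a ∈ zpowers y := by rw [h2]; exact mem_top a
        have hb : b ∈ zpowers y := by rw [h2]; exact mem_top b
        obtain ⟨i, rfl⟩ := ha
        obtain ⟨j, rfl⟩ := hb
        exact ((Commute.refl y).zpow_zpow i j).eq
    have h2D : 2 ∣ Nat.card D := by
      have h1 := _root_.orderOf_dvd_natCard (⟨u, huD⟩ : D)
      rwa [Subgroup.orderOf_mk, hVord u hu hu1] at h1
    have hDcard := heven D hDtop h2D
    have hyD : y ∈ D := mul_mem huD hvD
    have hyord : orderOf y ∣ 4 * m := by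
      have h1 := (_root_.orderOf_dvd_natCard (⟨y, hyD⟩ : D)).trans hDcard
      rwa [Subgroup.orderOf_mk] at h1
    by_cases hy4 : y ^ 4 = 1
    · -- `u` and `v` commute
      have hyy : y * y = 1 := by
        have h1 : IsPGroup 2 (zpowers y) := by
          apply IsPGroup.of_card_dvd_pow (n := 2)
          rw [Nat.card_zpowers]
          exact orderOf_dvd_of_pow_eq_one (by norm_num; exact hy4)
        obtain ⟨S₁, hS₁⟩ := h1.exists_le_sylow
        exact H4.klein_mul_self (hnoc S₁) (hS₁ (mem_zpowers y))
      have hcomm : u * v = v * u := by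
        have h1 : y⁻¹ = y := inv_eq_of_mul_eq_one_left hyy
        rw [hy, mul_inv_rev, huinv, hvinv] at h1
        exact h1.symm
      refine ⟨y, ?_⟩
      ext w
      rw [Set.mem_singleton_iff]
      constructor
      · rintro ⟨⟨hw, hw1⟩, ⟨huw, huwc⟩, ⟨hwv, hwvc⟩⟩
        set K : Subgroup G := Subgroup.closure {u, v, w} with hK
        have hKc : IsMulCommutative K := by
          apply Subgroup.isMulCommutative_closure
          rintro a ha b hb
          simp only [Set.mem_insert_iff, Set.mem_singleton_iff] at ha hb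
          rcases ha with rfl | rfl | rfl <;> rcases hb with rfl | rfl | rfl
          · rfl
          · exact hcomm
          · exact huwc
          · exact hcomm.symm
          · rfl
          · exact hwvc.symm
          · exact huwc.symm
          · exact hwvc
          · rfl
        have hKsq : ∀ z ∈ K, z * z = 1 := by
          intro z hz
          induction hz using Subgroup.closure_induction with
          | mem x hx =>
            simp only [Set.mem_insert_iff, Set.mem_singleton_iff] at hx
            rcases hx with rfl | rfl | rfl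
            · exact hu
            · exact hv
            · exact hw
          | one => simp
          | mul x y hx hy ihx ihy =>
            have h1 : x * y = y * x := congrArg Subtype.val (mul_comm' (⟨x, hx⟩ : K) ⟨y, hy⟩)
            calc x * y * (x * y) = x * (y * x) * y := by group
              _ = x * (x * y) * y := by rw [h1]
              _ = (x * x) * (y * y) := by group
              _ = 1 := by rw [ihx, ihy, one_mul]
          | inv x hx ihx =>
            calc x⁻¹ * x⁻¹ = (x * x)⁻¹ := by group
              _ = 1 := by rw [ihx, inv_one]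
        have hKp : IsPGroup 2 K := by
          intro z
          refine ⟨1, Subtype.ext ?_⟩
          rw [pow_one, pow_two]
          exact hKsq z z.2
        obtain ⟨S₁, hS₁⟩ := hKp.exists_le_sylow
        have huK : u ∈ K := Subgroup.subset_closure (by simp)
        have hvK : v ∈ K := Subgroup.subset_closure (by simp)
        have hwK : w ∈ K := Subgroup.subset_closure (by simp)
        exact H4.klein_third (hnoc S₁) (hS₁ huK) (hS₁ hvK) (hS₁ hwK) hu1 hv1 huv' hw1 huw.symm hwv
      · rintro rfl
        refine ⟨⟨hyy, hyne⟩, ⟨?_, ?_⟩, ⟨?_, ?_⟩⟩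
        · intro h
          apply hv1
          have h1 : u * 1 = u * v := by rw [mul_one]; exact h
          exact (mul_left_cancel h1).symm
        · rw [hy]
          calc u * (u * v) = u * (v * u) := by rw [hcomm]
            _ = _ := by group
        · intro h
          apply hu1
          have h1 : u * v = 1 * v := by rw [one_mul]; exact h
          exact mul_right_cancel h1
        · rw [hy]
          calc u * v * v = v * u * v := by rw [hcomm]
            _ = _ := by group
    · -- a 3-element inverted by `u` and `v`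
      obtain ⟨x, hxP, hyx⟩ := H4.exists_conj_mem_sylow P (t := y ^ 4) (k := a) (by
        rw [← pow_mul, ← ha]
        exact orderOf_dvd_iff_pow_eq_one.1 hyord)
      obtain ⟨g, hg⟩ := isConj_iff.1 hyx
      have hx1 : x ≠ 1 := by
        rintro rfl
        apply hy4
        have : y ^ 4 = g⁻¹ * (g * y ^ 4 * g⁻¹) * g := by group
        rw [this, hg]; group
      -- conjugates
      have hinvx : ∀ s : G, s * y * s⁻¹ = y⁻¹ → (g * s * g⁻¹) * x * (g * s * g⁻¹)⁻¹ = x⁻¹ := by
        intro s hs
        have h1 : s * y ^ 4 * s⁻¹ = (y ^ 4)⁻¹ := by rw [← conj_pow, hs, inv_pow]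
        rw [← hg]
        calc (g * s * g⁻¹) * (g * y ^ 4 * g⁻¹) * (g * s * g⁻¹)⁻¹ = g * (s * y ^ 4 * s⁻¹) * g⁻¹ := by group
          _ = g * (y ^ 4)⁻¹ * g⁻¹ := by rw [h1]
          _ = _ := by group
      have hNC' : ∀ s : G, s * y * s⁻¹ = y⁻¹ → g * s * g⁻¹ ∈ N ∧ g * s * g⁻¹ ∉ C := by
        intro s hs
        have h1 := hinvx s hs
        constructor
        · apply hTI' _ x (hPC hxP) hx1
          rw [h1]; exact inv_mem (hPC hxP)
        · intro h
          have h2 := mem_centralizer_iff.1 h x hxP
          rw [← h2] at h1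
          apply hxinv x hxP hx1
          rw [← h1]; group
      obtain ⟨huN, huC⟩ := hNC' u huy
      obtain ⟨hvN, hvC⟩ := hNC' v hvy
      refine ⟨g⁻¹ * t * g, ?_⟩
      ext w
      rw [Set.mem_singleton_iff]
      constructor
      · rintro ⟨⟨hw, hw1⟩, ⟨huw, huwc⟩, ⟨hwv, hwvc⟩⟩
        have h1 : w * y = y * w := by
          rw [hy]
          calc w * (u * v) = (w * u) * v := by group
            _ = (u * w) * v := by rw [huwc]
            _ = u * (w * v) := by group
            _ = u * (v * w) := by rw [hwvc]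
            _ = _ := by group
        have h2 : w * y ^ 4 = y ^ 4 * w := by
          have : Commute w y := h1
          exact (this.pow_right 4).eq
        have h3 : (g * w * g⁻¹) * x = x * (g * w * g⁻¹) := by
          rw [← hg]
          calc (g * w * g⁻¹) * (g * y ^ 4 * g⁻¹) = g * (w * y ^ 4) * g⁻¹ := by group
            _ = g * (y ^ 4 * w) * g⁻¹ := by rw [h2]
            _ = _ := by group
        have h4 := hCP x hxP hx1 _ h3
        have h5 : g * w * g⁻¹ = t := by
          apply hCinv _ h4
          · calc g * w * g⁻¹ * (g * w * g⁻¹) = g * (w * w) * g⁻¹ := by group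
              _ = 1 := by rw [hw]; group
          · intro h
            apply hw1
            have : w = g⁻¹ * (g * w * g⁻¹) * g := by group
            rw [this, h]; group
        rw [← h5]; group
      · rintro rfl
        refine ⟨⟨?_, ?_⟩, ⟨?_, ?_⟩, ⟨?_, ?_⟩⟩
        · calc g⁻¹ * t * g * (g⁻¹ * t * g) = g⁻¹ * (t * t) * g := by group
            _ = 1 := by rw [htt]; group
        · intro h
          apply ht1
          have : t = g * (g⁻¹ * t * g) * g⁻¹ := by group
          rw [this, h]; group
        · intro h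
          apply huC
          rw [h]
          have : g * (g⁻¹ * t * g) * g⁻¹ = t := by group
          rw [this]; exact htC
        · have h1 := (hNt _).1 huN
          calc u * (g⁻¹ * t * g) = g⁻¹ * ((g * u * g⁻¹) * t) * g := by group
            _ = g⁻¹ * (t * (g * u * g⁻¹)) * g := by rw [h1]
            _ = _ := by group
        · intro h
          apply hvC
          rw [← h]
          have : g * (g⁻¹ * t * g) * g⁻¹ = t := by group
          rw [this]; exact htC
        · have h1 := (hNt _).1 hvN
          calc g⁻¹ * t * g * v = g⁻¹ * (t * (g * v * g⁻¹)) * g := by group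
            _ = g⁻¹ * ((g * v * g⁻¹) * t) * g := by rw [h1]
            _ = _ := by group

/-- Let G be a finite group with an abelian Sylow 3-subgroup P such that the normalizer of P has order 4·#P, the centralizer C of P has order 2·#P, C meets each of its conjugates by elements outside its normalizer trivially, and every proper subgroup of G of even order has order dividing 4·#P. Then G is not simple. -/
theorem result {G : Type*} [Group G] [Finite G]
    (P : Sylow 3 G) (hab : IsMulCommutative P)
    (hN : Nat.card (Subgroup.normalizer ((P : Subgroup G) : Set G)) = 4 * Nat.card P)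
    (hC : Nat.card (Subgroup.centralizer (P : Set G)) = 2 * Nat.card P)
    (hTI : Cfsg.IsTISubset (Subgroup.centralizer (P : Set G) : Set G))
    (heven : ∀ H : Subgroup G, H ≠ ⊤ → 2 ∣ Nat.card H → Nat.card H ∣ 4 * Nat.card P) :
    ¬ IsSimpleGroup G := by
  exact fun hG => aux P hab hN hC hTI heven hG

end Cfsg.Agent.S4018
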