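import Cfsg.Statements.S4035
import Cfsg.Agent.H24.ClassSize
import Cfsg.Agent.H24.ClassSize3
import Cfsg.Agent.H24.Decomp
import Cfsg.Agent.H22.MinNormal

set_option autoImplicit false
open Cfsg

namespace Cfsg.Agent.S4035

/-- Let G be a finite group and p a prime such that p divides the size of no conjugacy class of p-regular elements (elements of order prime to p). Then G is the internal direct product of a Sylow p-subgroup P and a normal subgroup H of order prime to p: P is normal, P ⊓ H = 1 and PH = G. -/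
theorem result {G : Type*} [Group G] [Finite G] {p : ℕ} [Fact p.Prime]
    (h : ∀ x : G, (orderOf x).Coprime p → ¬ p ∣ (ConjClasses.mk x).carrier.ncard) (P : Sylow p G) :
    (P : Subgroup G).Normal ∧ ∃ H : Subgroup G, H.Normal ∧ ¬ p ∣ Nat.card H ∧
      (P : Subgroup G) ⊓ H = ⊥ ∧ (P : Subgroup G) ⊔ H = ⊤ := by
  classical
  have hp := Fact.out (p := p.Prime)
  have h' : ∀ x : G, (orderOf x).Coprime p → ¬ p ∣ (Subgroup.centralizer ({x} : Set G)).index := by
    intro x hx
    have h1 := h x hx
    have h2 : (ConjClasses.mk x).carrier = {y : G | IsConj x y} := by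
      ext y
      rw [ConjClasses.mem_carrier_iff_mk_eq, ConjClasses.mk_eq_mk_iff_isConj]
      exact ⟨fun h => h.symm, fun h => IsConj.symm h⟩
    rwa [h2, Cfsg.Agent.H24.ncard_isConj] at h1
  set C : Subgroup G := Subgroup.centralizer ((P : Subgroup G) : Set G) with hC
  -- every element is conjugate into `P C(P)`
  have hcover : ∀ g : G, ∃ x : G, x⁻¹ * g * x ∈ (P : Subgroup G) ⊔ C := by
    intro g
    obtain ⟨i, j, hg, hi, hj⟩ := Cfsg.Agent.H24.exists_pPart_decomp p g
    set u := g ^ i with hu
    set v := g ^ j with hv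
    have huv : Commute u v := by
      rw [hu, hv]; exact ((Commute.refl g).pow_pow i j)
    have huC : u ∈ Subgroup.centralizer ({v} : Set G) := by
      rw [Subgroup.mem_centralizer_singleton_iff]; exact huv
    obtain ⟨Q, hQ1, hQ2⟩ := Cfsg.Agent.H24.exists_sylow_le_of_not_dvd_index _ (h' v hj)
      (Subgroup.zpowers u) (Cfsg.Agent.H24.isPGroup_zpowers_of_orderOf hi)
      (by rw [Subgroup.zpowers_le]; exact huC)
    obtain ⟨x, rfl⟩ := MulAction.exists_smul_eq G P Q
    refine ⟨x, ?_⟩
    have hmem : ∀ y : G, y ∈ ((x • P : Sylow p G) : Subgroup G) ↔ x⁻¹ * y * x ∈ (P : Subgroup G) := by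
      intro y
      rw [Sylow.coe_subgroup_smul, Subgroup.mem_pointwise_smul_iff_inv_smul_mem]
      simp only [MulAut.smul_def, MulAut.inv_apply, MulAut.conj_symm_apply]
    have h1 : x⁻¹ * u * x ∈ (P : Subgroup G) := (hmem u).1 (hQ2 (Subgroup.mem_zpowers u))
    have h2 : x⁻¹ * v * x ∈ C := by
      rw [hC, Subgroup.mem_centralizer_iff]
      intro y hy
      have h3 : x * y * x⁻¹ ∈ ((x • P : Sylow p G) : Subgroup G) := by
        rw [hmem]
        have : x⁻¹ * (x * y * x⁻¹) * x = y := by group
        rw [this]; exact hy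
      have h4 := hQ1 h3
      rw [Subgroup.mem_centralizer_singleton_iff] at h4
      calc y * (x⁻¹ * v * x) = x⁻¹ * ((x * y * x⁻¹) * v) * x := by group
        _ = x⁻¹ * (v * (x * y * x⁻¹)) * x := by rw [h4]
        _ = x⁻¹ * v * x * y := by group
    have h3 : x⁻¹ * g * x = (x⁻¹ * u * x) * (x⁻¹ * v * x) := by
      rw [show x⁻¹ * u * x * (x⁻¹ * v * x) = x⁻¹ * (u * v) * x by group, ← hg]
    rw [h3]
    exact Subgroup.mul_mem_sup h1 h2
  have htop : (P : Subgroup G) ⊔ C = ⊤ := by
    by_contra hne
    obtain ⟨g, hg⟩ := Cfsg.Agent.H22.exists_notMem_conj _ hne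
    obtain ⟨x, hx⟩ := hcover g
    exact hg x hx
  have hPn : (P : Subgroup G).Normal := by
    rw [← Subgroup.normalizer_eq_top_iff, eq_top_iff, ← htop]
    apply sup_le Subgroup.le_normalizer
    exact Subgroup.centralizer_le_normalizer _
  have hCn : C.Normal := by
    rw [hC]; infer_instance
  refine ⟨hPn, ?_⟩
  have hcop : (Nat.card (P : Subgroup G)).Coprime (P : Subgroup G).index := P.card_coprime_index
  obtain ⟨H, hH⟩ := Subgroup.exists_right_complement'_of_coprime hcop
  have hHc : Nat.card H = (P : Subgroup G).index := by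
    have h1 := hH.card_mul
    have h2 := Subgroup.card_mul_index (P : Subgroup G)
    rw [← h2] at h1
    exact Nat.eq_of_mul_eq_mul_left Nat.card_pos h1
  have hHp : ¬ p ∣ Nat.card H := by rw [hHc]; exact P.not_dvd_index
  have hHC : H ≤ C := by
    intro x hx
    -- image of `x` in `G ⧸ C`
    have h1 : orderOf (QuotientGroup.mk x : G ⧸ C) ∣ Nat.card H :=
      (orderOf_map_dvd (QuotientGroup.mk' C) x).trans (Subgroup.orderOf_dvd_natCard H hx)
    have h2 : orderOf (QuotientGroup.mk x : G ⧸ C) ∣ Nat.card (P : Subgroup G) := by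
      refine (orderOf_dvd_natCard _).trans ?_
      show C.index ∣ _
      rw [← Subgroup.relIndex_top_right, ← htop, Subgroup.relIndex_sup_right]
      exact Subgroup.relIndex_dvd_card _ _
    have h3 : orderOf (QuotientGroup.mk x : G ⧸ C) = 1 := by
      apply Nat.eq_one_of_dvd_coprimes _ h1 h2
      rw [hHc]; exact hcop.symm
    rw [orderOf_eq_one_iff, QuotientGroup.eq_one_iff] at h3
    exact h3
  refine ⟨H, ?_, hHp, hH.disjoint.eq_bot, hH.sup_eq_top⟩
  rw [← Subgroup.normalizer_eq_top_iff, eq_top_iff, ← hH.sup_eq_top]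
  refine sup_le ?_ Subgroup.le_normalizer
  intro y hy
  rw [Subgroup.mem_normalizer_iff]
  have h1 : ∀ z ∈ H, y * z * y⁻¹ = z := by
    intro z hz
    have h2 := Subgroup.mem_centralizer_iff.1 (hHC hz) y hy
    rw [h2]; group
  intro z
  constructor
  · intro hz; rw [h1 z hz]; exact hz
  · intro hz
    have h2 := h1 _ hz
    have h3 : y * z * y⁻¹ = z := mul_left_cancel (mul_right_cancel h2)
    rwa [h3] at hz

end Cfsg.Agent.S4035
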