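import Cfsg.Statements.S5748
import Cfsg.Agent.H9.CTE
import Cfsg.Agent.FT

set_option autoImplicit false
open Cfsg

namespace Cfsg.Agent.S5748

/-- A finite non-abelian simple group in which commuting is a transitive relation on the non-identity elements (equivalently, every non-identity element has abelian centraliser) is isomorphic to PSL₂ over a field with 2^f elements for some f ≥ 2; conversely these groups have that property. -/
theorem result {G : Type*} [Group G] [Finite G] [IsSimpleGroup G] (hG : ¬ IsMulCommutative G) :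
    (∀ a b c : G, a ≠ 1 → b ≠ 1 → c ≠ 1 → Commute a b → Commute b c → Commute a c) ↔
    ∃ (F : Type) (_ : Field F) (_ : Fintype F) (f : ℕ), 2 ≤ f ∧ Fintype.card F = 2 ^ f ∧ Nonempty (G ≃* Matrix.ProjectiveSpecialLinearGroup (Fin 2) F) := by
  constructor
  · intro hct
    have h2 : 2 ∣ Nat.card G := by
      by_contra hodd
      have hsol : Group.IsSolvable G := Cfsg.Agent.FT.odd_order (Nat.odd_iff.mpr (Nat.two_dvd_ne_zero.mp hodd))
      apply hG
      haveI := hsol
      exact ⟨⟨fun a b => IsSimpleGroup.comm_iff_isSolvable.mpr hsol a b⟩⟩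
    obtain ⟨u, hu⟩ := H9.CT.exists_ev hG hct h2
    exact hu.psl
  · rintro ⟨F, iF, iFin, f, hf, hcard, ⟨e⟩⟩
    have h := H9.CT.psl_ct hcard hf
    intro a b c ha hb hc hab hbc
    have h1 := h (e a) (e b) (e c) (by simpa using ha) (by simpa using hb) (by simpa using hc)
      (hab.map e.toMonoidHom) (hbc.map e.toMonoidHom)
    have h2 := h1.map e.symm.toMonoidHom
    simpa using h2

end Cfsg.Agent.S5748
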