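import Cfsg.Statements.S4073
import Cfsg.Agent.H24.SLTwoB
import Cfsg.Agent.H24.SNGrp4
import Cfsg.Agent.S5748

set_option autoImplicit false
open Cfsg

namespace Cfsg.Agent.S4073

open Subgroup
open Cfsg.Agent Cfsg.Agent.H24

theorem charTwo {F : Type*} [Field F] [Fintype F] {f : ℕ} (hf : 2 ≤ f) (hF : Fintype.card F = 2 ^ f) : CharP F 2 := by
  obtain ⟨p, hp, n, hpn, hcard⟩ := FiniteField.card' F
  have hp2 : p = 2 := by
    have hd : 2 ∣ p ^ (n : ℕ) := by
      rw [← hcard, hF]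
      exact dvd_pow_self 2 (by omega)
    exact ((Nat.prime_dvd_prime_iff_eq Nat.prime_two hpn).mp (Nat.prime_two.dvd_of_dvd_pow hd)).symm
  subst hp2
  exact hp

theorem center_bot {F : Type*} [Field F] [CharP F 2] : center (Matrix.SpecialLinearGroup (Fin 2) F) = ⊥ := by
  rw [eq_bot_iff]
  intro A hA
  rw [mem_bot]
  obtain ⟨u, hu, hu1⟩ := SLTwo.exists_uni (F := F)
  have h1 : A ∈ SLTwo.Uni F := SLTwo.mem_uni_of_comm hu hu1 (mem_center_iff.mp hA u).symm
  by_contra hA1
  have h2 := SLTwo.uni_ne_one h1 hA1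
  have h3 : A 0 1 = 0 := by
    have := mem_center_iff.mp hA (SLTwo.mk4 0 (-1) 1 0 (by ring))
    have e := congrArg (fun x : Matrix.SpecialLinearGroup (Fin 2) F => x 1 1) this
    rw [SLTwo.mul11, SLTwo.mul11, SLTwo.mk10, SLTwo.mk11, SLTwo.mk01] at e
    have h10 : A 1 0 = 0 := h1.1
    linear_combination e - h10
  exact h2 h3

/-- SN for `SL(2,F)` forces `|F| - 1` to be prime. -/
theorem prime_of_SN {F : Type*} [Field F] [Fintype F] [CharP F 2] (h3 : 3 ≤ Fintype.card F - 1)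
    (h : SN (Matrix.SpecialLinearGroup (Fin 2) F)) : (Fintype.card F - 1).Prime := by
  classical
  obtain ⟨r, hr, hrd⟩ := Nat.exists_prime_and_dvd (n := Fintype.card F - 1) (by omega)
  have hcard : Nat.card Fˣ = Fintype.card F - 1 := by
    rw [Nat.card_eq_fintype_card, Fintype.card_units]
  haveI : Fact r.Prime := ⟨hr⟩
  obtain ⟨a, ha⟩ := exists_prime_orderOf_dvd_card' (G := Fˣ) r (by rw [hcard]; exact hrd)
  have ha1 : a ≠ 1 := by
    rintro rfl
    rw [orderOf_one] at ha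
    exact hr.one_lt.ne ha
  set H : Subgroup (Matrix.SpecialLinearGroup (Fin 2) F) :=
    ((zpowers a).comap (SLTwo.dchar F)).map (SLTwo.Bor F).subtype with hH
  let t : Matrix.SpecialLinearGroup (Fin 2) F := SLTwo.mk4 (a : F) 0 0 ((a⁻¹ : Fˣ) : F) (by simp)
  have htB : t ∈ SLTwo.Bor F := rfl
  have htH : t ∈ H := by
    refine ⟨⟨t, htB⟩, ?_, rfl⟩
    refine ⟨1, ?_⟩
    apply Units.ext
    show ((a ^ (1 : ℤ) : Fˣ) : F) = t 0 0
    rw [zpow_one]; rfl
  have hUH : SLTwo.Uni F ≤ H := by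
    intro u hu
    refine ⟨⟨u, hu.1⟩, ?_, rfl⟩
    refine ⟨0, ?_⟩
    apply Units.ext
    show ((a ^ (0 : ℤ) : Fˣ) : F) = u 0 0
    rw [zpow_zero, hu.2]; rfl
  obtain ⟨u, hu, hu1⟩ := SLTwo.exists_uni (F := F)
  have hna : ¬ IsMulCommutative H := by
    intro hc
    rw [isMulComm_iff] at hc
    have h1 := hc t htH u (hUH hu)
    have h2 := SLTwo.mem_uni_of_comm hu hu1 h1
    apply ha1
    apply Units.ext
    exact h2.2
  have hN := h H hna
  have hBH : SLTwo.Bor F ≤ H := by
    rw [← hN]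
    intro g hg
    have key : ∀ g ∈ SLTwo.Bor F, ∀ x ∈ H, g * x * g⁻¹ ∈ H := by
      rintro g hg _ ⟨x, hx, rfl⟩
      refine ⟨⟨g, hg⟩ * x * ⟨g, hg⟩⁻¹, ?_, rfl⟩
      show (SLTwo.dchar F) (⟨g, hg⟩ * x * ⟨g, hg⟩⁻¹) ∈ zpowers a
      rw [map_mul, map_mul, map_inv, mul_comm ((SLTwo.dchar F) ⟨g, hg⟩), mul_inv_cancel_right]
      exact hx
    rw [mem_normalizer_iff]
    intro x
    refine ⟨key g hg x, fun hx => ?_⟩
    have := key g⁻¹ (inv_mem hg) _ hx
    have e : g⁻¹ * (g * x * g⁻¹) * g⁻¹⁻¹ = x := by group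
    rwa [e] at this
  have htop : zpowers a = ⊤ := by
    rw [eq_top_iff]
    intro b _
    let s : Matrix.SpecialLinearGroup (Fin 2) F := SLTwo.mk4 (b : F) 0 0 ((b⁻¹ : Fˣ) : F) (by simp)
    obtain ⟨y, hy, hys⟩ := hBH (show s ∈ SLTwo.Bor F from rfl)
    have h1 : (SLTwo.dchar F) y = b := by
      apply Units.ext
      show (y : Matrix.SpecialLinearGroup (Fin 2) F) 0 0 = b
      have : (y : Matrix.SpecialLinearGroup (Fin 2) F) = s := hys
      rw [this]; rfl
    rw [← h1]
    exact hy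
  have h5 : Nat.card (zpowers a) = r := by rw [Nat.card_zpowers, ha]
  rw [htop, Subgroup.card_top, hcard] at h5
  rw [h5]; exact hr

/-- Let G be a finite non-abelian simple group. Every non-abelian subgroup of G is self-normalizing if and only if G is isomorphic to PSL₂(2ⁿ) for some n ≥ 2 with 2ⁿ − 1 prime (this includes the alternating group of degree 5 as PSL₂(4)). -/
theorem result {G : Type*} [Group G] [Finite G] [IsSimpleGroup G]
    (hna : ¬ IsMulCommutative G) :
    (∀ H : Subgroup G, ¬ IsMulCommutative H → Subgroup.normalizer (H : Set G) = H) ↔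
    ∃ n : ℕ, 2 ≤ n ∧ (2 ^ n - 1).Prime ∧ Nonempty (G ≃* Matrix.ProjectiveSpecialLinearGroup (Fin 2) (GaloisField 2 n)) := by
  constructor
  · intro hSN
    have hSN' : SN G := hSN
    obtain ⟨F, iF, iFin, f, hf, hcard, ⟨e⟩⟩ := (S5748.result hna).mp (SN.ct hna hSN')
    haveI := charTwo hf hcard
    have h4 : 4 ≤ 2 ^ f := by
      calc 4 = 2 ^ 2 := by norm_num
        _ ≤ 2 ^ f := Nat.pow_le_pow_right (by norm_num) hf
    have h1 : SN (Matrix.ProjectiveSpecialLinearGroup (Fin 2) F) := hSN'.of_equiv e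
    let f' : Matrix.SpecialLinearGroup (Fin 2) F →* Matrix.ProjectiveSpecialLinearGroup (Fin 2) F :=
      QuotientGroup.mk' (center (Matrix.SpecialLinearGroup (Fin 2) F))
    have hb : Function.Bijective f' := by
      refine ⟨?_, QuotientGroup.mk'_surjective _⟩
      rw [← MonoidHom.ker_eq_bot_iff]
      show (QuotientGroup.mk' (center (Matrix.SpecialLinearGroup (Fin 2) F))).ker = ⊥
      rw [QuotientGroup.ker_mk', center_bot]
    have h2 : SN (Matrix.SpecialLinearGroup (Fin 2) F) := h1.of_equiv (MulEquiv.ofBijective f' hb).symm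
    have h3 := prime_of_SN (F := F) (by rw [hcard]; omega) h2
    rw [hcard] at h3
    refine ⟨f, hf, h3, ?_⟩
    haveI : Fintype (GaloisField 2 f) := Fintype.ofFinite _
    have h5 : Fintype.card F = Fintype.card (GaloisField 2 f) := by
      rw [hcard, ← Nat.card_eq_fintype_card, GaloisField.card 2 f (by omega)]
    let φ : F ≃+* GaloisField 2 f := FiniteField.ringEquivOfCardEq h5
    exact ⟨e.trans (H5.PSLCongr φ)⟩
  · rintro ⟨n, hn, hp, ⟨e⟩⟩
    classical
    haveI : Fintype (GaloisField 2 n) := Fintype.ofFinite _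
    have h5 : Fintype.card (GaloisField 2 n) = 2 ^ n := by
      rw [← Nat.card_eq_fintype_card, GaloisField.card 2 n (by omega)]
    have h1 : SN (Matrix.SpecialLinearGroup (Fin 2) (GaloisField 2 n)) :=
      SLTwo.sn_of_prime (by rw [h5]; exact hp)
    have h2 : SN (Matrix.ProjectiveSpecialLinearGroup (Fin 2) (GaloisField 2 n)) :=
      h1.quot (center (Matrix.SpecialLinearGroup (Fin 2) (GaloisField 2 n)))
    exact h2.of_equiv e.symm

end Cfsg.Agent.S4073
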