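import Cfsg.Statements.S4113

set_option autoImplicit false
set_option linter.all false
open Cfsg

namespace Cfsg.Agent.S4113

theorem exists_mul {G : Type*} [Group G] (M H : Subgroup G) [M.Normal] (hHM : H ⊔ M = ⊤) (g : G) :
    ∃ m ∈ M, ∃ h ∈ H, g = m * h := by
  have hg : g ∈ M ⊔ H := by rw [sup_comm, hHM]; exact Subgroup.mem_top g
  rw [← SetLike.mem_coe, Subgroup.normal_mul] at hg
  obtain ⟨m, hm, h, hh, e⟩ := hg
  exact ⟨m, hm, h, hh, e.symm⟩

/-- Let G be a finite group, M ≤ N non-trivial proper normal subgroups, and H a subgroup with HM = G and H ∩ M = 1. Then every element of G outside N acts fixed-point-freely on M (C_G(x) ≤ N for every x ∈ M, x ≠ 1) if and only if H ∩ gHg⁻¹ ≤ H ∩ N for every g outside H, with H proper and non-trivial and H ∩ N proper in H. -/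
theorem result {G : Type*} [Group G] [Finite G] (N M : Subgroup G) [N.Normal] [M.Normal] (hMN : M ≤ N) (hM1 : M ≠ ⊥) (hN2 : N ≠ ⊤)
    (H : Subgroup G) (hHM : H ⊔ M = ⊤) (hHM' : H ⊓ M = ⊥) :
    (∀ x ∈ M, x ≠ 1 → Subgroup.centralizer ({x} : Set G) ≤ N) ↔
      (H ≠ ⊥ ∧ H ≠ ⊤ ∧ H ⊓ N < H ∧ ∀ g : G, g ∉ H → H ⊓ H.map (MulAut.conj g).toMonoidHom ≤ N) := by
  classical
  have hbot : ∀ {a : G}, a ∈ H → a ∈ M → a = 1 := fun h1 h2 => by
    have : _ ∈ H ⊓ M := ⟨h1, h2⟩
    rwa [hHM', Subgroup.mem_bot] at this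
  have hHN : ¬ H ≤ N := fun h => hN2 (top_le_iff.1 (hHM ▸ sup_le h hMN))
  constructor
  · intro h
    refine ⟨?_, ?_, ?_, ?_⟩
    · rintro rfl; exact hHN bot_le
    · rintro rfl; rw [top_inf_eq] at hHM'; exact hM1 hHM'
    · refine lt_of_le_of_ne inf_le_left fun e => hHN (inf_eq_left.1 e)
    · rintro g hg y ⟨hy1, hy2⟩
      by_contra hyN
      obtain ⟨h', hh', e⟩ := hy2
      obtain ⟨m, hm, k, hk, rfl⟩ := exists_mul M H hHM g
      have hm1 : m ≠ 1 := by
        rintro rfl; exact hg (by rwa [one_mul])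
      have e2 : y = m * (k * h' * k⁻¹) * m⁻¹ := by
        rw [← e]; simp only [MulEquiv.coe_toMonoidHom, MulAut.conj_apply]; group
      have hk' : k * h' * k⁻¹ ∈ H := H.mul_mem (H.mul_mem hk hh') (H.inv_mem hk)
      have e3 : (k * h' * k⁻¹)⁻¹ * y = 1 := by
        refine hbot (H.mul_mem (H.inv_mem hk') hy1) ?_
        rw [e2]
        have : (k * h' * k⁻¹)⁻¹ * (m * (k * h' * k⁻¹) * m⁻¹) =
          ((k * h' * k⁻¹)⁻¹ * m * (k * h' * k⁻¹)⁻¹⁻¹) * m⁻¹ := by group
        rw [this]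
        exact M.mul_mem (Subgroup.Normal.conj_mem inferInstance m hm _) (M.inv_mem hm)
      have e4 : y = k * h' * k⁻¹ := (inv_mul_eq_one.1 e3).symm
      apply hyN
      apply h m hm hm1
      rw [Subgroup.mem_centralizer_singleton_iff]
      rw [← e4] at e2
      calc y * m = (m * y * m⁻¹) * m := by rw [← e2]
        _ = m * y := by group
  · rintro ⟨-, -, -, h⟩ x hx hx1 y hy
    rw [Subgroup.mem_centralizer_singleton_iff] at hy
    by_contra hyN
    let A := M × {k : G // k ∈ H ∧ k ∉ N}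
    let B := {g : G // g ∉ N}
    have hmk : ∀ m ∈ M, ∀ k : G, k ∉ N → m * k ∉ N := fun m hm k hk hc =>
      hk ((N.mul_mem_cancel_left (hMN hm)).1 hc)
    have hcj : ∀ m ∈ M, ∀ k : G, k ∉ N → m * k * m⁻¹ ∉ N := fun m hm k hk hc => by
      apply hk
      have := Subgroup.Normal.conj_mem (inferInstance : N.Normal) _ hc m⁻¹
      have e : m⁻¹ * (m * k * m⁻¹) * m⁻¹⁻¹ = k := by group
      rwa [e] at this
    let e : A → B := fun a => ⟨a.1 * a.2, hmk _ a.1.2 _ a.2.2.2⟩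
    let f : A → B := fun a => ⟨a.1 * a.2 * (a.1 : G)⁻¹, hcj _ a.1.2 _ a.2.2.2⟩
    have he : Function.Bijective e := by
      constructor
      · rintro ⟨⟨m, hm⟩, ⟨k, hk⟩⟩ ⟨⟨m', hm'⟩, ⟨k', hk'⟩⟩ he
        have he' : m * k = m' * k' := congrArg Subtype.val he
        have e1 : m'⁻¹ * m = k' * k⁻¹ := by
          rw [inv_mul_eq_iff_eq_mul, ← mul_assoc, ← he', mul_inv_cancel_right]
        have e2 : m'⁻¹ * m = 1 := hbot (by rw [e1]; exact H.mul_mem hk'.1 (H.inv_mem hk.1))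
          (M.mul_mem (M.inv_mem hm') hm)
        have e3 : m = m' := (inv_mul_eq_one.1 e2).symm
        subst e3
        have e4 : k = k' := mul_left_cancel he'
        subst e4; rfl
      · rintro ⟨g, hg⟩
        obtain ⟨m, hm, k, hk, rfl⟩ := exists_mul M H hHM g
        exact ⟨⟨⟨m, hm⟩, ⟨k, hk, fun hc => hg (N.mul_mem (hMN hm) hc)⟩⟩, rfl⟩
    have hf : Function.Injective f := by
      rintro ⟨⟨m, hm⟩, ⟨k, hk⟩⟩ ⟨⟨m', hm'⟩, ⟨k', hk'⟩⟩ he
      have he' : m * k * m⁻¹ = m' * k' * m'⁻¹ := congrArg Subtype.val he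
      have e1 : k = (m⁻¹ * m') * k' * (m⁻¹ * m')⁻¹ := by
        calc k = m⁻¹ * (m * k * m⁻¹) * m := by group
          _ = _ := by rw [he']; group
      have e2 : m⁻¹ * m' ∈ H := by
        by_contra hc
        exact hk.2 (h _ hc ⟨hk.1, k', hk'.1, by
          simp only [MulEquiv.coe_toMonoidHom, MulAut.conj_apply]; exact e1.symm⟩)
      have e3 : m⁻¹ * m' = 1 := hbot e2 (M.mul_mem (M.inv_mem hm) hm')
      have e4 : m = m' := inv_mul_eq_one.1 e3
      subst e4
      rw [e3] at e1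
      have e5 : k = k' := by simpa using e1
      subst e5; rfl
    have hfs : Function.Surjective f :=
      (hf.bijective_of_nat_card_le (Nat.card_congr (Equiv.ofBijective e he)).symm.le).2
    obtain ⟨⟨⟨m, hm⟩, ⟨k, hk, hkN⟩⟩, he'⟩ := hfs ⟨y, hyN⟩
    have e1 : m * k * m⁻¹ = y := congrArg Subtype.val he'
    -- `k` commutes with `m⁻¹ x m`
    set z := m⁻¹ * x * m with hz
    have hzM : z ∈ M := by
      have := Subgroup.Normal.conj_mem (inferInstance : M.Normal) x hx m⁻¹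
      rwa [inv_inv] at this
    have hz1 : z ≠ 1 := by
      intro h0
      apply hx1
      have : x = m * z * m⁻¹ := by rw [hz]; group
      rw [this, h0]; group
    have hzk : z * k * z⁻¹ = k := by
      have e2 : k = m⁻¹ * y * m := by rw [← e1]; group
      rw [e2, hz]
      calc m⁻¹ * x * m * (m⁻¹ * y * m) * (m⁻¹ * x * m)⁻¹ = m⁻¹ * (x * y) * x⁻¹ * m := by group
        _ = m⁻¹ * (y * x) * x⁻¹ * m := by rw [hy]
        _ = _ := by group
    apply hkN
    refine h z (fun hc => hz1 (hbot hc hzM)) ⟨hk, k, hk, ?_⟩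
    simp only [MulEquiv.coe_toMonoidHom, MulAut.conj_apply]
    exact hzk

end Cfsg.Agent.S4113
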