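import Cfsg.Statements.S4118
import Cfsg.Agent.H2.TIFree
import Cfsg.Agent.H2.AutZ
import Cfsg.Agent.H2.QdRk1
import Cfsg.Agent.H24.TIHall
import Cfsg.Agent.H24.ZCop
import Cfsg.Agent.H1.HallCompl

set_option autoImplicit false
set_option linter.style.haveILetI false
set_option linter.unusedVariables false
set_option linter.unusedSectionVars false
open Cfsg

namespace Cfsg.Agent.S4118

open Subgroup
open Cfsg.Agent Cfsg.Agent.H24
open scoped commutatorElement

theorem solvable_ext {X : Type*} [Group X] (N : Subgroup X) [N.Normal] (h1 : Group.IsSolvable N)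
    (h2 : Group.IsSolvable (X ⧸ N)) : Group.IsSolvable X :=
  solvable_of_ker_le_range N.subtype (QuotientGroup.mk' N) (by
    rw [QuotientGroup.ker_mk', Subgroup.range_subtype])

theorem sl25_not_solvable : ¬ Group.IsSolvable (Matrix.SpecialLinearGroup (Fin 2) (ZMod 5)) := by
  intro h
  haveI : Fact (Nat.Prime 5) := ⟨by norm_num⟩
  have h1 : commutator (Matrix.SpecialLinearGroup (Fin 2) (ZMod 5)) = ⊤ := by
    apply Cfsg.Agent.H2.sl_comm_top (p := 5) (by norm_num)
    intro g k
    rw [commutator_def]
    exact Subgroup.commutator_mem_commutator (Subgroup.mem_top g) (Subgroup.mem_top k)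
  haveI : Nontrivial (Matrix.SpecialLinearGroup (Fin 2) (ZMod 5)) := by
    refine ⟨⟨1, -1, ?_⟩⟩
    decide
  exact (IsSolvable.commutator_lt_top_of_nontrivial (Matrix.SpecialLinearGroup (Fin 2) (ZMod 5))).ne h1

/-- normal Hall subgroup `H` with no normal subgroup of coprime order: self-centralizing -/
theorem centralizer_le_of_hall {X : Type*} [Group X] [Finite X] (H : Subgroup X) [hHN : H.Normal]
    (hcop : (Nat.card H).Coprime H.index)
    (hno : ∀ K : Subgroup X, K.Normal → (Nat.card K).Coprime (Nat.card H) → K = ⊥) :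
    centralizer (H : Set X) ≤ H := by
  set C : Subgroup X := centralizer (H : Set X) with hC
  haveI hCN : C.Normal := by rw [hC]; infer_instance
  haveI : (H.subgroupOf C).Normal := inferInstance
  have h1 : Nat.card (H.subgroupOf C) ∣ Nat.card H := by
    have : Nat.card (H.subgroupOf C) = Nat.card (H ⊓ C : Subgroup X) := by
      rw [← Subgroup.inf_subgroupOf_right]
      exact Nat.card_congr (Subgroup.subgroupOfEquivOfLe inf_le_right).toEquiv
    rw [this]
    exact Subgroup.card_dvd_of_le inf_le_left
  have h2 : (H.subgroupOf C).index ∣ H.index := H13.relIndex_dvd_index_right H C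
  have h3 : (Nat.card (H.subgroupOf C)).Coprime (H.subgroupOf C).index :=
    Nat.Coprime.coprime_dvd_left h1 (Nat.Coprime.coprime_dvd_right h2 hcop)
  obtain ⟨K, hK⟩ := Subgroup.exists_right_complement'_of_coprime h3
  have hcK : Nat.card K = (H.subgroupOf C).index := hK.symm.index_eq_card.symm
  have hiK : K.index = Nat.card (H.subgroupOf C) := hK.index_eq_card
  haveI hKN : K.Normal := by
    constructor
    intro k hk g
    obtain ⟨z, hz, k', hk', rfl⟩ := Subgroup.mem_sup_of_normal_left.1 (show g ∈ H.subgroupOf C ⊔ K by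
      rw [hK.sup_eq_top]; exact Subgroup.mem_top g)
    have hzc : ∀ c : C, z * c = c * z := by
      intro c
      apply Subtype.ext
      exact (Subgroup.mem_centralizer_iff.1 c.2 (z : X) hz)
    have e : z * k' * k * (z * k')⁻¹ = k' * k * k'⁻¹ := by
      calc z * k' * k * (z * k')⁻¹ = (z * (k' * k * k'⁻¹)) * z⁻¹ := by group
        _ = k' * k * k'⁻¹ := by rw [hzc]; group
    rw [e]
    exact K.mul_mem (K.mul_mem hk' hk) (K.inv_mem hk')
  have hKc : (Nat.card K).Coprime K.index := by rw [hcK, hiK]; exact h3.symm
  haveI := H1.normal_map_of_coprime hKc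
  have hcK' : Nat.card (K.map C.subtype) = Nat.card K :=
    Nat.card_congr (K.equivMapOfInjective _ C.subtype_injective).toEquiv.symm
  have h4 := hno (K.map C.subtype) inferInstance (by
    rw [hcK', hcK]; exact (Nat.Coprime.coprime_dvd_right h2 hcop).symm)
  have h5 : K = ⊥ := (Subgroup.map_eq_bot_iff_of_injective _ C.subtype_injective).1 h4
  have h6 := hK.sup_eq_top
  rw [h5, sup_bot_eq] at h6
  exact Subgroup.subgroupOf_eq_top.1 h6

theorem solv_main {G : Type*} [Group G] [Finite G] (H : Subgroup G)
    (hTI : Cfsg.IsTISubset (H : Set G)) (hnn : ¬ H.Normal)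
    (hcop : (Nat.card H).Coprime H.index)
    (O : Subgroup G) [hON : O.Normal] (hOc : (Nat.card O).Coprime (Nat.card H))
    (hOmax : ∀ K : Subgroup G, K.Normal → (Nat.card K).Coprime (Nat.card H) → K ≤ O)
    (hfr : O ⊔ normalizer (H : Set G) = ⊤) (hOHn : (O ⊔ H).Normal)
    (hsol : Group.IsSolvable O) (hsolH : Group.IsSolvable H) : Group.IsSolvable G := by
  classical
  let f := QuotientGroup.mk' O
  have hf : Function.Surjective f := QuotientGroup.mk'_surjective O
  have hker : f.ker = O := QuotientGroup.ker_mk' O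
  set Hb : Subgroup (G ⧸ O) := H.map f with hHb
  haveI hHbN : Hb.Normal := by
    have h1 : (O ⊔ H).map f = Hb := by
      rw [Subgroup.map_sup, (Subgroup.map_eq_bot_iff O).2 hker.ge, bot_sup_eq]
    rw [← h1]
    exact hOHn.map f hf
  have hdis : O ⊓ H = ⊥ := Subgroup.inf_eq_bot_of_coprime hOc
  have hinj : Function.Injective (f.subgroupMap H) := by
    rw [← MonoidHom.ker_eq_bot_iff, Subgroup.eq_bot_iff_forall]
    intro x hx
    have h1 : f (x : G) = 1 := congrArg Subtype.val (MonoidHom.mem_ker.1 hx)
    have h2 : (x : G) ∈ O ⊓ H := ⟨by rw [← hker]; exact MonoidHom.mem_ker.2 h1, x.2⟩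
    rw [hdis, Subgroup.mem_bot] at h2
    exact Subtype.ext h2
  have eHb : Nonempty (H ≃* Hb) :=
    ⟨MulEquiv.ofBijective (f.subgroupMap H) ⟨hinj, f.subgroupMap_surjective H⟩⟩
  obtain ⟨e⟩ := eHb
  have hcHb : Nat.card Hb = Nat.card H := Nat.card_congr e.toEquiv.symm
  have hidx : Hb.index ∣ H.index := by
    have := Subgroup.index_map_dvd H hf
    exact this
  have hcopb : (Nat.card Hb).Coprime Hb.index := by
    rw [hcHb]; exact Nat.Coprime.coprime_dvd_right hidx hcop
  have hno : ∀ K : Subgroup (G ⧸ O), K.Normal → (Nat.card K).Coprime (Nat.card Hb) → K = ⊥ := by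
    intro K hK hKc
    have h1 : Nat.card (K.comap f) = Nat.card O * Nat.card K := by
      have h2 : (K.comap f).index = K.index := Subgroup.index_comap_of_surjective K hf
      have h3 := (K.comap f).card_mul_index
      have h4 := K.card_mul_index
      have h5 : Nat.card (G ⧸ O) * Nat.card O = Nat.card G := (Subgroup.card_eq_card_quotient_mul_card_subgroup O).symm
      rw [h2] at h3
      have h6 : 0 < K.index := Nat.pos_of_ne_zero Subgroup.index_ne_zero_of_finite
      apply Nat.eq_of_mul_eq_mul_right h6
      rw [h3, ← h5, ← h4]; ring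
    have h2 := hOmax (K.comap f) (hK.comap f) (by
      rw [h1]; rw [hcHb] at hKc; exact Nat.Coprime.mul_left hOc hKc)
    rw [Subgroup.eq_bot_iff_forall]
    intro k hk
    obtain ⟨g, rfl⟩ := hf k
    exact (QuotientGroup.eq_one_iff g).2 (h2 hk)
  have hcent := centralizer_le_of_hall Hb hcopb hno
  have hsHb : Group.IsSolvable Hb := solvable_of_solvable_injective (f := e.symm.toMonoidHom) e.symm.injective
  refine solvable_ext O hsol ?_
  by_cases h2 : 2 ∣ Nat.card H
  · refine solvable_ext Hb hsHb ?_
    apply Cfsg.Agent.FT.odd_order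
    rw [← Subgroup.index_eq_card, ← Nat.not_even_iff_odd, even_iff_two_dvd]
    intro h3
    have h4 := Nat.dvd_gcd h2 (h3.trans hidx)
    rw [hcop] at h4
    omega
  · haveI hZ : IsZGroup H := by
      rw [isZGroup_iff]
      intro p hp P
      haveI : Fact p.Prime := ⟨hp⟩
      by_cases hp2 : p = 2
      · subst hp2
        have h3 : Nat.card P = 1 := by
          rw [P.card_eq_multiplicity, Nat.factorization_eq_zero_of_not_dvd h2, pow_zero]
        haveI : Subsingleton (P : Subgroup H) := (Nat.card_eq_one_iff_unique.1 h3).1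
        infer_instance
      let P' : Subgroup G := (P : Subgroup H).map H.subtype
      have hP' : P' ≤ H := by
        rintro _ ⟨x, -, rfl⟩; exact x.2
      haveI hcyc : IsCyclic P' := 
        TIHall.isCyclic_pgroup hTI hnn O hON hOc hfr p P' hP' (P.2.map _) (Or.inl hp2)
      exact isCyclic_of_surjective _
        ((P : Subgroup H).equivMapOfInjective _ H.subtype_injective).symm.surjective
    haveI hZb : IsZGroup Hb := IsZGroup.of_injective (f := e.symm.toMonoidHom) e.symm.injective
    haveI hA : Group.IsSolvable (MulAut Hb) := H2.solvable_mulAut_of_isZGroup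
    haveI := hsHb
    refine solvable_of_ker_le_range Hb.subtype (MulAut.conjNormal (H := Hb)) ?_
    rw [Subgroup.range_subtype]
    refine le_trans ?_ hcent
    intro g hg
    rw [Subgroup.mem_centralizer_iff]
    intro h hh
    have h1 := DFunLike.congr_fun (MonoidHom.mem_ker.1 hg) ⟨h, hh⟩
    have h2 : g * h * g⁻¹ = h := congrArg Subtype.val h1
    calc h * g = g * h * g⁻¹ * g := by rw [h2]
      _ = g * h := by group

/-- Let G be a finite group and H a non-normal subgroup meeting each of its conjugates by elements outside N_G(H) trivially, with the order of H coprime to its index in N_G(H); let π be the set of primes dividing the order of H and suppose G is π-separable (it has a chain of normal subgroups from 1 to G each of whose factors has order divisible only by primes in π or coprime to the order of H). Let O be the largest normal subgroup of G of order coprime to the order of H. Then G = O·N_G(H), O·H is normal in G, and G is solvable if and only if O is solvable and H has no subgroup isomorphic to SL₂(5). -/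
theorem result {G : Type*} [Group G] [Finite G] (H : Subgroup G)
    (hTI : Cfsg.IsTISubset (H : Set G)) (hnn : ¬ H.Normal)
    (hHall : (Nat.card H).Coprime (H.subgroupOf (Subgroup.normalizer (H : Set G))).index)
    (hsep : ∃ (n : ℕ) (M : Fin (n + 1) → Subgroup G), M 0 = ⊥ ∧ M (Fin.last n) = ⊤ ∧ Monotone M ∧ (∀ i, (M i).Normal) ∧
      ∀ i : Fin n, (∀ q : ℕ, q.Prime → q ∣ (M i.castSucc).relIndex (M i.succ) → q ∣ Nat.card H) ∨
        ((M i.castSucc).relIndex (M i.succ)).Coprime (Nat.card H))
    (O : Subgroup G) (hO : O = sSup {K : Subgroup G | K.Normal ∧ (Nat.card K).Coprime (Nat.card H)}) :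
    O ⊔ Subgroup.normalizer (H : Set G) = ⊤ ∧ (O ⊔ H).Normal ∧
    (Group.IsSolvable G ↔ Group.IsSolvable O ∧
      ∀ K : Subgroup G, K ≤ H → ¬ Nonempty (K ≃* Matrix.SpecialLinearGroup (Fin 2) (ZMod 5))) := by
  classical
  have hcop := TIHall.coprime_index hTI hHall
  have hH : H ≠ ⊥ := by
    rintro rfl
    exact hnn inferInstance
  obtain ⟨O', hON, hOc, hOmax⟩ := TIHall.exists_max_coprime (G := G) (Nat.card H)
  have hOO : O = O' := by
    rw [hO]
    apply le_antisymm
    · exact sSup_le (fun K hK => hOmax K hK.1 hK.2)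
    · exact le_sSup ⟨hON, hOc⟩
  clear hO
  subst hOO
  obtain ⟨M, -, -, -, hfr⟩ := TIHall.frattini hTI hcop hH hsep O hON hOc hOmax
  haveI := hON
  have hOHn : (O ⊔ H).Normal := by
    rw [← Subgroup.normalizer_eq_top_iff, eq_top_iff, ← hfr]
    refine sup_le (le_sup_left.trans Subgroup.le_normalizer) ?_
    exact ZCop.le_normalizer_sup (Subgroup.normalizer_eq_top O ▸ le_top) le_rfl
  refine ⟨hfr, hOHn, ?_, ?_⟩
  · intro hs
    refine ⟨inferInstance, ?_⟩
    rintro K hK ⟨e⟩
    apply sl25_not_solvable
    exact solvable_of_solvable_injective (f := e.symm.toMonoidHom) e.symm.injective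
  · rintro ⟨hsol, hno⟩
    have hnc := TIHall.not_le_centralizer hnn O hfr
    have hF := H2.freeAct_of_centralizers H O (Subgroup.normalizer_eq_top O ▸ le_top) hOc.symm hsol
      (TIHall.centralizer_le hTI O hON hOc) hnc
    have hsolH : Group.IsSolvable H := by
      by_contra hns
      obtain ⟨x, y, hx, hy, h10⟩ := H21.ZF.exists_ico hF hns
      obtain ⟨A, i1, i2, i3, ρ, D⟩ := H21.ZF.zd_of_free hF
      obtain ⟨e⟩ := D.ico_iso hx hy h10
      exact hno ((Subgroup.closure {x, y}).map H.subtype) (Subgroup.map_subtype_le _)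
        ⟨((Subgroup.closure {x, y}).equivMapOfInjective _ H.subtype_injective).symm.trans e⟩
    exact solv_main H hTI hnn hcop O hOc hOmax hfr hOHn hsol hsolH

end Cfsg.Agent.S4118
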