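import Cfsg.Statements.S4127
import Cfsg.Agent.S4035
import Cfsg.Agent.H24.QBaer
import Cfsg.Agent.H24.ClassSize2
import Cfsg.Agent.H24.ClassSize3
import Cfsg.Agent.H2.NComp
import Cfsg.Agent.H23.Coprime2

set_option autoImplicit false
set_option linter.all false
open Cfsg

namespace Cfsg.Agent.S4127


/-- Let G be a finite group, p a prime and p^a the largest power of p dividing the size of any conjugacy class of G. If some element of p-power order has a conjugacy class of size exactly p^a, then G has a normal p-complement. -/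
theorem result {G : Type*} [Group G] [Finite G] (p : ℕ) [Fact p.Prime]
    (a : ℕ) (hmax : ∀ y : G, ¬ p ^ (a + 1) ∣ (Subgroup.centralizer ({y} : Set G)).index)
    (hx : ∃ x : G, (∃ k : ℕ, orderOf x = p ^ k) ∧ (Subgroup.centralizer ({x} : Set G)).index = p ^ a) :
    Cfsg.HasNormalPComplement p G := by
  classical
  have hp := Fact.out (p := p.Prime)
  obtain ⟨x, ⟨k, hk⟩, hxi⟩ := hx
  -- a Sylow containing x
  have hxp : IsPGroup p (Subgroup.zpowers x) := by
    apply IsPGroup.of_card (n := k); rw [Nat.card_zpowers, hk]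
  obtain ⟨Q, hQ⟩ := hxp.exists_le_sylow
  have hxQ : x ∈ (Q : Subgroup G) := hQ (Subgroup.mem_zpowers x)
  have hxU : x ∈ Cfsg.pCore p G := Cfsg.Agent.H24.mem_pCore_of_own_prime Q hxQ hxi
  set C := Subgroup.centralizer ({x} : Set G) with hC
  have hxC : x ∈ C := by rw [hC, Subgroup.mem_centralizer_singleton_iff]
  obtain ⟨P'⟩ : Nonempty (Sylow p C) := inferInstance
  have h35 : ∀ y : C, (orderOf y).Coprime p → ¬ p ∣ (ConjClasses.mk y).carrier.ncard := by
    intro y hy
    have h2 : (ConjClasses.mk y).carrier = {z : C | IsConj y z} := by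
      ext z
      rw [ConjClasses.mem_carrier_iff_mk_eq, ConjClasses.mk_eq_mk_iff_isConj]
      exact ⟨fun h => h.symm, fun h => IsConj.symm h⟩
    rw [h2, Cfsg.Agent.H24.ncard_isConj]
    intro hd
    apply hmax (x * y)
    have hcomm : Commute x (y : G) := by
      exact (Subgroup.mem_centralizer_singleton_iff.1 y.2).symm
    have hcop : (orderOf x).Coprime (orderOf (y : G)) := by
      rw [hk, Subgroup.orderOf_coe]; exact (hy.symm).pow_left k
    rw [Cfsg.Agent.H24.centralizer_mul_of_coprime hcomm hcop]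
    have e1 : (Subgroup.centralizer ({x} : Set G) ⊓ Subgroup.centralizer ({(y : G)} : Set G)).index =
        (Subgroup.centralizer ({y} : Set C)).index * (Subgroup.centralizer ({x} : Set G)).index := by
      have e2 : Subgroup.centralizer ({y} : Set C) =
          (Subgroup.centralizer ({x} : Set G) ⊓ Subgroup.centralizer ({(y : G)} : Set G)).subgroupOf C := by
        ext z
        rw [Subgroup.mem_subgroupOf, Subgroup.mem_inf, Subgroup.mem_centralizer_singleton_iff,
          Subgroup.mem_centralizer_singleton_iff (g := (y : G))]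
        constructor
        · intro h
          exact ⟨z.2, congrArg Subtype.val h⟩
        · intro h
          exact Subtype.ext h.2
      rw [e2]
      exact (Subgroup.relIndex_mul_index (inf_le_left)).symm
    rw [e1, ← hC, hxi, pow_succ, mul_comm (p ^ a) p]
    exact mul_dvd_mul_right hd _
  obtain ⟨hPn, H', hH'n, hH'p, hinf, hsup⟩ := Cfsg.Agent.S4035.result h35 P'
  haveI := hPn
  haveI := hH'n
  have hcommPH : ∀ u ∈ (P' : Subgroup C), ∀ v ∈ H', u * v = v * u := by
    intro u hu v hv
    exact (Subgroup.commute_of_normal_of_disjoint _ _ hPn hH'n (disjoint_iff.2 hinf) u v hu hv).eq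
  have hUp : IsPGroup p (Cfsg.pCore p G) := Cfsg.Agent.H1.pCore_isPGroup p G
  haveI hUn : (Cfsg.pCore p G).Normal := inferInstance
  have hnormtop : ∀ A : Subgroup G, A ≤ Subgroup.normalizer (Cfsg.pCore p G : Set G) := by
    intro A; rw [Subgroup.normalizer_eq_top_iff.2 hUn]; exact le_top
  set K := H'.map C.subtype with hK
  have hKcard : Nat.card K = Nat.card H' := Subgroup.card_map_of_injective C.subtype_injective
  have hPmem : ∀ u : C, (∃ n, orderOf u = p ^ n) → u ∈ (P' : Subgroup C) := by
    rintro u ⟨n, hn⟩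
    have h1 : IsPGroup p (Subgroup.zpowers u) := by
      apply IsPGroup.of_card (n := n); rw [Nat.card_zpowers, hn]
    obtain ⟨R, hR⟩ := h1.exists_le_sylow
    obtain ⟨g, rfl⟩ := MulAction.exists_smul_eq C P' R
    rw [Sylow.smul_eq_of_normal] at hR
    exact hR (Subgroup.mem_zpowers u)
  have hax : Cfsg.pCore p G ≤ Subgroup.centralizer (K : Set G) := by
    refine Cfsg.Agent.H23.thompson_AxB (B := Subgroup.zpowers x) hUp ?_ hxp (hnormtop _) (hnormtop _) ?_ ?_
    · rw [hKcard]
      exact ((Nat.Prime.coprime_iff_not_dvd hp).2 hH'p).symm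
    · rw [Subgroup.zpowers_le, Subgroup.mem_centralizer_iff]
      rintro _ ⟨z, -, rfl⟩
      exact Subgroup.mem_centralizer_singleton_iff.1 z.2
    · rintro u ⟨hu1, hu2⟩
      have huC : u ∈ C := by
        rw [hC, Subgroup.mem_centralizer_singleton_iff]
        exact (Subgroup.mem_centralizer_iff.1 hu2 x (Subgroup.mem_zpowers x)).symm
      have hu3 : (⟨u, huC⟩ : C) ∈ (P' : Subgroup C) := by
        apply hPmem
        obtain ⟨n, hn⟩ := IsPGroup.iff_orderOf.1 hUp ⟨u, hu1⟩
        refine ⟨n, ?_⟩
        rw [Subgroup.orderOf_mk] at hn ⊢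
        exact hn
      rw [Subgroup.mem_centralizer_iff]
      rintro _ ⟨z, hz, rfl⟩
      exact (congrArg Subtype.val (hcommPH _ hu3 z hz)).symm
  -- K normal
  set M := Subgroup.centralizer (Cfsg.pCore p G : Set G) with hM
  haveI hMn : M.Normal := inferInstance
  have hKM : K ≤ M := by
    intro z hz
    rw [hM, Subgroup.mem_centralizer_iff]
    intro u hu
    exact (Subgroup.mem_centralizer_iff.1 (hax hu) z hz).symm
  have hMC : M ≤ C := by
    intro z hz
    rw [hC, Subgroup.mem_centralizer_singleton_iff]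
    exact (Subgroup.mem_centralizer_iff.1 hz x hxU).symm
  have hH'idx : ∃ n, H'.index = p ^ n := by
    obtain ⟨n, hn⟩ := IsPGroup.iff_card.1 P'.2
    have hc : H'.IsComplement' (P' : Subgroup C) :=
      Subgroup.isComplement'_of_disjoint_and_mul_eq_univ (by rw [disjoint_iff, inf_comm]; exact hinf) (by
        rw [← Subgroup.normal_mul, sup_comm, hsup]; rfl)
    exact ⟨n, by rw [hc.symm.index_eq_card]; exact hn⟩
  obtain ⟨n, hn⟩ := hH'idx
  have hKn : K.Normal := by
    constructor
    rintro _ ⟨z, hz, rfl⟩ g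
    have h1 : g * (C.subtype z) * g⁻¹ ∈ M := hMn.conj_mem _ (hKM ⟨z, hz, rfl⟩) g
    have h2 := hMC h1
    refine ⟨⟨_, h2⟩, ?_, rfl⟩
    rw [SetLike.mem_coe, Cfsg.Agent.H2.mem_normal_complement_iff hH'p hn, Subgroup.orderOf_mk]
    have e : orderOf (g * (C.subtype z) * g⁻¹) = orderOf z := by
      have e2 : g * (C.subtype z) * g⁻¹ = MulAut.conj g (z : G) := by simp [MulAut.conj_apply]
      rw [e2, MulEquiv.orderOf_eq, Subgroup.orderOf_coe]
    rw [e]
    exact (Cfsg.Agent.H2.mem_normal_complement_iff hH'p hn z).1 hz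
  rw [Cfsg.Agent.H2.hasNormalPComplement_iff]
  refine ⟨K, hKn, by rw [hKcard]; exact hH'p, n + a, ?_⟩
  have e1 : K.relIndex C * C.index = K.index := Subgroup.relIndex_mul_index (by
    rintro _ ⟨z, -, rfl⟩; exact z.2)
  have e2 : K.relIndex C = H'.index := by
    rw [Subgroup.relIndex, hK, Subgroup.subgroupOf]
    rw [Subgroup.comap_map_eq_self_of_injective C.subtype_injective]
  rw [← e1, e2, hn, hxi, pow_add]

end Cfsg.Agent.S4127
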