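import Cfsg.Statements.S4189
import Cfsg.Agent.H24.TwoGroupMax2

set_option autoImplicit false
open Cfsg

namespace Cfsg.Agent.S4189

open Subgroup
open scoped commutatorElement
open Cfsg.Agent.H24

theorem sq_mem {P : Type*} [Group P] [Finite P] (hP : IsPGroup 2 P) (hna : ¬ IsMulCommutative P)
    (h4 : (_root_.commutator P).index = 4) (w : P) : w ^ 2 ∈ _root_.commutator P := by
  have hfact : Fact (Nat.Prime 2) := ⟨Nat.prime_two⟩
  have hnil : Group.IsNilpotent P := hP.isNilpotent
  by_contra hw
  set D := _root_.commutator P with hD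
  have hcard : Nat.card (P ⧸ D) = 4 := h4
  have h1 : orderOf (QuotientGroup.mk w : P ⧸ D) = 4 := by
    have h2 : orderOf (QuotientGroup.mk w : P ⧸ D) ∣ 4 := hcard ▸ orderOf_dvd_natCard _
    have h3 : ¬ orderOf (QuotientGroup.mk w : P ⧸ D) ∣ 2 := by
      intro h
      apply hw
      rw [← QuotientGroup.eq_one_iff, QuotientGroup.mk_pow]
      exact orderOf_dvd_iff_pow_eq_one.1 h
    have h5 : orderOf (QuotientGroup.mk w : P ⧸ D) ≤ 4 := Nat.le_of_dvd (by norm_num) h2
    interval_cases h : orderOf (QuotientGroup.mk w : P ⧸ D) <;> simp_all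
  have htop : zpowers w ⊔ D = ⊤ := by
    have h2 : zpowers (QuotientGroup.mk w : P ⧸ D) = ⊤ := by
      apply Subgroup.eq_top_of_card_eq
      rw [Nat.card_zpowers, h1, hcard]
    have h3 : (zpowers w).map (QuotientGroup.mk' D) = ⊤ := by rw [MonoidHom.map_zpowers]; exact h2
    have h5 := congrArg (Subgroup.comap (QuotientGroup.mk' D)) h3
    rwa [Subgroup.comap_map_eq, QuotientGroup.ker_mk', Subgroup.comap_top] at h5
  have h2 := closure_eq_top_of_sup_commutator (zpowers w) htop
  apply hna
  rw [isMulCommutative_iff']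
  intro a b
  obtain ⟨i, hi⟩ : a ∈ zpowers w := by rw [h2]; trivial
  obtain ⟨j, hj⟩ : b ∈ zpowers w := by rw [h2]; trivial
  have hi' : w ^ i = a := hi
  have hj' : w ^ j = b := hj
  rw [← hi', ← hj', ← zpow_add, ← zpow_add, add_comm]

theorem coset_cases {P : Type*} [Group P] [Finite P]
    (h4 : (_root_.commutator P).index = 4) (hsq : ∀ w : P, w ^ 2 ∈ _root_.commutator P)
    (w0 : P) (hw0D : w0 ∉ _root_.commutator P) :
    ∀ w v : P, w ∉ _root_.commutator P → w0⁻¹ * w ∉ _root_.commutator P →
      v ∉ _root_.commutator P → w0⁻¹ * v ∉ _root_.commutator P →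
        w⁻¹ * v ∈ _root_.commutator P ∨ (w0 * w)⁻¹ * v ∈ _root_.commutator P := by
  set D := _root_.commutator P with hD
  intro w v hw1 hw2 hv1 hv2
  by_contra hcon
  push Not at hcon
  obtain ⟨hc1, hc2⟩ := hcon
  -- five distinct cosets
  have hf : Function.Injective (fun i : Fin 5 =>
      (QuotientGroup.mk (![1, w0, w, w0 * w, v] i) : P ⧸ D)) := by
    have e1 : ∀ a b : P, (QuotientGroup.mk a : P ⧸ D) = QuotientGroup.mk b ↔ a⁻¹ * b ∈ D :=
      fun a b => QuotientGroup.eq
    have hcomm : ∀ a b : P, (QuotientGroup.mk (a * b) : P ⧸ D) = QuotientGroup.mk (b * a) := by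
      intro a b
      rw [e1]
      have : (a * b)⁻¹ * (b * a) = ⁅b⁻¹, a⁻¹⁆ := by
        rw [commutatorElement_def]; group
      rw [this, hD, _root_.commutator_def]
      exact commutator_mem_commutator (mem_top _) (mem_top _)
    have hinv : ∀ a : P, (QuotientGroup.mk a⁻¹ : P ⧸ D) = QuotientGroup.mk a := by
      intro a
      rw [e1]
      have := hsq a
      rw [pow_two] at this
      simpa using this
    have n1 : (1 : P)⁻¹ * w0 ∉ D := by simpa using hw0D
    have n2 : (1 : P)⁻¹ * w ∉ D := by simpa using hw1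
    have n3 : (1 : P)⁻¹ * (w0 * w) ∉ D := by
      intro h
      apply hw2
      rw [← e1] at h ⊢
      have h5 : (QuotientGroup.mk w0 : P ⧸ D) * QuotientGroup.mk w = 1 := by
        rw [← QuotientGroup.mk_mul, ← h]; rfl
      rw [← hinv w0, QuotientGroup.mk_inv]
      exact (eq_inv_of_mul_eq_one_right h5).symm
    have n4 : (1 : P)⁻¹ * v ∉ D := by simpa using hv1
    have n5 : w0⁻¹ * (w0 * w) ∉ D := by simpa using hw1
    have n6 : w⁻¹ * (w0 * w) ∉ D := by
      intro h
      apply hw0D
      have := (inferInstance : D.Normal).conj_mem _ h w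
      have e : w * (w⁻¹ * (w0 * w)) * w⁻¹ = w0 := by group
      rwa [e] at this
    intro i j hij
    simp only at hij
    rw [e1] at hij
    have hsymm : ∀ a b : P, a⁻¹ * b ∈ D → b⁻¹ * a ∈ D := by
      intro a b h
      have := inv_mem h
      simpa using this
    fin_cases i <;> fin_cases j <;> first
      | rfl
      | (exfalso; simp at hij; first
          | exact n1 (by simpa using hij) | exact n2 (by simpa using hij)
          | exact n3 (by simpa using hij) | exact n4 (by simpa using hij)
          | exact n5 (by simpa using hij) | exact n6 (by simpa using hij)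
          | exact hw2 hij | exact hv2 hij | exact hc1 hij
          | exact hc2 (by simpa using hij)
          | exact hw2 (hsymm _ _ hij) | exact hv2 (hsymm _ _ hij)
          | exact hc1 (hsymm _ _ hij)
          | exact n6 (hsymm _ _ hij)
          | exact n3 (by have := hsymm _ _ (show (w0 * w)⁻¹ * 1 ∈ D by simpa using hij); simpa using this)
          | exact hc2 (hsymm _ _ (by simpa using hij))
          | exact n5 (hsymm _ _ (by simpa using hij))
          | exact n1 (by have := inv_mem hij; simpa using this)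
          | exact n2 (by have := inv_mem hij; simpa using this)
          | exact n4 (by have := inv_mem hij; simpa using this)
          | exact n5 (by have := inv_mem hij; simpa [mul_assoc] using this)
          | exact n6 (by have := inv_mem hij; simpa [mul_assoc] using this)
          | exact hc2 (by have := inv_mem hij; simpa [mul_assoc] using this))
  have h5 := Nat.card_le_card_of_injective _ hf
  have h6 : Nat.card (P ⧸ D) = 4 := h4
  rw [h6, Nat.card_eq_fintype_card, Fintype.card_fin] at h5
  omega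

/-- existence of a fixed-point-free-on-`P/P'` automorphism -/
theorem exists_auto {P : Type*} [Group P] [Finite P] (hP : IsPGroup 2 P)
    (hna : ¬ IsMulCommutative P) (h4 : (_root_.commutator P).index = 4)
    (haut : ¬ IsPGroup 2 (MulAut P)) :
    ∃ α : P ≃* P, ∀ w : P, w⁻¹ * α w ∈ _root_.commutator P → w ∈ _root_.commutator P := by
  classical
  have hfact : Fact (Nat.Prime 2) := ⟨Nat.prime_two⟩
  have hnil : Group.IsNilpotent P := hP.isNilpotent
  have hsq := sq_mem hP hna h4
  set D := _root_.commutator P with hD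
  -- an automorphism of odd prime order
  obtain ⟨q, hq, hq2, hqd⟩ : ∃ q : ℕ, q.Prime ∧ q ≠ 2 ∧ q ∣ Nat.card (MulAut P) := by
    by_contra hcon
    push Not at hcon
    apply haut
    rw [IsPGroup.iff_card]
    have h1 : Nat.card (MulAut P) ≠ 0 := Nat.card_pos.ne'
    refine ⟨(Nat.card (MulAut P)).factorization 2, ?_⟩
    obtain ⟨k, m, hm, hkm⟩ := Nat.exists_eq_pow_mul_and_not_dvd h1 2 (by norm_num)
    have hm1 : m = 1 := by
      by_contra hne
      obtain ⟨r, hr, hrd⟩ := Nat.exists_prime_and_dvd hne
      by_cases hr2 : r = 2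
      · exact hm (hr2 ▸ hrd)
      · exact hcon r hr hr2 (hkm ▸ hrd.mul_left _)
    rw [hm1, mul_one] at hkm
    rw [hkm, Nat.prime_two.factorization_pow, Finsupp.single_eq_same]
  have hfq : Fact q.Prime := ⟨hq⟩
  obtain ⟨α, hα⟩ := exists_prime_orderOf_dvd_card' q hqd
  have hαq : α ^ q = 1 := by
    have := pow_orderOf_eq_one α
    rwa [hα] at this
  refine ⟨α, ?_⟩
  by_contra hcon
  push Not at hcon
  obtain ⟨w0, hw0, hw0D⟩ := hcon
  have hDα : ∀ d ∈ D, α d ∈ D := by
    intro d hd
    have h1 : D.map α.toMonoidHom = D := by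
      rw [hD, _root_.commutator_def, map_commutator, Subgroup.map_top_of_surjective _ α.surjective]
    rw [← h1]; exact Subgroup.mem_map_of_mem _ hd
  have hDα' : ∀ d, α d ∈ D → d ∈ D := by
    intro d hd
    have h1 : D.map α.toMonoidHom = D := by
      rw [hD, _root_.commutator_def, map_commutator, Subgroup.map_top_of_surjective _ α.surjective]
    rw [← h1] at hd
    obtain ⟨v, hv, he⟩ := hd
    have : v = d := α.injective he
    rwa [← this]
  -- `α ^ 2` acts trivially on the quotient
  have key : ∀ w : P, w⁻¹ * α (α w) ∈ D := by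
    -- if `w ∉ D ∪ w0 D`, cosets are `1, w0, w, w0 w`
    have hcases := coset_cases h4 hsq w0 hw0D
    intro w
    by_cases hw1 : w ∈ D
    · exact mul_mem (inv_mem hw1) (hDα _ (hDα _ hw1))
    by_cases hw2 : w0⁻¹ * w ∈ D
    · have h1 : w = w0 * (w0⁻¹ * w) := by group
      have h2 : α (α w) = α (α w0) * α (α (w0⁻¹ * w)) := by
        rw [← map_mul, ← map_mul, ← h1]
      have h3 : w⁻¹ * α (α w) = (w0⁻¹ * w)⁻¹ * (w0⁻¹ * α w0) * α (w0⁻¹ * α w0) * α (α (w0⁻¹ * w)) := by
        rw [h2]
        simp only [map_mul, map_inv]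
        group
      rw [h3]
      exact mul_mem (mul_mem (mul_mem (inv_mem hw2) hw0) (hDα _ hw0)) (hDα _ (hDα _ hw2))
    -- `α w` is in `w D` or `w0 w D`
    have ha1 : α w ∉ D := fun h => hw1 (hDα' _ h)
    have ha2 : w0⁻¹ * α w ∉ D := by
      intro h
      apply hw2
      apply hDα'
      have : α (w0⁻¹ * w) = (w0⁻¹ * α w0)⁻¹ * (w0⁻¹ * α w) := by
        rw [map_mul, map_inv]; group
      rw [this]
      exact mul_mem (inv_mem hw0) h
    rcases hcases w (α w) hw1 hw2 ha1 ha2 with h | h
    · have h1 : w⁻¹ * α (α w) = (w⁻¹ * α w) * α (w⁻¹ * α w) := by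
        rw [map_mul, map_inv]; group
      rw [h1]
      exact mul_mem h (hDα _ h)
    · -- `α w = w0 w d`
      set d := (w0 * w)⁻¹ * α w with hd
      have h1 : α w = w0 * w * d := by rw [hd]; group
      have h2 : α (α w) = w0 * (w0⁻¹ * α w0) * (w0 * w * d) * α d := by
        rw [h1, map_mul, map_mul, h1]; group
      have h3 : w⁻¹ * α (α w) =
          (w⁻¹ * (w0 ^ 2 * (w0⁻¹ * (w0⁻¹ * α w0) * w0)) * w) * d * α d := by
        rw [h2, pow_two]; group
      rw [h3]
      refine mul_mem (mul_mem ?_ h) (hDα _ h)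
      have h5 : w0⁻¹ * (w0⁻¹ * α w0) * w0 ∈ D := by
        have := (inferInstance : D.Normal).conj_mem _ hw0 w0⁻¹
        simpa using this
      have := (inferInstance : D.Normal).conj_mem _ (mul_mem (hsq w0) h5) w⁻¹
      simpa using this
  have h1 : (α ^ 2 : MulAut P) = 1 := by
    apply eq_one_of_trivial_on_abelianization (p := 2) (q := q) (Ne.symm hq2) hP
    · rw [← pow_mul, mul_comm, pow_mul, hαq, one_pow]
    · intro w
      have := key w
      rw [pow_two]; exact this
  have h2 : orderOf α ∣ 2 := orderOf_dvd_of_pow_eq_one h1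
  rw [hα] at h2
  exact hq2 ((Nat.prime_dvd_prime_iff_eq hq Nat.prime_two).1 h2)

theorem gamma3_eq_bot {P : Type*} [Group P] [Finite P] (hP : IsPGroup 2 P)
    (hna : ¬ IsMulCommutative P) (h4 : (_root_.commutator P).index = 4)
    (α : P ≃* P) (hα : ∀ w : P, w⁻¹ * α w ∈ _root_.commutator P → w ∈ _root_.commutator P) :
    ⁅_root_.commutator P, (⊤ : Subgroup P)⁆ = ⊥ := by
  have hfact : Fact (Nat.Prime 2) := ⟨Nat.prime_two⟩
  have hnil : Group.IsNilpotent P := hP.isNilpotent
  have hsq := sq_mem hP hna h4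
  set D := _root_.commutator P with hD
  set E := ⁅D, (⊤ : Subgroup P)⁆ with hE
  set F := ⁅E, (⊤ : Subgroup P)⁆ with hF
  have hFE : F ≤ E := Subgroup.commutator_le_left _ _
  have hED : E ≤ D := Subgroup.commutator_le_left _ _
  have hFD : F ≤ D := hFE.trans hED
  have hFn : F.Normal := inferInstance
  let π := QuotientGroup.mk' F
  have hπ : Function.Surjective π := QuotientGroup.mk'_surjective F
  have hDmap : D.map π = _root_.commutator (P ⧸ F) := by
    rw [hD, _root_.commutator_def, map_commutator, Subgroup.map_top_of_surjective _ hπ,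
      _root_.commutator_def]
  have hmem : ∀ w : P, π w ∈ _root_.commutator (P ⧸ F) ↔ w ∈ D := by
    intro w
    rw [← hDmap]
    constructor
    · rintro ⟨d, hd, he⟩
      have h1 : d⁻¹ * w ∈ F := QuotientGroup.eq.1 he
      have h2 : w = d * (d⁻¹ * w) := by group
      rw [h2]; exact mul_mem hd (hFD h1)
    · intro h; exact Subgroup.mem_map_of_mem _ h
  have hFα : F.map α.toMonoidHom = F := by
    rw [hF, map_commutator, Subgroup.map_top_of_surjective _ α.surjective, hE, map_commutator,
      Subgroup.map_top_of_surjective _ α.surjective, hD, _root_.commutator_def, map_commutator,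
      Subgroup.map_top_of_surjective _ α.surjective]
  let β : P ⧸ F ≃* P ⧸ F := QuotientGroup.congr F F α hFα
  have hβ : ∀ w : P, β (π w) = π (α w) := fun w => rfl
  have hnilQ : Group.IsNilpotent (P ⧸ F) := inferInstance
  have h1 := commutator_commutator_eq_bot_aux (Q := P ⧸ F) (by
      rw [← hDmap, Subgroup.index_map_eq _ hπ (by rw [QuotientGroup.ker_mk']; exact hFD)]
      exact h4) (by
      intro w
      obtain ⟨w, rfl⟩ := hπ w
      rw [← map_pow, hmem]
      exact hsq w) β (by
      intro w hw
      obtain ⟨w, rfl⟩ := hπ w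
      rw [hβ, ← map_inv, ← map_mul, hmem] at hw
      rw [hmem]
      exact hα w hw) (by
      have h2 : ⁅_root_.commutator (P ⧸ F), (⊤ : Subgroup (P ⧸ F))⁆ = E.map π := by
        rw [hE, map_commutator, Subgroup.map_top_of_surjective _ hπ, hDmap]
      rw [h2]
      rintro _ ⟨e, he, rfl⟩
      rw [Subgroup.mem_center_iff]
      intro g
      obtain ⟨g, rfl⟩ := hπ g
      have h3 : ⁅e, g⁆ ∈ F := commutator_mem_commutator he (mem_top g)
      have h4 : π ⁅e, g⁆ = 1 := (QuotientGroup.eq_one_iff _).2 h3
      rw [map_commutatorElement, commutatorElement_eq_one_iff_mul_comm] at h4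
      exact h4.symm)
  have h2 : ⁅_root_.commutator (P ⧸ F), (⊤ : Subgroup (P ⧸ F))⁆ = E.map π := by
    rw [hE, map_commutator, Subgroup.map_top_of_surjective _ hπ, hDmap]
  rw [h2, Subgroup.map_eq_bot_iff, QuotientGroup.ker_mk'] at h1
  have h3 : Group.IsNilpotent (⊤ : Subgroup P) := inferInstance
  exact Cfsg.Agent.H1.eq_bot_of_commutator_eq_self h3 le_top h1

/-- Let P be a finite non-abelian 2-group whose commutator subgroup has index 4 and whose automorphism group is not a 2-group (some automorphism has order that is not a power of 2). Then P is isomorphic to the quaternion group of order 8. -/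
theorem result {P : Type*} [Group P] [Finite P] (hP : IsPGroup 2 P) (hna : ¬ IsMulCommutative P) (h4 : (commutator P).index = 4) (haut : ¬ IsPGroup 2 (MulAut P)) : Nonempty (P ≃* QuaternionGroup 2) := by
  classical
  have hfact : Fact (Nat.Prime 2) := ⟨Nat.prime_two⟩
  have hnil : Group.IsNilpotent P := hP.isNilpotent
  obtain ⟨α, hα⟩ := exists_auto hP hna h4 haut
  have hE := gamma3_eq_bot hP hna h4 α hα
  have hsq := sq_mem hP hna h4
  set D := _root_.commutator P with hD
  have hDcen : ∀ d ∈ D, ∀ g : P, g * d = d * g := by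
    intro d hd g
    have h1 : ⁅d, g⁆ ∈ ⁅D, (⊤ : Subgroup P)⁆ := commutator_mem_commutator hd (mem_top g)
    rw [hE, mem_bot, commutatorElement_eq_one_iff_mul_comm] at h1
    exact h1.symm
  have hDchar : ∀ w : P, α w ∈ D ↔ w ∈ D := by
    intro w
    have h1 : D.map α.toMonoidHom = D := by
      rw [hD, _root_.commutator_def, map_commutator, Subgroup.map_top_of_surjective _ α.surjective]
    constructor
    · intro h
      rw [← h1] at h
      obtain ⟨v, hv, he⟩ := h
      have : v = w := α.injective he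
      rwa [← this]
    · intro h
      rw [← h1]
      exact Subgroup.mem_map_of_mem _ h
  obtain ⟨x, hx⟩ : ∃ x : P, x ∉ D := by
    by_contra hcon
    push Not at hcon
    have : D = ⊤ := eq_top_iff.2 fun g _ => hcon g
    rw [this, Subgroup.index_top] at h4
    omega
  set y := α x with hy
  have hyD : y ∉ D := fun h => hx ((hDchar x).1 h)
  have hxyD : x⁻¹ * y ∉ D := fun h => hx (hα x h)
  have hgen : closure ({x, y} : Set P) = ⊤ := closure_pair_eq_top h4 hsq x y hx hyD hxyD
  set c := ⁅x, y⁆ with hc
  have hcD : c ∈ D := by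
    rw [hD, _root_.commutator_def]; exact commutator_mem_commutator (mem_top x) (mem_top y)
  have hDz : D ≤ zpowers c := by
    apply commutator_le_zpowers_of_central x y hgen
    rw [Subgroup.mem_center_iff]
    exact hDcen c hcD
  have hcx : c = x * y * x⁻¹ * y⁻¹ := by rw [hc, commutatorElement_def]
  have hxyc : x * y = c * y * x := by rw [hcx]; group
  have hc2 : c ^ 2 = 1 := by
    have h1 := hDcen _ (hsq x) y
    have h2 : c ^ 2 = 1 := by
      have h3 : x ^ 2 * y * (x ^ 2)⁻¹ * y⁻¹ = x * c * x⁻¹ * c := by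
        rw [hcx, pow_two]; group
      have h4 : x * c * x⁻¹ = c := by rw [hDcen c hcD x]; group
      rw [h4, ← h1] at h3
      rw [pow_two, ← h3]; group
    exact h2
  have hc1 : c ≠ 1 := by
    intro h
    apply hna
    rw [isMulCommutative_iff']
    intro a b
    have hDbot : D = ⊥ := by
      rw [eq_bot_iff]
      refine hDz.trans ?_
      rw [h, zpowers_one_eq_bot]
    have h1 : ⁅a, b⁆ ∈ D := by
      rw [hD, _root_.commutator_def]; exact commutator_mem_commutator (mem_top a) (mem_top b)
    rw [hDbot, mem_bot, commutatorElement_eq_one_iff_mul_comm] at h1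
    exact h1
  have hoc : orderOf c = 2 := orderOf_eq_prime hc2 hc1
  have hDeq : D = zpowers c := le_antisymm hDz (by rw [zpowers_le]; exact hcD)
  have hcardP : Nat.card P = 8 := by
    rw [← Subgroup.card_mul_index D, h4, hDeq, Nat.card_zpowers, hoc]
  have hDmem : ∀ d ∈ D, d = 1 ∨ d = c := by
    intro d hd
    obtain ⟨k, hk⟩ := hDz hd
    have hk' : c ^ k = d := hk
    rcases Int.even_or_odd' k with ⟨m, rfl | rfl⟩
    · left
      rw [← hk', zpow_mul]
      have : c ^ (2 : ℤ) = 1 := by exact_mod_cast hc2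
      rw [this, one_zpow]
    · right
      rw [← hk', zpow_add, zpow_mul, zpow_one]
      have : c ^ (2 : ℤ) = 1 := by exact_mod_cast hc2
      rw [this, one_zpow, one_mul]
  have hαc : α c = c := by
    rcases hDmem _ ((hDchar c).2 hcD) with h | h
    · exfalso
      apply hc1
      apply α.injective
      rw [h, map_one]
    · exact h
  have hαd : ∀ d ∈ D, α d = d := by
    intro d hd
    rcases hDmem d hd with rfl | rfl
    · exact map_one _
    · exact hαc
  have hd2 : ∀ d ∈ D, d ^ 2 = 1 := by
    intro d hd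
    rcases hDmem d hd with rfl | rfl
    · exact one_pow _
    · exact hc2
  set s := x ^ 2 with hs
  have hsD : s ∈ D := hsq x
  have hys : y ^ 2 = s := by rw [hy, ← map_pow, hαd _ hsD]
  have hcinv : c⁻¹ = c := by
    rw [inv_eq_iff_mul_eq_one, ← pow_two]; exact hc2
  have hxy2 : (x * y) ^ 2 = c := by
    have h1 : (x * y) ^ 2 = x * (y * x) * y := by rw [pow_two]; group
    have h2 : y * x = c⁻¹ * (x * y) := by rw [hxyc]; group
    have h3 : x * c⁻¹ = c⁻¹ * x := by rw [hcinv]; exact hDcen c hcD x
    calc (x * y) ^ 2 = x * (y * x) * y := h1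
      _ = (x * c⁻¹) * x * y * y := by rw [h2]; group
      _ = c⁻¹ * (x ^ 2) * (y ^ 2) := by rw [h3, pow_two, pow_two]; group
      _ = c⁻¹ * s ^ 2 := by rw [hys, ← hs, pow_two]; group
      _ = c := by rw [hd2 s hsD, mul_one, hcinv]
  have hαy : α y ∉ D := fun h => hyD ((hDchar y).1 h)
  have hxαy : x⁻¹ * α y ∉ D := by
    intro h
    have h1 : (x * y)⁻¹ * α (x * y) ∈ D := by
      rw [map_mul, ← hy]
      have h2 : (x * y)⁻¹ * (y * α y) = ⁅y⁻¹, x⁻¹⁆ * (x⁻¹ * α y) := by
        rw [commutatorElement_def]; group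
      rw [h2]
      refine mul_mem ?_ h
      rw [hD, _root_.commutator_def]; exact commutator_mem_commutator (mem_top _) (mem_top _)
    have h2 := hα _ h1
    apply hxyD
    have h3 : x⁻¹ * y = (x ^ 2)⁻¹ * (x * y) := by rw [pow_two]; group
    rw [h3]
    exact mul_mem (inv_mem hsD) h2
  have hcos : (x * y)⁻¹ * α y ∈ D := by
    rcases coset_cases h4 hsq x hx y (α y) hyD hxyD hαy hxαy with h | h
    · exact absurd (hα y h) hyD
    · exact h
  have hsc : s = c := by
    have h1 : (α y) ^ 2 = s := by rw [← map_pow, hys, hαd s hsD]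
    have h2 : α y = (x * y) * ((x * y)⁻¹ * α y) := by group
    have h3 : Commute (x * y) ((x * y)⁻¹ * α y) := hDcen _ hcos (x * y)
    rw [h2, h3.mul_pow, hd2 _ hcos, mul_one, hxy2] at h1
    exact h1.symm
  apply nonempty_mulEquiv_quaternion 2 x y _ _ _ hgen (by rw [hcardP])
  · rw [pow_mul, ← hs, hsc, hc2]
  · rw [← pow_two, hys]
  · have h1 : y * x = c⁻¹ * (x * y) := by rw [hxyc]; group
    have h2 : x⁻¹ = s⁻¹ * x := by rw [hs, pow_two]; group
    rw [h1, h2, hsc]; group

end Cfsg.Agent.S4189
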