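import Cfsg.Statements.S4347

set_option autoImplicit false
open Cfsg

namespace Cfsg.Agent.S4347

open scoped Pointwise

theorem result {G : Type*} [Group G] [Finite G]
    (p : ℕ) [Fact p.Prime] :
    (¬ ∃ Q : Sylow p G, ∀ x : G, (∃ k : ℕ, orderOf x = p ^ k) → ∃ P : Sylow p G, P ≠ Q ∧ x ∈ P) ↔
      ∃ x : G, (∃ k : ℕ, orderOf x = p ^ k) ∧ ∃! P : Sylow p G, x ∈ P := by
  constructor
  · intro h
    push Not at h
    obtain ⟨x, hx, hP⟩ := h (Classical.arbitrary (Sylow p G))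
    refine ⟨x, hx, ?_⟩
    have hxp : IsPGroup p (Subgroup.zpowers x) := by
      rw [IsPGroup.iff_card]
      obtain ⟨k, hk⟩ := hx
      exact ⟨k, by rw [Nat.card_zpowers, hk]⟩
    obtain ⟨Q, hQ⟩ := hxp.exists_le_sylow
    have hxQ : x ∈ (Q : Subgroup G) := hQ (Subgroup.mem_zpowers x)
    refine ⟨Classical.arbitrary (Sylow p G), ?_, ?_⟩
    · by_contra hc
      by_cases hQe : Q = Classical.arbitrary (Sylow p G)
      · rw [hQe] at hxQ; exact hc hxQ
      · exact hP Q hQe hxQ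
    · intro P hxP
      by_contra hc
      exact hP P hc hxP
  · rintro ⟨x, ⟨k, hk⟩, P₀, hxP₀, huniq⟩ ⟨Q, hQ⟩
    obtain ⟨g, hg⟩ := MulAction.exists_smul_eq G P₀ Q
    obtain ⟨P, hPne, hP⟩ := hQ (g * x * g⁻¹) ⟨k, by
      rw [← hk]
      have := orderOf_injective (MulAut.conj g).toMonoidHom (MulAut.conj g).injective x
      simpa using this⟩
    have h1 : x ∈ (g⁻¹ • P : Sylow p G) := by
      change x ∈ ((g⁻¹ • P : Sylow p G) : Subgroup G)
      rw [Sylow.coe_subgroup_smul, Subgroup.mem_pointwise_smul_iff_inv_smul_mem]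
      have hP' : g * x * g⁻¹ ∈ (P : Subgroup G) := hP
      simpa using hP'
    have h2 := huniq _ h1
    apply hPne
    rw [← hg, ← h2, smul_inv_smul]

end Cfsg.Agent.S4347
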