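import Cfsg.Statements.S4349
import Cfsg.Agent.H25.Uniq2E

set_option autoImplicit false
open Cfsg
open Cfsg.Agent.H25.Uniq2

namespace Cfsg.Agent.S4349

/-- Let n ≥ 2 and let x be an element of 2-power order of the symmetric group of degree n. Then x lies in exactly one Sylow 2-subgroup if and only if x has at most two fixed points and the nontrivial cycles of x have pairwise different lengths. -/
theorem result (n : ℕ) (hn : 2 ≤ n)
    (x : Equiv.Perm (Fin n)) (hx : ∃ k : ℕ, orderOf x = 2 ^ k) :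
    (∃! P : Sylow 2 (Equiv.Perm (Fin n)), x ∈ P) ↔ (n ≤ x.support.card + 2 ∧ x.cycleType.Nodup) := by
  classical
  have hx2 : ∃ k, x ^ 2 ^ k = 1 := by
    obtain ⟨k, hk⟩ := hx
    exact ⟨k, by rw [← hk, pow_orderOf_eq_one]⟩
  have hpgx : IsPGroup 2 (Subgroup.zpowers x) := pg_zpowers hx2
  constructor
  · rintro ⟨P, hxP, huniq⟩
    have hin : ∀ K : Subgroup (Equiv.Perm (Fin n)), IsPGroup 2 K → x ∈ K →
        K ≤ (P : Subgroup (Equiv.Perm (Fin n))) := by
      intro K hK hxK
      obtain ⟨Q, hQ⟩ := hK.exists_le_sylow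
      have := huniq Q (hQ hxK)
      rw [← this]
      exact hQ
    constructor
    · by_contra hcon
      push Not at hcon
      have h1 : 2 < (x.supportᶜ).card := by
        rw [Finset.card_compl, Fintype.card_fin]
        omega
      obtain ⟨a, b, c, ha, hb, hc, hab, hac, hbc⟩ := Finset.two_lt_card_iff.1 h1
      have hfix : ∀ d ∈ x.supportᶜ, x d = d := fun d hd =>
        Equiv.Perm.notMem_support.1 (Finset.mem_compl.1 hd)
      have hsw : ∀ d e : Fin n, x d = d → x e = e →
          Equiv.swap d e ∈ (P : Subgroup (Equiv.Perm (Fin n))) := by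
        intro d e hd he
        have hcomm : x * Equiv.swap d e = Equiv.swap d e * x := by
          rw [Equiv.mul_swap_eq_swap_mul, hd, he]
        have hs : IsPGroup 2 (Subgroup.zpowers (Equiv.swap d e)) :=
          pg_zpowers ⟨1, by rw [pow_one, pow_two, Equiv.swap_mul_self]⟩
        exact hin _ (pg_comm hpgx hs hcomm)
          ((le_sup_left : Subgroup.zpowers x ≤ _) (Subgroup.mem_zpowers x))
          ((le_sup_right : Subgroup.zpowers (Equiv.swap d e) ≤ _) (Subgroup.mem_zpowers _))
      exact no_three P.isPGroup' (mul_mem (hsw a b (hfix a ha) (hfix b hb))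
        (hsw a c (hfix a ha) (hfix c hc)))
        (Equiv.Perm.isThreeCycle_swap_mul_swap_same hab hac hbc).orderOf
    · by_contra hcon
      rw [Equiv.Perm.cycleType_def, Multiset.nodup_map_iff_inj_on x.cycleFactorsFinset.nodup] at hcon
      push Not at hcon
      obtain ⟨c₁, hc₁, c₂, hc₂, hcc, hne⟩ := hcon
      have hc₁' : c₁ ∈ x.cycleFactorsFinset := hc₁
      have hc₂' : c₂ ∈ x.cycleFactorsFinset := hc₂
      have hcyc₁ : c₁.IsCycle := (Equiv.Perm.mem_cycleFactorsFinset_iff.1 hc₁').1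
      have hcyc₂ : c₂.IsCycle := (Equiv.Perm.mem_cycleFactorsFinset_iff.1 hc₂').1
      obtain ⟨u, hu⟩ := Finset.card_pos.1 (lt_of_lt_of_le (by norm_num) hcyc₁.two_le_card_support)
      obtain ⟨v, hv⟩ := Finset.card_pos.1 (lt_of_lt_of_le (by norm_num) hcyc₂.two_le_card_support)
      obtain ⟨K, hK, hxK, hsK⟩ := swap_mem hpgx hc₁' hc₂' hne hcc hu hv
      have hsP := hin K hK hxK hsK
      have hd : Disjoint c₁.support c₂.support :=
        Equiv.Perm.disjoint_iff_disjoint_support.1
          (Equiv.Perm.cycleFactorsFinset_pairwise_disjoint x hc₁' hc₂' hne)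
      have hc2 : ∃ k, c₁ ^ 2 ^ k = 1 := by
        obtain ⟨k, hk⟩ := hx2
        obtain ⟨e1, e2⟩ := res_cycle hc₁'
        exact ⟨k, by rw [← e2, ← res_pow e1, hk, res_one]⟩
      have hcP : c₁ ∈ (P : Subgroup (Equiv.Perm (Fin n))) :=
        hin _ (pg_comm hpgx (pg_zpowers hc2)
            (Equiv.Perm.self_mem_cycle_factors_commute hc₁').symm.eq)
          ((le_sup_left : Subgroup.zpowers x ≤ _) (Subgroup.mem_zpowers x))
          ((le_sup_right : Subgroup.zpowers c₁ ≤ _) (Subgroup.mem_zpowers _))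
      have hv1 : c₁ v = v := Equiv.Perm.notMem_support.1
        (fun h => Finset.disjoint_left.1 hd h hv)
      have hs2 : Equiv.swap (c₁ u) v ∈ (P : Subgroup (Equiv.Perm (Fin n))) := by
        have h1 := mul_mem (mul_mem hcP hsP) (inv_mem hcP)
        rwa [Equiv.mul_swap_eq_swap_mul, mul_inv_cancel_right, hv1] at h1
      have hu1 : u ≠ c₁ u := fun h => (Equiv.Perm.mem_support.1 hu) h.symm
      have hvu : v ≠ u := fun h => Finset.disjoint_left.1 hd hu (h ▸ hv)
      have hvu1 : v ≠ c₁ u := by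
        intro h
        have h2 : c₁ u ∈ c₁.support := Equiv.Perm.apply_mem_support.2 hu
        exact Finset.disjoint_left.1 hd h2 (h ▸ hv)
      rw [Equiv.swap_comm] at hsP hs2
      exact no_three P.isPGroup' (mul_mem hsP hs2)
        (Equiv.Perm.isThreeCycle_swap_mul_swap_same hvu hvu1 hu1).orderOf
  · rintro ⟨h1, h2⟩
    have hpow : ∀ k ∈ x.cycleType, ∃ i, k = 2 ^ i := by
      intro k hk
      obtain ⟨j, hj⟩ := hx
      have h3 := Equiv.Perm.dvd_of_mem_cycleType hk
      rw [hj] at h3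
      obtain ⟨i, _, hi⟩ := (Nat.dvd_prime_pow Nat.prime_two).1 h3
      exact ⟨i, hi⟩
    obtain ⟨P, hP⟩ := main x.support.card Finset.univ x rfl
      (fun a ha => absurd (Finset.mem_univ a) ha) hx2 h2 hpow
      (by rw [Finset.card_univ, Fintype.card_fin]; exact h1)
    have hSp : ∀ R : Subgroup (Equiv.Perm (Fin n)), R ≤ Sp Finset.univ :=
      fun R r _ a ha => absurd (Finset.mem_univ a) ha
    obtain ⟨Q, hQ⟩ := hP.pg.exists_le_sylow
    refine ⟨Q, hQ hP.mem, ?_⟩
    intro Q' hxQ'
    have h3 := hP.max Q' (hSp _) Q'.isPGroup' hxQ'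
    have h4 : (Q' : Subgroup (Equiv.Perm (Fin n))) ≤ Q := h3.trans hQ
    exact Sylow.ext (Q'.is_maximal' Q.isPGroup' h4).symm

end Cfsg.Agent.S4349
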