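import Cfsg.Statements.S4358
import Cfsg.Agent.H25.RedSyl

set_option autoImplicit false
open Cfsg
open Cfsg.Agent.H25.RedSyl

namespace Cfsg.Agent.S4358

/-- Let p be an odd prime and F a finite field with q elements such that p divides q - 1 but p² does not. Then GL(p, F) has a Sylow p-subgroup Q such that every element of p-power order lies in some Sylow p-subgroup other than Q (a redundant Sylow p-subgroup). -/
theorem result {F : Type*} [Field F] [Fintype F] (p : ℕ) [Fact p.Prime]
    (hp : p ≠ 2) (h1 : p ∣ Fintype.card F - 1) (h2 : ¬ p ^ 2 ∣ Fintype.card F - 1) :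
    ∃ Q : Sylow p (Matrix.GeneralLinearGroup (Fin p) F), ∀ x : Matrix.GeneralLinearGroup (Fin p) F,
      (∃ k : ℕ, orderOf x = p ^ k) → ∃ P : Sylow p (Matrix.GeneralLinearGroup (Fin p) F), P ≠ Q ∧ x ∈ P := by
  classical
  have hpp : p.Prime := Fact.out
  -- a primitive `p`-th root of unity
  have hcard : p ∣ Fintype.card Fˣ := by rwa [Fintype.card_units]
  obtain ⟨u, hu⟩ := exists_prime_orderOf_dvd_card p hcard
  have hprim : IsPrimitiveRoot (u : F) p := by
    rw [IsPrimitiveRoot.coe_units_iff, ← hu]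
    exact IsPrimitiveRoot.orderOf u
  have hζ : (u : F) ^ p = 1 := hprim.pow_eq_one
  have hζ1 : (u : F) ≠ 1 := hprim.ne_one hpp.one_lt
  have hζ0 : (u : F) ≠ 0 := u.ne_zero
  have hpF : (p : F) ≠ 0 := by
    intro h0
    have h3 : (Fintype.card F : F) = 0 := Nat.cast_card_eq_zero F
    have h4 : ((Fintype.card F - 1 : ℕ) : F) = 0 := by
      obtain ⟨c, hc⟩ := h1
      rw [hc, Nat.cast_mul, h0, zero_mul]
    rw [Nat.cast_sub Fintype.card_pos, h3, Nat.cast_one, zero_sub, neg_eq_zero] at h4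
    exact one_ne_zero h4
  have hcQ : Nat.card (Q0 F p) = p ^ (Nat.card (Matrix.GeneralLinearGroup (Fin p) F)).factorization p := by
    rw [card_Q0 hprim]
    congr 1
    exact (fact_card hp h1 h2).symm
  let Q : Sylow p (Matrix.GeneralLinearGroup (Fin p) F) := Sylow.ofCard (Q0 F p) hcQ
  have hQ : (Q : Subgroup (Matrix.GeneralLinearGroup (Fin p) F)) = Q0 F p := rfl
  refine ⟨Q, fun x hx => ?_⟩
  by_cases hxQ : x ∈ Q0 F p
  · obtain ⟨g, hg, i, l, l', hl, e1, e2⟩ := exists_other hp hζ1 hζ0 hpF hxQ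
    refine ⟨g • Q, ?_, ?_⟩
    · intro heq
      refine col_of_conj hp hζ hζ1 (g := g) (fun y hy => ?_) i l l' hl e1 e2
      have h3 : (MulAut.conj g) • y ∈ ((g • Q : Sylow p _) : Subgroup _) := by
        rw [Sylow.coe_subgroup_smul]
        exact Subgroup.smul_mem_pointwise_smul _ _ _ hy
      rw [heq, hQ] at h3
      exact h3
    · change x ∈ ((g • Q : Sylow p _) : Subgroup _)
      rw [Sylow.coe_subgroup_smul, Subgroup.mem_pointwise_smul_iff_inv_smul_mem, hQ]
      have : (MulAut.conj g)⁻¹ • x = g⁻¹ * x * g := by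
        rw [← map_inv, MulAut.smul_def, MulAut.conj_apply, inv_inv]
      rw [this]
      exact hg
  · have hxp : IsPGroup p (Subgroup.zpowers x) := by
      obtain ⟨k, hk⟩ := hx
      exact IsPGroup.of_card (n := k) (by rw [Nat.card_zpowers, hk])
    obtain ⟨P, hP⟩ := hxp.exists_le_sylow
    refine ⟨P, ?_, hP (Subgroup.mem_zpowers x)⟩
    rintro rfl
    exact hxQ (hP (Subgroup.mem_zpowers x))

end Cfsg.Agent.S4358
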