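import Cfsg.Prelude
import Cfsg.Agent.H25.Metac5
import Cfsg.Agent.S0949
import Cfsg.Agent.FT
import Cfsg.Agent.H1.Chief
import Cfsg.Agent.H2.NComp

namespace Cfsg.Agent.S4418

open Subgroup Cfsg.Agent.H25

/-- Let G be a finite group whose Sylow 2-subgroup S is metacyclic via a cyclic normal subgroup N of S with S/N cyclic of order greater than 2. Then G is soluble. -/
theorem result {G : Type*} [Group G] [Finite G] (S : Sylow 2 G) (N : Subgroup ↥(S : Subgroup G)) [hN : N.Normal] (hNc : IsCyclic N) (hQc : IsCyclic (↥(S : Subgroup G) ⧸ N)) (hQ : 2 < Nat.card (↥(S : Subgroup G) ⧸ N)) : Group.IsSolvable G := by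
  classical
  haveI : Fact (Nat.Prime 2) := ⟨Nat.prime_two⟩
  by_cases hnpc : Cfsg.HasNormalPComplement 2 G
  · obtain ⟨K, hK, hKodd, k, hk⟩ := H2.hasNormalPComplement_iff.mp hnpc
    haveI := hK
    haveI h1 : Group.IsSolvable K := FT.odd_order (by
      rw [← Nat.not_even_iff_odd, even_iff_two_dvd]; exact hKodd)
    haveI h2 : Group.IsNilpotent (G ⧸ K) := (IsPGroup.of_card (p := 2) (n := k) hk).isNilpotent
    exact (Group.isSolvable_iff_subgroup_quotient K).mpr ⟨h1, inferInstance⟩
  · obtain ⟨k, hk2, ⟨e⟩⟩ := metac_sylow S N hNc hQc hQ hnpc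
    set O := Cfsg.pPrimeCore 2 G with hO
    haveI : O.Normal := inferInstance
    have hOcop := H1.pPrimeCore_coprime 2 G
    have hOodd : Odd (Nat.card O) := by
      rw [← Nat.coprime_two_right]; exact hOcop
    let f : G →* G ⧸ O := QuotientGroup.mk' O
    have hf : Function.Surjective f := QuotientGroup.mk'_surjective O
    let P : Sylow 2 (G ⧸ O) := S.mapSurjective hf
    have hP : (P : Subgroup (G ⧸ O)) = (S : Subgroup G).map f := rfl
    have hinf : ∀ x ∈ (S : Subgroup G), f x = 1 → x = 1 := by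
      intro x hx hfx
      have hxO : x ∈ O := (QuotientGroup.eq_one_iff x).mp hfx
      obtain ⟨j, hj⟩ := S.isPGroup' ⟨x, hx⟩
      have h1 : x ^ 2 ^ j = 1 := congrArg Subtype.val hj
      have h2 : orderOf x ∣ 2 ^ j := orderOf_dvd_of_pow_eq_one h1
      have h3 : orderOf x ∣ Nat.card O := by
        have := orderOf_dvd_natCard (⟨x, hxO⟩ : O)
        rwa [orderOf_mk] at this
      have h4 := Nat.eq_one_of_dvd_coprimes (Nat.Coprime.pow_right j hOcop) h3 h2
      exact orderOf_eq_one_iff.mp h4
    let g : (S : Subgroup G) →* (P : Subgroup (G ⧸ O)) := f.subgroupMap (S : Subgroup G)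
    have hg : Function.Bijective g := by
      constructor
      · rw [injective_iff_map_eq_one]
        intro x hx
        exact Subtype.ext (hinf x x.2 (congrArg Subtype.val hx))
      · exact f.subgroupMap_surjective (S : Subgroup G)
    let e1 : (P : Subgroup (G ⧸ O)) ≃* Multiplicative (ZMod (2 ^ k) × ZMod (2 ^ k)) :=
      (MulEquiv.ofBijective g hg).symm.trans (e.trans (MulEquiv.prodMultiplicative (ZMod (2 ^ k)) (ZMod (2 ^ k))).symm)
    obtain ⟨hPn, -, hPi⟩ := S0949.result P k hk2 e1 (by
      intro M hM hMo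
      rw [← le_bot_iff, ← H1.pPrimeCore_quotient_eq_bot 2]
      exact H1.le_pPrimeCore hM (Nat.coprime_two_right.mpr hMo))
    have hquot : Group.IsSolvable (G ⧸ O) := by
      haveI := hPn
      haveI h3 : Group.IsNilpotent (P : Subgroup (G ⧸ O)) := P.isPGroup'.isNilpotent
      refine (Group.isSolvable_iff_subgroup_quotient (P : Subgroup (G ⧸ O))).mpr ⟨inferInstance, ?_⟩
      apply FT.odd_order
      have h4 : Nat.card ((G ⧸ O) ⧸ (P : Subgroup (G ⧸ O))) = (P : Subgroup (G ⧸ O)).index := rfl
      rw [h4]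
      rcases hPi with h | h <;> rw [h] <;> decide
    exact (Group.isSolvable_iff_subgroup_quotient O).mpr ⟨FT.odd_order hOodd, hquot⟩

end Cfsg.Agent.S4418
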