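import Cfsg.Statements.S4419
import Cfsg.Agent.H2.Frobenius
import Cfsg.Agent.H22.OddPG5
import Cfsg.Agent.H24.AutFrat
import Cfsg.Agent.H1.Cores

set_option autoImplicit false
set_option linter.style.haveILetI false
open Cfsg

namespace Cfsg.Agent.S4419

open Subgroup

theorem rank_le_two {R : Type*} [Group R] [Finite R] (h : Cfsg.IsMetacyclic R) : Group.rank R ≤ 2 := by
  classical
  obtain ⟨N, hN, h1, h2⟩ := h
  obtain ⟨a, ha⟩ := h1.exists_generator
  obtain ⟨b, hb⟩ := h2.exists_generator
  obtain ⟨b, rfl⟩ := QuotientGroup.mk_surjective b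
  have h3 : closure (({(a : R), b} : Finset R) : Set R) = ⊤ := by
    rw [eq_top_iff]
    intro x _
    obtain ⟨n, hn⟩ := hb (x : R ⧸ N)
    have hn : (b : R ⧸ N) ^ n = x := hn
    rw [← QuotientGroup.mk_zpow, QuotientGroup.eq] at hn
    obtain ⟨m, hm⟩ := ha ⟨_, hn⟩
    have hm' : (a : R) ^ m = (b ^ n)⁻¹ * x := congrArg Subtype.val hm
    have hx : x = b ^ n * (a : R) ^ m := by rw [hm']; group
    rw [hx]
    refine mul_mem (zpow_mem (subset_closure (by simp)) _) (zpow_mem (subset_closure (by simp)) _)
  refine (Group.rank_le h3).trans ?_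
  exact Finset.card_le_two

/-- Let p be a prime and G a finite group whose Sylow p-subgroups are metacyclic (a cyclic normal subgroup with cyclic quotient). Then G has a normal p-complement if and only if the order of G/O_{p′,p}(G) is coprime to p² − 1. -/
theorem result {G : Type*} [Group G] [Finite G] (p : ℕ) [Fact p.Prime] (S : Sylow p G) (hS : Cfsg.IsMetacyclic ↥(S : Subgroup G)) : Cfsg.HasNormalPComplement p G ↔ Nat.Coprime (Nat.card (G ⧸ Cfsg.pPrimePCore p G)) (p ^ 2 - 1) := by
  have hp : p.Prime := Fact.out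
  constructor
  · rintro ⟨P, N, hN, hc⟩
    have hNO : N ≤ pPrimeCore p G := by
      refine H1.le_pPrimeCore hN ?_
      have h1 := P.not_dvd_index
      have h2 : (P : Subgroup G).index = Nat.card N := by
        exact hc.index_eq_card
      rw [h2] at h1
      exact ((Nat.Prime.coprime_iff_not_dvd hp).2 h1).symm
    have h3 : pCore p (G ⧸ pPrimeCore p G) = ⊤ := by
      rw [eq_top_iff]
      refine H1.le_pCore inferInstance ?_
      have h4 : IsPGroup p (G ⧸ pPrimeCore p G) := by
        have h5 : (pPrimeCore p G).index ∣ N.index := index_dvd_of_le hNO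
        have h6 : N.index = Nat.card P := hc.symm.index_eq_card
        obtain ⟨k, hk⟩ := IsPGroup.iff_card.1 P.isPGroup'
        rw [h6] at h5
        have hk' : Nat.card P = p ^ k := hk
        rw [hk'] at h5
        obtain ⟨j, -, hj⟩ := (Nat.dvd_prime_pow hp).1 h5
        exact IsPGroup.of_card (n := j) (by rw [← hj]; rfl)
      exact h4.to_subgroup _
    have h4 : pPrimePCore p G = ⊤ := by
      unfold pPrimePCore
      rw [h3, comap_top]
    rw [h4]
    have : Nat.card (G ⧸ (⊤ : Subgroup G)) = 1 := Subgroup.index_top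
    rw [this]
    exact Nat.coprime_one_left _
  · intro hcop
    apply H2.hasNormalPComplement_of_centralizer
    intro X hX g hg hg'
    -- X is metacyclic
    have hXm : Cfsg.IsMetacyclic ↥X := by
      obtain ⟨T, hT⟩ := hX.exists_le_sylow
      have e : (T : Subgroup G) ≃* (S : Subgroup G) := Sylow.equiv T S
      have hTm : Cfsg.IsMetacyclic ↥(T : Subgroup G) := by
        obtain ⟨N, hN, h1, h2⟩ := hS
        haveI := hN
        refine ⟨N.map e.symm.toMonoidHom, Subgroup.Normal.map hN _ e.symm.surjective, ?_, ?_⟩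
        · exact isCyclic_of_surjective (e.symm.subgroupMap N) (MulEquiv.surjective _)
        · haveI : (N.map e.symm.toMonoidHom).Normal := Subgroup.Normal.map hN _ e.symm.surjective
          exact isCyclic_of_surjective (QuotientGroup.congr N (N.map e.symm.toMonoidHom) e.symm rfl) (MulEquiv.surjective _)
      exact H22.isMetacyclic_of_le hTm hT
    -- key: elements of prime power order
    have key : ∀ y ∈ normalizer (X : Set G), ∀ q k : ℕ, q.Prime → q ≠ p → orderOf y = q ^ k →
        y ∈ centralizer (X : Set G) := by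
      intro y hy q k hq hqp hyo
      by_cases hd : q ∣ ∏ i ∈ Finset.Icc 1 2, (p ^ i - 1)
      · have hd' : q ∣ p ^ 2 - 1 := by
          have : Finset.Icc 1 2 = {1, 2} := rfl
          rw [this, Finset.prod_pair (by norm_num)] at hd
          rcases hq.dvd_mul.1 hd with h | h
          · rw [pow_one] at h
            refine h.trans ?_
            have := Nat.sub_dvd_pow_sub_pow p 1 2
            simpa using this
          · exact h
        have hq1 : ¬ q ∣ Nat.card (G ⧸ Cfsg.pPrimePCore p G) := by
          intro h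
          have := Nat.dvd_gcd h hd'
          rw [hcop] at this
          exact hq.one_lt.ne' (Nat.dvd_one.1 this)
        have hnorm : (pPrimePCore p G).Normal := by
          unfold pPrimePCore
          infer_instance
        -- y in O_{p'p}
        have hy1 : y ∈ pPrimePCore p G := by
          have h1 : orderOf (y : G ⧸ pPrimePCore p G) ∣ q ^ k := by
            rw [← hyo]; exact orderOf_map_dvd (QuotientGroup.mk' (pPrimePCore p G)) y
          have h2 : orderOf (y : G ⧸ pPrimePCore p G) ∣ Nat.card (G ⧸ pPrimePCore p G) := orderOf_dvd_natCard _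
          have h3 := Nat.dvd_gcd h1 h2
          rw [Nat.Coprime.pow_left k ((Nat.Prime.coprime_iff_not_dvd hq).2 hq1)] at h3
          rw [← QuotientGroup.eq_one_iff]
          exact orderOf_eq_one_iff.1 (Nat.dvd_one.1 h3)
        have hy2 : y ∈ pPrimeCore p G := by
          have h1 : (QuotientGroup.mk' (pPrimeCore p G)) y ∈ pCore p (G ⧸ pPrimeCore p G) := hy1
          have h2 : orderOf ((QuotientGroup.mk' (pPrimeCore p G)) y) ∣ q ^ k := by
            rw [← hyo]; exact orderOf_map_dvd _ y
          obtain ⟨j, hj⟩ := (IsPGroup.iff_orderOf.1 (H1.pCore_isPGroup p (G ⧸ pPrimeCore p G))) ⟨_, h1⟩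
          rw [Subgroup.orderOf_mk] at hj
          rw [hj] at h2
          have h3 : p ^ j = 1 := by
            have h4 := Nat.dvd_gcd (dvd_refl (p ^ j)) h2
            rw [Nat.Coprime.pow j k ((Nat.coprime_primes hp hq).2 (Ne.symm hqp))] at h4
            exact Nat.dvd_one.1 h4
          rw [h3] at hj
          have := orderOf_eq_one_iff.1 hj
          exact (QuotientGroup.eq_one_iff y).1 this
        rw [mem_centralizer_iff]
        intro x hx
        have h1 : x * y * x⁻¹ * y⁻¹ ∈ pPrimeCore p G :=
          mul_mem ((H1.pPrimeCore_normal p G).conj_mem y hy2 x) (inv_mem hy2)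
        have h2 : x * y * x⁻¹ * y⁻¹ ∈ X := by
          have h3 : y * x⁻¹ * y⁻¹ ∈ X := (mem_normalizer_iff.1 hy _).1 (inv_mem hx)
          have : x * y * x⁻¹ * y⁻¹ = x * (y * x⁻¹ * y⁻¹) := by group
          rw [this]
          exact mul_mem hx h3
        have h3 : X ⊓ pPrimeCore p G = ⊥ := by
          refine Subgroup.inf_eq_bot_of_coprime ?_
          obtain ⟨n, hn⟩ := IsPGroup.iff_card.1 hX
          rw [hn]
          exact Nat.Coprime.pow_left _ (H1.pPrimeCore_coprime p G).symm
        have h4 : x * y * x⁻¹ * y⁻¹ ∈ X ⊓ pPrimeCore p G := ⟨h2, h1⟩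
        rw [h3, mem_bot] at h4
        have h5 : x * y * x⁻¹ * y⁻¹ * (y * x) = y * x := by rw [h4, one_mul]
        rw [← h5]; group
      · exact H24.mem_centralizer_of_not_dvd X hX (rank_le_two hXm) hy hq hqp hyo hd
    by_contra hgC
    obtain ⟨q, hq, m, hm, k, hk⟩ := H25.exists_primary_notMem (centralizer (X : Set G)) hgC
    by_cases hqp : q = p
    · subst hqp
      have h1 : orderOf (g ^ m) ∣ orderOf g := orderOf_pow_dvd m
      rw [hk] at h1
      have h2 : q ^ k = 1 := by
        have h3 := Nat.dvd_gcd (dvd_refl (q ^ k)) h1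
        rw [Nat.Coprime.pow_left k hg'.symm] at h3
        exact Nat.dvd_one.1 h3
      rw [h2] at hk
      rw [orderOf_eq_one_iff.1 hk] at hm
      exact hm (one_mem _)
    · exact hm (key _ (pow_mem hg _) q k hq hqp hk)

end Cfsg.Agent.S4419
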