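import Cfsg.Statements.S4573
import Cfsg.Agent.H20.MG2
import Cfsg.Agent.H24.SNGrp

set_option autoImplicit false
universe u
open Cfsg


namespace Cfsg.Agent.S4573


open Cfsg.Agent.H3 Cfsg.Agent.H20.MG RegularWreathProduct


/-- the embedding into the wreath product -/
theorem exists_embedding {G : Type u} [Group G] (N : Subgroup G) [N.Normal] {M : Type u} [Group M]
    (f : N →* M) (hf : Function.Injective f) :
    ∃ F : G →* (M ≀ᵣ (G ⧸ N)), Function.Injective F := by
  let s : G ⧸ N → G := Quotient.out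
  have hs : ∀ x, (s x : G ⧸ N) = x := fun x => Quotient.out_eq' x
  have hmem : ∀ (g : G) (x : G ⧸ N), (s x)⁻¹ * g * s ((g : G ⧸ N)⁻¹ * x) ∈ N := by
    intro g x
    rw [← QuotientGroup.eq_one_iff, QuotientGroup.mk_mul, QuotientGroup.mk_mul, QuotientGroup.mk_inv,
      hs, hs]
    group
  refine ⟨{ toFun := fun g => ⟨fun x => f ⟨_, hmem g x⟩, (g : G ⧸ N)⟩
            map_one' := ?_
            map_mul' := ?_ }, ?_⟩
  · apply RegularWreathProduct.ext
    · funext x
      show f _ = 1
      rw [← map_one f]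
      congr 1
      apply Subtype.ext
      show (s x)⁻¹ * 1 * s (((1 : G) : G ⧸ N)⁻¹ * x) = 1
      rw [QuotientGroup.mk_one, inv_one, one_mul]
      group
    · rfl
  · intro g h
    apply RegularWreathProduct.ext
    · funext x
      show f _ = f _ * f _
      rw [← map_mul]
      congr 1
      apply Subtype.ext
      show (s x)⁻¹ * (g * h) * s (((g * h : G) : G ⧸ N)⁻¹ * x) =
        (s x)⁻¹ * g * s ((g : G ⧸ N)⁻¹ * x) *
          ((s ((g : G ⧸ N)⁻¹ * x))⁻¹ * h * s ((h : G ⧸ N)⁻¹ * ((g : G ⧸ N)⁻¹ * x)))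
      rw [QuotientGroup.mk_mul, mul_inv_rev, mul_assoc (h : G ⧸ N)⁻¹]
      group
    · rfl
  · rw [injective_iff_map_eq_one]
    intro g hg
    have h1 := congrArg RegularWreathProduct.right hg
    have h2 := congrFun (congrArg RegularWreathProduct.left hg) 1
    replace h1 : (g : G ⧸ N) = 1 := h1
    replace h2 : f ⟨_, hmem g 1⟩ = 1 := h2
    rw [← map_one f] at h2
    have h3 := congrArg Subtype.val (hf h2)
    replace h3 : (s 1)⁻¹ * g * s ((g : G ⧸ N)⁻¹ * 1) = 1 := h3
    rw [h1, inv_one, one_mul] at h3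
    have h4 : g = s 1 * ((s 1)⁻¹ * g * s 1) * (s 1)⁻¹ := by group
    rw [h4, h3]
    group

theorem main (n : ℕ) : ∀ (G : Type u) [Group G] [Finite G], Group.IsSolvable G → Nat.card G = n →
    ∃ (M : Type u) (_ : Group M) (_ : Fintype M), (∀ χ : M → ℂ, Cfsg.IsIrrCharacter M χ →
      (∃ (H : Subgroup M) (lam : ↥H →* ℂˣ), χ = Cfsg.indFun H (fun h => (lam h : ℂ)))) ∧
      ∃ f : G →* M, Function.Injective f := by
  induction n using Nat.strong_induction_on with
  | _ n ih =>
  intro G _ _ hs hn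
  by_cases hG : Nontrivial G
  swap
  · rw [not_nontrivial_iff_subsingleton] at hG
    refine ⟨G, inferInstance, Fintype.ofFinite G, ?_, MonoidHom.id G, fun _ _ h => h⟩
    intro χ hχ
    have : Fintype G := Fintype.ofFinite G
    obtain ⟨H, lam, h⟩ := monomial_of_nilpotent hχ
    exact ⟨H, lam, by convert h⟩
  obtain ⟨N, hN, hp⟩ := Cfsg.Agent.H24.exists_normal_index_prime hs
  have hlt : Nat.card N < n := by
    rw [← hn, ← Subgroup.index_mul_card N]
    exact lt_mul_of_one_lt_left Nat.card_pos hp.one_lt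
  obtain ⟨M, _, _, hM, f, hf⟩ := ih _ hlt N inferInstance rfl
  obtain ⟨F, hF⟩ := exists_embedding N f hf
  haveI := Fintype.ofFinite (G ⧸ N)
  haveI := Fintype.ofFinite (M ≀ᵣ (G ⧸ N))
  refine ⟨M ≀ᵣ (G ⧸ N), inferInstance, inferInstance, ?_, F, hF⟩
  intro χ hχ
  obtain ⟨H, lam, -, h⟩ := monomial_wreath hM (by rwa [← Subgroup.index_eq_card]) hχ
  exact ⟨H, lam, h⟩

/-- Every finite solvable group is isomorphic to a subgroup of a finite M-group, a group each of whose irreducible characters is induced from a homomorphism of some subgroup into ℂˣ. -/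
theorem result {G : Type u} [Group G] [Finite G] (hsolv : Group.IsSolvable G) : ∃ (M : Type u) (_ : Group M) (_ : Fintype M), (∀ χ : M → ℂ, Cfsg.IsIrrCharacter M χ → (∃ (H : Subgroup M) (lam : ↥H →* ℂˣ), χ = Cfsg.indFun H (fun h => (lam h : ℂ)))) ∧ ∃ f : G →* M, Function.Injective f := by
  exact main _ G hsolv rfl


end Cfsg.Agent.S4573
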