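import Cfsg.Statements.S4811
import Cfsg.Agent.H27.Ch12C

set_option autoImplicit false
open Cfsg

namespace Cfsg.Agent.S4811

open Subgroup Cfsg.Agent.H27 Cfsg.Agent.H3


/-- For every finite solvable group G the character degree graph of G (vertices: the primes dividing some irreducible complex character degree; edges: distinct primes whose product divides some degree) has at most two connected components. -/
theorem result {G : Type*} [Group G] [Finite G] [Group.IsSolvable G] : Nat.card ((Cfsg.degreeGraph G).induce (Cfsg.degreePrimes G)).ConnectedComponent ≤ 2 := by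
  classical
  haveI := Fintype.ofFinite G
  set Γ := (degreeGraph G).induce (degreePrimes G) with hΓ
  by_contra hcon
  push Not at hcon
  haveI hfin : Finite Γ.ConnectedComponent := Nat.finite_of_card_ne_zero (by omega)
  haveI := Fintype.ofFinite Γ.ConnectedComponent
  rw [Nat.card_eq_fintype_card] at hcon
  obtain ⟨A, B, C, hAB, hAC, hBC⟩ := Fintype.two_lt_card_iff.mp hcon
  obtain ⟨a, rfl⟩ := A.exists_rep
  obtain ⟨b, rfl⟩ := B.exists_rep
  obtain ⟨c, rfl⟩ := C.exists_rep
  -- reachability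
  have hadj : ∀ x y : degreePrimes G, ∀ χ : IrrCharacter G, (x : ℕ) ∣ charDegree (χ : G → ℂ) →
      (y : ℕ) ∣ charDegree (χ : G → ℂ) → Γ.Reachable x y := by
    intro x y χ hx hy
    by_cases hxy : x = y
    · rw [hxy]
    · apply SimpleGraph.Adj.reachable
      have hxy' : (x : ℕ) ≠ y := fun h => hxy (Subtype.ext h)
      refine ⟨hxy', x.2.1, y.2.1, charDegree (χ : G → ℂ), ⟨χ, rfl⟩, ?_⟩
      exact Nat.Coprime.mul_dvd_of_dvd_of_dvd ((Nat.coprime_primes x.2.1 y.2.1).mpr hxy') hx hy
  have hnr : ∀ x y : degreePrimes G, (Γ.connectedComponentMk x ≠ Γ.connectedComponentMk y) →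
      ¬ Γ.Reachable x y := fun x y h1 h2 => h1 (SimpleGraph.ConnectedComponent.sound h2)
  have hab := hnr a b hAB
  have hac := hnr a c hAC
  have hbc := hnr b c hBC
  -- nonabelian
  have hna : ∃ x y : G, x * y ≠ y * x := by
    by_contra hcomm
    push Not at hcomm
    haveI : IsMulCommutative G := ⟨⟨hcomm⟩⟩
    obtain ⟨d, ⟨χ, hχ⟩, hd⟩ := a.2.2
    have h1 := irr_degree_one_of_comm χ.2
    rw [← charDegree_cast (irr_isChar χ.2), hχ] at h1
    have h2 : d = 1 := by exact_mod_cast h1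
    rw [h2] at hd
    exact a.2.1.one_lt.ne' (Nat.dvd_one.mp hd)
  -- characters with given prime
  have hchar : ∀ x : degreePrimes G, ∃ χ : IrrCharacter G, (x : ℕ) ∣ charDegree (χ : G → ℂ) := by
    intro x
    obtain ⟨d, ⟨χ, hχ⟩, hd⟩ := x.2.2
    exact ⟨χ, by rw [hχ]; exact hd⟩
  -- two of the three vertices are not connected to a given one
  have htwo : ∀ s : degreePrimes G, ∃ x y : degreePrimes G, ¬ Γ.Reachable x y ∧
      ¬ Γ.Reachable s x ∧ ¬ Γ.Reachable s y := by
    intro s
    by_cases h1 : Γ.Reachable s a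
    · exact ⟨b, c, hbc, fun h => hab (h1.symm.trans h), fun h => hac (h1.symm.trans h)⟩
    · by_cases h2 : Γ.Reachable s b
      · exact ⟨a, c, hac, h1, fun h => hbc (h2.symm.trans h)⟩
      · exact ⟨a, b, hab, h1, h2⟩
  rcases exists_quot (inferInstance : Group.IsSolvable G) hna with
    ⟨K, hK, hKna, p, k, hp, hk⟩ | ⟨K, N, hF, hNtop, p, k, hp, hk⟩
  · -- a quotient of prime power order
    obtain ⟨β, hβK, hβ1, hβd⟩ := exists_nonlinear hK hKna
    rw [hk] at hβd
    obtain ⟨j, -, hj⟩ := (Nat.dvd_prime_pow hp).mp hβd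
    have hj0 : j ≠ 0 := by
      rintro rfl
      exact hβ1 (by rw [hj, pow_zero])
    have hpβ : p ∣ charDegree (β : G → ℂ) := by rw [hj]; exact dvd_pow_self p hj0
    have hpV : p ∈ degreePrimes G := ⟨hp, _, ⟨β, rfl⟩, hpβ⟩
    obtain ⟨x, y, hxy, hsx, hsy⟩ := htwo ⟨p, hpV⟩
    obtain ⟨χ, hχ⟩ := hchar x
    have hpχ : ¬ p ∣ charDegree (χ : G → ℂ) := fun h => hsx (hadj ⟨p, hpV⟩ x χ h hχ)
    have hcop : (charDegree (χ : G → ℂ)).Coprime K.index := by
      rw [hk]
      exact (Nat.Coprime.pow_left k ((Nat.Prime.coprime_iff_not_dvd hp).mpr hpχ)).symm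
    haveI := Fintype.ofFinite K
    have hirr := restrict_irr_of_coprime hK χ.2 hcop
    have hg := (gallagher_one hK χ.2 hirr).2.1 (β : G → ℂ) β.2 (fun n => hβK n n.2)
    have hdeg : charDegree ((β : G → ℂ) * (χ : G → ℂ)) =
        charDegree (β : G → ℂ) * charDegree (χ : G → ℂ) := by
      have h1 := charDegree_cast (irr_isChar hg)
      have h2 := charDegree_cast (irr_isChar χ.2)
      have h3 := charDegree_cast (irr_isChar β.2)
      rw [Pi.mul_apply, ← h2, ← h3] at h1
      exact_mod_cast h1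
    apply hsx
    apply hadj ⟨p, hpV⟩ x ⟨_, hg⟩
    · show p ∣ charDegree ((β : G → ℂ) * (χ : G → ℂ))
      rw [hdeg]; exact hpβ.mul_right _
    · show (x : ℕ) ∣ charDegree ((β : G → ℂ) * (χ : G → ℂ))
      rw [hdeg]; exact hχ.mul_left _
  · -- a Frobenius quotient
    obtain ⟨χ₀, hχ₀⟩ := hF.exists_index
    have hidx : N.index ≠ 1 := fun h => hNtop (Subgroup.index_eq_one.mp h)
    obtain ⟨s, hs, hsN⟩ := Nat.exists_prime_and_dvd hidx
    have hsV : s ∈ degreePrimes G := ⟨hs, _, ⟨χ₀, rfl⟩, by rw [hχ₀]; exact hsN⟩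
    obtain ⟨x, y, hxy, hsx, hsy⟩ := htwo ⟨s, hsV⟩
    -- the prime of the kernel divides every degree outside the component of `s`
    have key : ∀ z : degreePrimes G, ¬ Γ.Reachable ⟨s, hsV⟩ z → ∀ χ : IrrCharacter G,
        (z : ℕ) ∣ charDegree (χ : G → ℂ) → p ∣ charDegree (χ : G → ℂ) := by
      intro z hz χ hχ
      have hcop : (charDegree (χ : G → ℂ)).Coprime N.index := by
        apply Nat.Coprime.symm
        apply Nat.coprime_of_dvd
        intro r hr hrN hrχ
        have hrV : r ∈ degreePrimes G := ⟨hr, _, ⟨χ, rfl⟩, hrχ⟩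
        apply hz
        have h1 : Γ.Reachable ⟨s, hsV⟩ ⟨r, hrV⟩ := hadj _ _ χ₀ (by
          show s ∣ _
          rw [hχ₀]; exact hsN) (by
          show r ∣ _
          rw [hχ₀]; exact hrN)
        exact h1.trans (hadj ⟨r, hrV⟩ z χ hrχ hχ)
      have hirr := restrict_irr_of_coprime hF.nN χ.2 hcop
      have hdeg : charDegree (fun n : N => (χ : G → ℂ) n) = charDegree (χ : G → ℂ) := by
        have h1 := charDegree_cast (irr_isChar hirr)
        have h2 := charDegree_cast (irr_isChar χ.2)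
        rw [OneMemClass.coe_one, ← h2] at h1
        exact_mod_cast h1
      rcases hF.alt hirr with ⟨χ', hχ'⟩ | ⟨-, hdvd⟩
      · exfalso
        rw [hdeg] at hχ'
        apply hz
        apply hadj _ _ χ'
        · show s ∣ _
          rw [hχ']; exact hsN.mul_right _
        · show (z : ℕ) ∣ _
          rw [hχ']; exact hχ.mul_left _
      · rw [hdeg, hk] at hdvd
        have hk0 : k ≠ 0 := by
          rintro rfl
          rw [pow_zero, Subgroup.relIndex_eq_one] at hk
          exact hF.ne hk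
        exact hp.dvd_of_dvd_pow ((dvd_pow_self p hk0).trans hdvd)
    obtain ⟨χ, hχ⟩ := hchar x
    obtain ⟨χ', hχ'⟩ := hchar y
    have h1 := key x hsx χ hχ
    have h2 := key y hsy χ' hχ'
    have hpV : p ∈ degreePrimes G := ⟨hp, _, ⟨χ, rfl⟩, h1⟩
    exact hxy ((hadj x ⟨p, hpV⟩ χ hχ h1).trans (hadj ⟨p, hpV⟩ y χ' h2 hχ'))

end Cfsg.Agent.S4811
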