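import Cfsg.Statements.S5178
import Cfsg.Agent.H28.Tvec3

set_option autoImplicit false
universe u
open Cfsg

namespace Cfsg.Agent.S5178

open Cfsg.FusionSystem Cfsg.Agent.H28

theorem mem_sup_c {Ω : Type*} [Group Ω] {A B : Subgroup Ω} (h : ∀ b ∈ B, ∀ a ∈ A, b * a = a * b) {x : Ω}
    (hx : x ∈ A ⊔ B) : ∃ a ∈ A, ∃ b ∈ B, a * b = x := by
  let K : Subgroup Ω :=
    { carrier := {x | ∃ a ∈ A, ∃ b ∈ B, a * b = x}
      mul_mem' := by
        rintro _ _ ⟨a, ha, b, hb, rfl⟩ ⟨a', ha', b', hb', rfl⟩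
        refine ⟨a * a', A.mul_mem ha ha', b * b', B.mul_mem hb hb', ?_⟩
        calc a * a' * (b * b') = a * (a' * b) * b' := by group
          _ = a * (b * a') * b' := by rw [h b hb a' ha']
          _ = a * b * (a' * b') := by group
      one_mem' := ⟨1, A.one_mem, 1, B.one_mem, by simp⟩
      inv_mem' := by
        rintro _ ⟨a, ha, b, hb, rfl⟩
        refine ⟨a⁻¹, A.inv_mem ha, b⁻¹, B.inv_mem hb, ?_⟩
        rw [← mul_inv_rev, h b hb a ha] }
  have : A ⊔ B ≤ K := sup_le (fun a ha => ⟨a, ha, 1, B.one_mem, by simp⟩)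
    (fun b hb => ⟨1, A.one_mem, b, hb, by simp⟩)
  exact this hx

/-- Let p be an odd prime, S a finite p-group containing an extraspecial subgroup Q of index p, and F a saturated fusion system over S whose largest subgroup normal in F is trivial. Then the centre of S equals the centre of Q. -/
theorem result {Ω : Type u} [Group Ω] {S : Subgroup Ω} [Finite S] (p : ℕ) [Fact p.Prime] (hp : Odd p) (hS : IsPGroup p S)
    (Q : Subgroup Ω) (hQS : Q ≤ S) (hQ : Cfsg.IsExtraspecial p ↥Q) (hQi : (Q.subgroupOf S).index = p)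
    (F : Cfsg.FusionSystem S) (hF : F.IsSaturated p) (hO : F.core = ⊥) :
    S ⊓ Subgroup.centralizer (S : Set Ω) = Q ⊓ Subgroup.centralizer (Q : Set Ω) := by
  classical
  obtain ⟨⟨hQp, hfr, hcm⟩, hcz⟩ := hQ
  haveI : Finite Q := finite_of_le hQS
  have hp1 := (Fact.out : p.Prime).one_lt
  have hppos := (Fact.out : p.Prime).pos
  have hQcard : p * Nat.card Q = Nat.card S := by
    have h1 := Subgroup.card_mul_index (Q.subgroupOf S)
    rw [hQi, Nat.card_congr (Subgroup.subgroupOfEquivOfLe hQS).toEquiv] at h1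
    rw [mul_comm]; exact h1
  -- maximality of `Q`
  have hmax : ∀ L : Subgroup Ω, Q < L → L ≤ S → L = S := by
    intro L hQL hLS
    haveI : Finite L := finite_of_le hLS
    obtain ⟨a, ha⟩ := IsPGroup.iff_card.1 hQp
    obtain ⟨c, hc⟩ := IsPGroup.iff_card.1 (isPGroup_of_le hS hLS)
    have h1 := card_lt_of_lt' hQL
    rw [ha, hc] at h1
    have h2 := (Nat.pow_lt_pow_iff_right hp1).1 h1
    apply eq_of_le_of_card hLS
    rw [← hQcard, ha, hc, ← pow_succ']
    exact Nat.pow_le_pow_right hppos h2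
  have hlt : Q < S := by
    refine lt_of_le_of_ne hQS fun h => ?_
    rw [← h] at hQcard
    have h1 : 0 < Nat.card Q := Nat.card_pos
    nlinarith
  have hQn : S ≤ Subgroup.normalizer (Q : Set Ω) := by
    have h1 := hmax _ (lt_normalizerIn hS hlt) normalizerIn_le
    intro s hs
    rw [← h1] at hs
    exact hs.2
  -- the centre
  obtain ⟨c₀, hc₀⟩ : ∃ c : Subgroup.center Q, ∀ x : Subgroup.center Q, x ∈ Subgroup.zpowers c := by
    haveI : IsCyclic (Subgroup.center Q) := isCyclic_of_prime_card hcz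
    exact IsCyclic.exists_generator
  set z : Ω := ((c₀ : Q) : Ω) with hz
  have hzQ : z ∈ Q := (c₀ : Q).2
  have hcen : ∀ x ∈ Q, (∀ y ∈ Q, x * y = y * x) → x ∈ Subgroup.zpowers z := by
    intro x hx h
    have h1 : (⟨x, hx⟩ : Q) ∈ Subgroup.center Q := by
      rw [Subgroup.mem_center_iff]
      intro y
      exact Subtype.ext (h y y.2).symm
    obtain ⟨k, hk⟩ := hc₀ ⟨_, h1⟩
    refine ⟨k, ?_⟩
    have h2 := congrArg (fun u : Subgroup.center Q => ((u : Q) : Ω)) hk
    exact h2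
  have hQz : ∀ q ∈ Q, q * z = z * q := by
    intro q hq
    exact congrArg Subtype.val (Subgroup.mem_center_iff.1 c₀.2 ⟨q, hq⟩)
  have hzcard : Nat.card (Subgroup.zpowers z) = p := by
    have h1 : Subgroup.zpowers z = (Subgroup.center Q).map Q.subtype := by
      apply le_antisymm
      · rw [Subgroup.zpowers_le]
        exact ⟨c₀, c₀.2, rfl⟩
      · rintro _ ⟨x, hx, rfl⟩
        exact hcen _ x.2 fun y hy => (congrArg Subtype.val (Subgroup.mem_center_iff.1 hx ⟨y, hy⟩)).symm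
    rw [h1, Subgroup.card_map_of_injective Q.subtype_injective, hcz]
  have hcomm : ∀ q ∈ Q, ∀ x ∈ Q, q * x * q⁻¹ * x⁻¹ ∈ Subgroup.zpowers z := by
    intro q hq x hx
    have h1 : (⟨q, hq⟩ : Q) * ⟨x, hx⟩ * (⟨q, hq⟩ : Q)⁻¹ * (⟨x, hx⟩ : Q)⁻¹ ∈ Subgroup.center Q := by
      rw [← hcm, commutator_def]
      exact Subgroup.commutator_mem_commutator (Subgroup.mem_top _) (Subgroup.mem_top _)
    refine hcen _ (mul_mem (mul_mem (mul_mem hq hx) (inv_mem hq)) (inv_mem hx)) fun y hy => ?_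
    exact (congrArg Subtype.val (Subgroup.mem_center_iff.1 h1 ⟨y, hy⟩)).symm
  have hzord : orderOf z = p := by rw [← Nat.card_zpowers]; exact hzcard
  have hzp : z ^ p = 1 := by rw [← hzord]; exact pow_orderOf_eq_one z
  have hz1 : z ≠ 1 := by
    intro h
    rw [h, orderOf_one] at hzord
    omega
  -- `z` is central in `S`
  have hzc : ∀ s ∈ S, s * z = z * s := by
    intro s hs
    have h1 : s * z * s⁻¹ ∈ Subgroup.zpowers z := by
      apply hcen _ ((Subgroup.mem_normalizer_iff.1 (hQn hs) z).1 hzQ)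
      intro y hy
      have h2 : s⁻¹ * y * s⁻¹⁻¹ ∈ Q := (Subgroup.mem_normalizer_iff.1 (hQn (inv_mem hs)) y).1 hy
      rw [inv_inv] at h2
      have h3 := hQz _ h2
      calc s * z * s⁻¹ * y = s * (z * (s⁻¹ * y * s)) * s⁻¹ := by group
        _ = s * ((s⁻¹ * y * s) * z) * s⁻¹ := by rw [h3]
        _ = y * (s * z * s⁻¹) := by group
    obtain ⟨m, hm⟩ := h1
    have hm' : s * z * s⁻¹ = z ^ m := hm.symm
    have hpow : ∀ k : ℕ, s ^ k * z * (s ^ k)⁻¹ = z ^ (m ^ k) := by
      intro k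
      induction k with
      | zero => simp
      | succ k ih =>
        have e : s ^ (k + 1) * z * (s ^ (k + 1))⁻¹ = s * (s ^ k * z * (s ^ k)⁻¹) * s⁻¹ := by
          rw [pow_succ']; group
        rw [e, ih, ← conj_zpow, hm', ← zpow_mul, pow_succ']
    obtain ⟨n, hn⟩ := isPGroup_pow_one hS hs
    have h4 := hpow (p ^ n)
    rw [hn] at h4
    have h5 : z ^ (m ^ p ^ n) = z ^ m := by
      apply zpow_mod hzp
      rw [← ZMod.intCast_zmod_eq_zero_iff_dvd]
      push_cast
      rw [ZMod.pow_card_pow, sub_self]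
    rw [h5] at h4
    have h6 : z = z ^ m := by rw [← h4]; group
    have h7 : s * z * s⁻¹ = z := by rw [hm', ← h6]
    calc s * z = (s * z * s⁻¹) * s := by group
      _ = z * s := by rw [h7]
  have hQna : ∃ x ∈ Q, ∃ y ∈ Q, x * y ≠ y * x := by
    by_contra hcon
    push Not at hcon
    have h1 : commutator Q = ⊥ := by
      rw [commutator_def, Subgroup.commutator_eq_bot_iff_le_centralizer]
      intro x _ y _
      exact Subtype.ext (hcon y y.2 x x.2)
    rw [h1] at hcm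
    rw [← hcm, Subgroup.card_bot] at hcz
    omega
  have hQe : Q ⊓ Subgroup.centralizer (Q : Set Ω) = Subgroup.zpowers z := by
    apply le_antisymm
    · rintro x ⟨hx, hxc⟩
      exact hcen x hx fun y hy => (Subgroup.mem_centralizer_iff.1 hxc y hy).symm
    · rw [Subgroup.zpowers_le]
      exact ⟨hzQ, Subgroup.mem_centralizer_iff.2 fun y hy => hQz y hy⟩
  rw [hQe]
  show ZS S = _
  apply le_antisymm
  · intro w hw
    by_contra hwz
    obtain ⟨hwS, hwc⟩ := mem_ZS.1 hw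
    have hwQ : w ∉ Q := fun h => hwz (hcen w h fun y hy => (hwc y (hQS hy)).symm)
    have hsup : Q ⊔ Subgroup.zpowers w = S := by
      apply hmax
      · refine lt_of_le_of_ne le_sup_left fun h => hwQ ?_
        rw [h]; exact Subgroup.mem_sup_right (Subgroup.mem_zpowers w)
      · exact sup_le hQS (by rwa [Subgroup.zpowers_le])
    have hdec : ∀ s ∈ S, ∃ q ∈ Q, ∃ k : ℤ, s = q * w ^ k := by
      intro s hs
      rw [← hsup] at hs
      obtain ⟨q, hq, b, ⟨k, rfl⟩, e⟩ := mem_sup_c (by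
        rintro _ ⟨k, rfl⟩ a ha
        have h1 : Commute a w := hwc a (hQS ha)
        exact ((h1.zpow_right k).eq).symm) hs
      exact ⟨q, hq, k, e.symm⟩
    have hct : CT S p z := by
      refine ⟨hQS hzQ, hzc, hzp, hz1, ?_⟩
      intro s hs t ht
      obtain ⟨q, hq, k, rfl⟩ := hdec s hs
      obtain ⟨r, hr, l, rfl⟩ := hdec t ht
      have c1 : ∀ (x : Ω), x ∈ S → ∀ k : ℤ, x * w ^ k = w ^ k * x := by
        intro x hx k
        have h1 : Commute x w := hwc x hx
        exact (h1.zpow_right k).eq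
      have e : q * w ^ k * (r * w ^ l) * (q * w ^ k)⁻¹ * (r * w ^ l)⁻¹ = q * r * q⁻¹ * r⁻¹ := by
        have e1 := c1 r (hQS hr) k
        have e2 := c1 q⁻¹ (inv_mem (hQS hq)) l
        have e3 := c1 r⁻¹ (inv_mem (hQS hr)) k
        calc q * w ^ k * (r * w ^ l) * (q * w ^ k)⁻¹ * (r * w ^ l)⁻¹
            = q * (w ^ k * r) * (w ^ l * (w ^ k)⁻¹) * q⁻¹ * (w ^ l)⁻¹ * r⁻¹ := by group
          _ = q * (r * w ^ k) * (w ^ l * (w ^ k)⁻¹) * q⁻¹ * (w ^ l)⁻¹ * r⁻¹ := by rw [e1]
          _ = q * r * (w ^ l * q⁻¹) * (w ^ l)⁻¹ * r⁻¹ := by group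
          _ = q * r * (q⁻¹ * w ^ l) * (w ^ l)⁻¹ * r⁻¹ := by rw [e2]
          _ = q * r * q⁻¹ * r⁻¹ := by group
      rw [e]
      exact hcomm q hq r hr
    obtain ⟨x, hx, y, hy, hxy⟩ := hQna
    exact hct.false hS hF hp ⟨x, hQS hx, y, hQS hy, hxy⟩ hw hwz hO
  · rw [Subgroup.zpowers_le]
    exact mem_ZS.2 ⟨hQS hzQ, hzc⟩
end Cfsg.Agent.S5178
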