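import Cfsg.Statements.S5179
import Cfsg.Agent.H28.Tvec
import Cfsg.Agent.H28.FusInner

set_option autoImplicit false
universe u
open Cfsg

namespace Cfsg.Agent.S5179

open Cfsg.FusionSystem Cfsg.Agent.H28

/-- Let p be an odd prime, S a finite p-group of order at least p⁶ containing an extraspecial subgroup Q of index p, and F a saturated fusion system over S whose largest subgroup normal in F is trivial. Then no proper subgroup of Q is essential in F: an essential subgroup of F contained in Q equals Q. -/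
theorem result {Ω : Type u} [Group Ω] {S : Subgroup Ω} [Finite S] (p : ℕ) [Fact p.Prime] (hp : Odd p) (hS : IsPGroup p S)
    (Q : Subgroup Ω) (hQS : Q ≤ S) (hQ : Cfsg.IsExtraspecial p ↥Q) (hQi : (Q.subgroupOf S).index = p)
    (h6 : p ^ 6 ≤ Nat.card S)
    (F : Cfsg.FusionSystem S) (hF : F.IsSaturated p) (hO : F.core = ⊥)
    (E : Subgroup Ω) (hEQ : E ≤ Q) (hE : F.IsEssential p E) : E = Q := by
  classical
  obtain ⟨⟨hQp, hfr, hcm⟩, hcz⟩ := hQ
  haveI : Finite Q := finite_of_le hQS
  haveI : Finite E := finite_of_le (hEQ.trans hQS)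
  have hp1 := (Fact.out : p.Prime).one_lt
  have hppos := (Fact.out : p.Prime).pos
  -- order of `Q`
  have hQcard : p * Nat.card Q = Nat.card S := by
    have h1 := Subgroup.card_mul_index (Q.subgroupOf S)
    rw [hQi, Nat.card_congr (Subgroup.subgroupOfEquivOfLe hQS).toEquiv] at h1
    rw [mul_comm]; exact h1
  obtain ⟨b, hb⟩ := IsPGroup.iff_card.1 hQp
  have hb5 : 5 ≤ b := by
    rw [← hQcard, hb, ← pow_succ'] at h6
    have := (Nat.pow_le_pow_iff_right hp1).1 h6
    omega
  -- the centre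
  obtain ⟨c₀, hc₀⟩ : ∃ c : Subgroup.center Q, ∀ x : Subgroup.center Q, x ∈ Subgroup.zpowers c := by
    haveI : IsCyclic (Subgroup.center Q) := isCyclic_of_prime_card hcz
    exact IsCyclic.exists_generator
  set z : Ω := ((c₀ : Q) : Ω) with hz
  have hzQ : z ∈ Q := (c₀ : Q).2
  have hcen : ∀ x ∈ Q, (∀ y ∈ Q, x * y = y * x) → x ∈ Subgroup.zpowers z := by
    intro x hx h
    have h1 : (⟨x, hx⟩ : Q) ∈ Subgroup.center Q := by
      rw [Subgroup.mem_center_iff]
      intro y
      exact Subtype.ext (h y y.2).symm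
    obtain ⟨k, hk⟩ := hc₀ ⟨_, h1⟩
    refine ⟨k, ?_⟩
    have h2 := congrArg (fun u : Subgroup.center Q => ((u : Q) : Ω)) hk
    exact h2
  have hQz : ∀ q ∈ Q, q * z = z * q := by
    intro q hq
    exact congrArg Subtype.val (Subgroup.mem_center_iff.1 c₀.2 ⟨q, hq⟩)
  have hzcard : Nat.card (Subgroup.zpowers z) = p := by
    have h1 : Subgroup.zpowers z = (Subgroup.center Q).map Q.subtype := by
      apply le_antisymm
      · rw [Subgroup.zpowers_le]
        exact ⟨c₀, c₀.2, rfl⟩
      · rintro _ ⟨x, hx, rfl⟩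
        exact hcen _ x.2 fun y hy => (congrArg Subtype.val (Subgroup.mem_center_iff.1 hx ⟨y, hy⟩)).symm
    rw [h1, Subgroup.card_map_of_injective Q.subtype_injective, hcz]
  have hcomm : ∀ q ∈ Q, ∀ x ∈ Q, q * x * q⁻¹ * x⁻¹ ∈ Subgroup.zpowers z := by
    intro q hq x hx
    have h1 : (⟨q, hq⟩ : Q) * ⟨x, hx⟩ * (⟨q, hq⟩ : Q)⁻¹ * (⟨x, hx⟩ : Q)⁻¹ ∈ Subgroup.center Q := by
      rw [← hcm, commutator_def]
      exact Subgroup.commutator_mem_commutator (Subgroup.mem_top _) (Subgroup.mem_top _)
    refine hcen _ (mul_mem (mul_mem (mul_mem hq hx) (inv_mem hq)) (inv_mem hx)) fun y hy => ?_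
    exact (congrArg Subtype.val (Subgroup.mem_center_iff.1 h1 ⟨y, hy⟩)).symm
  have hzE : z ∈ E := by
    refine centric_centralizer hE.1 (mem_centralizerIn.2 ⟨hQS hzQ, fun y hy => ?_⟩)
    exact (hQz y (hEQ hy)).symm
  have hzEle : Subgroup.zpowers z ≤ E := by rwa [Subgroup.zpowers_le]
  haveI : Finite (Subgroup.zpowers z) := finite_of_le hzEle
  by_contra hne
  have hlt : E < Q := lt_of_le_of_ne hEQ hne
  by_cases hab : ∀ x ∈ E, ∀ y ∈ E, x * y = y * x
  · -- abelian
    obtain ⟨a, ha⟩ := IsPGroup.iff_card.1 (isPGroup_of_le hS (hEQ.trans hQS))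
    have hab' : a < b := by
      have h1 := card_lt_of_lt' hlt
      rw [ha, hb] at h1
      exact (Nat.pow_lt_pow_iff_right hp1).1 h1
    by_cases h2 : a + 2 ≤ b
    · refine tvec hS hF hE hab hEQ hQS hzE hzcard.le hQz (fun q hq x hx => hcomm q hq x (hEQ hx)) ?_
      rw [ha, hb, ← pow_add]
      exact Nat.pow_le_pow_right hppos (by omega)
    · have hba : b = a + 1 := by omega
      obtain ⟨q, hq, hqE⟩ := SetLike.exists_of_lt hlt
      have h3 := card_le_comm (A := E) (Z := Subgroup.zpowers z) (y := q)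
        (fun x hx => hcomm x (hEQ hx) q hq)
        (fun x hx w hw => hab x hx w (hzEle hw))
        (fun u hu v hv => hab u (hzEle hu) v (hzEle hv))
      have h4 : E ⊓ Subgroup.centralizer ({q} : Set Ω) ≤ Subgroup.zpowers z := by
        rintro x ⟨hx, hxq'⟩
        have hxq : x * q = q * x := Subgroup.mem_centralizer_singleton_iff.1 hxq'
        apply hcen x (hEQ hx)
        set C : Subgroup Ω := Q ⊓ Subgroup.centralizer ({x} : Set Ω) with hC
        haveI : Finite C := finite_of_le inf_le_left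
        have hEC : E ≤ C := fun y hy => ⟨hEQ hy, Subgroup.mem_centralizer_singleton_iff.2 (hab y hy x hx)⟩
        have hqC : q ∈ C := ⟨hq, Subgroup.mem_centralizer_singleton_iff.2 hxq.symm⟩
        have hEC' : E < C := lt_of_le_of_ne hEC fun h => hqE (by rw [h]; exact hqC)
        obtain ⟨c, hc⟩ := IsPGroup.iff_card.1 (isPGroup_of_le hS ((inf_le_left : C ≤ Q).trans hQS))
        have h5 := card_lt_of_lt' hEC'
        have h6 := card_le_of_le (inf_le_left : C ≤ Q)
        rw [ha, hc] at h5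
        rw [hc, hb] at h6
        have h7 := (Nat.pow_lt_pow_iff_right hp1).1 h5
        have h8 := (Nat.pow_le_pow_iff_right hp1).1 h6
        have h9 : c = b := by omega
        have h10 : C = Q := eq_of_le_of_card inf_le_left (by rw [hc, hb, h9])
        intro y hy
        have h11 : y ∈ C := by rw [h10]; exact hy
        exact (Subgroup.mem_centralizer_singleton_iff.1 h11.2).symm
      have h5 := card_le_of_le h4
      have h6 : Nat.card E ≤ p * p := by
        rw [hzcard] at h3 h5
        exact h3.trans (Nat.mul_le_mul_left _ h5)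
      rw [ha, ← pow_two] at h6
      have h7 := (Nat.pow_le_pow_iff_right hp1).1 h6
      omega
  · -- nonabelian: `Q` centralizes `E / Z` and `Z`
    push Not at hab
    obtain ⟨x₀, hx₀, y₀, hy₀, hxy⟩ := hab
    set c : Ω := x₀ * y₀ * x₀⁻¹ * y₀⁻¹ with hc
    have hcz' : c ∈ Subgroup.zpowers z := hcomm _ (hEQ hx₀) _ (hEQ hy₀)
    have hc1 : c ≠ 1 := by
      intro h
      apply hxy
      calc x₀ * y₀ = c * (y₀ * x₀) := by rw [hc]; group
        _ = y₀ * x₀ := by rw [h, one_mul]
    have hcgen : Subgroup.zpowers c = Subgroup.zpowers z := by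
      have h1 : Subgroup.zpowers c ≤ Subgroup.zpowers z := by rwa [Subgroup.zpowers_le]
      apply eq_of_le_of_card h1
      rw [hzcard]
      have h2 := Subgroup.card_dvd_of_le h1
      rw [hzcard] at h2
      rcases (Nat.dvd_prime (Fact.out : p.Prime)).1 h2 with h3 | h3
      · exfalso; apply hc1
        have h4 : Subgroup.zpowers c = ⊥ := Subgroup.card_eq_one.1 h3
        rwa [Subgroup.zpowers_eq_bot] at h4
      · exact h3.ge
    have hES : E ≤ S := hEQ.trans hQS
    obtain ⟨q, hq, hqE⟩ := SetLike.exists_of_lt hlt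
    apply hqE
    refine radical_chain hS hF (essential_radical hS hE) hE.1 hzEle ?_ (hQS hq) ?_ ?_ ?_
    · intro δ hδ w hw
      have hδm := mor_autFun hES hδ
      rw [← hcgen] at hw
      obtain ⟨k, rfl⟩ := hw
      have hcE : c ∈ E := hzEle hcz'
      show autFun δ (c ^ k) ∈ _
      rw [hδm.zpow hcE]
      apply zpow_mem
      have h1 : autFun δ c = autFun δ x₀ * autFun δ y₀ * (autFun δ x₀)⁻¹ * (autFun δ y₀)⁻¹ := by
        rw [hc, hδm.mul (mul_mem (mul_mem hx₀ hy₀) (inv_mem hx₀)) (inv_mem hy₀),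
          hδm.mul (mul_mem hx₀ hy₀) (inv_mem hx₀), hδm.mul hx₀ hy₀, hδm.inv hx₀, hδm.inv hy₀]
      rw [h1]
      exact hcomm _ (hEQ (autFun_mem _ hx₀)) _ (hEQ (autFun_mem _ hy₀))
    · refine mem_normalizer_of_finite fun x hx => ?_
      have h1 := mul_mem (hzEle (hcomm q hq x (hEQ hx))) hx
      rwa [inv_mul_cancel_right] at h1
    · rintro _ ⟨k, rfl⟩
      show q * z ^ k * q⁻¹ = z ^ k
      have h1 : Commute q z := hQz q hq
      rw [(h1.zpow_right k).eq]; group
    · intro x hx
      have h1 := hcomm q hq x (hEQ hx)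
      obtain ⟨k, hk⟩ := h1
      have hk' : z ^ k = q * x * q⁻¹ * x⁻¹ := hk
      have h2 : q * x * q⁻¹ = z ^ k * x := by rw [hk']; group
      have h3 : Commute x z := hQz x (hEQ hx)
      rw [h2, ← (h3.zpow_right k).eq, inv_mul_cancel_left]
      exact ⟨k, rfl⟩
end Cfsg.Agent.S5179
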