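import Cfsg.Statements.S5185
import Cfsg.Agent.H22.GL2Gen
import Cfsg.Agent.H22.Pronorm
import Cfsg.Agent.H28.FusInner
import Cfsg.Agent.H29.MulAutGL

set_option autoImplicit false
set_option linter.all false
universe u
open Cfsg

namespace Cfsg.Agent.S5185

open Cfsg.Agent.H14


/-- Let F be a saturated fusion system over a finite p-group S and H an essential subgroup of order p². Then H is elementary abelian (isomorphic to C_p × C_p) and its F-automorphism group contains a subgroup isomorphic to SL(2,p). -/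
theorem result {Ω : Type u} [Group Ω] {S : Subgroup Ω} [Finite S] (p : ℕ) [Fact p.Prime] (hS : IsPGroup p S)
    (F : Cfsg.FusionSystem S) (hF : F.IsSaturated p) (H : Subgroup Ω) (hH : F.IsEssential p H) (hcard : Nat.card H = p ^ 2) :
    Cfsg.IsElementaryAbelian p H ∧
      ∃ K : Subgroup ↥(F.autGroup H), Nonempty (↥K ≃* Matrix.SpecialLinearGroup (Fin 2) (ZMod p)) := by
  have hp : p.Prime := Fact.out
  obtain ⟨hPc, hPn, hn, Y, hY⟩ := hH
  haveI hfH : Finite H := Nat.finite_of_card_ne_zero (by rw [hcard]; exact pow_ne_zero _ hp.ne_zero)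
  haveI : Finite (MulAut H) := Finite.of_injective (fun f : MulAut H => (f : H → H)) DFunLike.coe_injective
  have hcomm : ∀ a b : H, a * b = b * a := IsPGroup.commutative_of_card_eq_prime_sq hcard
  have hInn : Cfsg.Inn H = ⊥ := by
    rw [eq_bot_iff]
    rintro _ ⟨a, rfl⟩
    rw [Subgroup.mem_bot]
    ext b
    show ((a * b * a⁻¹ : H) : Ω) = b
    rw [hcomm a b, mul_inv_cancel_right]
  have hN : (Cfsg.Inn H).subgroupOf (F.autGroup H) = ⊥ := by rw [hInn]; exact Subgroup.bot_subgroupOf _
  -- no normal Sylow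
  have hcore := Cfsg.Agent.H28.pCore_eq_bot_of_stronglyPEmbedded hY
  have hdvd : p ∣ Nat.card (F.autGroup H) := hY.1.trans (Subgroup.card_quotient_dvd_card _)
  have hnn : ∀ P : Sylow p (F.autGroup H), ¬ (P : Subgroup (F.autGroup H)).Normal := by
    intro P hPnor
    have h1 : ((P : Subgroup (F.autGroup H)).map
        (QuotientGroup.mk' ((Cfsg.Inn H).subgroupOf (F.autGroup H)))) ≤ ⊥ := by
      rw [← hcore]
      apply Cfsg.Agent.H28.le_pCore
      · exact hPnor.map _ (QuotientGroup.mk'_surjective _)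
      · exact P.isPGroup'.map _
    rw [le_bot_iff, Subgroup.map_eq_bot_iff, QuotientGroup.ker_mk', hN, le_bot_iff] at h1
    have h2 := P.dvd_card_of_dvd_card hdvd
    rw [h1, Subgroup.card_bot] at h2
    exact hp.one_lt.ne' (Nat.dvd_one.1 h2)
  -- not cyclic
  have hncyc : ¬ IsCyclic H := by
    intro hc
    obtain ⟨P⟩ : Nonempty (Sylow p (F.autGroup H)) := inferInstance
    apply hnn P
    constructor
    intro a ha g
    have e := IsCyclic.mulAutMulEquiv H
    have h1 : ∀ f g : MulAut H, f * g = g * f := by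
      intro f g
      apply e.injective
      rw [map_mul, map_mul, mul_comm]
    have h2 : g * a = a * g := Subtype.ext (h1 _ _)
    rw [h2, mul_inv_cancel_right]
    exact ha
  have hexp : ∀ a : H, a ^ p = 1 := by
    intro a
    have h1 : orderOf a ∣ p ^ 2 := by rw [← hcard]; exact orderOf_dvd_natCard a
    obtain ⟨k, hk, hk'⟩ := (Nat.dvd_prime_pow hp).1 h1
    interval_cases k
    · rw [pow_zero, orderOf_eq_one_iff] at hk'
      rw [hk', one_pow]
    · rw [pow_one] at hk'
      rw [← hk', pow_orderOf_eq_one]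
    · exact absurd (isCyclic_of_orderOf_eq_card a (by rw [hk', hcard])) hncyc
  refine ⟨⟨⟨⟨hcomm⟩⟩, ?_⟩, ?_⟩
  · intro a ha
    exact congrArg Subtype.val (hexp ⟨a, ha⟩)
  · obtain ⟨e⟩ := Cfsg.Agent.H29.mulAut_GL hcomm hexp hcard
    obtain ⟨P⟩ : Nonempty (Sylow p (F.autGroup H)) := inferInstance
    have h1 := hnn P
    have h2 : ∃ h : F.autGroup H, cj h (P : Subgroup (F.autGroup H)) ≠ P := by
      by_contra hcon
      push Not at hcon
      apply h1
      constructor
      intro a ha g
      rw [← hcon g]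
      exact ⟨a, ha, rfl⟩
    obtain ⟨h, hh⟩ := h2
    have hPne : (P : Subgroup (F.autGroup H)) ≠ ⊥ := by
      intro hb
      exact h1 (by rw [hb]; infer_instance)
    let ε : F.autGroup H →* Matrix.GeneralLinearGroup (Fin 2) (ZMod p) :=
      (e : MulAut H →* _).comp (F.autGroup H).subtype
    have hε : Function.Injective ε := e.injective.comp Subtype.val_injective
    obtain ⟨ψ, hψ, hψA⟩ := Cfsg.Agent.H22.gl2_contains (A := ε.range) (P := (P : Subgroup (F.autGroup H)).map ε)
      (by rintro _ ⟨x, -, rfl⟩; exact ⟨x, rfl⟩) (P.isPGroup'.map _)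
      (by rw [Ne, Subgroup.map_eq_bot_iff_of_injective _ hε]; exact hPne)
      (h := ε h) ⟨h, rfl⟩ (by
        rw [← Cfsg.Agent.H22.Pron.map_cj]
        intro hc
        exact hh (Subgroup.map_injective hε hc))
    let ε' : F.autGroup H ≃* ε.range := MonoidHom.ofInjective hε
    let ψ' : Matrix.SpecialLinearGroup (Fin 2) (ZMod p) →* F.autGroup H :=
      (ε'.symm : ε.range →* F.autGroup H).comp (ψ.codRestrict ε.range hψA)
    have hψ' : Function.Injective ψ' := by
      apply ε'.symm.injective.comp
      intro x y hxy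
      exact hψ (congrArg Subtype.val hxy)
    exact ⟨ψ'.range, ⟨(MonoidHom.ofInjective hψ').symm⟩⟩

end Cfsg.Agent.S5185
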