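import Cfsg.Statements.S5186
import Cfsg.Agent.H13.EssSteps
import Cfsg.Agent.H19.Cube
import Cfsg.Agent.S0841
import Cfsg.Agent.S4189

set_option autoImplicit false
universe u
set_option linter.all false
open Cfsg
open Cfsg.Agent.H28 Cfsg.Agent.H13 Cfsg.FusionSystem Cfsg.Agent

namespace Cfsg.Agent.S5186

open Cfsg.Agent

/-- Let F be a saturated fusion system over a finite p-group S and H an essential subgroup of order p³. Then H is elementary abelian, or p is odd and H is extraspecial of exponent p, or p = 2 and H is the quaternion group of order 8. -/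
theorem result {Ω : Type u} [Group Ω] {S : Subgroup Ω} [Finite S] (p : ℕ) [Fact p.Prime] (hS : IsPGroup p S)
    (F : Cfsg.FusionSystem S) (hF : F.IsSaturated p) (H : Subgroup Ω) (hH : F.IsEssential p H) (hcard : Nat.card H = p ^ 3) :
    Cfsg.IsElementaryAbelian p H ∨ (Odd p ∧ Cfsg.IsExtraspecial p ↥H ∧ ∀ x ∈ H, x ^ p = 1) ∨
      (p = 2 ∧ Nonempty (↥H ≃* QuaternionGroup 2)) := by
  have hpp : p.Prime := Fact.out
  have hHS := hH.1.1
  haveI : Finite H := finite_of_le hHS
  by_cases hex : ∀ x : H, x ^ p = 1
  · by_cases hab : IsMulCommutative H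
    · left
      exact ⟨hab, fun a ha => congrArg Subtype.val (hex ⟨a, ha⟩)⟩
    · rcases hpp.eq_two_or_odd' with h2 | h2
      · exfalso
        subst h2
        exact hab ⟨⟨fun a b => by
          have h1 := hex a
          have h3 := hex b
          have h4 := hex (a * b)
          rw [pow_two] at h1 h3 h4
          have h5 : a⁻¹ = a := inv_eq_of_mul_eq_one_left h1
          have h6 : b⁻¹ = b := inv_eq_of_mul_eq_one_left h3
          have h7 : (a * b)⁻¹ = a * b := inv_eq_of_mul_eq_one_left h4
          rw [← h7, mul_inv_rev, h5, h6]⟩⟩
      · right; left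
        exact ⟨h2, Cfsg.Agent.H19.extraspecial_of_card_cube hcard hab, fun x hx => congrArg Subtype.val (hex ⟨x, hx⟩)⟩
  · push Not at hex
    obtain ⟨x₀, hx₀⟩ := hex
    by_cases hab : IsMulCommutative H
    · exfalso
      refine essential_false_pow hS hF hH hcard (fun x y => ?_) hx₀
      exact (show Commute x y from hab.is_comm.comm x y).mul_pow p
    · have hex := Cfsg.Agent.H19.extraspecial_of_card_cube hcard hab
      have hcc : commutator H = Subgroup.center H := hex.1.2.2
      rcases hpp.eq_two_or_odd' with h2 | h2
      · subst h2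
        right; right
        refine ⟨rfl, Cfsg.Agent.S4189.result hex.1.1 hab ?_ ?_⟩
        · have h1 := Subgroup.card_mul_index (commutator H)
          rw [hcc, hex.2, hcard] at h1
          rw [hcc]; omega
        · intro hA
          refine essential_false_of_chain hS hF hH (D₁ := ⊥) bot_le ?_ (fun _ => ⊥) 0 rfl le_rfl (fun _ => bot_le) ?_ ?_
          · intro α _ hα _
            obtain ⟨k, hk⟩ := hA α
            have h1 : orderOf α ∣ 2 ^ k := orderOf_dvd_of_pow_eq_one hk
            exact orderOf_eq_one_iff.1 (Nat.Coprime.eq_one_of_dvd (hα.pow_right k) h1)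
          · intro j α _ x hx
            rw [Subgroup.mem_bot] at hx
            subst hx
            rw [autFun_apply α H.one_mem]
            show ((α 1 : H) : Ω) ∈ (⊥ : Subgroup Ω)
            rw [map_one]
            exact one_mem _
          · intro s _ _ j x hx
            rw [Subgroup.mem_bot] at hx
            subst hx
            show (1 : Ω)⁻¹ * (s * 1 * s⁻¹) ∈ (⊥ : Subgroup Ω)
            simp
      · exfalso
        refine essential_false_pow hS hF hH hcard (fun x y => ?_) hx₀
        rw [Cfsg.Agent.S0841.result hcc.le x y p]
        have hc : (y⁻¹ * x⁻¹ * y * x) ∈ Subgroup.center H := by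
          rw [← hcc]
          have h3 := Subgroup.commutator_mem_commutator (Subgroup.mem_top y⁻¹) (Subgroup.mem_top x⁻¹)
          rw [commutatorElement_def, inv_inv, inv_inv] at h3
          exact h3
        have h4 : (y⁻¹ * x⁻¹ * y * x) ^ p = 1 := by
          have h5 : (⟨_, hc⟩ : Subgroup.center H) ^ Nat.card (Subgroup.center H) = 1 := pow_card_eq_one'
          rw [hex.2] at h5
          exact congrArg Subtype.val h5
        obtain ⟨m, hm⟩ := h2
        have h6 : p * (p - 1) / 2 = p * m := by
          have : p - 1 = 2 * m := by omega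
          rw [this]
          have : p * (2 * m) = (p * m) * 2 := by ring
          rw [this]
          exact Nat.mul_div_cancel _ (by norm_num)
        rw [h6, pow_mul, h4, one_pow, mul_one]

end Cfsg.Agent.S5186
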