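import Cfsg.Statements.S5187
import Cfsg.Agent.H13.AbHomoc2

set_option autoImplicit false
universe u
set_option linter.all false
open Cfsg
open Cfsg.Agent.H28 Cfsg.Agent.H13 Cfsg.FusionSystem Cfsg.Agent

namespace Cfsg.Agent.S5187

open Cfsg.Agent

/-- Let F be a saturated fusion system over a finite p-group S and H an abelian essential subgroup that can be generated by two elements (its Frattini quotient has order at most p²). Then H is elementary abelian of order p², or p ≤ 3 and H is homocyclic of rank two, that is isomorphic to C_{pᵏ} × C_{pᵏ} for some k. -/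
theorem result {Ω : Type u} [Group Ω] {S : Subgroup Ω} [Finite S] (p : ℕ) [Fact p.Prime] (hS : IsPGroup p S)
    (F : Cfsg.FusionSystem S) (hF : F.IsSaturated p) (H : Subgroup Ω) (hH : F.IsEssential p H) (hab : IsMulCommutative ↥H) (hrk : (frattini ↥H).index ≤ p ^ 2) :
    (Cfsg.IsElementaryAbelian p H ∧ Nat.card H = p ^ 2) ∨
      (p ≤ 3 ∧ ∃ k : ℕ, Nonempty (↥H ≃* Multiplicative (ZMod (p ^ k) × ZMod (p ^ k)))) := by
  have hpp : p.Prime := Fact.out
  have hHS := hH.1.1
  haveI : Finite H := finite_of_le hHS
  haveI := finite_mulAut (P := H)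
  have hHp : IsPGroup p H := isPGroup_of_le hS hHS
  letI : CommGroup H := { (inferInstance : Group H) with mul_comm := fun a b => hab.is_comm.comm a b }
  obtain ⟨x, y, hxy⟩ := AbH.two_gen hHp hrk
  rcases AbH.homocyclic_or_chain hHp hxy with ⟨V, n, h0, hn, hmono, hchar, hcard⟩ | ⟨a, ha1, ha, ⟨e⟩, hB, hidx⟩
  · exact (essential_false_of_steps hS hF hH V n h0 hn hmono hchar hcard).elim
  · by_cases hp3 : p ≤ 3
    · right; exact ⟨hp3, a, ⟨e⟩⟩
    · left
      have hp5 : 5 ≤ p := by
        have h4 : p ≠ 4 := by rintro rfl; exact absurd hpp (by norm_num)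
        omega
      have ha' : a = 1 := by
        by_contra hane
        have ha2 : 2 ≤ a := by omega
        have hA : autInducedBy S H ≠ ⊥ := by
          intro hbot
          refine essential_no_normal hS hF hH ⊥ inferInstance IsPGroup.of_bot ?_
          rw [hbot]
          intro z hz
          rw [Subgroup.mem_subgroupOf, Subgroup.mem_bot] at hz
          rw [Subgroup.mem_bot]
          exact Subtype.ext hz
        have hAp : IsPGroup p (autInducedBy S H) := isPGroup_autInducedBy hS
        have hd : p ∣ Nat.card (autInducedBy S H) := by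
          obtain ⟨k, hk⟩ := IsPGroup.iff_card.1 hAp
          rw [hk]
          refine dvd_pow_self p fun h0 => hA ?_
          rw [h0, pow_zero] at hk
          exact Subgroup.card_eq_one.1 hk
        obtain ⟨z, hz⟩ := exists_prime_orderOf_dvd_card' p hd
        have hz1 : ((z : MulAut H)) ^ p = 1 := by
          have := pow_orderOf_eq_one z
          rw [hz] at this
          exact congrArg Subtype.val this
        have hzne : (z : MulAut H) ≠ 1 := by
          intro h
          have : z = 1 := Subtype.ext h
          rw [this, orderOf_one] at hz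
          exact hpp.one_lt.ne hz
        have hdt := delta_trivial hp5 ha2 ha hidx hB hz1
        let W : ℕ → Subgroup Ω := fun j => ((⊤ : Subgroup H).map (powMonoidHom (p ^ (a - j)) : H →* H)).map H.subtype
        have hW : ∀ j (u : Ω), u ∈ W j ↔ ∃ v : H, ((v ^ p ^ (a - j) : H) : Ω) = u := by
          intro j u
          constructor
          · rintro ⟨_, ⟨v, -, rfl⟩, rfl⟩
            exact ⟨v, rfl⟩
          · rintro ⟨v, rfl⟩
            exact ⟨_, ⟨v, trivial, rfl⟩, rfl⟩
        have hInn := mem_Inn_of_chain hS hF hH W a ?_ ?_ ?_ ?_ (autInducedBy_le hHS le_rfl z.2) ?_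
        · obtain ⟨g, hg⟩ := hInn
          apply hzne
          rw [← hg]
          apply MulEquiv.ext
          intro u
          show g * u * g⁻¹ = u
          rw [mul_comm g u, mul_inv_cancel_right]
        · rw [eq_bot_iff]
          intro u hu
          obtain ⟨v, rfl⟩ := (hW 0 u).1 hu
          rw [Nat.sub_zero, ha]
          exact Subgroup.mem_bot.2 rfl
        · intro u hu
          rw [hW]
          refine ⟨⟨u, hu⟩, ?_⟩
          rw [Nat.sub_self, pow_zero, pow_one]
        · intro j
          exact Subgroup.map_subtype_le _
        · intro j α _ u hu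
          obtain ⟨v, rfl⟩ := (hW j u).1 hu
          rw [hW]
          exact ⟨α v, by rw [autFun_coe, map_pow]⟩
        · intro j u hu
          obtain ⟨v, rfl⟩ := (hW _ u).1 hu
          rw [hW, autFun_coe]
          by_cases hj : j < a
          · obtain ⟨w, hw⟩ := hdt v
            refine ⟨w, ?_⟩
            have e1 : a - j = (a - (j + 1)) + 1 := by omega
            have hw' : w ^ p = v⁻¹ * (z : MulAut H) v := hw
            rw [e1, pow_succ', pow_mul, hw', mul_pow, inv_pow, map_pow]
            rfl
          · have e1 : a - j = 0 := by omega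
            have e2 : a - (j + 1) = 0 := by omega
            refine ⟨(v ^ p ^ (a - (j + 1)))⁻¹ * (z : MulAut H) (v ^ p ^ (a - (j + 1))), ?_⟩
            rw [e1, pow_zero, pow_one]
            rfl
      subst ha'
      refine ⟨⟨hab, fun u hu => ?_⟩, ?_⟩
      · have := ha ⟨u, hu⟩
        rw [pow_one] at this
        exact congrArg Subtype.val this
      · rw [Nat.card_congr e.toEquiv, AbH.card_zz, pow_one, pow_two]

end Cfsg.Agent.S5187
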