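import Cfsg.Statements.S5191
import Cfsg.Agent.H28.FusFactor2

set_option autoImplicit false
open Cfsg

namespace Cfsg.Agent.S5191

open Cfsg.FusionSystem Cfsg.Agent.H28

/-- Fusion in a finite group G and in its quotient by O_{p'}(G) agree. Let S be a Sylow p-subgroup of G, N = O_{p'}(G) and P ≤ S. If an element of G/N conjugates the image of P into the image of S, then some element g of G conjugates P into S and induces the same map on P modulo N. (Together with the injectivity of S → G/N this says that g ↦ gN induces an isomorphism of the fusion system of G on S with that of G/N on SN/N.) -/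
theorem result {G : Type*} [Group G] [Finite G] {p : ℕ} [Fact p.Prime]
    [hN : (Cfsg.pPrimeCore p G).Normal] (S : Sylow p G) (P : Subgroup G) (hP : P ≤ (S : Subgroup G))
    (γ : G ⧸ Cfsg.pPrimeCore p G)
    (hγ : ∀ x ∈ P, γ * QuotientGroup.mk x * γ⁻¹ ∈ ((S : Subgroup G).map (QuotientGroup.mk' (Cfsg.pPrimeCore p G)))) :
    ∃ g : G, ∀ x ∈ P, g * x * g⁻¹ ∈ S ∧
      (QuotientGroup.mk (g * x * g⁻¹) : G ⧸ Cfsg.pPrimeCore p G) = γ * QuotientGroup.mk x * γ⁻¹ := by
  obtain ⟨g, rfl⟩ := QuotientGroup.mk'_surjective (Cfsg.pPrimeCore p G) γ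
  have hBp : IsPGroup p (P.map (MulAut.conj g).toMonoidHom) := (S.2.to_le hP).map _
  obtain ⟨v, hv, h1⟩ := exists_conj_in_kernel (QuotientGroup.mk' (Cfsg.pPrimeCore p G)) S _ hBp (by
    rintro _ ⟨_, ⟨x, hx, rfl⟩, rfl⟩
    exact hγ x hx)
  rw [QuotientGroup.ker_mk'] at hv
  refine ⟨v * g, fun x hx => ?_⟩
  have h4 := h1 _ ⟨x, hx, rfl⟩
  have e : (v * g) * x * (v * g)⁻¹ = v * (g * x * g⁻¹) * v⁻¹ := by group
  refine ⟨by rw [e]; exact h4, ?_⟩
  have hv1 : (QuotientGroup.mk v : G ⧸ Cfsg.pPrimeCore p G) = 1 := by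
    rw [QuotientGroup.eq_one_iff]; exact hv
  rw [e]
  show (QuotientGroup.mk v : G ⧸ Cfsg.pPrimeCore p G) * (QuotientGroup.mk g * QuotientGroup.mk x * (QuotientGroup.mk g)⁻¹) * (QuotientGroup.mk v)⁻¹ = _
  rw [hv1, one_mul, inv_one, mul_one]
  rfl
end Cfsg.Agent.S5191
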