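import Cfsg.Statements.S5192
import Cfsg.Agent.H13.ThTrf
import Cfsg.Agent.H28.FusFocal

set_option autoImplicit false
set_option linter.all false
open Cfsg
open Cfsg.Agent.H28 Cfsg.FusionSystem

namespace Cfsg.Agent.S5192

open Cfsg.Agent

/-- A Thompson-type transfer for saturated fusion systems. Let F be a saturated fusion system on a finite 2-group S, T a subgroup of S of index 2, and i an involution of S such that every fully normalized F-conjugate of i lies in S but outside T. Then i does not lie in the hyperfocal subgroup of F (the Sylow group of the 2-residual subsystem). -/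
theorem result {Ω : Type*} [Group Ω] [Finite Ω] {S : Subgroup Ω}
    (hS : IsPGroup 2 ↥S) (F : Cfsg.FusionSystem S) (hF : F.IsSaturated 2)
    (T : Subgroup Ω) (hTS : T ≤ S) (hT : T.relIndex S = 2)
    (i : Ω) (hi : i ∈ S) (hi2 : orderOf i = 2)
    (h : ∀ j : Ω, F.IsConjElt i j → F.IsFullyNormalized (Subgroup.zpowers j) → j ∉ T) :
    i ∉ F.hyperfocalSubgroup 2 := by
  classical
  intro hihyp
  have hsc := hyp_stronglyClosed hS hF
  have hzle : Subgroup.zpowers i ≤ S := by rwa [Subgroup.zpowers_le]
  obtain ⟨Q, hQ, hQn⟩ := exists_fullyNormalized (F := F) hzle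
  obtain ⟨f, hf, hfQ⟩ := isConj_iff.1 hQ
  have hiz : i ∈ Subgroup.zpowers i := Subgroup.mem_zpowers i
  set j : Ω := f i with hj
  have hjS : j ∈ S := hf.mem hiz
  have hii : i * i = 1 := by
    have := pow_orderOf_eq_one i
    rwa [hi2, pow_two] at this
  have hine : i ≠ 1 := by
    intro h0
    rw [h0, orderOf_one] at hi2
    omega
  have hjj : j * j = 1 := by
    rw [hj, ← hf.mul hiz hiz, hii, hf.one]
  have hjhyp : j ∈ F.hyperfocalSubgroup 2 := sc_apply hsc hf hiz hihyp
  have hcij : F.IsConjElt i j := isConjElt_iff.2 ⟨f, hf, rfl⟩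
  have hQj : Q = Subgroup.zpowers j := by
    rw [← hfQ]
    apply le_antisymm
    · rw [img_le_iff]
      intro x hx
      obtain ⟨n, rfl⟩ := Subgroup.mem_zpowers_iff.1 hx
      rw [hf.zpow hiz]
      exact Subgroup.zpow_mem_zpowers _ _
    · rw [Subgroup.zpowers_le]
      exact mem_img_of_mem hiz
  rw [hQj] at hQn
  -- centralizers of involutions
  have hcent : ∀ t : S, t * t = 1 → Nat.card (normalizerIn S (Subgroup.zpowers (t : Ω))) =
      Nat.card (Subgroup.centralizer {t} : Subgroup S) := by
    intro t ht
    have htt : (t : Ω) * t = 1 := congrArg Subtype.val ht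
    have hz : ∀ y : Ω, y ∈ Subgroup.zpowers (t : Ω) ↔ y = 1 ∨ y = t := by
      intro y
      constructor
      · intro hy
        obtain ⟨n, rfl⟩ := Subgroup.mem_zpowers_iff.1 hy
        rcases Int.even_or_odd' n with ⟨k, rfl | rfl⟩
        · left; rw [zpow_mul, zpow_two, htt, one_zpow]
        · right; rw [zpow_add, zpow_mul, zpow_two, htt, one_zpow, one_mul, zpow_one]
      · rintro (rfl | rfl)
        · exact one_mem _
        · exact Subgroup.mem_zpowers _
    have heq : (normalizerIn S (Subgroup.zpowers (t : Ω))).subgroupOf S =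
        (Subgroup.centralizer {t} : Subgroup S) := by
      ext x
      rw [Subgroup.mem_subgroupOf, Subgroup.mem_centralizer_singleton_iff, mem_normalizerIn]
      constructor
      · rintro ⟨-, h2⟩
        have h3 := (h2 t).1 (Subgroup.mem_zpowers _)
        apply Subtype.ext
        show (x : Ω) * t = t * x
        rcases (hz _).1 h3 with h4 | h4
        · have h5 : (t : Ω) = 1 := by
            have : (t : Ω) = (x : Ω)⁻¹ * (x * t * (x : Ω)⁻¹) * x := by simp [mul_assoc]
            rw [this, h4]; simp
          rw [h5]; simp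
        · exact mul_inv_eq_iff_eq_mul.1 h4
      · intro h2
        have h3 : (x : Ω) * t = t * x := congrArg Subtype.val h2
        refine ⟨x.2, fun y => ?_⟩
        rw [hz, hz]
        constructor
        · rintro (rfl | rfl)
          · left; simp
          · right; rw [h3]; simp
        · rintro (h4 | h4)
          · left
            have : y = (x : Ω)⁻¹ * (x * y * (x : Ω)⁻¹) * x := by simp [mul_assoc]
            rw [this, h4]; simp
          · right
            have : y = (x : Ω)⁻¹ * (x * y * (x : Ω)⁻¹) * x := by simp [mul_assoc]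
            rw [this, h4, mul_assoc, ← h3]; simp
    rw [← heq]
    exact (Nat.card_congr (Subgroup.subgroupOfEquivOfLe normalizerIn_le).toEquiv).symm
  -- the biset
  obtain ⟨X, _, _, hX, n, hn, hpn⟩ := biset_exists hS hF
  have hfree : ∀ (t : S) (ω : X), ((1, t) : S × S) • ω = ω → t = 1 := fun t ω h => right_free hX.iso h
  have hcard : Nat.card (RI S X) = n := by
    have h1 := card_RI (S := S) (X := X) hfree
    rw [hn] at h1
    exact (Nat.eq_of_mul_eq_mul_left Nat.card_pos h1).symm
  -- the sign character with kernel T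
  have hidx : (T.subgroupOf S).index = 2 := hT
  let l : S →* ℤˣ :=
    { toFun := fun s => if s ∈ T.subgroupOf S then 1 else -1
      map_one' := by rw [if_pos (one_mem _)]
      map_mul' := by
        intro a b
        have h1 := Subgroup.mul_mem_iff_of_index_two hidx (a := a) (b := b)
        by_cases ha : a ∈ T.subgroupOf S <;> by_cases hb : b ∈ T.subgroupOf S <;>
          simp [h1, ha, hb] }
  have hl : ∀ s : S, (s : Ω) ∉ T → l s = -1 := by
    intro s hs
    show (if s ∈ T.subgroupOf S then (1 : ℤˣ) else -1) = -1
    rw [if_neg]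
    exact hs
  have hA : ∀ a : ℤˣ, a ^ 2 = 1 := fun a => Int.units_sq a
  have h1 := H13.thompson_trf hS hX.iso hfree (by rwa [hcard]) hA l (-1) ⟨j, hjS⟩
    (Subtype.ext hjj) (by
      intro t ht hle
      apply hl
      have htt : (t : Ω) * t = 1 := by
        obtain ⟨g, hg, hgt⟩ := isConjElt_iff.1 ht
        have hjz : j ∈ Subgroup.zpowers j := Subgroup.mem_zpowers j
        have hgt' : g j = t := hgt
        rw [← hgt', ← hg.mul hjz hjz, hjj, hg.one]
      have hit : F.IsConjElt i t := by
        obtain ⟨g, hg, hgt⟩ := isConjElt_iff.1 ht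
        refine isConjElt_iff.2 ⟨_, hf.comp hg (fun x hx => ?_), hgt⟩
        have : f x ∈ img (Subgroup.zpowers i) f := mem_img_of_mem hx
        rw [hfQ, hQj] at this
        exact this
      refine h t hit ?_
      rw [fullyNormalized_iff] at hQn ⊢
      refine ⟨by rw [Subgroup.zpowers_le]; exact t.2, fun k hk => ?_⟩
      rw [hcent t (Subtype.ext htt)]
      refine le_trans ?_ hle
      rw [← hcent ⟨j, hjS⟩ (Subtype.ext hjj)]
      obtain ⟨g, hg, hgt⟩ := isConjElt_iff.1 ht
      have hjz : j ∈ Subgroup.zpowers j := Subgroup.mem_zpowers j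
      have hgt' : g j = t := hgt
      have himg : img (Subgroup.zpowers j) g = Subgroup.zpowers (t : Ω) := by
        apply le_antisymm
        · rw [img_le_iff]
          intro x hx
          obtain ⟨n, rfl⟩ := Subgroup.mem_zpowers_iff.1 hx
          rw [hg.zpow hjz, hgt']
          exact Subgroup.zpow_mem_zpowers _ _
        · rw [Subgroup.zpowers_le, ← hgt']
          exact mem_img_of_mem hjz
      have hcomp : Mor F (Subgroup.zpowers j) (fun x => k (g x)) := hg.comp hk (fun x hx => by
        have : g x ∈ img (Subgroup.zpowers j) g := mem_img_of_mem hx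
        rwa [himg] at this)
      have h2 := hQn.2 _ hcomp
      have e : img (Subgroup.zpowers j) (fun x => k (g x)) = img (Subgroup.zpowers (t : Ω)) k := by
        rw [← hg.img_comp, himg]
      rwa [e] at h2)
  have h2 : trf hfree l (⟨j, hjS⟩ : S) = 1 := by
    refine stable_kills (F := F) ?_ (hyp_le_foc hjhyp)
    intro P f hf x hx
    obtain ⟨g, hg⟩ := leftHom_conj hX hf
    unfold trf
    rw [MonoidHom.comp_apply, MonoidHom.comp_apply, hg x hx, map_mul, map_mul, map_inv,
      mul_comm (trfHat hfree l g), mul_inv_cancel_right]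
  rw [h1] at h2
  exact absurd h2 (by decide)

end Cfsg.Agent.S5192
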