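import Cfsg.Statements.S5253
import Cfsg.Agent.H28.GCtl3

set_option autoImplicit false
universe u
open Cfsg

namespace Cfsg.Agent.S5253

open Cfsg.FusionSystem Cfsg.Agent.H28

/-- Let p be a prime and W a positive characteristic p-functor with Z(Q) ≤ W(Q): W assigns to every finite p-group Q (in a fixed universe) a subgroup W(Q), nontrivial when Q is, carried to W(R) by every isomorphism Q ≅ R, and containing the centre of Q. Suppose that for every finite group G with Sylow p-subgroup P in which W(P) is not normal there is g ∈ P outside O_p(G) with [Z(O_p(G)), g, g] = 1. Then for every saturated fusion system F over a finite p-group S and every normalizer fusion system N of W(S) in F, every p-th power of an element of Z(S) that lies in the centre of N lies in the centre of F. -/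
theorem result {p : ℕ} [Fact p.Prime] (W : ∀ (Q : Type u) [Group Q], Subgroup Q) (hW1 : ∀ (Q : Type u) [Group Q] [Finite Q], IsPGroup p Q → Nontrivial Q → W Q ≠ ⊥) (hW2 : ∀ (Q R : Type u) [Group Q] [Group R] [Finite Q], IsPGroup p Q → ∀ φ : Q ≃* R, (W Q).map φ.toMonoidHom = W R) (hWZ : ∀ (Q : Type u) [Group Q] [Finite Q], IsPGroup p Q → Subgroup.center Q ≤ W Q) (hq : ∀ (G : Type u) [Group G] [Finite G] (P : Sylow p G), ¬ (((W ↥(P : Subgroup G)).map (P : Subgroup G).subtype : Subgroup G)).Normal → ∃ g : G, g ∈ (P : Subgroup G) ∧ g ∉ Cfsg.pCore p G ∧ ⁅⁅Subgroup.center ↥(Cfsg.pCore p G) |>.map (Cfsg.pCore p G).subtype, Subgroup.zpowers g⁆, Subgroup.zpowers g⁆ = ⊥) {Ω : Type u} [Group Ω] {S : Subgroup Ω} [Finite S] (hS : IsPGroup p S) (F : Cfsg.FusionSystem S) (hF : F.IsSaturated p) (N : Cfsg.FusionSystem (Cfsg.FusionSystem.normalizerIn S ((W ↥S).map S.subtype))) (hN : F.IsNormalizerSystem ((W ↥S).map S.subtype) N) : Subgroup.closure ((fun z => z ^ p) '' ((S ⊓ Subgroup.centralizer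 (S : Set Ω) : Subgroup Ω) : Set Ω)) ⊓ N.center ≤ F.center := by
  have hV : (W ↥S).map S.subtype ≤ S := by rintro _ ⟨x, -, rfl⟩; exact x.2
  have hWF : WF p W Ω S = (W ↥S).map S.subtype := WF_eq hS
  have hch : (((W ↥S).map S.subtype).subgroupOf S).Characteristic := by
    rw [← hWF]; exact WF_char hW2 S
  have hn : S ≤ Subgroup.normalizer (((W ↥S).map S.subtype : Subgroup Ω) : Set Ω) :=
    char_le_normalizerIn hV hch
  have hT' := normalizerIn_eq hn
  haveI : Finite (normalizerIn S ((W ↥S).map S.subtype)) := finite_of_le normalizerIn_le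
  rintro z ⟨hz1, hz⟩
  obtain ⟨y, hyS, hyc, rfl⟩ : ∃ y ∈ S, (∀ s ∈ S, s * y = y * s) ∧ z = y ^ p := by
    refine Subgroup.closure_induction (p := fun z _ => ∃ y ∈ S, (∀ s ∈ S, s * y = y * s) ∧ z = y ^ p)
      ?_ ?_ ?_ ?_ hz1
    · rintro _ ⟨y, ⟨hy, hyc⟩, rfl⟩
      exact ⟨y, hy, fun s hs => (Subgroup.mem_centralizer_iff.1 hyc s hs), rfl⟩
    · exact ⟨1, S.one_mem, fun s _ => by simp, by simp⟩
    · rintro _ _ - - ⟨a, ha, hac, rfl⟩ ⟨b, hb, hbc, rfl⟩
      refine ⟨a * b, mul_mem ha hb, fun s hs => ?_, ?_⟩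
      · rw [← mul_assoc, hac s hs, mul_assoc, hbc s hs, mul_assoc]
      · have : Commute a b := hbc a ha
        exact (this.mul_pow p).symm
    · rintro _ - ⟨a, ha, hac, rfl⟩
      refine ⟨a⁻¹, S.inv_mem ha, fun s hs => ?_, by rw [inv_pow]⟩
      exact (Commute.inv_right (hac s hs : Commute s a)).eq
  have hzS : y ^ p ∈ S := pow_mem hyS _
  have hzc : ∀ s ∈ S, s * y ^ p = y ^ p * s := fun s hs => Commute.pow_right (hyc s hs : Commute s y) _
  have hzV : y ^ p ∈ (W ↥S).map S.subtype := by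
    rw [← hWF]; exact ctr_functor hWZ Ω S hS _ hzS hzc
  refine mem_center_of_rsat hS hF hzS hzc ?_
  have h1 := rel_machine (relCls_pth W hW1 hW2 hWZ fun G _ _ P _ h => hq G P h)
    hS hF (ρ := relZ (y ^ p)) ⟨y, hyS, hyc, by rw [pow_one]⟩ ?_
  · exact h1
  · rintro X f ⟨hf, g, hg, h1, h2⟩ x hx
    rw [hWF] at hg h2
    have hgN : Mor N (X ⊔ (W ↥S).map S.subtype) g := by
      rw [eq_normSys hV hN, mor_normSys]
      exact ⟨by rw [hT']; exact hg.le, fun x hx => by rw [hT']; exact hg.mem hx, g, by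
        rw [sup_eq_left.2 le_sup_right]; exact hg, fun _ _ => rfl, h2⟩
    have h3 := rsat_of_mem_center hz _ g hgN x (le_sup_left (b := (W ↥S).map S.subtype) hx)
    rwa [h1 x hx] at h3
end Cfsg.Agent.S5253
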