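import Cfsg.Statements.S5193
import Cfsg.Agent.S5253
import Cfsg.Agent.H28.GlauF
import Cfsg.Agent.H13.V4Cfg5

set_option autoImplicit false
set_option linter.all false
open Cfsg
open Cfsg.Agent.H28 Cfsg.Agent.H13 Cfsg.FusionSystem Cfsg.Agent

namespace Cfsg.Agent.S5193

open Cfsg.Agent

/-- Glauberman's Theorem for fusion systems. Let F be a saturated fusion system over a finite p-group S, let J(S) be the subgroup generated by the abelian subgroups of S of largest order, and let N be the normalizer fusion system of J(S) in F (a fusion system over N_S(J(S)) = S). Then every p-th power of an element of Z(S) that lies in the centre of N lies in the centre of F; and if p is odd, or if the symmetric group of degree 4 is not involved in any model of the normalizer system of a fully normalized F-centric subgroup (F is S₄-free), then the centre of N equals the centre of F. -/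
theorem result {Ω : Type*} [Group Ω] {S : Subgroup Ω} [Finite S] (p : ℕ) [Fact p.Prime] (hS : IsPGroup p S) (F : Cfsg.FusionSystem S) (hF : F.IsSaturated p) (N : Cfsg.FusionSystem (Cfsg.FusionSystem.normalizerIn S (Cfsg.thompsonSubgroupAOf S))) (hN : F.IsNormalizerSystem (Cfsg.thompsonSubgroupAOf S) N) : Subgroup.closure ((fun z : Ω => z ^ p) '' ((S ⊓ Subgroup.centralizer (S : Set Ω) : Subgroup Ω) : Set Ω)) ⊓ N.center ≤ F.center ∧ (p ≠ 2 ∨ F.IsSectionFree p (Equiv.Perm (Fin 4)) → N.center = F.center) := by
  have hV : (thompsonSubgroupA ↥S).map S.subtype ≤ S := by rintro _ ⟨x, -, rfl⟩; exact x.2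
  have hVe : thompsonSubgroupAOf S = (thompsonSubgroupA ↥S).map S.subtype := rfl
  have hWF : WF p (fun (Q : Type _) [Group Q] => thompsonSubgroupA Q) Ω S = thompsonSubgroupAOf S := WF_JA hS
  have hW1 : ∀ (Q : Type _) [Group Q] [Finite Q], IsPGroup p Q → Nontrivial Q →
      thompsonSubgroupA Q ≠ ⊥ := fun Q _ _ _ h => thompsonSubgroupA_ne_bot Q h
  have hW2 : ∀ (Q R : Type _) [Group Q] [Group R] [Finite Q], IsPGroup p Q → ∀ φ : Q ≃* R,
      (thompsonSubgroupA Q).map φ.toMonoidHom = thompsonSubgroupA R :=
    fun Q R _ _ _ _ e => thompsonSubgroupA_map e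
  have hWZ : ∀ (Q : Type _) [Group Q] [Finite Q], IsPGroup p Q →
      Subgroup.center Q ≤ thompsonSubgroupA Q := fun Q _ _ _ => center_le_thompsonSubgroupA Q
  refine ⟨?_, ?_⟩
  · exact S5253.result (p := p) (fun (Q : Type _) [Group Q] => thompsonSubgroupA Q) hW1 hW2 hWZ
      (fun G _ _ P h => by
        obtain ⟨g, h1, h2, h3⟩ := J_quad P h
        exact ⟨g, h1, h2, h3⟩) hS F hF N hN
  have hn : S ≤ Subgroup.normalizer ((thompsonSubgroupAOf S : Subgroup Ω) : Set Ω) := by
    refine char_le_normalizerIn (JA_le S) ?_
    rw [← hWF]; exact WF_char hW2 S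
  have hT' := normalizerIn_eq hn
  haveI : Finite (normalizerIn S (thompsonSubgroupAOf S)) := finite_of_le normalizerIn_le
  intro hp
  apply le_antisymm
  · intro z hz
    have hTp : IsPGroup p (normalizerIn S (thompsonSubgroupAOf S)) := isPGroup_of_le hS normalizerIn_le
    have hzS : z ∈ S := normalizerIn_le (center_le' hz)
    have hzc : ∀ s ∈ S, s * z = z * s := fun s hs => central_comm hz s (by rw [hT']; exact hs)
    have hNS : NSat F (thompsonSubgroupAOf S) (relZ z) := by
      rintro X f ⟨hf, g, hg, h1, h2⟩ x hx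
      have hgN : Mor N (X ⊔ thompsonSubgroupAOf S) g := by
        rw [eq_normSys (JA_le S) hN, mor_normSys]
        exact ⟨by rw [hT']; exact hg.le, fun x hx => by rw [hT']; exact hg.mem hx, g, by
          rw [sup_eq_left.2 (show (thompsonSubgroupAOf S) ≤ _ from le_sup_right)]; exact hg, fun _ _ => rfl, h2⟩
      have h3 := rsat_of_mem_center hz _ g hgN x (le_sup_left (b := thompsonSubgroupAOf S) hx)
      rwa [h1 x hx] at h3
    refine mem_center_of_rsat hS hF hzS hzc ?_
    by_cases hp2 : p = 2
    · subst hp2
      have hfree := hp.resolve_left (fun h => h rfl)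
      exact rsat_of_nb4 hS hF (nb4_of_free hS hF hfree) hzS hzc (by
        show NSat F (WF 2 (fun (Q : Type _) [Group Q] => thompsonSubgroupA Q) Ω S) (relZ z)
        rw [hWF]; exact hNS)
    · exact rel_machine (relCls_J hp2) hS hF (ρ := relZ z) ⟨z, hzS, hzc, by rw [pow_zero, pow_one]⟩
        (by rw [hWF]; exact hNS)
  · intro z hz
    have hNs : N.IsSaturated p := by
      have h1 := fullyNormalized_of_normal (F := F) (JA_le S) hn
      rw [eq_normSys (JA_le S) hN]
      exact normSys_saturated hS hF h1
    refine mem_center_of_rsat (isPGroup_of_le hS normalizerIn_le) hNs (by rw [hT']; exact center_le' hz)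
      (fun s hs => central_comm hz s (normalizerIn_le hs)) fun P f hf => ?_
    refine rsat_of_mem_center hz P f ?_
    rw [eq_normSys (JA_le S) hN] at hf
    exact mor_norm_sub hf

end Cfsg.Agent.S5193
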