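import Cfsg.Statements.S5212
import Cfsg.Agent.H28.Metac7

set_option autoImplicit false
open Cfsg

namespace Cfsg.Agent.S5212

open Cfsg.FusionSystem Cfsg.Agent.H28

/-- Let S be a finite metacyclic 2-group that is not homocyclic abelian (a direct product of cyclic groups of one common order), not dihedral, not semidihedral and not generalized quaternion. Then every saturated fusion system over S is the inner fusion system of S. -/
theorem result {Ω : Type*} [Group Ω] {S : Subgroup Ω} [Finite S] (hS : IsPGroup 2 S) (F : Cfsg.FusionSystem S) (hF : F.IsSaturated 2) (hm : Cfsg.IsMetacyclic ↥S) (hh : ¬ ∃ n k : ℕ, Nonempty (↥S ≃* Multiplicative (Fin k → ZMod (2 ^ n)))) (hd : ¬ ∃ m : ℕ, Nonempty (↥S ≃* DihedralGroup m)) (hq : ¬ ∃ m : ℕ, Nonempty (↥S ≃* QuaternionGroup m)) (hsd : ¬ Cfsg.IsQuasiDihedral ↥S) : ∀ P : Subgroup Ω, F.Hom P = (Cfsg.innerFusionSystem S).Hom P := by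
  haveI : Fact (Nat.Prime 2) := ⟨Nat.prime_two⟩
  have hsc : F.StronglyClosed S := stronglyClosed_iff.2 ⟨le_rfl, fun R f _ hf x hx => hf.mem hx⟩
  have hn : F.IsNormal S := by
    refine metac_normal2 hS hF hsc hm fun h8 => ?_
    rcases metac_named hS hm h8 with h | h | h
    · exact hd h
    · exact hq h
    · exact hsd h
  have hA : IsPGroup 2 (MulAut S) := by
    by_contra hA
    rcases Cfsg.Agent.S1896.result hS hm hA with h | ⟨n, ⟨f⟩⟩
    · exact hq ⟨2, h⟩
    · exact hh ⟨n, 2, ⟨f.trans (finTwoEquiv _)⟩⟩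
  exact fun P => inner_of_top_normal hn (inn_of_autGroup hS hF hA).le P
end Cfsg.Agent.S5212
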