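import Cfsg.Statements.S5265
import Cfsg.Agent.H28.CIdx7

set_option autoImplicit false
open Cfsg

namespace Cfsg.Agent.S5265

open Cfsg.FusionSystem Cfsg.Agent.H28

theorem card_center_eq {Ω : Type*} [Group Ω] (S : Subgroup Ω) :
    Nat.card (Subgroup.center ↥S) = Nat.card (centralizerIn S S) := by
  have h : (Subgroup.center ↥S).map S.subtype = centralizerIn S S := by
    ext x
    rw [mem_centralizerIn]
    constructor
    · rintro ⟨z, hz, rfl⟩
      exact ⟨z.2, fun y hy => (congrArg Subtype.val (Subgroup.mem_center_iff.1 hz ⟨y, hy⟩)).symm⟩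
    · rintro ⟨hx, h⟩
      refine ⟨⟨x, hx⟩, Subgroup.mem_center_iff.2 fun y => Subtype.ext (h y y.2).symm, rfl⟩
  rw [← h]
  exact Nat.card_congr ((Subgroup.center ↥S).equivMapOfInjective _ (Subgroup.subtype_injective S)).toEquiv

theorem aux {Ω : Type*} [Group Ω] {S : Subgroup Ω} [Finite S] (p : ℕ) [Fact p.Prime] (hS : IsPGroup p ↥S)
    (F : Cfsg.FusionSystem S) (hF : F.IsSaturated p) (hS1 : S ≠ ⊥) (hcore : F.core = ⊥)
    (hZ : Nat.card S ≤ p ^ 2 * Nat.card (centralizerIn S S)) : ¬ IsMulCommutative S := by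
  intro hab
  obtain ⟨E, hE, hne⟩ := exists_ess hS hF hS1 hcore
  apply hne
  apply le_antisymm hE.1.1
  refine le_trans (fun s hs => mem_centralizerIn.2 ⟨hs, fun y hy => ?_⟩) (centric_centralizer hE.1)
  exact congrArg Subtype.val (hab.is_comm.comm (⟨s, hs⟩ : S) ⟨y, hE.1.1 hy⟩)

/-- Let p be a prime, S a nontrivial finite p-group whose centre has index at most p², and F a saturated fusion system over S with no nontrivial normal subgroup and with hyperfocal subgroup equal to S. Then S is extraspecial of order p³; for odd p it has exponent p, and for p = 2 it is dihedral of order 8. -/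
theorem result {Ω : Type*} [Group Ω] {S : Subgroup Ω} [Finite S] (p : ℕ) [Fact p.Prime] (hS : IsPGroup p ↥S) (F : Cfsg.FusionSystem S) (hF : F.IsSaturated p) (hS1 : S ≠ ⊥) (hcore : F.core = ⊥) (hhyp : F.hyperfocalSubgroup p = S) (hZ : (Subgroup.center ↥S).index ≤ p ^ 2) : Cfsg.IsExtraspecial p ↥S ∧ Nat.card S = p ^ 3 ∧ (p ≠ 2 → Monoid.exponent ↥S = p) ∧ (p = 2 → Nonempty (↥S ≃* DihedralGroup 4)) := by
  have hZ' : Nat.card S ≤ p ^ 2 * Nat.card (centralizerIn S S) := by
    rw [← card_center_eq, ← (Subgroup.center ↥S).card_mul_index, mul_comm]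
    exact Nat.mul_le_mul_right _ hZ
  have hnc := aux p hS F hF hS1 hcore hZ'
  by_cases hp2 : p = 2
  · subst hp2
    obtain ⟨e⟩ := ci_two hS hF hZ' hS1 hcore hhyp
    have hcard : Nat.card S = 2 ^ 3 := by
      rw [Nat.card_congr e.toEquiv, DihedralGroup.nat_card]; norm_num
    exact ⟨Cfsg.Agent.H19.extraspecial_of_card_cube hcard hnc, hcard, fun h => absurd rfl h, fun _ => ⟨e⟩⟩
  · obtain ⟨hcard, hexp⟩ := ci_odd hS hF hZ' hp2 hS1 hcore
    refine ⟨Cfsg.Agent.H19.extraspecial_of_card_cube hcard hnc, hcard, fun _ => ?_, fun h => absurd h hp2⟩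
    have hdvd : Monoid.exponent ↥S ∣ p := Monoid.exponent_dvd_of_forall_pow_eq_one fun x =>
      Subtype.ext (hexp x x.2)
    rcases (Nat.dvd_prime Fact.out).1 hdvd with h | h
    · exfalso
      rw [Monoid.exp_eq_one_iff] at h
      apply hS1
      rw [eq_bot_iff]
      intro x hx
      exact Subgroup.mem_bot.2 (congrArg Subtype.val (Subsingleton.elim (⟨x, hx⟩ : S) 1))
    · exact h
end Cfsg.Agent.S5265
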