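import Cfsg.Statements.S5270
import Cfsg.Agent.H28.Tvec
import Cfsg.Agent.H28.FusInner
import Cfsg.Agent.H28.MaxCl

set_option autoImplicit false
open Cfsg

namespace Cfsg.Agent.S5270

open Cfsg.FusionSystem Cfsg.Agent.H28

section
variable {Ω : Type*} [Group Ω] {S : Subgroup Ω} {F : FusionSystem S} {p : ℕ} {f : Ω → Ω}

theorem fn_of_normal [Finite S] {P : Subgroup Ω} (hP : P ≤ S) (hn : S ≤ Subgroup.normalizer (P : Set Ω)) :
    F.IsFullyNormalized P := by
  rw [fullyNormalized_iff]
  haveI : Finite (normalizerIn S P) := finite_of_le normalizerIn_le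
  exact ⟨hP, fun f hf => card_le_of_le fun x hx => ⟨hx.1, hn hx.1⟩⟩

theorem main [hp : Fact p.Prime] [Finite S] (hS : IsPGroup p S) (hF : F.IsSaturated p)
    (Z U : Subgroup Ω) (hZcard : Nat.card Z = p) (hUcard : Nat.card U = p ^ 2) (hZU : Z ≤ U)
    (hUS : U ≤ S) (hZc : ∀ z ∈ Z, ∀ s ∈ S, s * z = z * s)
    (hZ' : ∀ x ∈ S, (∀ s ∈ S, s * x = x * s) → x ∈ Z)
    (hc : ∀ s ∈ S, ∀ u ∈ U, s * u * s⁻¹ * u⁻¹ ∈ Z) (hf : Mor F U f) (himg : img U f = U) {z₀ : Ω}
    (hz₀ : z₀ ∈ Z) (hfz : f z₀ ∉ Z) : F.IsEssential p (centralizerIn S U) := by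
  haveI : Finite U := finite_of_le hUS
  haveI : Finite Z := finite_of_le hZU
  have hUab : ∀ u ∈ U, ∀ v ∈ U, u * v = v * u := by
    intro u hu v hv
    have h1 := H23.isMulCommutative_of_card_le_sq (isPGroup_of_le hS hUS) (by rw [hUcard])
    exact congrArg Subtype.val (h1.is_comm.comm (⟨u, hu⟩ : U) ⟨v, hv⟩)
  set C := centralizerIn S U with hC
  have hCS : C ≤ S := centralizerIn_le
  have hUC : U ≤ C := fun u hu => mem_centralizerIn.2 ⟨hUS hu, fun v hv => hUab u hu v hv⟩
  haveI : Finite C := finite_of_le hCS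
  have hUn : S ≤ Subgroup.normalizer (U : Set Ω) := by
    intro s hs
    refine mem_normalizer_of_finite fun u hu => ?_
    have h1 := mul_mem (hZU (hc s hs u hu)) hu
    rwa [inv_mul_cancel_right] at h1
  have hCn : S ≤ Subgroup.normalizer (C : Set Ω) := by
    intro s hs
    refine mem_normalizer_of_finite fun c hcC => ?_
    obtain ⟨hcS, hcU⟩ := mem_centralizerIn.1 hcC
    refine mem_centralizerIn.2 ⟨mul_mem (mul_mem hs hcS) (inv_mem hs), fun u hu => ?_⟩
    have h1 : s⁻¹ * u * s⁻¹⁻¹ ∈ U := (Subgroup.mem_normalizer_iff.1 (hUn (inv_mem hs)) u).1 hu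
    rw [inv_inv] at h1
    have h2 := hcU _ h1
    calc s * c * s⁻¹ * u = s * (c * (s⁻¹ * u * s)) * s⁻¹ := by group
      _ = s * ((s⁻¹ * u * s) * c) * s⁻¹ := by rw [h2]
      _ = u * (s * c * s⁻¹) := by group
  have hUfn : F.IsFullyNormalized U := fn_of_normal hUS hUn
  have hCfn : F.IsFullyNormalized C := fn_of_normal hCS hCn
  -- extend `f` to `C`
  have hrec : F.IsReceptive (img U f) := by rw [himg]; exact FN.rec hS hF hUfn
  obtain ⟨g, hg, hgf⟩ := receptive_extend hrec hf
  have hgC := hg.mono hf.centralizer_le_Nf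
  have himC : img C g = C := by
    apply eq_of_le_of_card
    · rw [img_le_iff]
      intro c hcC
      obtain ⟨hcS, hcU⟩ := mem_centralizerIn.1 hcC
      refine mem_centralizerIn.2 ⟨hgC.mem hcC, fun u hu => ?_⟩
      rw [← himg] at hu
      obtain ⟨v, hv, rfl⟩ := hf.mem_img.1 hu
      rw [← hgf v hv, ← hgC.mul hcC (hUC hv), hcU v hv, hgC.mul (hUC hv) hcC]
    · rw [hgC.card_img]
  obtain ⟨β, hβ, hβg⟩ := hgC.exists_aut himC
  have hβz : autFun β z₀ ∉ Z := by
    rw [hβg _ (hUC (hZU hz₀)), hgf _ (hZU hz₀)]; exact hfz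
  have hfzU : f z₀ ∈ U := by rw [← himg]; exact mem_img_of_mem (hZU hz₀)
  -- `C < S`
  have hne : C ≠ S := by
    intro h
    apply hfz
    refine hZ' _ (hUS hfzU) fun s hs => ?_
    rw [← h] at hs
    exact (mem_centralizerIn.1 hs).2 _ hfzU
  have hlt : C < S := lt_of_le_of_ne hCS hne
  -- the index is `p`
  have hcard : Nat.card S ≤ p * Nat.card C := by
    set u := f z₀ with hu
    have h1 := card_le_comm (A := S) (Z := Z) (y := u) (fun s hs => hc s hs u hfzU)
      (fun s hs z hz => hZc z hz s hs) (fun a ha b hb => hZc b hb a (hUS (hZU ha)))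
    rw [hZcard] at h1
    refine h1.trans (Nat.mul_le_mul_left _ (card_le_of_le ?_))
    rintro s ⟨hs, hsu'⟩
    have hsu : s * u = u * s := Subgroup.mem_centralizer_singleton_iff.1 hsu'
    set V : Subgroup Ω := U ⊓ Subgroup.centralizer ({s} : Set Ω) with hV
    haveI : Finite V := finite_of_le inf_le_left
    have hZV : Z ≤ V := fun z hz => ⟨hZU hz, Subgroup.mem_centralizer_singleton_iff.2 (hZc z hz s hs).symm⟩
    have huV : u ∈ V := ⟨hfzU, Subgroup.mem_centralizer_singleton_iff.2 hsu.symm⟩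
    have hZV' : Z < V := lt_of_le_of_ne hZV fun h => hfz (by rw [h]; exact huV)
    have h2 := card_lt_of_lt' hZV'
    have h3 := Subgroup.card_dvd_of_le (inf_le_left : V ≤ U)
    rw [hUcard] at h3
    rw [hZcard] at h2
    obtain ⟨k, hk, hk'⟩ := (Nat.dvd_prime_pow hp.out).1 h3
    have hk2 : 2 ≤ k := by
      by_contra h
      rw [hk'] at h2
      have h4 : p ^ k ≤ p ^ 1 := Nat.pow_le_pow_right hp.out.pos (by omega)
      rw [pow_one] at h4
      omega
    have h5 : V = U := eq_of_le_of_card inf_le_left (by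
      rw [hUcard, hk']; exact Nat.pow_le_pow_right hp.out.pos hk2)
    refine mem_centralizerIn.2 ⟨hs, fun v hv => ?_⟩
    rw [← h5] at hv
    exact (Subgroup.mem_centralizer_singleton_iff.1 hv.2).symm
  rcases dichotomy hS hF hlt hCfn with ⟨-, hcl⟩ | ⟨h, -⟩
  · exfalso
    -- all maps preserve `Z`
    have key : ∀ α ∈ Subgroup.closure {α : MulAut C | Extends F C α}, ∀ z ∈ Z, autFun α z ∈ Z := by
      have hext : ∀ α : MulAut C, Extends F C α → ∀ z ∈ Z, autFun α z ∈ Z := by
        rintro α ⟨Q, k, hCQ, hk, h1⟩ z hz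
        have hQS := hk.le
        have hQeq : Q = S := by
          apply eq_of_le_of_card hQS
          haveI : Finite Q := finite_of_le hQS
          obtain ⟨a, ha⟩ := IsPGroup.iff_card.1 (isPGroup_of_le hS hCS)
          obtain ⟨b, hb⟩ := IsPGroup.iff_card.1 (isPGroup_of_le hS hQS)
          have h2 := card_lt_of_lt' hCQ
          rw [ha, hb] at h2
          have h3 := (Nat.pow_lt_pow_iff_right hp.out.one_lt).1 h2
          refine hcard.trans ?_
          rw [ha, hb, ← pow_succ']
          exact Nat.pow_le_pow_right hp.out.pos h3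
        subst hQeq
        have hkS : img Q k = Q := isConj_top hk.isConj
        rw [← h1 z (hUC (hZU hz))]
        refine hZ' _ (hk.mem (hUS (hZU hz))) fun s hs => ?_
        rw [← hkS] at hs
        obtain ⟨t, ht, rfl⟩ := hk.mem_img.1 hs
        rw [← hk.mul ht (hUS (hZU hz)), hZc z hz t ht, hk.mul (hUS (hZU hz)) ht]
      intro α hα
      induction hα using Subgroup.closure_induction with
      | mem α hα => exact hext α hα
      | one => intro z hz; rw [autFun_one (hUC (hZU hz))]; exact hz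
      | mul a b _ _ iha ihb =>
        intro z hz
        rw [autFun_mul _ _ (hUC (hZU hz))]
        exact iha _ (ihb z hz)
      | inv a ha iha =>
        intro z hz
        -- `a` permutes the finite set `Z`
        have ham : Mor F C (autFun a) := mor_autFun hCS (by rw [← hcl]; exact ha)
        have h2 : img Z (autFun a) = Z := by
          have h3 := ham.mono (hZU.trans hUC)
          apply eq_of_le_of_card (img_le_iff.2 iha)
          rw [h3.card_img]
        rw [← h2] at hz
        obtain ⟨w, hw, rfl⟩ := (ham.mono (hZU.trans hUC)).mem_img.1 hz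
        rw [autFun_inv_apply _ (hUC (hZU hw))]
        exact hw
    exact hβz (key β (by rw [hcl]; exact hβ) z₀ hz₀)
  · exact h

end

/-- Let p ≥ 5 be a prime, S a finite p-group of maximal class of order p^n with n ≥ 4, and F a saturated fusion system over S. If some map of F defined on the second centre Z₂(S) with image Z₂(S) does not carry Z(S) into itself, then the centralizer C_S(Z₂(S)) is an F-essential subgroup. -/
theorem result {Ω : Type*} [Group Ω] {S : Subgroup Ω} [Finite S] (p : ℕ) [Fact p.Prime] (hS : IsPGroup p ↥S) (n : ℕ) (hn : Nat.card S = p ^ n) (h4 : 4 ≤ n) (hmax : Subgroup.lowerCentralSeries S (n - 2) ≠ ⊥) (F : Cfsg.FusionSystem S) (hF : F.IsSaturated p) (hp : 5 ≤ p) (φ : ↥((Subgroup.upperCentralSeries ↥S 2).map S.subtype) →* Ω) (hφ : φ ∈ F.Hom ((Subgroup.upperCentralSeries ↥S 2).map S.subtype)) (hφZ : φ.range = ((Subgroup.upperCentralSeries ↥S 2).map S.subtype)) (hmove : ∃ (z : Ω) (hz : z ∈ ((Subgroup.upperCentralSeries ↥S 2).map S.subtype)), z ∈ ((Subgroup.center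 ↥S).map S.subtype) ∧ φ ⟨z, hz⟩ ∉ ((Subgroup.center ↥S).map S.subtype)) : F.IsEssential p (S ⊓ Subgroup.centralizer (((Subgroup.upperCentralSeries ↥S 2).map S.subtype) : Set Ω)) := by
  obtain ⟨z₀, hz₀U, hz₀, hmv⟩ := hmove
  have hlcs : (⊤ : Subgroup ↥S).lowerCentralSeries (n - 2) ≠ ⊥ := by
    intro h
    apply hmax
    rw [← Subgroup.top_subtype_lowerCentralSeries, h, Subgroup.map_bot]
  have h1 := center_maxclass (by omega) hn hlcs
  have h2 := second_center_card h4 hn hlcs
  have hf := mor_toFun hφ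
  refine main hS hF ((Subgroup.center ↥S).map S.subtype) ((Subgroup.upperCentralSeries ↥S 2).map S.subtype) ?_ ?_ ?_ ?_ ?_ ?_ ?_ hf ?_ hz₀ ?_
  · rw [Subgroup.card_map_of_injective S.subtype_injective]; exact h1.1
  · rw [Subgroup.card_map_of_injective S.subtype_injective]; exact h2
  · apply Subgroup.map_mono
    rw [← Subgroup.upperCentralSeries_one]
    exact Subgroup.upperCentralSeries_mono _ (by norm_num)
  · exact Subgroup.map_subtype_le _
  · rintro _ ⟨z, hz, rfl⟩ s hs
    exact congrArg Subtype.val (Subgroup.mem_center_iff.1 hz ⟨s, hs⟩)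
  · intro x hx h
    exact ⟨⟨x, hx⟩, Subgroup.mem_center_iff.2 fun s => Subtype.ext (h s s.2), rfl⟩
  · rintro s hs _ ⟨u, hu, rfl⟩
    have h3 := Subgroup.mem_upperCentralSeries_succ_iff.1 hu ⟨s, hs⟩
    rw [Subgroup.upperCentralSeries_one] at h3
    refine ⟨_, inv_mem h3, ?_⟩
    simp [commutatorElement_def, mul_assoc]
  · rw [← range_eq_img (φ := φ) fun x => (toFun_coe φ x).symm]; exact hφZ
  · rw [toFun_apply φ hz₀U]; exact hmv
end Cfsg.Agent.S5270
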