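import Cfsg.Statements.S5271
import Cfsg.Agent.H28.WEmb2

set_option autoImplicit false
open Cfsg

namespace Cfsg.Agent.S5271

open Cfsg.FusionSystem Cfsg.Agent.H28

theorem index_p_normal {Ω : Type*} [Group Ω] {S Q : Subgroup Ω} [Finite S] {p n : ℕ} [Fact p.Prime]
    (hS : IsPGroup p S) (hn : Nat.card S = p ^ (n + 1)) (hQS : Q ≤ S) (hQ : Nat.card Q = p ^ n) :
    S ≤ Subgroup.normalizer (Q : Set Ω) := by
  have hp1 := (Fact.out : p.Prime).one_lt
  have hlt : Q < S := by
    refine lt_of_le_of_ne hQS fun h => ?_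
    rw [h, hn] at hQ
    have := Nat.pow_right_injective (Fact.out : p.Prime).two_le hQ
    omega
  have h1 := lt_normalizerIn hS hlt
  haveI : Finite (normalizerIn S Q) := finite_of_le normalizerIn_le
  obtain ⟨c, hc⟩ := IsPGroup.iff_card.1 (isPGroup_of_le hS (normalizerIn_le (S := S) (P := Q)))
  have h2 := card_lt_of_lt' h1
  rw [hQ, hc] at h2
  have h3 := (Nat.pow_lt_pow_iff_right hp1).1 h2
  have h4 : normalizerIn S Q = S := eq_of_le_of_card normalizerIn_le (by
    rw [hn, hc]; exact Nat.pow_le_pow_right (Fact.out : p.Prime).pos h3)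
  intro s hs
  rw [← h4] at hs
  exact hs.2

/-- A nilpotency criterion for fusion systems. Let F be a saturated fusion system over a finite p-group S of order at least p². Call a subgroup Q of S weakly embedded in F when there is a subgroup P of S strongly closed in F such that both the product QP and the intersection Q ∩ P are strongly closed in F. Then F is the inner fusion system of S if and only if there is a subgroup D of S with 1 < D < S such that every subgroup of S of the same order as D is weakly embedded in F and, for every fully normalized subgroup H of S of that order, the normalizer fusion system of H in F is the inner fusion system of N_S(H). -/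
theorem result {Ω : Type*} [Group Ω] {S : Subgroup Ω} [Finite S] (p : ℕ) [Fact p.Prime] (hS : IsPGroup p ↥S) (F : Cfsg.FusionSystem S) (hF : F.IsSaturated p) (hcard : p ^ 2 ≤ Nat.card S) : (∀ P : Subgroup Ω, F.Hom P = (Cfsg.innerFusionSystem S).Hom P) ↔ ∃ D : Subgroup Ω, ⊥ < D ∧ D < S ∧ (∀ Q : Subgroup Ω, Q ≤ S → Nat.card ↥Q = Nat.card ↥D → ∃ P : Subgroup Ω, F.StronglyClosed P ∧ F.StronglyClosed (Q ⊔ P) ∧ F.StronglyClosed (Q ⊓ P)) ∧ (∀ H : Subgroup Ω, F.IsFullyNormalized H → Nat.card ↥H = Nat.card ↥D → ∀ N : Cfsg.FusionSystem (Cfsg.FusionSystem.normalizerIn S H), F.IsNormalizerSystem H N → ∀ P : Subgroup Ω, N.Hom P = (Cfsg.innerFusionSystem (Cfsg.FusionSystem.normalizerIn S H)).Hom P) := by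
  classical
  have hp1 := (Fact.out : p.Prime).one_lt
  have hppos := (Fact.out : p.Prime).pos
  constructor
  · intro hin
    have hmor : ∀ P f, Mor F P f ↔ Mor (innerFusionSystem S) P f := fun P f => by
      unfold Mor; rw [hin P]
    obtain ⟨n, hn⟩ := IsPGroup.iff_card.1 hS
    have hn2 : 2 ≤ n := by
      rw [hn] at hcard
      exact (Nat.pow_le_pow_iff_right hp1).1 hcard
    obtain ⟨m, rfl⟩ : ∃ m, n = m + 1 := ⟨n - 1, by omega⟩
    obtain ⟨D, -, hDS, hDc⟩ := exists_between (d := m) hS (bot_le : (⊥ : Subgroup Ω) ≤ S) le_rfl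
      (by rw [Subgroup.card_bot]; exact Nat.one_le_pow _ _ hppos)
      (by rw [hn]; exact Nat.pow_le_pow_right hppos (by omega))
    refine ⟨D, ?_, ?_, ?_, ?_⟩
    · rw [bot_lt_iff_ne_bot]
      intro h
      rw [h, Subgroup.card_bot] at hDc
      have : p ^ 0 = p ^ m := by rw [pow_zero]; exact hDc
      have := Nat.pow_right_injective (Fact.out : p.Prime).two_le this
      omega
    · refine lt_of_le_of_ne hDS fun h => ?_
      rw [h, hn] at hDc
      have := Nat.pow_right_injective (Fact.out : p.Prime).two_le hDc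
      omega
    · intro Q hQS hQc
      rw [hDc] at hQc
      have hQn := index_p_normal hS hn hQS hQc
      refine ⟨⊥, sc_bot, ?_, by rw [inf_bot_eq]; exact sc_bot⟩
      rw [sup_bot_eq, stronglyClosed_iff]
      refine ⟨hQS, fun R f hR hf x hx => ?_⟩
      obtain ⟨-, s, hs, h1⟩ := mor_inner.1 ((hmor _ _).1 hf)
      rw [h1 x hx]
      exact (Subgroup.mem_normalizer_iff.1 (hQn hs) x).1 (hR hx)
    · intro H hH _ N hN P
      have hN' := eq_normSys hH.1 hN
      subst hN'
      haveI : Finite H := finite_of_le hH.1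
      have key : ∀ f, Mor (normSys F H hH.1) P f ↔ Mor (innerFusionSystem (normalizerIn S H)) P f := by
        intro f
        rw [mor_normSys, mor_inner]
        constructor
        · rintro ⟨hP, hf, g, hg, h1, h2⟩
          obtain ⟨-, s, hs, h3⟩ := mor_inner.1 ((hmor _ _).1 hg)
          refine ⟨hP, s, ⟨hs, mem_normalizer_of_finite fun x hx => ?_⟩, fun x hx => ?_⟩
          · rw [← h3 x (Subgroup.mem_sup_right hx), ← h2]
            exact mem_img_of_mem hx
          · rw [← h1 x hx, h3 x (Subgroup.mem_sup_left hx)]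
        · rintro ⟨hP, s, hs, h1⟩
          have hPS : P ⊔ H ≤ S := sup_le (hP.trans normalizerIn_le) hH.1
          have hg : Mor F (P ⊔ H) (fun x => s * x * s⁻¹) := mor_conj hPS hs.1
          refine ⟨hP, fun x hx => ?_, _, hg, fun x hx => (h1 x hx).symm, ?_⟩
          · rw [h1 x hx]
            exact mul_mem (mul_mem hs (hP hx)) (inv_mem hs)
          · apply eq_of_le_of_card
            · rw [img_le_iff]
              intro x hx
              exact (Subgroup.mem_normalizer_iff.1 hs.2 x).1 hx
            · rw [(hg.mono le_sup_right).card_img]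
      ext φ
      rw [← mor_toFun_iff, ← mor_toFun_iff]
      exact key _
  · rintro ⟨D, hD1, hD2, hW, hN⟩
    haveI : Finite D := finite_of_le hD2.le
    obtain ⟨d, hd⟩ := IsPGroup.iff_card.1 (isPGroup_of_le hS hD2.le)
    have hd1 : 1 ≤ d := by
      by_contra h
      have h0 : d = 0 := by omega
      rw [h0, pow_zero] at hd
      exact hD1.ne (Subgroup.card_eq_one.1 hd).symm
    have hdS : p ^ d < Nat.card S := by rw [← hd]; exact card_lt_of_lt' hD2
    have h1 : F.hyperfocalSubgroup p = ⊥ := by
      refine wemb_main hS hF hd1 hdS (fun Q hQS hQc => hW Q hQS (by rw [hQc, hd])) ?_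
      intro H hHS hHn hHc P f hf
      have hfn : F.IsFullyNormalized H := by
        rw [fullyNormalized_iff]
        haveI : Finite (normalizerIn S H) := finite_of_le normalizerIn_le
        exact ⟨hHS, fun f hf => card_le_of_le fun x hx => ⟨hx.1, hHn hx.1⟩⟩
      have h2 := hN H hfn (by rw [hHc, hd]) _ (normSys_isNormalizerSystem hHS) P
      have h3 : Mor (innerFusionSystem (normalizerIn S H)) P f := by
        unfold Mor at hf ⊢
        rw [h2] at hf
        exact hf
      obtain ⟨-, s, hs, h4⟩ := mor_inner.1 h3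
      exact ⟨s, hs.1, h4⟩
    rw [eq_inner_of_hyp hS hF h1]
    intro P; rfl
end Cfsg.Agent.S5271
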