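import Cfsg.Statements.S5276
import Cfsg.Agent.H28.Tate3

set_option autoImplicit false
open Cfsg

namespace Cfsg.Agent.S5276

open Cfsg.FusionSystem Cfsg.Agent.H28

/-- Let p be a prime and F a saturated fusion system over a finite p-group S. Then F is the inner fusion system of S if and only if the normalizer fusion system of S itself in F is the inner fusion system (equivalently, Aut_F(S) is induced by S) and the Frattini subgroup Φ(S) is strongly closed in F. -/
theorem result {Ω : Type*} [Group Ω] {S : Subgroup Ω} [Finite S] (p : ℕ) [Fact p.Prime] (hS : IsPGroup p ↥S) (F : Cfsg.FusionSystem S) (hF : F.IsSaturated p) : (∀ P : Subgroup Ω, F.Hom P = (Cfsg.innerFusionSystem S).Hom P) ↔ (∀ N : Cfsg.FusionSystem (Cfsg.FusionSystem.normalizerIn S S), F.IsNormalizerSystem S N → ∀ P : Subgroup Ω, N.Hom P = (Cfsg.innerFusionSystem (Cfsg.FusionSystem.normalizerIn S S)).Hom P) ∧ F.StronglyClosed ((frattini ↥S).map S.subtype) := by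
  constructor
  · intro h
    have hFi : F = Cfsg.innerFusionSystem S := fs_ext h
    subst hFi
    constructor
    · intro N hN P
      refine hom_inner_of_normS le_rfl Subgroup.le_normalizer ?_ N hN P
      exact fs_le_antisymm normS_le inner_le
    · rw [stronglyClosed_iff]
      refine ⟨by rintro _ ⟨x, -, rfl⟩; exact x.2, fun R f hR hf x hx => ?_⟩
      obtain ⟨hP, g, hg, h2⟩ := mor_inner.1 hf
      rw [h2 x hx]
      exact frattini_map_normal g hg x (hR hx)
  · rintro ⟨h1, h2⟩
    have h3 := TopInner.aut (F := F) h1
    have h4 : F.focalSubgroup ≤ (frattini ↥S).map S.subtype :=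
      foc_le_of_quotient hS hF h2 (derived_le_frattini hS)
        (fun α hα x hx => derived_le_frattini hS (inner_foc_triv (h3 hα) hx))
    have h5 := inner_of_frattini hS hF h4
    intro P
    rw [h5]
end Cfsg.Agent.S5276
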