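import Cfsg.Statements.S5299
import Cfsg.Agent.L.Invol
import Cfsg.Agent.H28.FusSat
import Cfsg.Agent.H1.Basic

set_option autoImplicit false
universe u
set_option linter.all false
open Cfsg

namespace Cfsg.Agent.S5299

open Cfsg.Agent

/-- Let F be a saturated fusion system over a finite p-group S, H a finite group and Q a p-subgroup of H. If Q is not involved in S (no section of S is isomorphic to Q), then F is H-free: H is involved in no model of the normalizer system of a fully normalized centric subgroup. -/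
theorem result {Ω : Type u} [Group Ω] {S : Subgroup Ω} [Finite S] (p : ℕ) [Fact p.Prime] (hS : IsPGroup p S)
    (F : Cfsg.FusionSystem S) (hF : F.IsSaturated p) (H : Type*) [Group H] [Finite H] (Q : Subgroup H) (hQ : IsPGroup p Q)
    (hfree : ¬ Cfsg.Involves (↥Q) (↥S)) : F.IsSectionFree p H := by
  intro Q' hn hc N hN M _ ι hM hinv
  obtain ⟨hLfin, ⟨hinj, -⟩, ⟨T, hT⟩, -⟩ := hM
  haveI := hLfin
  have hQL : Involves Q M := L.inv_trans (L.inv_sub (L.inv_refl H) Q) hinv
  obtain ⟨K, f, hf⟩ := L.involves_iff.1 hQL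
  obtain ⟨P₀⟩ : Nonempty (Sylow p K) := inferInstance
  have htop : (P₀ : Subgroup K).map f = ⊤ := by
    rw [← Subgroup.index_eq_one]
    have h1 : ((P₀ : Subgroup K).map f).index ∣ (P₀ : Subgroup K).index := Subgroup.index_map_dvd _ hf
    obtain ⟨k, hk⟩ := IsPGroup.iff_card.1 hQ
    have h2 : ((P₀ : Subgroup K).map f).index ∣ p ^ k := by
      rw [← hk]; exact Subgroup.index_dvd_card _
    obtain ⟨j, -, hj⟩ := (Nat.dvd_prime_pow (Fact.out : p.Prime)).1 h2
    rcases Nat.eq_zero_or_pos j with h0 | h0
    · rw [hj, h0, pow_zero]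
    · exfalso
      apply P₀.not_dvd_index
      exact (dvd_pow_self p h0.ne').trans (hj ▸ h1)
  set W := (P₀ : Subgroup K).map K.subtype with hW
  have hWp : IsPGroup p W := P₀.2.map _
  obtain ⟨T', hT'⟩ := hWp.exists_le_sylow
  obtain ⟨g, hg⟩ := MulAction.exists_smul_eq M T' T
  have hcj : W.map (MulAut.conj g).toMonoidHom ≤ (T : Subgroup M) := by
    rw [← hg]; exact Subgroup.map_mono hT'
  rw [hT] at hcj
  -- `Q` is an image of `W`
  have i1 : Involves Q W := by
    refine L.inv_surj (L.inv_refl W) ((f.comp (P₀ : Subgroup K).subtype).comp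
      ((P₀ : Subgroup K).equivMapOfInjective _ K.subtype_injective).symm.toMonoidHom) ?_
    intro y
    have hy : y ∈ (P₀ : Subgroup K).map f := by rw [htop]; trivial
    obtain ⟨x, hx, rfl⟩ := hy
    refine ⟨(P₀ : Subgroup K).equivMapOfInjective _ K.subtype_injective ⟨x, hx⟩, ?_⟩
    simp
  have i2 : Involves W ι.range := by
    refine L.inv_surj (L.inv_sub (L.inv_refl ι.range) ((W.map (MulAut.conj g).toMonoidHom).subgroupOf ι.range))
      (((Subgroup.subgroupOfEquivOfLe hcj).trans
        (W.equivMapOfInjective _ (MulAut.conj g).injective).symm).toMonoidHom) ?_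
    exact MulEquiv.surjective _
  have i3 : Involves ι.range (FusionSystem.normalizerIn S Q') :=
    L.inv_surj (L.inv_refl _) (MonoidHom.ofInjective hinj).toMonoidHom (MulEquiv.surjective _)
  have i4 : Involves (FusionSystem.normalizerIn S Q') S :=
    L.inv_surj (L.inv_sub (L.inv_refl S) ((FusionSystem.normalizerIn S Q').subgroupOf S))
      (Subgroup.subgroupOfEquivOfLe H28.normalizerIn_le).toMonoidHom (MulEquiv.surjective _)
  exact hfree (L.inv_trans i1 (L.inv_trans i2 (L.inv_trans i3 i4)))

end Cfsg.Agent.S5299
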