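import Cfsg.Statements.S5394
import Cfsg.Agent.H29.M24Fix

set_option autoImplicit false
open Cfsg

namespace Cfsg.Agent.S5394

open Cfsg Cfsg.Agent.H7 Cfsg.Agent.H29
open scoped Pointwise

theorem ok2A_octad : toSet 4415544 ∈ octads :=
  ⟨mem_GC_mask.2 ⟨_, by decide +kernel, rfl⟩, by rw [card_toSet]; decide +kernel⟩

theorem order_of_code {c : ℕ} (hc : okPerm c = true) (h : hasPeriod c 2 = true)
    (h1 : Nat.beq (papp c 23) 23 = false) : orderOf (mkPerm c) = 2 := by
  have hp := okPerm_isPerm hc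
  apply orderOf_eq_prime (mkPerm_pow_eq_one hp h)
  intro h2
  have h3 : ap (mkPerm c) 23 = 23 := by rw [h2]; rfl
  rw [ap_mkPerm hp (by norm_num)] at h3
  rw [h3] at h1
  exact Bool.noConfusion h1

/-- The automorphism group of the length-24 code built from the squares modulo 23 has exactly two conjugacy classes of involutions: an involution either fixes exactly the eight points of an octad or has no fixed points, both kinds occur, and any two involutions of the same kind are conjugate in the group. -/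
theorem result : (∀ g ∈ Cfsg.M24, orderOf g = 2 → (Finset.univ.filter fun p => g p = p) ∈ Cfsg.octads ∨ ∀ p, g p ≠ p) ∧ (∃ g ∈ Cfsg.M24, orderOf g = 2 ∧ (Finset.univ.filter fun p => g p = p) ∈ Cfsg.octads) ∧ (∃ g ∈ Cfsg.M24, orderOf g = 2 ∧ ∀ p, g p ≠ p) ∧ ∀ g ∈ Cfsg.M24, ∀ h ∈ Cfsg.M24, orderOf g = 2 → orderOf h = 2 → ((∀ p, g p ≠ p) ↔ (∀ p, h p ≠ p)) → ∃ k ∈ Cfsg.M24, k * g * k⁻¹ = h := by
  have hA : orderOf (mkPerm r2A) = 2 := order_of_code reps_ok.1 (by decide +kernel) (by decide +kernel)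
  have hB : orderOf (mkPerm r2B) = 2 := order_of_code reps_ok.2.1 (by decide +kernel) (by decide +kernel)
  refine ⟨?_, ⟨mkPerm r2A, mkPerm_mem_M24 reps_ok.1, hA, ?_⟩,
    ⟨mkPerm r2B, mkPerm_mem_M24 reps_ok.2.1, hB, ?_⟩, ?_⟩
  · intro g hg h2
    by_cases h0 : (Finset.univ.filter fun p => g p = p).card = 0
    · exact Or.inr (fixed_card_zero.1 h0)
    · left
      obtain ⟨τ, hτ, h⟩ := invol_A hg h2 h0
      have h3 := fixed_conj g τ
      rw [h, fix2A] at h3
      have h4 : (Finset.univ.filter fun p => g p = p) = τ⁻¹ • toSet 4415544 := by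
        rw [h3, inv_smul_smul]
      rw [h4]
      exact M24_smul_octad (M24.inv_mem hτ) ok2A_octad
  · rw [fix2A]; exact ok2A_octad
  · exact fixed_card_zero.1 card_fix2B
  · intro g hg h hh hog hoh hiff
    have key : ∀ r : Equiv.Perm GolayPt, (∃ τ ∈ M24, τ * g * τ⁻¹ = r) →
        (∃ τ ∈ M24, τ * h * τ⁻¹ = r) → ∃ k ∈ M24, k * g * k⁻¹ = h := by
      rintro r ⟨τ, hτ, h1⟩ ⟨υ, hυ, h2⟩
      refine ⟨υ⁻¹ * τ, M24.mul_mem (M24.inv_mem hυ) hτ, ?_⟩
      have : υ⁻¹ * τ * g * (υ⁻¹ * τ)⁻¹ = υ⁻¹ * (τ * g * τ⁻¹) * υ := by group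
      rw [this, h1, ← h2]; group
    by_cases h0 : ∀ p, g p ≠ p
    · have h0' := hiff.1 h0
      exact key _ (invol_B hg hog (by rw [fixed_card_zero.2 h0]; norm_num))
        (invol_B hh hoh (by rw [fixed_card_zero.2 h0']; norm_num))
    · have h0' : ¬ ∀ p, h p ≠ p := fun h' => h0 (hiff.2 h')
      exact key _ (invol_A hg hog (fun h' => h0 (fixed_card_zero.1 h')))
        (invol_A hh hoh (fun h' => h0' (fixed_card_zero.1 h')))

end Cfsg.Agent.S5394
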