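import Cfsg.Statements.S5522
import Cfsg.Agent.S5394
import Cfsg.Agent.H28.MathieuBase
import Cfsg.Agent.H29.M24Fix
import Cfsg.Agent.H29.CodeSet

set_option autoImplicit false
open Cfsg

namespace Cfsg.Agent.S5522

open Cfsg.Agent.H7 Cfsg.Agent.H29
open scoped Pointwise

theorem dvd_of_free {g : Equiv.Perm GolayPt} {p : ℕ} (hp : p.Prime) (hg : g ^ p = 1)
    {A : Finset GolayPt} (hA : g • A = A) (hfix : ∀ x ∈ A, g x ≠ x) : p ∣ A.card := by
  have hmem : ∀ x, x ∈ A ↔ g x ∈ A := by
    intro x
    conv_rhs => rw [← hA]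
    exact (Finset.smul_mem_smul_finset_iff g).symm
  have : Fact p.Prime := ⟨hp⟩
  let f : Function.End {x // x ∈ A} := fun x => ⟨g x, (hmem x).1 x.2⟩
  have hfn : ∀ (n : ℕ) (x : {x // x ∈ A}), (((f ^ n) x : {x // x ∈ A}) : GolayPt) = (g ^ n) x := by
    intro n
    induction n with
    | zero => intro x; rfl
    | succ n ih =>
      intro x
      rw [pow_succ, pow_succ]
      show (((f ^ n) (f x) : {x // x ∈ A}) : GolayPt) = (g ^ n) (g x)
      rw [ih]
  have hf : f ^ p ^ 1 = 1 := by
    funext x
    apply Subtype.ext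
    rw [hfn, pow_one, hg]
    rfl
  have h1 := Equiv.Perm.card_fixedPoints_modEq hf
  have h2 : Fintype.card (Function.fixedPoints f) = 0 := by
    rw [Fintype.card_eq_zero_iff]
    refine ⟨fun x => ?_⟩
    apply hfix x.1.1 x.1.2
    exact congrArg Subtype.val x.2
  have h1' : Fintype.card {x // x ∈ A} ≡ 0 [MOD p] := by
    rw [← h2]
    convert h1
  rw [Fintype.card_coe] at h1'
  exact (Nat.modEq_zero_iff_dvd).1 h1'

theorem two_or_three : ∀ n : ℕ, n.Prime → n ∣ 12 → n = 2 ∨ n = 3 := by
  intro n hn hd
  have := Nat.le_of_dvd (by norm_num) hd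
  interval_cases n <;> first | omega | (exfalso; revert hn; decide)

/-- The Mathieu group M₁₁, realised as the stabiliser of one point of the dodecad of squares inside the stabiliser M₁₂ of that dodecad in M₂₄, acts on the twelve coordinate positions outside the dodecad of squares (its 3-transitive action of degree 12); in this action every element of prime order fixes a point, i.e. the action is elusive. -/
theorem result (g : Equiv.Perm Cfsg.GolayPt) (hg : g ∈ Cfsg.Spor.M11) (hord : (orderOf g).Prime) :
    ∃ x : Cfsg.GolayPt, x ∉ Cfsg.Spor.squareDodecad ∧ g x = x := by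
  have hM12 := hg.1
  have h0 : g (some 0) = some 0 := hg.2
  have hM24 : g ∈ M24 := hM12.1
  have hd : g • Cfsg.Spor.squareDodecad = Cfsg.Spor.squareDodecad := hM12.2
  have hdod : Cfsg.Spor.squareDodecad ∈ dodecads := by
    rw [Cfsg.Agent.H28.squareDodecad_eq]
    exact ⟨mem_GC_mask.mpr ⟨Cfsg.Agent.H28.sqMask, by decide +kernel, rfl⟩, by
      rw [card_toSet]; decide +kernel⟩
  have h0d : (some 0 : GolayPt) ∈ Cfsg.Spor.squareDodecad := by
    rw [Cfsg.Agent.H28.squareDodecad_eq, mem_toSet]
    decide +kernel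
  generalize Cfsg.Spor.squareDodecad = d at hd hdod h0d ⊢
  by_contra hcon
  push Not at hcon
  have hd12 : d.card = 12 := (mem_dodecads.1 hdod).2
  have h24 : Fintype.card GolayPt = 24 := by decide
  have hgp : g ^ orderOf g = 1 := pow_orderOf_eq_one g
  have hinter : ∀ o ∈ octads, (o ∩ d).card = 2 ∨ (o ∩ d).card = 4 ∨ (o ∩ d).card = 6 := by
    intro o ho
    have h1 := cardSD o d
    have h2 := GC_weights _ (GC_symmDiff (mem_octads.1 ho).1 (mem_dodecads.1 hdod).1)
    rw [(mem_octads.1 ho).2, hd12] at h1
    have h3 : (o ∩ d).card ≤ 8 := by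
      rw [← (mem_octads.1 ho).2]
      exact Finset.card_le_card Finset.inter_subset_left
    rcases h2 with h2 | h2 | h2 | h2 | h2 <;> omega
  have hcompl : g • dᶜ = dᶜ := by
    have : g • dᶜ = (g • d)ᶜ := by
      ext p
      rw [Finset.mem_compl, ← Finset.inv_smul_mem_iff, Finset.mem_compl,
        ← Finset.inv_smul_mem_iff]
    rw [this, hd]
  have h12 := dvd_of_free hord hgp hcompl (fun x hx => hcon x (Finset.mem_compl.1 hx))
  rw [Finset.card_compl, h24, hd12] at h12
  have hp23 : orderOf g = 2 ∨ orderOf g = 3 := two_or_three _ hord h12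
  rcases hp23 with h2 | h3
  · -- involutions
    rcases (Cfsg.Agent.S5394.result).1 g hM24 h2 with h | h
    · have h1 := hinter _ h
      have h4 : (Finset.univ.filter fun p => g p = p) ∩ d = (Finset.univ.filter fun p => g p = p) := by
        rw [Finset.inter_eq_left]
        intro x hx
        by_contra hxd
        exact hcon x hxd (Finset.mem_filter.1 hx).2
      rw [h4, (mem_octads.1 h).2] at h1
      omega
    · exact h _ h0
  · -- elements of order three
    have hne : (Finset.univ.filter fun p => g p = p).card ≠ 0 := by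
      rw [Finset.card_ne_zero]
      exact ⟨some 0, Finset.mem_filter.2 ⟨Finset.mem_univ _, h0⟩⟩
    obtain ⟨τ, hτ, hτg⟩ := order3_A hM24 h3 hne
    have h6 : (Finset.univ.filter fun p => g p = p).card = 6 := by
      rw [← card_fixed_conj g τ, hτg, card_fix3A]
    obtain ⟨T, hT, hT5⟩ := Finset.exists_subset_card_eq
      (show 5 ≤ (Finset.univ.filter fun p => g p = p).card by omega)
    have hTfix : ∀ p ∈ T, g p = p := fun p hp => (Finset.mem_filter.1 (hT hp)).2
    obtain ⟨o, ⟨ho, hTo⟩, -⟩ := octads_steiner.2 T hT5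
    have hgo : g • o = o := M24_fix_octad hM24 ho hTfix (by
      rw [Finset.inter_eq_right.2 hTo, hT5])
    have hTd : T ⊆ d := by
      intro x hx
      by_contra hxd
      exact hcon x hxd (hTfix x hx)
    have hinv : g • (o \ d) = o \ d := by
      rw [Finset.smul_finset_sdiff, hgo, hd]
    have h5 := dvd_of_free (p := 3) (by norm_num) (by rw [← h3]; exact hgp) hinv
      (fun x hx => hcon x (Finset.mem_sdiff.1 hx).2)
    have h7 := hinter o ho
    have h8 : (o \ d).card + (o ∩ d).card = o.card := Finset.card_sdiff_add_card_inter o d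
    rw [(mem_octads.1 ho).2] at h8
    have h9 : 5 ≤ (o ∩ d).card := by
      rw [← hT5]
      exact Finset.card_le_card (Finset.subset_inter hTo hTd)
    omega

end Cfsg.Agent.S5522
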