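import Cfsg.Statements.S5726
import Cfsg.Agent.H13.Perm

set_option autoImplicit false
open Cfsg

namespace Cfsg.Agent.S5726

/-- If a finite group acts faithfully and transitively on a set with p^k elements, p a prime and k ≥ 1, then some element of order p fixes no point. -/
theorem result {G Ω : Type*} [Group G] [Finite G] [MulAction G Ω] [FaithfulSMul G Ω] [Fintype Ω] (htr : MulAction.IsPretransitive G Ω)
    (p k : ℕ) (hp : p.Prime) (hk : 1 ≤ k) (hΩ : Fintype.card Ω = p ^ k) :
    ∃ g : G, orderOf g = p ∧ ∀ ω : Ω, g • ω ≠ ω := by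
  classical
  have : Fact p.Prime := ⟨hp⟩
  obtain ⟨P⟩ : Nonempty (Sylow p G) := inferInstance
  have hcard : Nat.card Ω = p ^ k := by rw [Nat.card_eq_fintype_card, hΩ]
  have hΩne : Nonempty Ω := by
    rw [← Fintype.card_pos_iff, hΩ]; exact pow_pos hp.pos k
  obtain ⟨ω₀⟩ := hΩne
  have horb : ∀ ω : Ω, ∃ g : P, g • ω₀ = ω := by
    intro ω
    have h1 := H13.pow_dvd_card_orbit_sylow p P k (by rw [hcard]) ω₀
    have h2 : Nat.card Ω ≤ Nat.card (MulAction.orbit P ω₀) := by
      rw [hcard]
      have : Nonempty (MulAction.orbit P ω₀) := ⟨⟨ω₀, MulAction.mem_orbit_self ω₀⟩⟩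
      exact Nat.le_of_dvd Nat.card_pos h1
    have h3 : MulAction.orbit P ω₀ = Set.univ := by
      apply Set.eq_of_subset_of_ncard_le (Set.subset_univ _)
      rw [Set.ncard_univ]
      exact h2
    have : ω ∈ MulAction.orbit P ω₀ := by rw [h3]; trivial
    exact this
  have hPnt : Nontrivial P := by
    have h1 := H13.pow_dvd_card_orbit_sylow p P k (by rw [hcard]) ω₀
    have h2 := H13.card_orbit_mul_card_stabilizer (G := P) ω₀
    have h3 : p ∣ Nat.card P := (dvd_pow_self p (by omega)).trans (h1.trans (Dvd.intro _ h2))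
    rw [← Finite.one_lt_card_iff_nontrivial]
    exact lt_of_lt_of_le hp.one_lt (Nat.le_of_dvd Nat.card_pos h3)
  have hZnt := P.isPGroup'.center_nontrivial
  have hZp : IsPGroup p (Subgroup.center P) := P.isPGroup'.to_subgroup _
  have hdvd : p ∣ Nat.card (Subgroup.center P) := by
    obtain ⟨n, hn⟩ := IsPGroup.iff_card.mp hZp
    rw [hn]
    apply dvd_pow_self
    rintro rfl
    have := Finite.one_lt_card_iff_nontrivial.mpr hZnt
    rw [hn, pow_zero] at this
    omega
  obtain ⟨z, hz⟩ := exists_prime_orderOf_dvd_card' p hdvd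
  refine ⟨((z : P) : G), ?_, ?_⟩
  · rw [Subgroup.orderOf_coe, Subgroup.orderOf_coe, hz]
  · intro ω hω
    have hfix : ∀ ω' : Ω, ((z : P) : G) • ω' = (1 : G) • ω' := by
      have h0 : ((z : P)) • ω₀ = ω₀ := by
        obtain ⟨g, rfl⟩ := horb ω
        have hzg : (z : P) * g = g * z := (Subgroup.mem_center_iff.mp z.2 g).symm
        have h1 : (z : P) • g • ω₀ = g • ω₀ := hω
        rw [← mul_smul, hzg, mul_smul] at h1
        exact smul_left_cancel g h1
      intro ω'
      obtain ⟨g, rfl⟩ := horb ω'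
      have hzg : (z : P) * g = g * z := (Subgroup.mem_center_iff.mp z.2 g).symm
      have h1 : (z : P) • g • ω₀ = g • ω₀ := by
        rw [← mul_smul, hzg, mul_smul, h0]
      rw [one_smul]
      exact h1
    have h1 : ((z : P) : G) = 1 := eq_of_smul_eq_smul hfix
    have h2 : orderOf ((z : P) : G) = p := by
      rw [Subgroup.orderOf_coe, Subgroup.orderOf_coe, hz]
    rw [h1, orderOf_one] at h2
    exact hp.one_lt.ne h2

end Cfsg.Agent.S5726
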