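import Cfsg.Statements.S5727
import Cfsg.Agent.H13.Perm
import Cfsg.Agent.S5726

set_option autoImplicit false
open Cfsg

namespace Cfsg.Agent.S5727

/-- If a finite group acts faithfully and transitively on a set with m·p elements, where p is a prime and 1 ≤ m ≤ p, then some element of order p fixes no point. -/
theorem result {G Ω : Type*} [Group G] [Finite G] [MulAction G Ω] [FaithfulSMul G Ω] [Fintype Ω] (htr : MulAction.IsPretransitive G Ω)
    (p m : ℕ) (hp : p.Prime) (hm : 1 ≤ m) (hmp : m ≤ p) (hΩ : Fintype.card Ω = m * p) :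
    ∃ g : G, orderOf g = p ∧ ∀ ω : Ω, g • ω ≠ ω := by
  classical
  rcases hmp.lt_or_eq with hlt | heq
  swap
  · exact S5726.result htr p 2 hp (by norm_num) (by rw [hΩ, heq, pow_two])
  have : Fact p.Prime := ⟨hp⟩
  obtain ⟨P⟩ : Nonempty (Sylow p G) := inferInstance
  have hcard : Nat.card Ω = m * p := by rw [Nat.card_eq_fintype_card, hΩ]
  -- all orbits of `P` have size `p`
  have horb : ∀ ω : Ω, Nat.card (MulAction.orbit P ω) = p := by
    intro ω
    have h1 : p ^ 1 ∣ Nat.card (MulAction.orbit P ω) :=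
      H13.pow_dvd_card_orbit_sylow p P 1 (by rw [hcard, pow_one]; exact Dvd.intro_left m rfl) ω
    rw [pow_one] at h1
    have h2 := H13.card_orbit_mul_card_stabilizer (G := P) ω
    obtain ⟨n, hn⟩ := IsPGroup.iff_card.mp P.isPGroup'
    have h3 : Nat.card (MulAction.orbit P ω) ∣ p ^ n := by rw [← hn]; exact Dvd.intro _ h2
    obtain ⟨j, hj1, hj⟩ := (Nat.dvd_prime_pow hp).mp h3
    have h4 : Nat.card (MulAction.orbit P ω) ≤ Nat.card Ω := by
      rw [← Set.ncard_univ Ω, Nat.card_coe_set_eq]
      exact Set.ncard_le_ncard (Set.subset_univ _)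
    rw [hcard] at h4
    have h5 : Nat.card (MulAction.orbit P ω) < p ^ 2 := by
      rw [pow_two]
      exact lt_of_le_of_lt h4 (Nat.mul_lt_mul_of_pos_right hlt hp.pos)
    rw [hj] at h5 h1 ⊢
    have h6 : j < 2 := (Nat.pow_lt_pow_iff_right hp.one_lt).mp h5
    have h7 : j ≠ 0 := by
      rintro rfl
      rw [pow_zero] at h1
      exact hp.one_lt.ne' (Nat.dvd_one.mp h1)
    have : j = 1 := by omega
    rw [this, pow_one]
  have hidx : ∀ ω : Ω, (MulAction.stabilizer P ω).index = p := by
    intro ω
    rw [MulAction.index_stabilizer, ← Nat.card_coe_set_eq, horb ω]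
  have hnorm : ∀ ω : Ω, (MulAction.stabilizer P ω).Normal := fun ω =>
    H13.normal_of_index_prime_of_isPGroup P.isPGroup' (hidx ω)
  -- `p`-th powers are trivial
  have hpow : ∀ g : P, g ^ p = 1 := by
    intro g
    have hfix : ∀ ω : Ω, ((g : G) ^ p) • ω = (1 : G) • ω := by
      intro ω
      have := hnorm ω
      have h1 := (MulAction.stabilizer P ω).pow_index_mem g
      rw [hidx ω] at h1
      rw [one_smul]
      exact h1
    have h1 : (g : G) ^ p = 1 := eq_of_smul_eq_smul hfix
    exact Subtype.ext h1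
  by_contra hcon
  push Not at hcon
  -- each element of P has a fixed point, hence at least `p` fixed points
  have hfixp : ∀ g : P, p ≤ Nat.card {ω : Ω // g • ω = ω} := by
    intro g
    obtain ⟨ω, hω⟩ : ∃ ω : Ω, g • ω = ω := by
      by_cases hg1 : g = 1
      · have : Nonempty Ω := by
          rw [← Fintype.card_pos_iff, hΩ]; exact Nat.mul_pos hm hp.pos
        obtain ⟨ω⟩ := this
        exact ⟨ω, by rw [hg1, one_smul]⟩
      · have h1 : orderOf g = p := orderOf_eq_prime (hpow g) hg1
        obtain ⟨ω, hω⟩ := hcon (g : G) (by rw [Subgroup.orderOf_coe, h1])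
        exact ⟨ω, hω⟩
    refine (horb ω).symm.le.trans ?_
    have hsub : MulAction.orbit P ω ⊆ {ω' : Ω | g • ω' = ω'} := by
      rintro _ ⟨h, rfl⟩
      have := hnorm ω
      have h2 : h⁻¹ * g * h⁻¹⁻¹ ∈ MulAction.stabilizer P ω := this.conj_mem g hω _
      have h3 : (h⁻¹ * g * h⁻¹⁻¹) • ω = ω := h2
      rw [inv_inv, mul_smul, mul_smul, inv_smul_eq_iff] at h3
      exact h3
    rw [Nat.card_coe_set_eq]
    exact Set.ncard_le_ncard hsub
  -- double counting
  have : Fintype G := Fintype.ofFinite G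
  have : Fintype P := Fintype.ofFinite P
  have hdc : ∑ g : P, Nat.card {ω : Ω // g • ω = ω} = ∑ ω : Ω, Nat.card (MulAction.stabilizer P ω) := by
    have e1 : ∀ g : P, Nat.card {ω : Ω // g • ω = ω} = (Finset.univ.filter (fun ω : Ω => g • ω = ω)).card := by
      intro g
      rw [Nat.card_eq_fintype_card, Fintype.card_subtype]
    have e2 : ∀ ω : Ω, Nat.card (MulAction.stabilizer P ω) = (Finset.univ.filter (fun g : P => g • ω = ω)).card := by
      intro ω
      rw [Nat.card_eq_fintype_card]
      exact Fintype.card_subtype _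
    simp only [e1, e2]
    exact Finset.sum_card_bipartiteAbove_eq_sum_card_bipartiteBelow (fun (g : P) (ω : Ω) => g • ω = ω)
  have hstab : ∀ ω : Ω, Nat.card (MulAction.stabilizer P ω) * p = Nat.card P := by
    intro ω
    have h2 := H13.card_orbit_mul_card_stabilizer (G := P) ω
    rw [horb ω, mul_comm] at h2
    exact h2
  have h1 : (∑ g : P, Nat.card {ω : Ω // g • ω = ω}) * p = m * p * Nat.card P := by
    rw [hdc, Finset.sum_mul, Finset.sum_congr rfl (fun ω _ => hstab ω), Finset.sum_const, Finset.card_univ,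
      smul_eq_mul, hΩ]
  have h2 : Nat.card P * p ≤ ∑ g : P, Nat.card {ω : Ω // g • ω = ω} := by
    have : ∑ g : P, p ≤ ∑ g : P, Nat.card {ω : Ω // g • ω = ω} := Finset.sum_le_sum (fun g _ => hfixp g)
    rw [Finset.sum_const, Finset.card_univ, smul_eq_mul, ← Nat.card_eq_fintype_card] at this
    exact this
  have h3 : Nat.card P * p * p ≤ m * p * Nat.card P := by
    rw [← h1]; exact Nat.mul_le_mul_right p h2
  have h4 : 0 < Nat.card P := Nat.card_pos
  have h5 : p * (p * Nat.card P) ≤ m * (p * Nat.card P) := by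
    calc p * (p * Nat.card P) = Nat.card P * p * p := by ring
      _ ≤ m * p * Nat.card P := h3
      _ = m * (p * Nat.card P) := by ring
  have h6 : p ≤ m := Nat.le_of_mul_le_mul_right h5 (Nat.mul_pos hp.pos h4)
  omega

end Cfsg.Agent.S5727
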