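import Cfsg.Statements.S5728
import Mathlib.FieldTheory.Finite.GaloisField
import Mathlib.Tactic.FieldSimp
import Mathlib.Tactic.Ring
import Mathlib.Tactic.LinearCombination

set_option autoImplicit false
open Cfsg

namespace Cfsg.Agent.S5728

theorem aux (p s : ℕ) [Fact p.Prime] (hs : p = 2 ^ s - 1) (F : Type*) [Field F] [Finite F]
    [Algebra (ZMod p) F] [CharP F p] (hcard : Nat.card F = p ^ 2)
    (g : Equiv.Perm F) (hg : g ∈ Cfsg.affineGroup F) (hord : (orderOf g).Prime) :
    ∃ x ∈ Cfsg.affineGroup F, ∃ a b : ZMod p, a ≠ 0 ∧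
      ∀ y : F, (x * g * x⁻¹) y = algebraMap (ZMod p) F a * y + algebraMap (ZMod p) F b := by
  classical
  have hp : p.Prime := Fact.out
  obtain ⟨α, β, hg'⟩ := hg
  have hg1 : g ≠ 1 := by
    rintro rfl
    rw [orderOf_one] at hord
    exact Nat.not_prime_one hord
  generalize hr : orderOf g = r at hord
  have hmem : ∀ (a : Fˣ) (b : F), ∃ x ∈ Cfsg.affineGroup F, ∀ y, x y = a * y + b := by
    intro a b
    refine ⟨{ toFun := fun y => a * y + b
              invFun := fun y => (a⁻¹ : Fˣ) * (y - b)
              left_inv := fun y => by simp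
              right_inv := fun y => by simp }, ⟨a, b, fun y => rfl⟩, fun y => rfl⟩
  by_cases hα : (α : F) = 1
  · -- translation
    have hβ : β ≠ 0 := by
      rintro rfl
      apply hg1
      ext y
      rw [hg' y, hα]; simp
    obtain ⟨x, hx, hxy⟩ := hmem (Units.mk0 β hβ)⁻¹ 0
    refine ⟨x, hx, 1, 1, one_ne_zero, fun y => ?_⟩
    have h1 : x (x⁻¹ y) = y := by simp
    have h2 : (x * g * x⁻¹) y = x (g (x⁻¹ y)) := rfl
    rw [hxy] at h1
    rw [h2, hxy, hg', hα, map_one]
    simp only [Units.val_inv_eq_inv_val, Units.val_mk0, add_zero, one_mul] at h1 ⊢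
    rw [mul_add, h1, inv_mul_cancel₀ hβ]
  · have hα1 : (1 : F) - α ≠ 0 := sub_ne_zero.mpr (Ne.symm hα)
    set y₀ : F := β / (1 - α) with hy₀
    have hfix : (α : F) * y₀ + β = y₀ := by
      rw [hy₀]; field_simp; ring
    -- the order of `α`
    have hpow : ∀ (n : ℕ) (y : F), (g ^ n) y = (α : F) ^ n * (y - y₀) + y₀ := by
      intro n
      induction n with
      | zero => intro y; simp
      | succ n ih =>
        intro y
        rw [pow_succ', Equiv.Perm.mul_apply, ih, hg']
        rw [pow_succ']
        linear_combination hfix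
    have hαr : (α : F) ^ r = 1 := by
      have h1 := hpow r (y₀ + 1)
      rw [← hr, pow_orderOf_eq_one] at h1
      simp only [Equiv.Perm.coe_one, id_eq, add_sub_cancel_left, mul_one] at h1
      rw [← hr]
      linear_combination -h1
    have hαr' : α ^ r = 1 := by
      ext1
      rw [Units.val_pow_eq_pow_val, hαr, Units.val_one]
    have hne1 : α ≠ 1 := by
      rintro rfl; exact hα rfl
    have hord' : orderOf α = r := orderOf_eq_prime_iff (p := r) (hp := ⟨hord⟩) |>.mpr ⟨hαr', hne1⟩
    have hdvd : r ∣ p ^ 2 - 1 := by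
      rw [← hord', ← hcard, ← Nat.card_units]
      exact orderOf_dvd_natCard α
    have hp2 : 2 ≤ s := by
      by_contra hcon
      have h2 := hp.two_le
      interval_cases s <;> simp at hs <;> omega
    have hpodd : 2 ∣ p - 1 := by
      obtain ⟨t, rfl⟩ : ∃ t, s = t + 2 := ⟨s - 2, by omega⟩
      have : 0 < 2 ^ t := by positivity
      rw [pow_add] at hs
      refine ⟨2 ^ t * 2 - 1, ?_⟩
      omega
    have hp1 : p ^ 2 - 1 = (p - 1) * 2 ^ s := by
      have h1 : 2 ^ s = p + 1 := by
        have := hp.two_le
        omega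
      have h2 := hp.two_le
      obtain ⟨q, rfl⟩ : ∃ q, p = q + 1 := ⟨p - 1, by omega⟩
      rw [h1]
      simp only [Nat.add_sub_cancel]
      have : (q + 1) ^ 2 = q * (q + 1 + 1) + 1 := by ring
      omega
    rw [hp1] at hdvd
    have hrp : r ∣ p - 1 := by
      rcases (hord.dvd_mul).mp hdvd with h | h
      · exact h
      · have := hord.dvd_of_dvd_pow h
        rw [(Nat.prime_dvd_prime_iff_eq hord Nat.prime_two).mp this]
        exact hpodd
    have hαp : (α : F) ^ p = α := by
      obtain ⟨k, hk⟩ := hrp
      have h1 : p = r * k + 1 := by have := hp.two_le; omega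
      calc (α : F) ^ p = (α : F) ^ (r * k + 1) := congrArg (fun n => (α : F) ^ n) h1
        _ = α := by rw [pow_succ, pow_mul, hαr, one_pow, one_mul]
    have hbot : (α : F) ∈ (⊥ : Subfield F) := (Subfield.mem_bot_iff_pow_eq_self F p).mpr hαp
    obtain ⟨m, hm⟩ := (mem_bot_iff_intCast p F).mp hbot
    obtain ⟨x, hx, hxy⟩ := hmem 1 (-y₀)
    refine ⟨x, hx, (m : ZMod p), 0, ?_, fun y => ?_⟩
    · intro h0
      apply α.ne_zero
      rw [← hm]
      have : (algebraMap (ZMod p) F) (m : ZMod p) = (m : F) := map_intCast _ _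
      rw [← this, h0, map_zero]
    · have h1 : x (x⁻¹ y) = y := by simp
      have h2 : (x * g * x⁻¹) y = x (g (x⁻¹ y)) := rfl
      rw [hxy] at h1
      rw [h2, hxy, hg', map_zero, map_intCast, hm]
      simp only [Units.val_one, one_mul] at h1 ⊢
      have h3 : x⁻¹ y = y + y₀ := by linear_combination h1
      rw [h3]
      linear_combination hfix


/-- An elusive transitive action. Let p = 2^s − 1 be a prime and let F be the field with p² elements. Inside the group of affine maps x ↦ a·x + b of F (a ≠ 0), consider the subgroup of maps with both coefficients in the prime field. Then every element of prime order of the affine group is conjugate, within the affine group, to an element of that subgroup; equivalently, in the transitive action of the affine group on the cosets of that subgroup (of degree p(p + 1)) every element of prime order fixes a point. -/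
theorem result (p s : ℕ) [Fact p.Prime] (hs : p = 2 ^ s - 1)
    (g : Equiv.Perm (GaloisField p 2)) (hg : g ∈ Cfsg.affineGroup (GaloisField p 2)) (hord : (orderOf g).Prime) :
    ∃ x ∈ Cfsg.affineGroup (GaloisField p 2), ∃ a b : ZMod p, a ≠ 0 ∧
      ∀ y : GaloisField p 2, (x * g * x⁻¹) y = algebraMap (ZMod p) (GaloisField p 2) a * y + algebraMap (ZMod p) (GaloisField p 2) b := by
  exact aux p s hs _ (GaloisField.card p 2 (by norm_num)) g hg hord

end Cfsg.Agent.S5728
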